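import Cfsg.Agent.Lib.Subspaces.OrthForm
import Cfsg.Agent.Lib.OrthOmega.Structure
import Cfsg.Agent.Lib.Forms.Bridge
import Cfsg.Prelude.Def_GeometricClasses

/-!
`Cfsg.Geo.omegaGL Q` for a quadratic form given as a function: it is generated by the Siegel
transformations `sieg Q u w`, and consists of isometries of determinant one (any characteristic).
-/

set_option autoImplicit false

namespace Cfsg.Agent.Lib.Subspaces.OmegaGL

open Matrix Cfsg.Agent.Lib.Subspaces.Transvection Cfsg.Agent.Lib.Subspaces.FormVec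
  Cfsg.Agent.Lib.Subspaces.OrthForm Cfsg.Agent.Lib.OrthOmega

variable {ι : Type} [Fintype ι] [DecidableEq ι] {F : Type*} [Field F] {Q : (ι → F) → F}

local notation "B" => QuadraticMap.polar Q

/-- The bundled quadratic form. -/
def qf (hQ : Cfsg.Geo.IsNondegenerateQuadraticForm Q) : QuadraticForm F (ι → F) :=
  QuadraticMap.ofPolar Q (fun a x => by rw [hQ.smul, smul_eq_mul]; ring)
    hQ.polar_bilinear.add_left (fun a x y => hQ.polar_bilinear.smul_left a x y)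

theorem qf_apply (hQ : Cfsg.Geo.IsNondegenerateQuadraticForm Q) (x : ι → F) : qf hQ x = Q x := rfl

theorem qf_nondeg (hQ : Cfsg.Geo.IsNondegenerateQuadraticForm Q) :
    Cfsg.Agent.Lib.Forms.Nondeg (qf hQ) := by
  intro x hx
  by_contra hx0
  obtain ⟨-, y, hy⟩ := hQ.nondegenerate x hx0
  exact hy (hx y)

theorem mem_omegaGL [Finite F] (hQ : Cfsg.Geo.IsNondegenerateQuadraticForm Q)
    (hn : 5 ≤ Fintype.card ι) {g : GL ι F} :
    g ∈ Cfsg.Geo.omegaGL Q ↔
      ∃ k ∈ EG (qf hQ), ∀ x, k.1 x = (g : Matrix ι ι F) *ᵥ x := by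
  let φ := Cfsg.Agent.Lib.Forms.isoOrth (qf hQ) (f := Q) (fun v => (qf_apply hQ v).symm)
  have hEG : commutator (Cfsg.Agent.Lib.Forms.orth (qf hQ)) = EG (qf hQ) :=
    commutator_eq_EG (qf_nondeg hQ) (by rwa [Module.finrank_fintype_fun_eq_card])
  have hmap : (Cfsg.Omega F Q).map φ.toMonoidHom = EG (qf hQ) := by
    rw [← hEG]
    exact Cfsg.Agent.Lib.Forms.map_commutator_equiv φ
  constructor
  · rintro ⟨h, hh, rfl⟩
    exact ⟨φ h, by rw [← hmap]; exact ⟨h, hh, rfl⟩, fun x => rfl⟩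
  · rintro ⟨k, hk, hkx⟩
    rw [← hmap] at hk
    obtain ⟨h, hh, rfl⟩ := hk
    exact ⟨h, hh, gl_ext fun x => hkx x⟩

theorem sieg_eq_rho (hQ : Cfsg.Geo.IsNondegenerateQuadraticForm Q) {u w : ι → F} (hu : Q u = 0)
    (hwu : B w u = 0) (h : SPair (qf hQ) u w) (x : ι → F) :
    (rho h).1 x = (sieg Q u w : Matrix ι ι F) *ᵥ x := by
  rw [rho_apply, sieg_mulVec hQ hu hwu]
  show x + B u x • w - (B w x + Q w * B u x) • u = _
  rw [B_comm u x, B_comm w x]
  module

theorem sieg_mem_omega [Finite F] (hQ : Cfsg.Geo.IsNondegenerateQuadraticForm Q)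
    (hn : 5 ≤ Fintype.card ι) {u w : ι → F} (hu : Q u = 0) (hwu : B w u = 0) :
    sieg Q u w ∈ Cfsg.Geo.omegaGL Q := by
  have h : SPair (qf hQ) u w := ⟨hu, by rw [QuadraticMap.polar_comm]; exact hwu⟩
  exact (mem_omegaGL hQ hn).mpr ⟨_, rho_mem h, sieg_eq_rho hQ hu hwu h⟩

theorem omega_le [Finite F] (hQ : Cfsg.Geo.IsNondegenerateQuadraticForm Q)
    (hn : 5 ≤ Fintype.card ι) {M : Subgroup (GL ι F)}
    (h : ∀ u w : ι → F, Q u = 0 → B w u = 0 → sieg Q u w ∈ M) : Cfsg.Geo.omegaGL Q ≤ M := by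
  let φ := Cfsg.Agent.Lib.Forms.isoOrth (qf hQ) (f := Q) (fun v => (qf_apply hQ v).symm)
  have hle : EG (qf hQ) ≤ (M.comap (Cfsg.isometryGroup F Q).subtype).map φ.toMonoidHom := by
    refine EG_le fun e u hu => ⟨φ.symm (rho hu), ?_, φ.apply_symm_apply _⟩
    have he : Q e = 0 := hu.sing
    have hue : B u e = 0 := by rw [QuadraticMap.polar_comm]; exact hu.perp
    have heq : ((φ.symm (rho hu) : Cfsg.isometryGroup F Q) : GL ι F) = sieg Q e u :=
      gl_ext fun x => by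
        rw [← Cfsg.Agent.Lib.Forms.isoOrth_apply (qf hQ) (f := Q) (fun v => (qf_apply hQ v).symm),
          ← sieg_eq_rho hQ he hue hu]
        show (φ (φ.symm (rho hu))).1 x = _
        rw [φ.apply_symm_apply]
    show ((φ.symm (rho hu) : Cfsg.isometryGroup F Q) : GL ι F) ∈ M
    rw [heq]
    exact h e u he hue
  intro g hg
  obtain ⟨k, hk, hkx⟩ := (mem_omegaGL hQ hn).mp hg
  obtain ⟨a, ha, rfl⟩ := hle hk
  have : g = (a : GL ι F) := gl_ext fun x => (hkx x).symm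
  rw [this]
  exact ha

theorem omega_isometry (hQ : Cfsg.Geo.IsNondegenerateQuadraticForm Q) {g : GL ι F}
    (hg : g ∈ Cfsg.Geo.omegaGL Q) (x : ι → F) : Q ((g : Matrix ι ι F) *ᵥ x) = Q x := by
  obtain ⟨h, -, rfl⟩ := hg
  have := hQ.smul
  exact h.2 x 0

end Cfsg.Agent.Lib.Subspaces.OmegaGL
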