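import Cfsg.Agent.Lib.Subspaces.OrthPlaneMax

/-!
Maximality of stabilisers of orthogonal decompositions, all block dimensions at least two.
-/

set_option autoImplicit false

namespace Cfsg.Agent.Lib.Subspaces.OrthDecompMax

open Matrix Cfsg.Agent.Lib.Subspaces.Transvection Cfsg.Agent.Lib.Subspaces.OrthForm
  Cfsg.Agent.Lib.Subspaces.Decomposition Cfsg.Agent.Lib.Subspaces.OrthDecomp

variable {ι : Type} [Fintype ι] [DecidableEq ι] {F : Type*} [Field F]
  {Q : (ι → F) → F} {t k : ℕ} {D : Fin t → Submodule F (ι → F)}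

omit [DecidableEq ι] in
theorem plus_transfer (hD : Cfsg.Geo.IsOrthogonalMDecomposition Q k D) {i : Fin t}
    (h : Cfsg.Geo.IsPlusTypeOn Q (D i)) (j : Fin t) : Cfsg.Geo.IsPlusTypeOn Q (D j) := by
  obtain ⟨U, hU, hUs, hUd⟩ := h
  obtain ⟨φ, hφ⟩ := hD.isometric i j
  let f : U →ₗ[F] (ι → F) := (D j).subtype ∘ₗ φ.toLinearMap ∘ₗ Submodule.inclusion hU
  have hinj : Function.Injective f :=
    (D j).injective_subtype.comp (φ.injective.comp (Submodule.inclusion_injective hU))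
  refine ⟨LinearMap.range f, ?_, ?_, ?_⟩
  · rintro _ ⟨u, rfl⟩
    exact (φ _).2
  · rintro _ ⟨u, rfl⟩
    show Q ((φ _ : D j) : ι → F) = 0
    rw [hφ]
    exact hUs _ u.2
  · rw [LinearMap.finrank_range_of_inj hinj, hUd, hD.decomp.decomp.finrank_eq i,
      hD.decomp.decomp.finrank_eq j]

theorem maximal_odd [Finite F] (hQ : Cfsg.Geo.IsNondegenerateQuadraticForm Q) (h2 : (2 : F) ≠ 0)
    (hn : 13 ≤ Fintype.card ι) (hD : Cfsg.Geo.IsOrthogonalMDecomposition Q k D) (hk : 3 ≤ k)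
    (hex : ¬ (Nat.card F = 3 ∧ k = 3)) :
    Cfsg.Geo.IsMaximalIn (Cfsg.Geo.omegaGL Q)
      (Cfsg.Geo.decompositionStabilizer D ⊓ Cfsg.Geo.omegaGL Q) := by
  refine isMaximalIn_of inf_le_right ?_ fun M hHM hMK g hgM hgH => ?_
  · obtain ⟨g, hg, hgs⟩ := exists_not_stab hQ (by omega) hD (by omega) (Or.inr hk)
    exact ⟨g, hg, fun hmem => hgs hmem.1⟩
  · refine OrthDecompOdd.omega_le_of_decomp
      (OrthDecompOdd.ctx_of hQ h2 (by omega) hD hk hex hHM hMK) h2 hk hex ?_ hgM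
      fun e => hgH ⟨e, hMK hgM⟩
    by_cases ht : 3 ≤ t
    · exact Or.inl ht
    · refine Or.inr ?_
      have hcard := card_eq hD.decomp.decomp
      have : t * k ≤ 2 * k := Nat.mul_le_mul_right k (by omega)
      omega

/-- All block dimensions. -/
theorem maximal [Fintype F] (hQ : Cfsg.Geo.IsNondegenerateQuadraticForm Q)
    (hn : 13 ≤ Fintype.card ι) (hk : 2 ≤ k) (hD : Cfsg.Geo.IsOrthogonalMDecomposition Q k D)
    (hko : Odd k → Odd (Fintype.card F))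
    (hk2 : k = 2 → 7 ≤ Fintype.card F ∨
      (Fintype.card F ≠ 3 ∧ ∀ i, ¬ Cfsg.Geo.IsPlusTypeOn Q (D i)))
    (hk3 : k = 3 → Fintype.card F ≠ 3)
    (hk4 : k = 4 → Fintype.card F = 2 → ∀ i, ¬ Cfsg.Geo.IsPlusTypeOn Q (D i)) :
    Cfsg.Geo.IsMaximalIn (Cfsg.Geo.omegaGL Q)
      (Cfsg.Geo.decompositionStabilizer D ⊓ Cfsg.Geo.omegaGL Q) := by
  rcases (show k = 2 ∨ 3 ≤ k by omega) with rfl | hk3'
  · refine OrthPlaneMax.maximal hQ hn hD ((hk2 rfl).imp (fun h => by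
      rwa [Nat.card_eq_fintype_card]) fun h => ⟨fun i v hv hvQ => ?_, by
      rw [Nat.card_eq_fintype_card]; exact h.1⟩)
    by_contra hv0
    exact h.2 i (OrthNondegMax.plus_of_singular hQ (hD.decomp.decomp.finrank_eq i) hv hv0 hvQ)
  by_cases h2 : (2 : F) = 0
  · have hke : Even k := Nat.not_odd_iff_even.mp fun ho =>
      two_ne_zero_of_odd (hko ho) h2
    obtain ⟨d, hd⟩ := hke
    refine OrthDecompEven.maximal hQ h2 hn hD (by omega) ⟨d, hd⟩ fun hq h4 => ?_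
    rw [Nat.card_eq_fintype_card] at hq
    exact hk4 h4 hq
  · exact maximal_odd hQ h2 hn hD hk3' fun h => hk3 h.2 (by
      rw [← Nat.card_eq_fintype_card]; exact h.1)

end Cfsg.Agent.Lib.Subspaces.OrthDecompMax
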