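import Cfsg.Agent.Lib.Subspaces.FormVec

/-!
Components of vectors with respect to a decomposition into subspaces, the decomposition
stabiliser, and gluing of maps between the blocks of an orthogonal decomposition.
-/

set_option autoImplicit false

namespace Cfsg.Agent.Lib.Subspaces.Decomposition

open Matrix Cfsg.Agent.Lib.Subspaces.Transvection Cfsg.Agent.Lib.Subspaces.FormVec

variable {ι : Type} [Fintype ι] [DecidableEq ι] {F : Type*} [Field F]
  {t m : ℕ} {D : Fin t → Submodule F (ι → F)}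

theorem isInternal (hD : Cfsg.Geo.IsMDecomposition m D) : DirectSum.IsInternal D :=
  DirectSum.isInternal_submodule_of_iSupIndep_of_iSup_eq_top hD.indep hD.iSup_eq_top

/-- The component of a vector in the block `D i`. -/
noncomputable def comp (hD : Cfsg.Geo.IsMDecomposition m D) (i : Fin t) :
    (ι → F) →ₗ[F] (ι → F) :=
  (D i).subtype ∘ₗ DirectSum.component F (Fin t) (fun j => D j) i ∘ₗ
    (LinearEquiv.ofBijective (DirectSum.coeLinearMap D) (isInternal hD)).symm.toLinearMap

theorem comp_mem (hD : Cfsg.Geo.IsMDecomposition m D) (i : Fin t) (x : ι → F) :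
    comp hD i x ∈ D i := by
  rw [comp, LinearMap.comp_apply, Submodule.subtype_apply]
  exact Submodule.coe_mem _

theorem comp_of_sum (hD : Cfsg.Geo.IsMDecomposition m D) {c : Fin t → ι → F}
    (hc : ∀ i, c i ∈ D i) (i : Fin t) : comp hD i (∑ j, c j) = c i := by
  classical
  have h : (LinearEquiv.ofBijective (DirectSum.coeLinearMap D) (isInternal hD)).symm (∑ j, c j) =
      ∑ j, DirectSum.of (fun j => D j) j ⟨c j, hc j⟩ := by
    rw [LinearEquiv.symm_apply_eq]
    change _ = DirectSum.coeLinearMap D _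
    rw [map_sum]
    exact Finset.sum_congr rfl fun j _ => (DirectSum.coeLinearMap_of D j ⟨c j, hc j⟩).symm
  rw [comp, LinearMap.comp_apply, LinearMap.comp_apply, LinearEquiv.coe_toLinearMap, h, map_sum,
    Finset.sum_eq_single i]
  · simp [← DirectSum.lof_eq_of F, DirectSum.component.lof_self]
  · intro j _ hj
    simp [← DirectSum.lof_eq_of F, DirectSum.component.of, hj]
  · simp

theorem comp_of_mem (hD : Cfsg.Geo.IsMDecomposition m D) {i : Fin t} {x : ι → F} (hx : x ∈ D i)
    (j : Fin t) : comp hD j x = if j = i then x else 0 := by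
  classical
  have h := comp_of_sum hD (c := fun k => if k = i then x else 0)
    (fun k => by split_ifs with h
                 · subst h; exact hx
                 · exact Submodule.zero_mem _) j
  simpa using h

theorem comp_self (hD : Cfsg.Geo.IsMDecomposition m D) {i : Fin t} {x : ι → F} (hx : x ∈ D i) :
    comp hD i x = x := by rw [comp_of_mem hD hx, if_pos rfl]

theorem comp_other (hD : Cfsg.Geo.IsMDecomposition m D) {i j : Fin t} (h : j ≠ i) {x : ι → F}
    (hx : x ∈ D i) : comp hD j x = 0 := by rw [comp_of_mem hD hx, if_neg h]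

theorem sum_comp (hD : Cfsg.Geo.IsMDecomposition m D) (x : ι → F) : ∑ i, comp hD i x = x := by
  obtain ⟨d, rfl⟩ : ∃ d, DirectSum.coeLinearMap D d = x := (isInternal hD).2 x
  classical
  have hsum : DirectSum.coeLinearMap D d = ∑ i, (d i : ι → F) := by
    conv_lhs => rw [← DirectSum.sum_univ_of d]
    simp [map_sum]
  rw [hsum]
  exact Finset.sum_congr rfl fun i _ => comp_of_sum hD (fun j => (d j).2) i

theorem mem_of_comp_eq_zero (hD : Cfsg.Geo.IsMDecomposition m D) {i : Fin t} {x : ι → F}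
    (h : ∀ j, j ≠ i → comp hD j x = 0) : x ∈ D i := by
  classical
  rw [← sum_comp hD x, Finset.sum_eq_single i (fun j _ hj => h j hj) (by simp)]
  exact comp_mem hD i x

theorem block_ne_bot (hD : Cfsg.Geo.IsMDecomposition m D) (i : Fin t) : D i ≠ ⊥ := fun e => by
  have h1 := hD.finrank_eq i
  rw [e, finrank_bot] at h1
  exact absurd hD.pos (by omega)

theorem block_injective (hD : Cfsg.Geo.IsMDecomposition m D) {i j : Fin t} (h : D i = D j) :
    i = j := by
  by_contra hne
  obtain ⟨x, hx, hx0⟩ := Submodule.exists_mem_ne_zero_of_ne_bot (block_ne_bot hD i)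
  exact hx0 (by rw [← comp_self hD hx, comp_other hD hne (h ▸ hx)])

theorem card_eq (hD : Cfsg.Geo.IsMDecomposition m D) : Fintype.card ι = t * m := by
  have h := (LinearEquiv.ofBijective (DirectSum.coeLinearMap D) (isInternal hD)).finrank_eq
  rw [Module.finrank_directSum, Module.finrank_fintype_fun_eq_card] at h
  rw [← h, Finset.sum_congr rfl (fun i _ => hD.finrank_eq i), Finset.sum_const, Finset.card_univ,
    Fintype.card_fin, smul_eq_mul]

theorem finrank_le_of_mapsTo {g : GL ι F} {P Q : Submodule F (ι → F)}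
    (h : ∀ x ∈ P, (g : Matrix ι ι F) *ᵥ x ∈ Q) : Module.finrank F P ≤ Module.finrank F Q :=
  LinearMap.finrank_le_finrank_of_injective
    (f := (Matrix.toLin' (g : Matrix ι ι F)).restrict (p := P) (q := Q)
      (fun u hu => by simpa using h u hu))
    (fun a b hab => Subtype.ext (gl_mulVec_injective g (by
      simpa using congrArg Subtype.val hab)))

theorem mem_stabilizer_of_fix {g : GL ι F}
    (h : ∀ i, g ∈ Cfsg.Geo.subspaceStabilizer (D i)) :
    g ∈ Cfsg.Geo.decompositionStabilizer D := by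
  refine ⟨1, fun i => le_antisymm ?_ ?_⟩
  · rintro _ ⟨x, hx, rfl⟩
    simpa using mem_subspaceStabilizer_iff.mp (h i) x hx
  · intro x hx
    refine ⟨((g⁻¹ : GL ι F) : Matrix ι ι F) *ᵥ x,
      mem_subspaceStabilizer_iff.mp ((Cfsg.Geo.subspaceStabilizer _).inv_mem (h i)) x hx, ?_⟩
    rw [Matrix.toLin'_apply, gl_mulVec_inv]

theorem exists_image_of_mem {g : GL ι F} (hg : g ∈ Cfsg.Geo.decompositionStabilizer D) :
    ∃ σ : Equiv.Perm (Fin t), ∀ i, ∀ x ∈ D i, (g : Matrix ι ι F) *ᵥ x ∈ D (σ i) := by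
  obtain ⟨σ, hσ⟩ := hg
  exact ⟨σ, fun i x hx => hσ i ▸ ⟨x, hx, Matrix.toLin'_apply _ _⟩⟩

theorem mem_stabilizer_of_mapsTo (hD : Cfsg.Geo.IsMDecomposition m D) {g : GL ι F}
    (h : ∀ i, ∃ j, ∀ x ∈ D i, (g : Matrix ι ι F) *ᵥ x ∈ D j) :
    g ∈ Cfsg.Geo.decompositionStabilizer D := by
  choose τ hτ using h
  have heq : ∀ i, (D i).map (Matrix.toLin' (g : Matrix ι ι F)) = D (τ i) := by
    intro i
    refine Submodule.eq_of_le_of_finrank_le ?_ ?_
    · rintro _ ⟨x, hx, rfl⟩
      simpa using hτ i x hx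
    · rw [hD.finrank_eq (τ i), ← hD.finrank_eq i]
      exact (finrank_le_of_mapsTo (g := g) fun x hx => ⟨x, hx, Matrix.toLin'_apply _ _⟩)
  have hinj : Function.Injective τ := fun a b hab => block_injective hD <|
    Submodule.map_injective_of_injective
      (f := Matrix.toLin' (g : Matrix ι ι F))
      (fun x y hxy => gl_mulVec_injective g (by simpa using hxy))
      (by rw [heq, heq, hab])
  exact ⟨Equiv.ofBijective τ (Finite.injective_iff_bijective.mp hinj), fun i => heq i⟩

/-- Outside the stabiliser, some vector of some block gets two non-zero components. -/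
theorem exists_two_comp (hD : Cfsg.Geo.IsMDecomposition m D) {g : GL ι F}
    (hg : g ∉ Cfsg.Geo.decompositionStabilizer D) :
    ∃ i, ∃ v ∈ D i, ∃ j k, j ≠ k ∧ comp hD j ((g : Matrix ι ι F) *ᵥ v) ≠ 0 ∧
      comp hD k ((g : Matrix ι ι F) *ᵥ v) ≠ 0 := by
  by_contra hc
  push Not at hc
  refine hg (mem_stabilizer_of_mapsTo hD fun i => ?_)
  have hone : ∀ v ∈ D i, ∀ j, comp hD j ((g : Matrix ι ι F) *ᵥ v) ≠ 0 →
      (g : Matrix ι ι F) *ᵥ v ∈ D j := fun v hv j hj =>
    mem_of_comp_eq_zero hD fun k hk => hc i v hv j k (Ne.symm hk) hj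
  obtain ⟨v, hv, hv0⟩ := Submodule.exists_mem_ne_zero_of_ne_bot (block_ne_bot hD i)
  obtain ⟨j, hj⟩ : ∃ j, comp hD j ((g : Matrix ι ι F) *ᵥ v) ≠ 0 := by
    by_contra h
    push Not at h
    refine hv0 (gl_mulVec_injective g ?_)
    show (g : Matrix ι ι F) *ᵥ v = (g : Matrix ι ι F) *ᵥ 0
    rw [mulVec_zero, ← sum_comp hD ((g : Matrix ι ι F) *ᵥ v)]
    exact Finset.sum_eq_zero fun j _ => h j
  refine ⟨j, fun x hx => ?_⟩
  by_contra hxj
  obtain ⟨k, hk, hkx⟩ : ∃ k, k ≠ j ∧ comp hD k ((g : Matrix ι ι F) *ᵥ x) ≠ 0 := by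
    by_contra h
    push Not at h
    exact hxj (mem_of_comp_eq_zero hD h)
  refine absurd (hc i (v + x) ((D i).add_mem hv hx) k j hk ?_) ?_
  · rw [mulVec_add, map_add, comp_other hD hk (hone v hv j hj), zero_add]
    exact hkx
  · rw [mulVec_add, map_add, comp_other hD (Ne.symm hk) (hone x hx k hkx), add_zero]
    exact hj

/-- The invertible matrix of a linear automorphism. -/
noncomputable def glOfEquiv (e : (ι → F) ≃ₗ[F] (ι → F)) : GL ι F where
  val := LinearMap.toMatrix' e.toLinearMap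
  inv := LinearMap.toMatrix' e.symm.toLinearMap
  val_inv := by rw [← LinearMap.toMatrix'_comp]; simp
  inv_val := by rw [← LinearMap.toMatrix'_comp]; simp

theorem glOfEquiv_mulVec (e : (ι → F) ≃ₗ[F] (ι → F)) (x : ι → F) :
    (glOfEquiv e : Matrix ι ι F) *ᵥ x = e x := by
  rw [← Matrix.toLin'_apply]
  show Matrix.toLin' (LinearMap.toMatrix' e.toLinearMap) x = e x
  rw [Matrix.toLin'_toMatrix']
  rfl

theorem form_sum_sum {f : (ι → F) → (ι → F) → F}
    (hl : ∀ x y v, f (x + y) v = f x v + f y v) (hr : ∀ v x y, f v (x + y) = f v x + f v y)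
    (hortho : ∀ i j, i ≠ j → Cfsg.Geo.AreOrthogonalFor f (D i) (D j))
    {a b : Fin t → ι → F} (ha : ∀ i, a i ∈ D i) (hb : ∀ i, b i ∈ D i) :
    f (∑ i, a i) (∑ i, b i) = ∑ i, f (a i) (b i) := by
  classical
  let L : ∀ v, (ι → F) →+ F := fun v => AddMonoidHom.mk' (fun x => f x v) fun x y => hl x y v
  let R : ∀ v, (ι → F) →+ F := fun v => AddMonoidHom.mk' (f v) fun x y => hr v x y
  show L _ (∑ i, a i) = _
  rw [map_sum]
  refine Finset.sum_congr rfl fun i _ => ?_
  show R (a i) (∑ j, b j) = _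
  rw [map_sum, Finset.sum_eq_single i]
  · rfl
  · exact fun j _ hj => hortho i j (Ne.symm hj) _ (ha i) _ (hb j)
  · simp

/-- Gluing form preserving maps between the blocks of an orthogonal decomposition. -/
theorem exists_glue {f : (ι → F) → (ι → F) → F}
    (hl : ∀ x y v, f (x + y) v = f x v + f y v) (hr : ∀ v x y, f v (x + y) = f v x + f v y)
    (hn : Cfsg.Geo.IsNondegenerateForm f) (hD : Cfsg.Geo.IsNondegenerateMDecomposition f m D)
    (σ : Equiv.Perm (Fin t)) (φ : Fin t → (ι → F) →ₗ[F] (ι → F))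
    (hφ : ∀ i, ∀ x ∈ D i, φ i x ∈ D (σ i))
    (hiso : ∀ i, ∀ x ∈ D i, ∀ y ∈ D i, f (φ i x) (φ i y) = f x y) :
    ∃ T : GL ι F, (∀ i, ∀ x ∈ D i, (T : Matrix ι ι F) *ᵥ x = φ i x) ∧
      (∀ x y, f ((T : Matrix ι ι F) *ᵥ x) ((T : Matrix ι ι F) *ᵥ y) = f x y) ∧
      T ∈ Cfsg.Geo.decompositionStabilizer D := by
  classical
  let G : (ι → F) →ₗ[F] (ι → F) := ∑ i, φ i ∘ₗ comp hD.decomp i
  have hG : ∀ x, G x = ∑ j, φ (σ.symm j) (comp hD.decomp (σ.symm j) x) := fun x => by
    simp only [G, LinearMap.coe_sum, Finset.sum_apply, LinearMap.comp_apply]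
    exact (Equiv.sum_comp σ.symm fun i => φ i (comp hD.decomp i x)).symm
  have hmem : ∀ x j, φ (σ.symm j) (comp hD.decomp (σ.symm j) x) ∈ D j := fun x j => by
    simpa using hφ (σ.symm j) _ (comp_mem hD.decomp (σ.symm j) x)
  have hGiso : ∀ x y, f (G x) (G y) = f x y := by
    intro x y
    rw [hG, hG, form_sum_sum hl hr hD.orthogonal (hmem x) (hmem y),
      Equiv.sum_comp σ.symm fun i => f (φ i (comp hD.decomp i x)) (φ i (comp hD.decomp i y))]
    conv_rhs => rw [← sum_comp hD.decomp x, ← sum_comp hD.decomp y,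
      form_sum_sum hl hr hD.orthogonal (fun i => comp_mem hD.decomp i x)
        (fun i => comp_mem hD.decomp i y)]
    exact Finset.sum_congr rfl fun i _ =>
      hiso i _ (comp_mem hD.decomp i x) _ (comp_mem hD.decomp i y)
  have hinj : Function.Injective G := by
    intro x y hxy
    by_contra hne
    obtain ⟨-, z, hz⟩ := hn (x - y) (sub_ne_zero.mpr hne)
    apply hz
    rw [← hGiso, map_sub, hxy, sub_self]
    have := hl 0 0 (G z)
    rw [add_zero] at this
    linear_combination -this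
  have hGblock : ∀ i, ∀ x ∈ D i, G x = φ i x := by
    intro i x hx
    simp only [G, LinearMap.coe_sum, Finset.sum_apply, LinearMap.comp_apply]
    rw [Finset.sum_eq_single i (fun j _ hj => by rw [comp_other hD.decomp hj hx, map_zero])
      (by simp), comp_self hD.decomp hx]
  refine ⟨glOfEquiv (LinearEquiv.ofBijective G ⟨hinj, LinearMap.injective_iff_surjective.mp hinj⟩),
    fun i x hx => ?_, fun x y => ?_, mem_stabilizer_of_mapsTo hD.decomp fun i =>
      ⟨σ i, fun x hx => ?_⟩⟩
  · rw [glOfEquiv_mulVec]; exact hGblock i x hx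
  · rw [glOfEquiv_mulVec, glOfEquiv_mulVec]; exact hGiso x y
  · rw [glOfEquiv_mulVec]
    show G x ∈ D (σ i)
    rw [hGblock i x hx]
    exact hφ i x hx

end Cfsg.Agent.Lib.Subspaces.Decomposition
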