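import Cfsg.Agent.Lib.Subspaces.FormVec
import Cfsg.Agent.Lib.Symplectic.Form

/-!
Generation of the isometry group of a symplectic form (given as a function on column vectors) by
transvections, as subgroups of `GL ι F`; the standard form `sympForm`.
-/

set_option autoImplicit false

namespace Cfsg.Agent.Lib.Subspaces.SympGen

open Matrix Cfsg.Agent.Lib.Subspaces.Transvection Cfsg.Agent.Lib.Subspaces.FormVec

variable {ι : Type} [Fintype ι] [DecidableEq ι] {F : Type*} [Field F]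
  {f : (ι → F) → (ι → F) → F}

theorem zero_right (hf : Cfsg.Geo.IsSymplecticForm f) (v : ι → F) : f v 0 = 0 := by
  rw [hf.skew, form_zero_left (isLinearLeft_of_bilinear hf.bilinear), neg_zero]

theorem swap_eq_zero (hf : Cfsg.Geo.IsSymplecticForm f) {v w : ι → F} (h : f v w = 0) :
    f w v = 0 := by rw [hf.skew, h, neg_zero]

theorem formVec_smul (hf : Cfsg.Geo.IsSymplecticForm f) (a : F) (v : ι → F) :
    formVec f (a • v) = a • formVec f v :=
  funext fun _ => hf.bilinear.smul_right _ _ _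

theorem formVec_add (hf : Cfsg.Geo.IsSymplecticForm f) (v w : ι → F) :
    formVec f (v + w) = formVec f v + formVec f w :=
  funext fun _ => hf.bilinear.add_right _ _ _

theorem stv_dot (hf : Cfsg.Geo.IsSymplecticForm f) (v : ι → F) (a : F) :
    (a • formVec f v) ⬝ᵥ v = 0 := by
  rw [smul_dotProduct, formVec_dot (isLinearLeft_of_bilinear hf.bilinear), hf.alternating,
    smul_zero]

theorem stv_mulVec (hf : Cfsg.Geo.IsSymplecticForm f) (v : ι → F) (a : F) (x : ι → F) :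
    (tv v (a • formVec f v) : Matrix ι ι F) *ᵥ x = x + (a * f x v) • v := by
  rw [tv_mulVec (stv_dot hf v a), smul_dotProduct,
    formVec_dot (isLinearLeft_of_bilinear hf.bilinear), smul_eq_mul]

theorem stv_isometry (hf : Cfsg.Geo.IsSymplecticForm f) (v : ι → F) (a : F) (x y : ι → F) :
    f ((tv v (a • formVec f v) : Matrix ι ι F) *ᵥ x) ((tv v (a • formVec f v) : Matrix ι ι F) *ᵥ y)
      = f x y := by
  rw [stv_mulVec hf, stv_mulVec hf, hf.bilinear.add_left, hf.bilinear.add_right,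
    hf.bilinear.add_right, hf.bilinear.smul_left, hf.bilinear.smul_left, hf.bilinear.smul_right,
    hf.bilinear.smul_right, hf.alternating, hf.skew v y]
  ring

/-- `f` as a bilinear map. -/
noncomputable def toBilin (hf : Cfsg.Geo.IsSymplecticForm f) :
    (ι → F) →ₗ[F] (ι → F) →ₗ[F] F :=
  LinearMap.mk₂ F f hf.bilinear.add_left (fun c x v => hf.bilinear.smul_left c x v)
    hf.bilinear.add_right (fun c v x => hf.bilinear.smul_right c v x)

theorem toBilin_isSymp (hf : Cfsg.Geo.IsSymplecticForm f) :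
    Cfsg.Agent.Lib.Symplectic.IsSympForm (toBilin hf) where
  self x := hf.alternating x
  nondeg x h := by
    by_contra hx
    obtain ⟨-, y, hy⟩ := hf.nondegenerate x hx
    exact hy (h y)

/-- A subgroup containing all transvections of a symplectic form contains all its isometries. -/
theorem mem_of_isometry (hf : Cfsg.Geo.IsSymplecticForm f) {M : Subgroup (GL ι F)}
    (hM : ∀ v (a : F), tv v (a • formVec f v) ∈ M) {g : GL ι F}
    (hg : ∀ x y, f ((g : Matrix ι ι F) *ᵥ x) ((g : Matrix ι ι F) *ᵥ y) = f x y) : g ∈ M := by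
  let N : Subgroup (Cfsg.Agent.Lib.Symplectic.Isom (toBilin hf)) :=
    { carrier := {h | ∃ u ∈ M, ∀ x : ι → F, (u : Matrix ι ι F) *ᵥ x = h • x}
      mul_mem' := fun {a b} ⟨u, hu, ha⟩ ⟨w, hw, hb⟩ => ⟨u * w, M.mul_mem hu hw, fun x => by
        rw [gl_mul_mulVec, hb, ha, mul_smul]⟩
      one_mem' := ⟨1, M.one_mem, fun x => by rw [Units.val_one, one_mulVec, one_smul]⟩
      inv_mem' := fun {a} ⟨u, hu, ha⟩ => ⟨u⁻¹, M.inv_mem hu, fun x => by
        apply gl_mulVec_injective u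
        show (u : Matrix ι ι F) *ᵥ _ = (u : Matrix ι ι F) *ᵥ _
        rw [gl_mulVec_inv, ha, smul_inv_smul]⟩ }
  have hle : Cfsg.Agent.Lib.Symplectic.TG (toBilin_isSymp hf) ≤ N := by
    refine (Subgroup.closure_le _).mpr ?_
    rintro _ ⟨⟨v, a⟩, rfl⟩
    refine ⟨tv v (a • formVec f v), hM v a, fun x => ?_⟩
    rw [stv_mulVec hf, Cfsg.Agent.Lib.Symplectic.transv_smul]
    rfl
  let e : (ι → F) ≃ₗ[F] (ι → F) :=
    LinearEquiv.ofLinearMap (Matrix.mulVecLin (g : Matrix ι ι F))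
      (Matrix.mulVecLin ((g⁻¹ : GL ι F) : Matrix ι ι F))
      (LinearMap.ext fun x => gl_mulVec_inv g x) (LinearMap.ext fun x => gl_inv_mulVec g x)
  obtain ⟨u, hu, hux⟩ : (⟨e, fun x y => hg x y⟩ : Cfsg.Agent.Lib.Symplectic.Isom (toBilin hf)) ∈ N :=
    hle (by rw [Cfsg.Agent.Lib.Symplectic.TG_eq_top]; trivial)
  have hgu : g = u := gl_ext fun x => (hux x).symm
  rwa [hgu]

/-- The standard form is symplectic. -/
theorem sympForm_isSymplectic (m : ℕ) :
    Cfsg.Geo.IsSymplecticForm (Cfsg.sympForm m F) := by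
  have hexp : ∀ u v : Fin m ⊕ Fin m → F, Cfsg.sympForm m F u v =
      ∑ i, (u (Sum.inr i) * v (Sum.inl i) - u (Sum.inl i) * v (Sum.inr i)) := by
    intro u v
    simp [Cfsg.sympForm, Matrix.J, Matrix.mulVec, dotProduct, Fintype.sum_sum_type,
      Matrix.one_apply, Finset.sum_sub_distrib]
    ring
  refine ⟨⟨fun x y v => ?_, fun c x v => ?_, fun v x y => ?_, fun c v x => ?_⟩, fun v w => ?_,
    fun v => ?_, fun v hv => ?_⟩
  · simp [Cfsg.sympForm, add_dotProduct]
  · simp [Cfsg.sympForm, smul_dotProduct]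
  · simp [Cfsg.sympForm, mulVec_add, dotProduct_add]
  · simp [Cfsg.sympForm, mulVec_smul, dotProduct_smul]
  · rw [hexp, hexp, ← Finset.sum_neg_distrib]
    exact Finset.sum_congr rfl fun i _ => by ring
  · rw [hexp]
    exact Finset.sum_eq_zero fun i _ => by ring
  · obtain ⟨k, hk⟩ := Function.ne_iff.mp hv
    rcases k with i | i
    · refine ⟨⟨Pi.single (Sum.inr i) 1, ?_⟩, ⟨Pi.single (Sum.inr i) 1, ?_⟩⟩ <;>
        simpa [hexp, Pi.single_apply] using hk
    · refine ⟨⟨Pi.single (Sum.inl i) 1, ?_⟩, ⟨Pi.single (Sum.inl i) 1, ?_⟩⟩ <;>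
        simpa [hexp, Pi.single_apply] using hk

theorem mem_spGL_iff {m : ℕ} {g : GL (Fin m ⊕ Fin m) F} :
    g ∈ Cfsg.spGL m F ↔
      ∀ u v, Cfsg.sympForm m F ((g : Matrix (Fin m ⊕ Fin m) (Fin m ⊕ Fin m) F) *ᵥ u)
        ((g : Matrix (Fin m ⊕ Fin m) (Fin m ⊕ Fin m) F) *ᵥ v) = Cfsg.sympForm m F u v :=
  Iff.rfl

theorem stv_mem_spGL {m : ℕ} (v : Fin m ⊕ Fin m → F) (a : F) :
    tv v (a • formVec (Cfsg.sympForm m F) v) ∈ Cfsg.spGL m F :=
  mem_spGL_iff.mpr fun u w => stv_isometry (sympForm_isSymplectic m) v a u w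

theorem spGL_le {m : ℕ} {M : Subgroup (GL (Fin m ⊕ Fin m) F)}
    (hM : ∀ v (a : F), tv v (a • formVec (Cfsg.sympForm m F) v) ∈ M) : Cfsg.spGL m F ≤ M :=
  fun _ hg => mem_of_isometry (sympForm_isSymplectic m) hM (mem_spGL_iff.mp hg)

end Cfsg.Agent.Lib.Subspaces.SympGen
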