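import Cfsg.Agent.Lib.Forms.Reflections

/-!
The parity of `rank (g - 1)` is additive on every orthogonal group (also `O⁺₄(2)`, where reflections
do not generate): extend the space by a hyperbolic plane.
-/

set_option autoImplicit false

namespace Cfsg.Agent.Lib.Subspaces.RankParity

open Module QuadraticMap Cfsg.Agent.Lib.Forms

section abstr

variable {F : Type*} [Field F] {V : Type*} [AddCommGroup V] [Module F V] [FiniteDimensional F V]
  {Q : QuadraticForm F V}

/-- An isometry extended by the identity of a hyperbolic plane. -/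
def extend (Q : QuadraticForm F V) : orth Q →* orth (Q.prod (qPlus (F := F) 1)) where
  toFun g := ⟨g.1.prodCongr (LinearEquiv.refl F _), fun x => by
    show (Q.prod (qPlus (F := F) 1)) (g.1 x.1, x.2) = (Q.prod (qPlus (F := F) 1)) x
    rw [QuadraticMap.prod_apply, QuadraticMap.prod_apply, g.2]⟩
  map_one' := rfl
  map_mul' _ _ := rfl

theorem finrank_range_extend (g : orth Q) :
    finrank F (LinearMap.range (dev (extend Q g).1)) = finrank F (LinearMap.range (dev g.1)) := by
  have e : LinearMap.range (dev (extend Q g).1) =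
      (LinearMap.range (dev g.1)).map (LinearMap.inl F V (Fin 1 ⊕ Fin 1 → F)) := by
    ext z
    constructor
    · rintro ⟨x, rfl⟩
      refine ⟨dev g.1 x.1, ⟨x.1, rfl⟩, ?_⟩
      show (dev g.1 x.1, (0 : Fin 1 ⊕ Fin 1 → F)) = (g.1 x.1 - x.1, x.2 - x.2)
      rw [dev_apply, sub_self]
    · rintro ⟨_, ⟨y, rfl⟩, rfl⟩
      refine ⟨(y, 0), ?_⟩
      show (g.1 y - y, (0 : Fin 1 ⊕ Fin 1 → F) - 0) = (dev g.1 y, 0)
      rw [dev_apply, sub_self]
  rw [e]
  exact (Submodule.equivMapOfInjective _ LinearMap.inl_injective _).finrank_eq.symm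

/-- The Dickson invariant is additive. -/
theorem dickson_mul (hQ : Nondeg Q) (hd : finrank F V ≠ 2) (g h : orth Q) :
    dickson Q (g * h) = dickson Q g + dickson Q h := by
  have he : ∀ k : orth Q, dickson (Q.prod (qPlus (F := F) 1)) (extend Q k) = dickson Q k := fun k => by
    rw [dickson, dickson, finrank_range_extend]
  have hN : Nondeg (Q.prod (qPlus (F := F) 1)) := prod_nondeg hQ (qPlus_nondeg 1)
  have hr : finrank F (V × (Fin 1 ⊕ Fin 1 → F)) ≠ 4 := by
    rw [finrank_prod, finrank_fintype_fun_eq_card, Fintype.card_sum, Fintype.card_fin]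
    omega
  have := (dicksonHom hN (Or.inr hr)).map_mul (extend Q g) (extend Q h)
  rw [← map_mul] at this
  have h2 : dickson (Q.prod (qPlus (F := F) 1)) (extend Q (g * h)) =
      dickson (Q.prod (qPlus (F := F) 1)) (extend Q g) +
        dickson (Q.prod (qPlus (F := F) 1)) (extend Q h) := this
  rwa [he, he, he] at h2

end abstr

variable {F : Type*} [Field F] {ι : Type} [Fintype ι] [DecidableEq ι]

theorem rank_sub_one (g : Matrix.GeneralLinearGroup ι F) :
    ((g : Matrix ι ι F) - 1).rank = finrank F (LinearMap.range (dev (glEquiv g))) := by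
  have e : ((g : Matrix ι ι F) - 1).mulVecLin = dev (glEquiv g) := LinearMap.ext fun x => by
    show ((g : Matrix ι ι F) - 1).mulVec x = glEquiv g x - x
    rw [glEquiv_apply, Matrix.sub_mulVec, Matrix.one_mulVec]
  rw [Matrix.rank, e]

/-- The parity of `rank (g - 1)` on the isometry group of a form. -/
noncomputable def parity (g : Matrix.GeneralLinearGroup ι F) : ZMod 2 :=
  (((g : Matrix ι ι F) - 1).rank : ℕ)

theorem parity_mul {Q : QuadraticForm F (ι → F)} (hQ : Nondeg Q) (hd : Fintype.card ι ≠ 2)
    {g h : Matrix.GeneralLinearGroup ι F} (hg : ∀ x, Q ((g : Matrix ι ι F).mulVec x) = Q x)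
    (hh : ∀ x, Q ((h : Matrix ι ι F).mulVec x) = Q x) :
    parity (g * h) = parity g + parity h := by
  have hd' : finrank F (ι → F) ≠ 2 := by rwa [finrank_fintype_fun_eq_card]
  have := dickson_mul hQ hd' ⟨glEquiv g, fun x => by rw [glEquiv_apply]; exact hg x⟩
    ⟨glEquiv h, fun x => by rw [glEquiv_apply]; exact hh x⟩
  simp only [parity, rank_sub_one]
  rw [show glEquiv (g * h) = glEquiv g * glEquiv h from map_mul _ g h]
  exact this

theorem even_iff_parity (g : Matrix.GeneralLinearGroup ι F) :
    Even ((g : Matrix ι ι F) - 1).rank ↔ parity g = 0 :=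
  (ZMod.natCast_eq_zero_iff_even).symm

end Cfsg.Agent.Lib.Subspaces.RankParity
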