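import Mathlib
import Cfsg.Prelude.Def_GeometricClasses

/-!
Transvections in `GL ι F` as matrices `1 + v φᵀ`, generation of the special linear group, and the
full-centre criterion for a subgroup to contain the special linear group.
-/

set_option autoImplicit false

namespace Cfsg.Agent.Lib.Subspaces.Transvection

open Matrix

variable {ι : Type} [Fintype ι] [DecidableEq ι] {F : Type*} [Field F]

open Classical in
/-- The transvection `x ↦ x + (φ ⬝ x) v`; the identity when `φ ⬝ v ≠ 0`. -/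
noncomputable def tv (v φ : ι → F) : GL ι F :=
  if h : φ ⬝ᵥ v = 0 then
    ⟨1 + vecMulVec v φ, 1 - vecMulVec v φ, by
      have hN : vecMulVec v φ * vecMulVec v φ = 0 := by
        rw [vecMulVec_mul_vecMulVec, h, zero_smul, vecMulVec_zero]
      rw [add_mul, mul_sub, mul_sub, hN, one_mul, one_mul, mul_one]; abel, by
      have hN : vecMulVec v φ * vecMulVec v φ = 0 := by
        rw [vecMulVec_mul_vecMulVec, h, zero_smul, vecMulVec_zero]
      rw [sub_mul, mul_add, mul_add, hN, one_mul, one_mul, mul_one]; abel⟩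
  else 1

theorem coe_tv {v φ : ι → F} (h : φ ⬝ᵥ v = 0) :
    (tv v φ : Matrix ι ι F) = 1 + vecMulVec v φ := by
  rw [tv, dif_pos h]

theorem tv_mulVec {v φ : ι → F} (h : φ ⬝ᵥ v = 0) (x : ι → F) :
    (tv v φ : Matrix ι ι F) *ᵥ x = x + (φ ⬝ᵥ x) • v := by
  rw [coe_tv h, add_mulVec, one_mulVec, vecMulVec_mulVec, op_smul_eq_smul]

theorem gl_ext {a b : GL ι F} (h : ∀ x, (a : Matrix ι ι F) *ᵥ x = (b : Matrix ι ι F) *ᵥ x) :
    a = b := Units.ext (Matrix.mulVec_injective (funext h))

theorem gl_mul_mulVec (a b : GL ι F) (x : ι → F) :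
    ((a * b : GL ι F) : Matrix ι ι F) *ᵥ x = (a : Matrix ι ι F) *ᵥ ((b : Matrix ι ι F) *ᵥ x) := by
  rw [Units.val_mul, Matrix.mulVec_mulVec]

theorem gl_inv_mulVec (g : GL ι F) (x : ι → F) :
    ((g⁻¹ : GL ι F) : Matrix ι ι F) *ᵥ ((g : Matrix ι ι F) *ᵥ x) = x := by
  rw [Matrix.mulVec_mulVec, ← Units.val_mul, inv_mul_cancel, Units.val_one, one_mulVec]

theorem gl_mulVec_inv (g : GL ι F) (x : ι → F) :
    (g : Matrix ι ι F) *ᵥ (((g⁻¹ : GL ι F) : Matrix ι ι F) *ᵥ x) = x := by
  rw [Matrix.mulVec_mulVec, ← Units.val_mul, mul_inv_cancel, Units.val_one, one_mulVec]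

theorem gl_mulVec_injective (g : GL ι F) :
    Function.Injective fun x : ι → F => (g : Matrix ι ι F) *ᵥ x :=
  Function.LeftInverse.injective
    (g := fun x => ((g⁻¹ : GL ι F) : Matrix ι ι F) *ᵥ x) fun x => gl_inv_mulVec g x

theorem det_tv (v φ : ι → F) : ((tv v φ : GL ι F) : Matrix ι ι F).det = 1 := by
  by_cases h : φ ⬝ᵥ v = 0
  · rw [coe_tv h, vecMulVec_eq Unit, det_one_add_replicateCol_mul_replicateRow, h, add_zero]
  · rw [tv, dif_neg h]; simp

theorem tv_mem_specialLinear (v φ : ι → F) : tv v φ ∈ Cfsg.Geo.specialLinear ι F := by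
  refine MonoidHom.mem_ker.mpr (Units.ext ?_)
  exact det_tv v φ

theorem mem_specialLinear_iff (g : GL ι F) :
    g ∈ Cfsg.Geo.specialLinear ι F ↔ (g : Matrix ι ι F).det = 1 := by
  rw [Cfsg.Geo.specialLinear, MonoidHom.mem_ker, Units.ext_iff]
  rfl

theorem vecMul_dot (g : GL ι F) (φ v : ι → F) :
    (φ ᵥ* ((g⁻¹ : GL ι F) : Matrix ι ι F)) ⬝ᵥ ((g : Matrix ι ι F) *ᵥ v) = φ ⬝ᵥ v := by
  rw [← dotProduct_mulVec, gl_inv_mulVec]

theorem conj_tv (g : GL ι F) {v φ : ι → F} (h : φ ⬝ᵥ v = 0) :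
    g * tv v φ * g⁻¹ = tv ((g : Matrix ι ι F) *ᵥ v) (φ ᵥ* ((g⁻¹ : GL ι F) : Matrix ι ι F)) := by
  refine gl_ext fun x => ?_
  rw [gl_mul_mulVec, gl_mul_mulVec, tv_mulVec h, tv_mulVec (by rw [vecMul_dot, h]), mulVec_add,
    gl_mulVec_inv, mulVec_smul, dotProduct_mulVec]

theorem tv_zero_left (φ : ι → F) : tv 0 φ = 1 := by
  refine gl_ext fun x => ?_
  rw [tv_mulVec (dotProduct_zero φ)]; simp

theorem tv_zero_right (v : ι → F) : tv v 0 = 1 := by
  refine gl_ext fun x => ?_
  rw [tv_mulVec (zero_dotProduct v)]; simp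

theorem tv_mul_center {v φ ψ : ι → F} (h : φ ⬝ᵥ v = 0) (h' : ψ ⬝ᵥ v = 0) :
    tv v φ * tv v ψ = tv v (φ + ψ) := by
  refine gl_ext fun x => ?_
  rw [gl_mul_mulVec, tv_mulVec h', tv_mulVec h, tv_mulVec (by rw [add_dotProduct, h, h', add_zero]),
    dotProduct_add, dotProduct_smul, h, add_dotProduct]
  simp only [smul_eq_mul, mul_zero, add_zero, add_smul]
  abel

theorem tv_mul_axis {v w φ : ι → F} (h : φ ⬝ᵥ v = 0) (h' : φ ⬝ᵥ w = 0) :
    tv v φ * tv w φ = tv (v + w) φ := by
  refine gl_ext fun x => ?_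
  rw [gl_mul_mulVec, tv_mulVec h', tv_mulVec h, tv_mulVec (by rw [dotProduct_add, h, h', add_zero]),
    dotProduct_add, dotProduct_smul, h', smul_add]
  simp only [smul_eq_mul, mul_zero, add_zero]
  abel

theorem tv_inv {v φ : ι → F} (h : φ ⬝ᵥ v = 0) : (tv v φ)⁻¹ = tv v (-φ) := by
  refine inv_eq_of_mul_eq_one_right ?_
  rw [tv_mul_center h (by rw [neg_dotProduct, h, neg_zero]), add_neg_cancel, tv_zero_right]

theorem tv_smul {v φ : ι → F} (h : φ ⬝ᵥ v = 0) (a : F) : tv (a • v) φ = tv v (a • φ) := by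
  refine gl_ext fun x => ?_
  rw [tv_mulVec (by rw [dotProduct_smul, h, smul_zero]),
    tv_mulVec (by rw [smul_dotProduct, h, smul_zero]), smul_dotProduct, smul_eq_mul, smul_smul,
    mul_comm]

/-! ### Functionals -/

theorem exists_functional {W : Submodule F (ι → F)} {v : ι → F} (hv : v ∉ W) :
    ∃ φ : ι → F, (∀ w ∈ W, φ ⬝ᵥ w = 0) ∧ φ ⬝ᵥ v = 1 := by
  obtain ⟨f, hfv, hf⟩ := Submodule.exists_dual_map_eq_bot_of_notMem hv inferInstance
  have hrep : ∀ x : ι → F, ((dotProductEquiv F ι).symm f) ⬝ᵥ x = f x := by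
    intro x
    have := congrArg (fun g : Module.Dual F (ι → F) => g x)
      ((dotProductEquiv F ι).apply_symm_apply f)
    rwa [dotProductEquiv_apply_apply] at this
  refine ⟨(f v)⁻¹ • (dotProductEquiv F ι).symm f, fun w hw => ?_, ?_⟩
  · have : f w = 0 := by
      have := Submodule.mem_map_of_mem (f := f) hw
      rw [hf] at this
      simpa using this
    rw [smul_dotProduct, hrep, this, smul_zero]
  · rw [smul_dotProduct, hrep, smul_eq_mul, inv_mul_cancel₀ hfv]

theorem exists_dot_eq_one {v : ι → F} (hv : v ≠ 0) : ∃ φ : ι → F, φ ⬝ᵥ v = 1 := by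
  obtain ⟨φ, -, h⟩ := exists_functional (W := (⊥ : Submodule F (ι → F))) (v := v) (by simpa using hv)
  exact ⟨φ, h⟩

/-! ### Generation of the special linear group -/

/-- All transvections with centre `v` lie in `M`. -/
def FullCenter (M : Subgroup (GL ι F)) (v : ι → F) : Prop :=
  ∀ φ : ι → F, φ ⬝ᵥ v = 0 → tv v φ ∈ M

theorem single_tv_mem {M : Subgroup (GL ι F)} (hM : ∀ v, FullCenter M v) {i j : ι} (h : i ≠ j)
    (c : F) : tv (Pi.single i c) (Pi.single j 1) ∈ M :=
  hM _ _ (by simp [h])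

theorem hpair_mem {M : Subgroup (GL ι F)} (hM : ∀ v, FullCenter M v) {i j : ι} (hij : i ≠ j)
    (a : F) (ha : a ≠ 0) :
    ∃ u : GL ι F, u ∈ M ∧
      (u : Matrix ι ι F) = diagonal (Function.update (Function.update 1 i a) j a⁻¹) := by
  classical
  refine ⟨tv (Pi.single i a) (Pi.single j 1) * tv (Pi.single j (-a⁻¹)) (Pi.single i 1) *
      tv (Pi.single i a) (Pi.single j 1) * tv (Pi.single i (-1)) (Pi.single j 1) *
      tv (Pi.single j 1) (Pi.single i 1) * tv (Pi.single i (-1)) (Pi.single j 1), ?_, ?_⟩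
  · exact M.mul_mem (M.mul_mem (M.mul_mem (M.mul_mem (M.mul_mem (single_tv_mem hM hij _)
      (single_tv_mem hM hij.symm _)) (single_tv_mem hM hij _)) (single_tv_mem hM hij _))
      (single_tv_mem hM hij.symm _)) (single_tv_mem hM hij _)
  · refine Matrix.mulVec_injective (funext fun x => ?_)
    have e1 : ∀ c : F, (Pi.single j (1 : F) : ι → F) ⬝ᵥ Pi.single i c = 0 := fun c => by
      simp [hij]
    have e2 : ∀ c : F, (Pi.single i (1 : F) : ι → F) ⬝ᵥ Pi.single j c = 0 := fun c => by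
      simp [hij.symm]
    simp only [gl_mul_mulVec, tv_mulVec (e1 _), tv_mulVec (e2 _), single_dotProduct, one_mul]
    funext k
    rw [mulVec_diagonal]
    rcases eq_or_ne k i with rfl | hki
    · simp [hij, hij.symm]
      field_simp
      ring
    rcases eq_or_ne k j with rfl | hkj
    · simp [hij, hij.symm]
      field_simp
      ring
    simp [hki, hkj]

theorem diagonal_mem {M : Subgroup (GL ι F)} (hM : ∀ v, FullCenter M v) (D : ι → F)
    (hD : ∏ k, D k = 1) : ∃ u : GL ι F, u ∈ M ∧ (u : Matrix ι ι F) = diagonal D := by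
  classical
  suffices H : ∀ (S : Finset ι) (D : ι → F), ∏ k, D k = 1 → (∀ k ∉ S, D k = 1) →
      ∃ u : GL ι F, u ∈ M ∧ (u : Matrix ι ι F) = diagonal D from
    H Finset.univ D hD (fun k hk => absurd (Finset.mem_univ k) hk)
  intro S
  induction S using Finset.induction_on with
  | empty =>
    intro D _ h
    refine ⟨1, M.one_mem, ?_⟩
    have : D = fun _ => 1 := funext fun k => h k (by simp)
    rw [this, Units.val_one, Matrix.diagonal_one]
  | @insert i S' hi ih =>
    intro D hD h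
    rcases S'.eq_empty_or_nonempty with rfl | ⟨j, hj⟩
    · refine ih D hD fun k _ => ?_
      rcases eq_or_ne k i with rfl | hk
      · rw [← hD]
        exact (Finset.prod_eq_single_of_mem k (Finset.mem_univ k)
          (fun l _ hl => h l (by simp [hl]))).symm
      · exact h k (by simp [hk])
    · have hij : i ≠ j := fun e => hi (e ▸ hj)
      have hi0 : D i ≠ 0 := fun e => by
        rw [Finset.prod_eq_zero (Finset.mem_univ i) e] at hD; exact zero_ne_one hD
      set E : ι → F := Function.update (Function.update 1 i (D i)) j (D i)⁻¹ with hE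
      have hEi : E i = D i := by simp [hE, hij]
      have hEj : E j = (D i)⁻¹ := by simp [hE]
      have hEk : ∀ k, k ≠ i → k ≠ j → E k = 1 := fun k h1 h2 => by simp [hE, h1, h2]
      have hE0 : ∀ k, E k ≠ 0 := fun k => by
        rcases eq_or_ne k i with rfl | h1
        · rw [hEi]; exact hi0
        rcases eq_or_ne k j with rfl | h2
        · rw [hEj]; exact inv_ne_zero hi0
        rw [hEk k h1 h2]; exact one_ne_zero
      have hEprod : ∏ k, E k = 1 := by
        rw [← Finset.prod_subset (Finset.subset_univ ({i, j} : Finset ι)) (fun k _ hk => by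
          simp only [Finset.mem_insert, Finset.mem_singleton, not_or] at hk
          exact hEk k hk.1 hk.2), Finset.prod_pair hij, hEi, hEj, mul_inv_cancel₀ hi0]
      obtain ⟨u, huM, hu⟩ := ih (fun k => D k / E k)
        (by rw [Finset.prod_div_distrib, hD, hEprod, div_one]) (fun k hk => by
          rcases eq_or_ne k i with rfl | h1
          · rw [hEi, div_self hi0]
          have h2 : k ≠ j := fun e => hk (e ▸ hj)
          rw [hEk k h1 h2, h k (by simp [h1, hk]), div_one])
      obtain ⟨w, hwM, hw⟩ := hpair_mem hM hij (D i) hi0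
      refine ⟨u * w, M.mul_mem huM hwM, ?_⟩
      rw [Units.val_mul, hu, hw, ← hE, diagonal_mul_diagonal]
      exact congrArg diagonal (funext fun k => div_mul_cancel₀ _ (hE0 k))

theorem specialLinear_le_of_fullCenter {M : Subgroup (GL ι F)} (hM : ∀ v, FullCenter M v) :
    Cfsg.Geo.specialLinear ι F ≤ M := by
  intro g hg
  rw [mem_specialLinear_iff] at hg
  have key : ∃ u : GL ι F, u ∈ M ∧ (u : Matrix ι ι F) = (g : Matrix ι ι F) := by
    refine Matrix.diagonal_transvection_induction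
      (fun N => ∃ u : GL ι F, u ∈ M ∧ (u : Matrix ι ι F) = N) _ ?_ ?_ ?_
    · intro D hD
      rw [det_diagonal, hg] at hD
      exact diagonal_mem hM D hD
    · rintro ⟨i, j, hij, c⟩
      refine ⟨tv (Pi.single i c) (Pi.single j 1), single_tv_mem hM hij c, ?_⟩
      rw [coe_tv (by simp [hij]), TransvectionStruct.toMatrix_mk,
        Matrix.transvection]
      congr 1
      ext a b
      rw [vecMulVec_apply, Matrix.single_apply]
      simp only [Pi.single_apply]
      by_cases h1 : a = i <;> by_cases h2 : b = j <;>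
        simp [h1, h2, eq_comm (a := i), eq_comm (a := j)]
    · rintro A B ⟨u, hu, rfl⟩ ⟨w, hw, rfl⟩
      exact ⟨u * w, M.mul_mem hu hw, rfl⟩
  obtain ⟨u, hu, he⟩ := key
  rwa [← Units.ext he]

theorem fullCenter_zero (M : Subgroup (GL ι F)) : FullCenter M 0 := fun φ _ => by
  rw [tv_zero_left]; exact M.one_mem

theorem fullCenter_smul {M : Subgroup (GL ι F)} {v : ι → F} (h : FullCenter M v) (a : F) :
    FullCenter M (a • v) := by
  intro φ hφ
  rcases eq_or_ne a 0 with rfl | ha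
  · rw [zero_smul, tv_zero_left]; exact M.one_mem
  · have : φ ⬝ᵥ v = 0 := by simpa [ha] using hφ
    rw [tv_smul this]
    exact h _ (by rw [smul_dotProduct, this, smul_zero])

theorem fullCenter_conj {M : Subgroup (GL ι F)} {v : ι → F} (h : FullCenter M v) {g : GL ι F}
    (hg : g ∈ M) : FullCenter M ((g : Matrix ι ι F) *ᵥ v) := by
  intro φ hφ
  have h0 : (φ ᵥ* (g : Matrix ι ι F)) ⬝ᵥ v = 0 := by rw [← dotProduct_mulVec]; exact hφ
  have := M.mul_mem (M.mul_mem hg (h _ h0)) (M.inv_mem hg)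
  rwa [conj_tv g h0, vecMul_vecMul, ← Units.val_mul, mul_inv_cancel, Units.val_one,
    vecMul_one] at this

theorem fullCenter_add {M : Subgroup (GL ι F)} {v w : ι → F} (hv : FullCenter M v)
    (hw : FullCenter M w) : FullCenter M (v + w) := by
  rcases eq_or_ne v 0 with rfl | hv0
  · rwa [zero_add]
  by_cases hd : w ∈ Submodule.span F {v}
  · obtain ⟨a, rfl⟩ := Submodule.mem_span_singleton.mp hd
    have : v + a • v = (1 + a) • v := by rw [add_smul, one_smul]
    rw [this]
    exact fullCenter_smul hv _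
  · obtain ⟨φ, hφW, hφw⟩ := exists_functional hd
    have h0 : φ ⬝ᵥ v = 0 := hφW v (Submodule.mem_span_singleton_self v)
    have := fullCenter_conj hw (hv φ h0)
    rwa [tv_mulVec h0, hφw, one_smul, add_comm] at this

/-- The full centres of `M`, as a subspace. -/
def fullCenters (M : Subgroup (GL ι F)) : Submodule F (ι → F) where
  carrier := {v | FullCenter M v}
  add_mem' := fullCenter_add
  zero_mem' := fullCenter_zero M
  smul_mem' := fun a _ h => fullCenter_smul h a

theorem mem_fullCenters {M : Subgroup (GL ι F)} {v : ι → F} :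
    v ∈ fullCenters M ↔ FullCenter M v := Iff.rfl

/-- A subgroup with a full centre that fixes no proper non-zero subspace contains `SL`. -/
theorem specialLinear_le_of_irreducible {M : Subgroup (GL ι F)}
    (hirr : ∀ W : Submodule F (ι → F),
      (∀ g ∈ M, ∀ w ∈ W, (g : Matrix ι ι F) *ᵥ w ∈ W) → W = ⊥ ∨ W = ⊤)
    {v : ι → F} (hv0 : v ≠ 0) (hv : FullCenter M v) : Cfsg.Geo.specialLinear ι F ≤ M := by
  have h := hirr (fullCenters M) fun g hg w hw => fullCenter_conj hw hg
  rcases h with h | h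
  · have : v ∈ fullCenters M := hv
    rw [h] at this
    exact absurd (by simpa using this) hv0
  · exact specialLinear_le_of_fullCenter fun w => (mem_fullCenters (M := M)).mp (by rw [h]; trivial)

/-! ### Stabilisers and maximality -/

theorem mem_subspaceStabilizer_iff {W : Submodule F (ι → F)} {g : GL ι F} :
    g ∈ Cfsg.Geo.subspaceStabilizer W ↔ ∀ w ∈ W, (g : Matrix ι ι F) *ᵥ w ∈ W := by
  constructor
  · exact fun h w hw => (h w).mp hw
  · intro h v
    refine ⟨h v, fun hv => ?_⟩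
    let f : W →ₗ[F] W := (Matrix.toLin' (g : Matrix ι ι F)).restrict (fun w hw => by
      simpa using h w hw)
    have finj : Function.Injective f := fun a b hab => by
      have : (g : Matrix ι ι F) *ᵥ (a : ι → F) = (g : Matrix ι ι F) *ᵥ (b : ι → F) := by
        simpa [f] using congrArg Subtype.val hab
      exact Subtype.ext (gl_mulVec_injective g this)
    obtain ⟨⟨w, hw⟩, hfw⟩ := (LinearMap.injective_iff_surjective.mp finj) ⟨_, hv⟩
    have : (g : Matrix ι ι F) *ᵥ w = (g : Matrix ι ι F) *ᵥ v := by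
      simpa [f] using congrArg Subtype.val hfw
    rwa [← gl_mulVec_injective g this]

theorem tv_mem_stabilizer_of_center {W : Submodule F (ι → F)} {v φ : ι → F} (hv : v ∈ W) :
    tv v φ ∈ Cfsg.Geo.subspaceStabilizer W := by
  by_cases h : φ ⬝ᵥ v = 0
  · rw [mem_subspaceStabilizer_iff]
    intro w hw
    rw [tv_mulVec h]
    exact W.add_mem hw (W.smul_mem _ hv)
  · rw [tv, dif_neg h]; exact one_mem _

theorem tv_mem_stabilizer_of_axis {W : Submodule F (ι → F)} {v φ : ι → F}
    (hφ : ∀ w ∈ W, φ ⬝ᵥ w = 0) : tv v φ ∈ Cfsg.Geo.subspaceStabilizer W := by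
  by_cases h : φ ⬝ᵥ v = 0
  · rw [mem_subspaceStabilizer_iff]
    intro w hw
    rw [tv_mulVec h, hφ w hw, zero_smul, add_zero]
    exact hw
  · rw [tv, dif_neg h]; exact one_mem _

theorem isMaximalIn_of {G : Type*} [Group G] {K H : Subgroup G} (hHK : H ≤ K)
    (hne : ∃ g ∈ K, g ∉ H) (h : ∀ M : Subgroup G, H ≤ M → M ≤ K → ∀ g ∈ M, g ∉ H → K ≤ M) :
    Cfsg.Geo.IsMaximalIn K H := by
  obtain ⟨g, hgK, hgH⟩ := hne
  refine ⟨lt_of_le_not_ge hHK fun hle => hgH (hle hgK), fun M hHM hMK => ?_⟩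
  by_cases hM : M ≤ H
  · exact Or.inl (le_antisymm hM hHM)
  · obtain ⟨x, hxM, hxH⟩ := SetLike.not_le_iff_exists.mp hM
    exact Or.inr (le_antisymm hMK (h M hHM hMK x hxM hxH))

theorem exists_between_of {G : Type*} [Group G] {H K T : Subgroup G} (hHK : H ≤ K) (hKT : K ≤ T)
    (h1 : ∃ g ∈ K, g ∉ H) (h2 : ∃ g ∈ T, g ∉ K) : ∃ L : Subgroup G, H < L ∧ L < T := by
  obtain ⟨g, hgK, hgH⟩ := h1
  obtain ⟨g', hg'T, hg'K⟩ := h2
  exact ⟨K, lt_of_le_not_ge hHK fun hle => hgH (hle hgK),
    lt_of_le_not_ge hKT fun hle => hg'K (hle hg'T)⟩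

/-- A transvection moving a proper non-zero subspace. -/
theorem exists_tv_not_mem_stabilizer {W : Submodule F (ι → F)} (hW0 : W ≠ ⊥) (hW1 : W ≠ ⊤) :
    ∃ v φ : ι → F, φ ⬝ᵥ v = 0 ∧ tv v φ ∉ Cfsg.Geo.subspaceStabilizer W := by
  obtain ⟨w, hw, hw0⟩ := Submodule.exists_mem_ne_zero_of_ne_bot hW0
  obtain ⟨v, -, hv⟩ := SetLike.exists_of_lt (lt_top_iff_ne_top.mpr hW1)
  have hwv : w ∉ Submodule.span F {v} := by
    intro hmem
    obtain ⟨a, rfl⟩ := Submodule.mem_span_singleton.mp hmem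
    rcases eq_or_ne a 0 with rfl | ha
    · exact hw0 (zero_smul _ _)
    · exact hv (by simpa [smul_smul, ha] using W.smul_mem a⁻¹ hw)
  obtain ⟨φ, hφ, hφw⟩ := exists_functional hwv
  have h0 : φ ⬝ᵥ v = 0 := hφ v (Submodule.mem_span_singleton_self v)
  refine ⟨v, φ, h0, fun hmem => hv ?_⟩
  have := mem_subspaceStabilizer_iff.mp hmem w hw
  rw [tv_mulVec h0, hφw, one_smul] at this
  simpa using W.sub_mem this hw

end Cfsg.Agent.Lib.Subspaces.Transvection
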