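import Cfsg.Agent.Lib.Subspaces.UnitaryForm
import Cfsg.Agent.Lib.Unitary.Generation

/-!
The standard unitary form as a function form, generation of `GU ⊓ SL` by transvections, and
isotropic centres of transvection groups contained in a subgroup.
-/

set_option autoImplicit false

namespace Cfsg.Agent.Lib.Subspaces.UnitaryGen

open Matrix Cfsg.Agent.Lib.Subspaces.Transvection Cfsg.Agent.Lib.Subspaces.FormVec
  Cfsg.Agent.Lib.Subspaces.UnitaryForm

section general

variable {ι : Type} [Fintype ι] [DecidableEq ι] {F : Type*} [Field F]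
  {σ : F ≃+* F} {f : (ι → F) → (ι → F) → F}

theorem isometry_inv {g : GL ι F}
    (hg : ∀ x y, f ((g : Matrix ι ι F) *ᵥ x) ((g : Matrix ι ι F) *ᵥ y) = f x y) (x y : ι → F) :
    f x ((g : Matrix ι ι F) *ᵥ y) = f (((g⁻¹ : GL ι F) : Matrix ι ι F) *ᵥ x) y := by
  conv_lhs => rw [← gl_mulVec_inv g x, hg]

theorem conj_utv (hf : Cfsg.Geo.IsUnitaryForm σ f) {g : GL ι F}
    (hg : ∀ x y, f ((g : Matrix ι ι F) *ᵥ x) ((g : Matrix ι ι F) *ᵥ y) = f x y) {v : ι → F}
    (hv : f v v = 0) (a : F) :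
    g * tv v (a • formVec f v) * g⁻¹ =
      tv ((g : Matrix ι ι F) *ᵥ v) (a • formVec f ((g : Matrix ι ι F) *ᵥ v)) := by
  rw [conj_tv g (utv_dot hf hv a), smul_vecMul]
  congr 2
  refine dotProduct_eq _ _ fun x => ?_
  rw [← dotProduct_mulVec, formVec_dot (isLinearLeft_of_unitary hf),
    formVec_dot (isLinearLeft_of_unitary hf), isometry_inv hg]

/-- `v` is isotropic and all unitary transvections with centre `v` lie in `M`. -/
def UnitCenter (σ : F ≃+* F) (f : (ι → F) → (ι → F) → F) (M : Subgroup (GL ι F)) (v : ι → F) :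
    Prop :=
  f v v = 0 ∧ ∀ a : F, a + σ a = 0 → tv v (a • formVec f v) ∈ M

theorem unitCenter_conj (hf : Cfsg.Geo.IsUnitaryForm σ f) {M : Subgroup (GL ι F)} {v : ι → F}
    (h : UnitCenter σ f M v) {g : GL ι F} (hgM : g ∈ M)
    (hg : ∀ x y, f ((g : Matrix ι ι F) *ᵥ x) ((g : Matrix ι ι F) *ᵥ y) = f x y) :
    UnitCenter σ f M ((g : Matrix ι ι F) *ᵥ v) :=
  ⟨by rw [hg, h.1], fun a ha => by
    rw [← conj_utv hf hg h.1]
    exact M.mul_mem (M.mul_mem hgM (h.2 a ha)) (M.inv_mem hgM)⟩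

theorem unitCenter_smul (hf : Cfsg.Geo.IsUnitaryForm σ f) {M : Subgroup (GL ι F)} {v : ι → F}
    (h : UnitCenter σ f M v) (t : F) : UnitCenter σ f M (t • v) := by
  refine ⟨by rw [hf.smul_left, smul_right hf, h.1, mul_zero, mul_zero], fun a ha => ?_⟩
  have h0 : (a • formVec f (t • v)) ⬝ᵥ v = 0 := by
    rw [formVec_smul hf, smul_smul]
    exact utv_dot hf h.1 _
  rw [tv_smul h0, formVec_smul hf, smul_smul, smul_smul]
  refine h.2 _ ?_
  rw [map_mul, map_mul, hf.involutive]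
  linear_combination t * σ t * ha

theorem unitCenter_move (hf : Cfsg.Geo.IsUnitaryForm σ f) {M : Subgroup (GL ι F)} {u v : ι → F}
    (hu : UnitCenter σ f M u) (hv : UnitCenter σ f M v) {a : F} (ha : a + σ a = 0) :
    UnitCenter σ f M (v + (a * f v u) • u) := by
  have := unitCenter_conj hf hv (hu.2 a ha) (utv_isometry hf hu.1 ha)
  rwa [utv_mulVec hf hu.1] at this

end general

section standard

variable {F : Type*} [Field F] [Fintype F] {n q : ℕ}

/-- `x ↦ x ^ q` as a field automorphism. -/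
noncomputable def powAut (hF : Fintype.card F = q ^ 2) : F ≃+* F :=
  RingEquiv.ofBijective (Cfsg.Agent.Lib.Unitary.conj hF)
    (Finite.injective_iff_bijective.mp fun _ _ h => Cfsg.Agent.Lib.Unitary.pow_q_injective hF h)

theorem powAut_apply (hF : Fintype.card F = q ^ 2) (x : F) : powAut hF x = x ^ q := rfl

theorem hermForm_isUnitary (hF : Fintype.card F = q ^ 2) :
    Cfsg.Geo.IsUnitaryForm (powAut hF) (Cfsg.hermForm n F q) where
  ne_refl := fun e => by
    have hfix : ∀ x : F, x ^ q = x := fun x => by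
      rw [← powAut_apply hF, e]; rfl
    have h1 := Cfsg.Agent.Lib.Unitary.card_fixed hF
    rw [Nat.card_congr (Equiv.subtypeUnivEquiv hfix), Nat.card_eq_fintype_card, hF] at h1
    have := Cfsg.Agent.Lib.Unitary.one_lt_q hF
    nlinarith
  involutive := fun a => Cfsg.Agent.Lib.Unitary.pow_q_q hF a
  add_left := fun x y v => by simp [Cfsg.hermForm, add_mul, Finset.sum_add_distrib]
  smul_left := fun c x v => by simp [Cfsg.hermForm, Finset.mul_sum, mul_assoc]
  herm := fun v w => by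
    rw [powAut_apply]
    simp only [Cfsg.hermForm, Cfsg.Agent.Lib.Unitary.sum_pow_q hF, mul_pow,
      Cfsg.Agent.Lib.Unitary.pow_q_q hF]
    exact Finset.sum_congr rfl fun i _ => mul_comm _ _
  nondegenerate := fun v hv => by
    obtain ⟨i, hi⟩ := Function.ne_iff.mp hv
    refine ⟨⟨Pi.single i 1, ?_⟩, ⟨Pi.single i 1, ?_⟩⟩
    · rw [Cfsg.Agent.Lib.Unitary.single_herm]
      exact pow_ne_zero _ hi
    · simpa [Cfsg.hermForm, Pi.single_apply, ite_pow,
        zero_pow (Cfsg.Agent.Lib.Unitary.q_ne_zero hF)] using hi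

theorem mem_GU_iff' {g : GL (Fin n) F} :
    g ∈ Cfsg.GU n F q ↔
      ∀ u v, Cfsg.hermForm n F q ((g : Matrix (Fin n) (Fin n) F) *ᵥ u)
        ((g : Matrix (Fin n) (Fin n) F) *ᵥ v) = Cfsg.hermForm n F q u v :=
  Iff.rfl

theorem utv_mem_SU (hF : Fintype.card F = q ^ 2) {v : Fin n → F}
    (hv : Cfsg.hermForm n F q v v = 0) {a : F} (ha : a + powAut hF a = 0) :
    tv v (a • formVec (Cfsg.hermForm n F q) v) ∈
      Cfsg.GU n F q ⊓ Cfsg.Geo.specialLinear (Fin n) F :=
  ⟨mem_GU_iff'.mpr fun _ _ => utv_isometry (hermForm_isUnitary hF) hv ha _ _,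
    tv_mem_specialLinear _ _⟩

/-- A subgroup with all isotropic vectors as centres contains `SU`. -/
theorem su_le (hF : Fintype.card F = q ^ 2) (hn : 4 ≤ n) {M : Subgroup (GL (Fin n) F)}
    (hM : ∀ v, Cfsg.hermForm n F q v v = 0 →
      UnitCenter (powAut hF) (Cfsg.hermForm n F q) M v) :
    Cfsg.GU n F q ⊓ Cfsg.Geo.specialLinear (Fin n) F ≤ M := by
  rintro g ⟨hg, hdet⟩
  have hle : Cfsg.Agent.Lib.Unitary.TGroup F q n ≤ M.comap (Cfsg.GU n F q).subtype := by
    refine (Subgroup.closure_le _).mpr ?_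
    rintro A ⟨v, c, hv, hc, hA⟩
    show (A : GL (Fin n) F) ∈ M
    have : (A : GL (Fin n) F) = tv v (c • formVec (Cfsg.hermForm n F q) v) :=
      gl_ext fun x => by
        rw [utv_mulVec (hermForm_isUnitary hF) hv]
        exact hA x
    rw [this]
    exact (hM v hv).2 c hc
  exact hle (Cfsg.Agent.Lib.Unitary.mem_TGroup hF (by omega) (by omega) ⟨g, hg⟩
    ((mem_specialLinear_iff g).mp hdet))

end standard

end Cfsg.Agent.Lib.Subspaces.UnitaryGen
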