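import Cfsg.Agent.Lib.Subspaces.UnitMonoSix

/-!
Overgroups of the monomial subgroup of `SU` in dimension four, for `q ≠ 3`: an element outside the
monomial group gives the whole of `SU`.
-/

set_option autoImplicit false
set_option maxHeartbeats 800000

namespace Cfsg.Agent.Lib.Subspaces.UnitMonoFour

open Matrix Cfsg.Agent.Lib.Subspaces.Transvection Cfsg.Agent.Lib.Subspaces.FormVec
  Cfsg.Agent.Lib.Subspaces.UnitaryGen Cfsg.Agent.Lib.Subspaces.UnitBlock
  Cfsg.Agent.Lib.Subspaces.UnitCircle Cfsg.Agent.Lib.Subspaces.UnitQuasi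
  Cfsg.Agent.Lib.Subspaces.UnitMonoLam Cfsg.Agent.Lib.Subspaces.UnitMonoTv
  Cfsg.Agent.Lib.Unitary
open Cfsg.Agent.Lib.Subspaces.UnitMono (Good good_of_single_col diag_exact mono_of_single_col
  card_le_of_roots)
open Cfsg.Agent.Lib.Subspaces.UnitMonoSix (exists_swap exists_two_traces_nonreal Mono.mul'
  card_fibre trace_real_unique)
open Cfsg.Agent.Lib.Subspaces.UnitMonoFull (four_facts)

variable {F : Type*} [Field F] [Fintype F] {q n : ℕ} (hF : Fintype.card F = q ^ 2)
  {M : Subgroup (GL (Fin n) F)}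

local notation "𝕗" => Cfsg.hermForm n F q

include hF in
/-- A norm has a square root, which conjugation fixes or negates. -/
theorem exists_sqrt_norm {N : F} (hN : powAut hF N = N) :
    ∃ r : F, r * r = N ∧ (powAut hF r = r ∨ powAut hF r = -r) := by
  have hsq : IsSquare N := by
    by_cases h2 : ringChar F = 2
    · exact FiniteField.isSquare_of_char_two h2 N
    rcases eq_or_ne N 0 with rfl | hN0
    · exact ⟨0, by rw [mul_zero]⟩
    rw [FiniteField.isSquare_iff h2 hN0, hF]
    have h1 : N ^ (q - 1) = 1 := by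
      have h := hN
      rw [powAut_apply] at h
      have hq := one_lt_q hF
      rw [show q = q - 1 + 1 by omega, pow_succ] at h
      exact mul_right_cancel₀ hN0 (h.trans (one_mul N).symm)
    have hqodd : Odd q := by
      rcases Nat.even_or_odd q with he | ho
      · exfalso
        have := FiniteField.odd_card_of_char_ne_two h2
        rw [hF] at this
        have := Nat.even_iff.mp (Nat.even_pow.mpr ⟨he, two_ne_zero⟩ : Even (q ^ 2))
        omega
      · exact ho
    obtain ⟨k, rfl⟩ := hqodd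
    rw [show (2 * k + 1) ^ 2 / 2 = (2 * k + 1 - 1) * (k + 1) by
      rw [show (2 * k + 1) ^ 2 = 2 * (2 * k * (k + 1)) + 1 by ring]; simp; omega,
      pow_mul, h1, one_pow]
  obtain ⟨r, rfl⟩ := hsq
  refine ⟨r, rfl, mul_self_eq_mul_self_iff.mp ?_⟩
  rw [← map_mul, hN]

include hF in
/-- Two traces reaching zero, neither of them zero, not both at real points. -/
theorem exists_traces_sq (hq : 5 ≤ q) (h2 : (2 : F) ≠ 0) {v w : F} (hv : v ≠ 0) (hw : w ≠ 0)
    {x0 : F} (hx0 : x0 ∈ mu hF) (hreal : powAut hF (x0 * v) = x0 * v) :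
    ∃ l ∈ mu hF, ∃ m ∈ mu hF, l * v + powAut hF (l * v) + (m * w + powAut hF (m * w)) = 0 ∧
      l * v + powAut hF (l * v) ≠ 0 ∧
      (powAut hF (l * v) ≠ l * v ∨ powAut hF (m * w) ≠ m * w) := by
  classical
  set σ := powAut hF with hσ
  set tr : F → F := fun l => l * v + σ (l * v) with htr
  have hx00 := ne_zero_of_mu hF hx0
  have hneg : x0 ≠ -x0 := fun e => hx00 (by
    have : (2 : F) * x0 = 0 := by linear_combination e
    exact (mul_eq_zero.mp this).resolve_left h2)
  have hnx : -x0 ∈ mu hF := by rw [neg_eq_neg_one_mul]; exact mul_mem_mu hF (neg_one_mem_mu hF) hx0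
  have hreal' : σ (-x0 * v) = -x0 * v := by rw [neg_mul, map_neg, hreal]
  set rest := ((mu hF).erase x0).erase (-x0) with hrest
  have hrc : rest.card = q - 1 := by
    rw [hrest, Finset.card_erase_of_mem (Finset.mem_erase.mpr ⟨hneg.symm, hnx⟩),
      Finset.card_erase_of_mem hx0, card_mu hF]
    omega
  have hA1 : rest.card ≤ 2 * (rest.image tr).card :=
    Finset.card_le_mul_card_image _ _ fun T _ => le_trans (Finset.card_le_card
      (Finset.filter_subset_filter _ ((Finset.erase_subset _ _).trans (Finset.erase_subset _ _))))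
      (card_fibre hF hv T)
  have hnot : ∀ y ∈ mu hF, σ (y * v) = y * v → y ∉ rest → tr y ∉ rest.image tr := by
    intro y hy hyr hyn h
    obtain ⟨l, hl, hle⟩ := Finset.mem_image.mp h
    exact hyn (trace_real_unique hF hv hy (Finset.mem_of_mem_erase (Finset.mem_of_mem_erase hl))
      hyr hle.symm ▸ hl)
  set A := (mu hF).image tr with hA
  set B := (mu hF).image fun m => -(m * w + σ (m * w)) with hB
  have hAc : q + 3 ≤ 2 * A.card := by
    have h1 : insert (tr x0) (insert (tr (-x0)) (rest.image tr)) ⊆ A :=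
      Finset.insert_subset (Finset.mem_image_of_mem _ hx0) (Finset.insert_subset
        (Finset.mem_image_of_mem _ hnx) (Finset.image_subset_image
          ((Finset.erase_subset _ _).trans (Finset.erase_subset _ _))))
    have h3 := Finset.card_le_card h1
    have h4 : tr (-x0) ∉ rest.image tr := hnot _ hnx hreal' (by simp [hrest])
    rw [Finset.card_insert_of_notMem, Finset.card_insert_of_notMem h4] at h3
    · omega
    · rw [Finset.mem_insert, not_or]
      exact ⟨fun e => hneg (trace_real_unique hF hv hx0 hnx hreal e),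
        hnot _ hx0 hreal (by simp [hrest])⟩
  have hBc : q + 1 ≤ 2 * B.card := by
    have h3 := card_trace_image hF hw
    rw [hB, show (fun m => -(m * w + σ (m * w))) = Neg.neg ∘ fun m => m * w + σ (m * w) from rfl,
      ← Finset.image_image, Finset.card_image_of_injective _ neg_injective]
    exact h3
  obtain ⟨t, ht⟩ : ((A ∩ B).erase 0).Nonempty := by
    rw [← Finset.card_pos]
    have h1 := Finset.card_union_add_card_inter A B
    have h3 : A ∪ B ⊆ fix hF := Finset.union_subset
      (fun t ht => by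
        obtain ⟨l, -, rfl⟩ := Finset.mem_image.mp ht
        exact (mem_fix hF).mpr (trace_fixed hF _))
      (fun t ht => by
        obtain ⟨l, -, rfl⟩ := Finset.mem_image.mp ht
        exact (mem_fix hF).mpr (by rw [map_neg, hσ, trace_fixed hF]))
    have h4 := Finset.card_le_card h3
    rw [card_fix hF] at h4
    have h5 := Finset.pred_card_le_card_erase (a := (0 : F)) (s := A ∩ B)
    omega
  obtain ⟨ht0, htAB⟩ := Finset.mem_erase.mp ht
  obtain ⟨htA, htB⟩ := Finset.mem_inter.mp htAB
  obtain ⟨l, hl, rfl⟩ := Finset.mem_image.mp htA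
  obtain ⟨m, hm, hme⟩ := Finset.mem_image.mp htB
  simp only [htr] at hme ht0
  by_cases hre : σ (l * v) ≠ l * v ∨ σ (m * w) ≠ m * w
  · exact ⟨l, hl, m, hm, by linear_combination -hme, ht0, hre⟩
  push Not at hre
  -- both real: `w` is a phase multiple of `v`
  have hwv : m * w = -(l * v) := by
    rw [hre.1, hre.2] at hme
    exact mul_left_cancel₀ h2 (by linear_combination -hme)
  have hl0 := ne_zero_of_mu hF hl
  have hm0 := ne_zero_of_mu hF hm
  -- avoid the real and the skew points
  obtain ⟨u, hu, hu1, hu2⟩ : ∃ u ∈ mu hF, σ (u * v) ≠ u * v ∧ u * v + σ (u * v) ≠ 0 := by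
    by_contra hall
    push Not at hall
    set s := σ v * v with hs
    have hle : mu hF ⊆ (Polynomial.nthRoots 2 s).toFinset.image (fun r => r / v) ∪
        (Polynomial.nthRoots 2 (-s)).toFinset.image (fun r => r / v) := fun u hu => by
      have hN : σ (u * v) * (u * v) = s := by
        rw [map_mul]; linear_combination (σ v * v) * (mem_mu hF).mp hu
      rw [Finset.mem_union, Finset.mem_image, Finset.mem_image]
      by_cases h : σ (u * v) = u * v
      · exact Or.inl ⟨u * v, by
          rw [Multiset.mem_toFinset, Polynomial.mem_nthRoots two_pos, sq]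
          rwa [h] at hN, by field_simp⟩
      · have h' := hall u hu h
        exact Or.inr ⟨u * v, by
          rw [Multiset.mem_toFinset, Polynomial.mem_nthRoots two_pos]
          linear_combination (u * v) * h' - hN, by field_simp⟩
    have h1 := (Finset.card_le_card hle).trans (Finset.card_union_le _ _)
    have hb : ∀ c : F, ((Polynomial.nthRoots 2 c).toFinset.image (fun r => r / v)).card ≤ 2 :=
      fun c => Finset.card_image_le.trans ((Multiset.toFinset_card_le _).trans
        (Polynomial.card_nthRoots 2 c))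
    have := hb s
    have := hb (-s)
    rw [card_mu hF] at h1
    omega
  refine ⟨u, hu, u * l⁻¹ * m, mul_mem_mu hF (mul_mem_mu hF hu (inv_mem_mu hF hl)) hm, ?_, hu2,
    Or.inl hu1⟩
  rw [show u * l⁻¹ * m * w = -(u * v) by
    rw [mul_assoc, hwv]; field_simp, map_neg]
  ring

include hF in
/-- A monomial pair of quasi-reflections without zero entries in its points is an involution. -/
theorem eq_neg_one_of_mono (hn4 : n = 4) {g : GL (Fin n) F} (hU : g ∈ Cfsg.GU n F q) {d : F}
    (hd : d ∈ mu hF) (hd1 : d ≠ 1) {x y z : Fin n} (hxy : x ≠ y) (hxz : x ≠ z) (hyz : y ≠ z)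
    (hnz : ∀ i j : Fin n, ((g : Matrix (Fin n) (Fin n) F) *ᵥ ev j) i ≠ 0)
    (hK : Mono (pr hF d ((g : Matrix (Fin n) (Fin n) F) *ᵥ ev x)
      ((g : Matrix (Fin n) (Fin n) F) *ᵥ ev y))) : d = -1 := by
  classical
  set σ := powAut hF with hσ
  set a := (g : Matrix (Fin n) (Fin n) F) *ᵥ ev x with ha
  set b := (g : Matrix (Fin n) (Fin n) F) *ᵥ ev y with hb
  set c := (g : Matrix (Fin n) (Fin n) F) *ᵥ ev z with hc
  have ha1 : 𝕗 a a = 1 := by rw [ha, mem_GU_iff'.mp hU, ev_norm hF]
  have hb1 : 𝕗 b b = 1 := by rw [hb, mem_GU_iff'.mp hU, ev_norm hF]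
  have ha0 : 𝕗 a a ≠ 0 := by rw [ha1]; exact one_ne_zero
  have hb0 : 𝕗 b b ≠ 0 := by rw [hb1]; exact one_ne_zero
  have hab : 𝕗 a b = 0 := by rw [ha, hb, mem_GU_iff'.mp hU, ev_orth hF hxy]
  have hba : 𝕗 b a = 0 := by rw [ha, hb, mem_GU_iff'.mp hU, ev_orth hF hxy.symm]
  set P := pr hF d a b with hP
  have hPU := pr_mem_GU hF d a b
  have hent : ∀ l, (P : Matrix (Fin n) (Fin n) F) *ᵥ ev l =
      ev l + ((σ d - 1) * σ (b l)) • b + ((d - 1) * σ (a l)) • a := fun l => by
    rw [hP, pr_mulVec, qr_mulVec hF (sigma_mem_mu hF hd) hb0, hb1, div_one, qr_mulVec hF hd ha0,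
      ha1, div_one, herm_add_left, herm_smul_left, hba, mul_zero, add_zero, ev_herm hF, ev_herm hF]
  have hPc : (P : Matrix (Fin n) (Fin n) F) *ᵥ c = c := pr_fix hF hd ha0 hb0
    (by rw [hc, ha, mem_GU_iff'.mp hU, ev_orth hF hxz.symm])
    (by rw [hc, hb, mem_GU_iff'.mp hU, ev_orth hF hyz.symm])
  have hPa : (P : Matrix (Fin n) (Fin n) F) *ᵥ a = d • a := by
    rw [hP, pr_mulVec, qr_fix hF (sigma_mem_mu hF hd) hb0 hab, qr_self hF hd ha0]
  have hdiag : ∀ l, ((P : Matrix (Fin n) (Fin n) F) *ᵥ ev l) l = 0 := by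
    intro l
    obtain ⟨i, hi⟩ := hK l
    rcases eq_or_ne l i with rfl | hli
    · exfalso
      have he := single_eq hi
      have h1 := mem_GU_iff'.mp hPU (ev l) c
      rw [he, hPc, herm_smul_left, ev_herm hF] at h1
      have ht : ((P : Matrix (Fin n) (Fin n) F) *ᵥ ev l) l = 1 :=
        mul_right_cancel₀ (show σ (c l) ≠ 0 by simpa using hnz l z) (h1.trans (one_mul _).symm)
      have h3 := mem_GU_iff'.mp hPU (ev l) a
      rw [he, hPa, ht, one_smul, herm_smul_right, ev_herm hF, ← powAut_apply hF] at h3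
      refine hd1 ?_
      have h4 : σ d = 1 :=
        mul_right_cancel₀ (show σ (a l) ≠ 0 by simpa using hnz l x) (h3.trans (one_mul _).symm)
      have h5 := congrArg σ h4
      rwa [hσ, sigma_sigma, map_one] at h5
    · exact hi l hli
  have hsum : ∑ l, ((P : Matrix (Fin n) (Fin n) F) *ᵥ ev l) l = 0 :=
    Finset.sum_eq_zero fun l _ => hdiag l
  have hNa : ∑ l, σ (a l) * a l = 1 := by
    rw [← ha1]; exact Finset.sum_congr rfl fun l _ => by rw [mul_comm, hσ, powAut_apply]
  have hNb : ∑ l, σ (b l) * b l = 1 := by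
    rw [← hb1]; exact Finset.sum_congr rfl fun l _ => by rw [mul_comm, hσ, powAut_apply]
  simp only [hent, Pi.add_apply, Pi.smul_apply, smul_eq_mul, ev_self, Finset.sum_add_distrib,
    Finset.sum_const, Finset.card_univ, Fintype.card_fin, mul_assoc, ← Finset.mul_sum, hNa, hNb,
    mul_one, hn4, nsmul_eq_mul, Nat.cast_ofNat] at hsum
  refine eq_neg_of_add_eq_zero_left (mul_self_eq_zero.mp ?_)
  linear_combination d * hsum - (mem_mu hF).mp hd

section NotGood

variable (S : Over q M) (hG : ¬ Good hF M)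

include S hG

/-- No two columns have a common zero. -/
theorem no_common_zero (hq : 4 ≤ q) {g : GL (Fin n) F} (hg : g ∈ M) (hm : ¬ Mono g)
    {x y p : Fin n} (hxy : x ≠ y) (hx : ((g : Matrix (Fin n) (Fin n) F) *ᵥ ev x) p = 0)
    (hy : ((g : Matrix (Fin n) (Fin n) F) *ᵥ ev y) p = 0) : False := by
  classical
  have hU := S.gu hg
  set a := (g : Matrix (Fin n) (Fin n) F) *ᵥ ev x with ha
  set b := (g : Matrix (Fin n) (Fin n) F) *ᵥ ev y with hb
  have ha1 : 𝕗 a a = 1 := by rw [ha, mem_GU_iff'.mp hU, ev_norm hF]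
  have hb1 : 𝕗 b b = 1 := by rw [hb, mem_GU_iff'.mp hU, ev_norm hF]
  have ha0 : 𝕗 a a ≠ 0 := by rw [ha1]; exact one_ne_zero
  have hb0 : 𝕗 b b ≠ 0 := by rw [hb1]; exact one_ne_zero
  have hba : 𝕗 b a = 0 := by rw [ha, hb, mem_GU_iff'.mp hU, ev_orth hF hxy.symm]
  have hmono : ∀ c ∈ mu hF, Mono (pr hF c a b) := fun c hc =>
    mono_of_single_col hF S hG (((S.rel_ev hF x y).map hF hg hU).2.2 c hc) (x := p) (by
      rw [pr_fix hF hc ha0 hb0 (by rw [ev_herm hF, hx, map_zero]) (by rw [ev_herm hF, hy, map_zero])]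
      exact ⟨p, fun j hj => ev_ne hj⟩)
  have hns : ¬ Single a := fun h => hm (mono_of_single_col hF S hG hg (x := x) h)
  obtain ⟨l, hl⟩ : ∃ l, a l ≠ 0 := by
    by_contra h
    push Not at h
    exact hns ⟨x, fun j _ => h j⟩
  obtain ⟨j, hjl, hj⟩ : ∃ j, j ≠ l ∧ a j ≠ 0 := by
    by_contra h
    push Not at h
    exact hns ⟨l, h⟩
  set σ := powAut hF with hσ
  set A : Fin n → F := fun i => σ (a l) * a i with hA
  set B : Fin n → F := fun i => σ (b l) * b i with hB
  have hAl : A l ≠ 0 := mul_ne_zero (by simpa using hl) hl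
  have hAj : A j ≠ 0 := mul_ne_zero (by simpa using hl) hj
  have hent : ∀ c ∈ mu hF, ∀ i, c * ((pr hF c a b : Matrix (Fin n) (Fin n) F) *ᵥ ev l) i =
      c * (ev l : Fin n → F) i + (c - 1) * (c * A i - B i) := fun c hc i => by
    rw [pr_mulVec, qr_mulVec hF (sigma_mem_mu hF hc) hb0, hb1, div_one, qr_mulVec hF hc ha0, ha1,
      div_one, herm_add_left, herm_smul_left, hba, mul_zero, add_zero, ev_herm hF, ev_herm hF,
      Pi.add_apply, Pi.add_apply, Pi.smul_apply, Pi.smul_apply, smul_eq_mul, smul_eq_mul]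
    simp only [hA, hB, ← hσ]
    linear_combination (σ (b l) * b i) * (mem_mu hF).mp hc
  set P : Polynomial F := Polynomial.C (A l) * Polynomial.X ^ 2 +
    Polynomial.C (1 - A l - B l) * Polynomial.X + Polynomial.C (B l) with hP
  have hdeg : P.natDegree = 2 := by rw [hP]; compute_degree!
  have hP0 : P ≠ 0 := fun e => by rw [e] at hdeg; simp at hdeg
  have hle : (mu hF).erase 1 ⊆ insert (B j / A j) P.roots.toFinset := by
    intro c hc
    obtain ⟨hc1, hcm⟩ := Finset.mem_erase.mp hc
    obtain ⟨i, hi⟩ := hmono c hcm l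
    rcases eq_or_ne l i with rfl | hli
    · refine Finset.mem_insert.mpr (Or.inl ?_)
      have e := hent c hcm j
      rw [hi j hjl, ev_ne hjl, mul_zero, zero_add, eq_comm, mul_eq_zero] at e
      rw [eq_div_iff hAj]
      exact sub_eq_zero.mp (e.resolve_left (sub_ne_zero.mpr hc1))
    · refine Finset.mem_insert.mpr (Or.inr ?_)
      have e := hent c hcm l
      rw [hi l hli, ev_self] at e
      rw [Multiset.mem_toFinset, Polynomial.mem_roots hP0]
      simp [hP]
      linear_combination -e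
  have h1 := (Finset.card_le_card hle).trans ((Finset.card_insert_le _ _).trans (Nat.add_le_add_right
    ((Multiset.toFinset_card_le _).trans P.card_roots') 1))
  rw [hdeg, Finset.card_erase_of_mem (one_mem_mu hF), card_mu hF] at h1
  omega

theorem zeros_one (hn4 : n = 4) (hq : q ≠ 3) {g : GL (Fin n) F} (hg : g ∈ M) (hm : ¬ Mono g)
    {x u v : Fin n} (hu : ((g : Matrix (Fin n) (Fin n) F) *ᵥ ev x) u = 0)
    (hv : ((g : Matrix (Fin n) (Fin n) F) *ᵥ ev x) v = 0) : u = v := by
  classical
  by_contra huv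
  have hU := S.gu hg
  by_cases hq2 : q = 2
  · obtain ⟨h2, hnorm, -⟩ := four_facts hF hq2
    set a := (g : Matrix (Fin n) (Fin n) F) *ᵥ ev x with ha
    obtain ⟨p, r, hpr, hcompl⟩ := Finset.card_eq_two.mp (show (({u, v} : Finset (Fin n))ᶜ).card = 2 by
      rw [Finset.card_compl, Fintype.card_fin, Finset.card_pair huv, hn4])
    have ho : ∀ j, j ≠ p → j ≠ r → a j = 0 := fun j h1 h3 => by
      have hj : j ∈ ({u, v} : Finset (Fin n)) := by
        by_contra h
        have := Finset.mem_compl.mpr h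
        rw [hcompl] at this
        simp [h1, h3] at this
      simp only [Finset.mem_insert, Finset.mem_singleton] at hj
      rcases hj with rfl | rfl
      exacts [hu, hv]
    refine hm (mono_of_single_col hF S hG hg (x := x) ?_)
    by_cases hp : a p = 0
    · exact ⟨r, fun j hj => by rcases eq_or_ne j p with rfl | h; exacts [hp, ho j h hj]⟩
    by_cases hr : a r = 0
    · exact ⟨p, fun j hj => by rcases eq_or_ne j r with rfl | h; exacts [hr, ho j hj h]⟩
    exfalso
    have h1 : 𝕗 a a = 1 := by rw [ha, mem_GU_iff'.mp hU, ev_norm hF]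
    rw [herm_eq_sum, ← Finset.sum_subset (Finset.subset_univ {p, r}) (fun j _ hj => by
      simp only [Finset.mem_insert, Finset.mem_singleton, not_or] at hj
      rw [ho j hj.1 hj.2, zero_mul]), Finset.sum_pair hpr, ← powAut_apply hF, ← powAut_apply hF,
      hnorm _ hp, hnorm _ hr, one_add_one_eq_two, h2] at h1
    exact zero_ne_one h1
  · exact no_common_zero hF S hG (by have := one_lt_q hF; omega) (M.inv_mem hg)
      (fun h => hm (by simpa using h.inv)) huv (p := x)
      (by rw [inv_entry hF hU, hu, map_zero]) (by rw [inv_entry hF hU, hv, map_zero])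

theorem exists_zero (hn4 : n = 4) (hq : q ≠ 3) {g : GL (Fin n) F} (hg : g ∈ M) (hm : ¬ Mono g) :
    ∃ h : GL (Fin n) F, h ∈ M ∧ ¬ Mono h ∧
      ∃ i x : Fin n, ((h : Matrix (Fin n) (Fin n) F) *ᵥ ev x) i = 0 := by
  classical
  by_contra hc
  push Not at hc
  have hU := S.gu hg
  set σ := powAut hF with hσ
  let i0 : Fin n := ⟨0, by omega⟩
  set G : Fin n → F := fun l => ((g : Matrix (Fin n) (Fin n) F) *ᵥ ev l) i0 with hGdef
  have hG0 : ∀ l, G l ≠ 0 := fun l => hc g hg hm i0 l
  by_cases hq2 : q = 2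
  · obtain ⟨h2, hnorm, -⟩ := four_facts hF hq2
    have h1 : 𝕗 ((g : Matrix (Fin n) (Fin n) F) *ᵥ ev i0) ((g : Matrix (Fin n) (Fin n) F) *ᵥ ev i0)
        = 1 := by rw [mem_GU_iff'.mp hU, ev_norm hF]
    rw [herm_eq_sum, Finset.sum_congr rfl (g := fun _ => (1 : F)) (fun j _ => by
      rw [← powAut_apply hF]; exact hnorm _ (hc g hg hm j i0)), Finset.sum_const, Finset.card_univ,
      Fintype.card_fin, hn4, nsmul_eq_mul, mul_one] at h1
    exact one_ne_zero (by linear_combination -h1 + 2 * h2 : (1 : F) = 0)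
  -- two pairs of exchanged coordinates, two phases for the first pair
  have step : ∀ (l1 l2 l3 l4 : Fin n), l1 ≠ l2 → l1 ≠ l3 → l1 ≠ l4 → l2 ≠ l3 → l2 ≠ l4 →
      l3 ≠ l4 → ∀ x ∈ mu hF, ∀ y ∈ mu hF, σ (x * (σ (G l1) * G l2)) ≠ x * (σ (G l1) * G l2) →
      x * (σ (G l1) * G l2) + σ (x * (σ (G l1) * G l2)) ≠ 0 →
      x * (σ (G l1) * G l2) + σ (x * (σ (G l1) * G l2)) +
        (y * (σ (G l3) * G l4) + σ (y * (σ (G l3) * G l4))) =
        -(∑ l ∈ ({l1, l2, l3, l4} : Finset (Fin n))ᶜ, G l * σ (G l)) → False := by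
    intro l1 l2 l3 l4 h12 h13 h14 h23 h24 h34 x hx y hy hre htr hsum
    have hex : ∀ z ∈ mu hF, ∃ h : GL (Fin n) F, h ∈ M ∧ ∀ w : Fin n → F,
        (h : Matrix (Fin n) (Fin n) F) *ᵥ w = fun j => if j = l1 then σ z * w l2 else
          if j = l2 then z * w l1 else if j = l3 then σ y * w l4 else
          if j = l4 then y * w l3 else w j := by
      intro z hz
      obtain ⟨A1, hd1, hA1⟩ := exists_swap hF hz h12
      obtain ⟨A2, hd2, hA2⟩ := exists_swap hF hy h34
      have hval : ∀ w : Fin n → F, ((A1 * A2 : GU n F q) : GL (Fin n) F).1 *ᵥ w =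
          fun j => if j = l1 then σ z * w l2 else if j = l2 then z * w l1 else
            if j = l3 then σ y * w l4 else if j = l4 then y * w l3 else w j := fun w => by
        rw [GU_mul_mulVec, hA2, hA1]
        funext j
        simp only [if_neg h13, if_neg h14, if_neg h23, if_neg h24, hσ]
      refine ⟨((A1 * A2 : GU n F q) : GL (Fin n) F), S.mono _ (SetLike.coe_mem _) ?_ ?_, hval⟩
      · rw [mem_specialLinear_iff]
        show (A1.1.1 * A2.1.1).det = 1
        rw [Matrix.det_mul, hd1, hd2]; ring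
      · intro t
        rw [hval]
        refine ⟨if t = l1 then l2 else if t = l2 then l1 else if t = l3 then l4 else
          if t = l4 then l3 else t, fun j hj => ?_⟩
        simp only []
        by_cases h1 : j = l1
        · rw [if_pos h1, ev_ne (fun e => hj (by rw [h1, ← e]; simp [h12.symm])), mul_zero]
        rw [if_neg h1]
        by_cases h2 : j = l2
        · rw [if_pos h2, ev_ne (fun e => hj (by rw [h2, ← e]; simp)), mul_zero]
        rw [if_neg h2]
        by_cases h3 : j = l3
        · rw [if_pos h3, ev_ne (fun e => hj (by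
            rw [h3, ← e]; simp [h14.symm, h24.symm, h34.symm])), mul_zero]
        rw [if_neg h3]
        by_cases h4 : j = l4
        · rw [if_pos h4, ev_ne (fun e => hj (by rw [h4, ← e]; simp [h13.symm, h23.symm])), mul_zero]
        rw [if_neg h4, ev_ne (fun e => hj (by subst e; simp [h1, h2, h3, h4]))]
    -- each solution gives a monomial conjugate
    have hK : ∀ z ∈ mu hF, z * (σ (G l1) * G l2) + σ (z * (σ (G l1) * G l2)) =
        x * (σ (G l1) * G l2) + σ (x * (σ (G l1) * G l2)) →
        ∀ h : GL (Fin n) F, h ∈ M → (∀ w : Fin n → F,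
        (h : Matrix (Fin n) (Fin n) F) *ᵥ w = fun j => if j = l1 then σ z * w l2 else
          if j = l2 then z * w l1 else if j = l3 then σ y * w l4 else
          if j = l4 then y * w l3 else w j) → Mono (g * h * g⁻¹) := by
      intro z hz hzx h hhM hh
      by_contra hK
      refine hc _ (M.mul_mem (M.mul_mem hg hhM) (M.inv_mem hg)) hK i0 i0 ?_
      have hw : ∀ l, (((g⁻¹ : GL (Fin n) F) : Matrix (Fin n) (Fin n) F) *ᵥ ev i0) l = σ (G l) :=
        fun l => inv_entry hF hU l i0
      have hgw : ∀ w : Fin n → F, ((g : Matrix (Fin n) (Fin n) F) *ᵥ w) i0 = ∑ l, w l * G l :=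
        fun w => by
          conv_lhs => rw [← sum_ev w]
          rw [mulVec_sum, Finset.sum_apply]
          exact Finset.sum_congr rfl fun l _ => by rw [mulVec_smul]; rfl
      rw [gl_mul_mulVec, gl_mul_mulVec, hgw, hh, ← Finset.sum_add_sum_compl {l1, l2, l3, l4}]
      rw [Finset.sum_congr (s₁ := ({l1, l2, l3, l4} : Finset (Fin n))ᶜ) rfl
        (g := fun l => G l * σ (G l)) (fun l hl => by
          simp only [Finset.mem_compl, Finset.mem_insert, Finset.mem_singleton, not_or] at hl
          simp only [if_neg hl.1, if_neg hl.2.1, if_neg hl.2.2.1, if_neg hl.2.2.2, hw, mul_comm])]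
      rw [Finset.sum_insert (by simp [h12, h13, h14]), Finset.sum_insert (by simp [h23, h24]),
        Finset.sum_pair h34]
      simp only [if_neg h12.symm, if_neg h13.symm, if_neg h14.symm, if_neg h23.symm, if_neg h24.symm,
        if_neg h34.symm, if_true, hw]
      simp only [map_mul, hσ, sigma_sigma] at hzx hsum ⊢
      linear_combination hzx + hsum
    set v := σ (G l1) * G l2 with hv
    have hv0 : v ≠ 0 := mul_ne_zero (by simpa using hG0 l1) (hG0 l2)
    have hσv : σ v ≠ 0 := by simpa using hv0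
    set x' := σ (x * v) / v with hx'def
    have hx'v : x' * v = σ (x * v) := div_mul_cancel₀ _ hv0
    have hx' : x' ∈ mu hF := by
      rw [mem_mu, hx'def, map_div₀, hσ, sigma_sigma, ← hσ, map_mul]
      have := (mem_mu hF).mp hx
      field_simp
      linear_combination this
    have hne : x' ≠ x := fun e => hre (by rw [← hx'v, e])
    obtain ⟨h, hhM, hh⟩ := hex x hx
    obtain ⟨h', hh'M, hh'⟩ := hex x' hx'
    have m1 := hK x hx rfl h hhM hh
    have m2 := hK x' hx' (by rw [hx'v, hσ, sigma_sigma, add_comm]) h' hh'M hh'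
    set d := σ x * x' with hd
    have hdm : d ∈ mu hF := mul_mem_mu hF (sigma_mem_mu hF hx) hx'
    have hd1 : d ≠ 1 := fun e => hne (by
      linear_combination x * e - x' * (mem_mu hF).mp hx)
    have hne1 : ∀ l : Fin n, 𝕗 (ev l) (ev l) ≠ 0 := fun l => by rw [ev_norm hF]; exact one_ne_zero
    have hprod : h * h' = pr hF d (ev l1) (ev l2) := gl_ext fun w => by
      rw [gl_mul_mulVec, hh, hh', pr_mulVec, qr_mulVec hF (sigma_mem_mu hF hdm) (hne1 l2),
        qr_mulVec hF hdm (hne1 l1), ev_norm hF, ev_norm hF, herm_add_left, herm_smul_left,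
        ev_orth hF h12.symm, herm_ev hF, herm_ev hF, mul_zero, add_zero, div_one, div_one]
      funext j
      simp only [if_neg h13, if_neg h14, if_neg h23, if_neg h24, if_neg h12.symm, if_neg h34.symm,
        if_neg h13.symm, if_neg h14.symm, if_neg h23.symm, if_neg h24.symm, if_true, Pi.add_apply,
        Pi.smul_apply, smul_eq_mul]
      rcases eq_or_ne j l1 with rfl | hj1
      · simp [ev_self, ev_ne h12, hd]; ring
      rcases eq_or_ne j l2 with rfl | hj2
      · simp [ev_self, ev_ne hj1, hd, hσ, sigma_sigma, hj1]; ring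
      rcases eq_or_ne j l3 with rfl | hj3
      · simp [ev_ne hj1, ev_ne hj2, hj1, hj2]
        linear_combination (w j) * (mem_mu hF).mp hy
      rcases eq_or_ne j l4 with rfl | hj4
      · simp [ev_ne hj1, ev_ne hj2, hj1, hj2, hj3]
        linear_combination (w j) * (mem_mu hF).mp hy
      · simp [ev_ne hj1, ev_ne hj2, hj1, hj2, hj3, hj4]
    have hmm : Mono (pr hF d ((g : Matrix (Fin n) (Fin n) F) *ᵥ ev l1)
        ((g : Matrix (Fin n) (Fin n) F) *ᵥ ev l2)) := by
      rw [← pr_conj hF hU hdm (hne1 l1) (hne1 l2), ← hprod,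
        show g * (h * h') * g⁻¹ = g * h * g⁻¹ * (g * h' * g⁻¹) by group]
      exact Mono.mul' m1 m2
    have hd2 : d ≠ -1 := fun e => htr (by
      have e1 : x' = -x := by linear_combination x * e - x' * (mem_mu hF).mp hx
      rw [← hx'v, e1]; ring)
    exact hd2 (eq_neg_one_of_mono hF hn4 hU hdm hd1 h12 h13 h23 (fun i j => hc g hg hm i j) hmm)
  have hall : ∀ (p1 p2 p3 p4 : Fin n), p1 ≠ p2 → p1 ≠ p3 → p1 ≠ p4 → p2 ≠ p3 → p2 ≠ p4 →
      p3 ≠ p4 → ∀ x ∈ mu hF, ∀ y ∈ mu hF,
      x * (σ (G p1) * G p2) + σ (x * (σ (G p1) * G p2)) +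
        (y * (σ (G p3) * G p4) + σ (y * (σ (G p3) * G p4))) = 0 →
      x * (σ (G p1) * G p2) + σ (x * (σ (G p1) * G p2)) ≠ 0 →
      (σ (x * (σ (G p1) * G p2)) ≠ x * (σ (G p1) * G p2) ∨
        σ (y * (σ (G p3) * G p4)) ≠ y * (σ (G p3) * G p4)) → False := by
    intro p1 p2 p3 p4 h12 h13 h14 h23 h24 h34 x hx y hy hsum htr hre
    have hempty : ∀ a1 a2 a3 a4 : Fin n, a1 ≠ a2 → a1 ≠ a3 → a1 ≠ a4 → a2 ≠ a3 → a2 ≠ a4 →
        a3 ≠ a4 → ({a1, a2, a3, a4} : Finset (Fin n))ᶜ = ∅ := by
      intro a1 a2 a3 a4 e1 e2 e3 e4 e5 e6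
      rw [← Finset.card_eq_zero, Finset.card_compl, Fintype.card_fin,
        Finset.card_insert_of_notMem (by simp [e1, e2, e3]),
        Finset.card_insert_of_notMem (by simp [e4, e5]), Finset.card_pair e6, hn4]
    rcases hre with hre | hre
    · exact step p1 p2 p3 p4 h12 h13 h14 h23 h24 h34 x hx y hy hre htr
        (by rw [hempty _ _ _ _ h12 h13 h14 h23 h24 h34, Finset.sum_empty, neg_zero]; exact hsum)
    · refine step p3 p4 p1 p2 h34 h13.symm h23.symm h14.symm h24.symm h12 y hy x hx hre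
        (fun e => htr (by rw [e, add_zero] at hsum; exact hsum)) ?_
      rw [hempty _ _ _ _ h34 h13.symm h23.symm h14.symm h24.symm h12, Finset.sum_empty, neg_zero,
        add_comm]
      exact hsum
  let i1 : Fin n := ⟨1, by omega⟩
  let i2 : Fin n := ⟨2, by omega⟩
  let i3 : Fin n := ⟨3, by omega⟩
  have h01 : i0 ≠ i1 := by simp [i0, i1]
  have h02 : i0 ≠ i2 := by simp [i0, i2]
  have h03 : i0 ≠ i3 := by simp [i0, i3]
  have h12 : i1 ≠ i2 := by simp [i1, i2]
  have h13 : i1 ≠ i3 := by simp [i1, i3]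
  have h23 : i2 ≠ i3 := by simp [i2, i3]
  have hv : ∀ p r, σ (G p) * G r ≠ 0 := fun p r => mul_ne_zero (by simpa using hG0 p) (hG0 r)
  by_cases h2 : (2 : F) = 0
  · obtain ⟨x, hx, y, hy, hsum, hre⟩ := exists_two_traces_nonreal hF (hv i0 i1) (hv i2 i3)
      (c := 0) (map_zero _)
    refine hall i0 i1 i2 i3 h01 h02 h03 h12 h13 h23 x hx y hy hsum (fun e => ?_) hre
    rcases hre with h | h
    · exact h (by linear_combination e - x * (σ (G i0) * G i1) * h2)
    · rw [e, zero_add] at hsum
      exact h (by linear_combination hsum - y * (σ (G i2) * G i3) * h2)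
  have hq5 : 5 ≤ q := by
    have h4 : q ≠ 4 := fun e => by
      have h := FiniteField.cast_card_eq_zero F
      rw [hF, e] at h
      exact h2 (mul_self_eq_zero.mp (mul_self_eq_zero.mp (by push_cast at h ⊢; linear_combination h)))
    have := one_lt_q hF
    omega
  choose r hr hrs using fun l => exists_sqrt_norm hF (norm_fixed hF (G l))
  have hmain : ∀ (p1 p2 p3 p4 : Fin n), p1 ≠ p2 → p1 ≠ p3 → p1 ≠ p4 → p2 ≠ p3 → p2 ≠ p4 →
      p3 ≠ p4 → σ (r p1 * r p2) = r p1 * r p2 → False := by
    intro p1 p2 p3 p4 h12 h13 h14 h23 h24 h34 hfix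
    set v := σ (G p1) * G p2 with hvdef
    have hv0 : v ≠ 0 := hv p1 p2
    set x0 := r p1 * r p2 / v with hx0
    have hx0v : x0 * v = r p1 * r p2 := div_mul_cancel₀ _ hv0
    have hx0m : x0 ∈ mu hF := by
      rw [mem_mu, hx0, ← hσ, map_div₀, hfix, div_mul_div_comm,
        show r p1 * r p2 * (r p1 * r p2) = G p1 * σ (G p1) * (G p2 * σ (G p2)) by
          rw [hσ, ← hr p1, ← hr p2]; ring,
        show v * σ v = G p1 * σ (G p1) * (G p2 * σ (G p2)) by
          rw [hvdef, map_mul, hσ, sigma_sigma]; ring]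
      exact div_self (mul_ne_zero (mul_ne_zero (hG0 p1) (by simpa using hG0 p1))
        (mul_ne_zero (hG0 p2) (by simpa using hG0 p2)))
    obtain ⟨x, hx, y, hy, hsum, htr, hre⟩ := exists_traces_sq hF hq5 h2 hv0 (hv p3 p4) hx0m
      (by rw [hx0v]; exact hfix)
    exact hall p1 p2 p3 p4 h12 h13 h14 h23 h24 h34 x hx y hy hsum htr hre
  have hsel : σ (r i0 * r i1) = r i0 * r i1 ∨ σ (r i0 * r i2) = r i0 * r i2 ∨
      σ (r i1 * r i2) = r i1 * r i2 := by
    rcases hrs i0 with e0 | e0 <;> rcases hrs i1 with e1 | e1 <;> rcases hrs i2 with e2 | e2 <;>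
      simp [hσ, map_mul, e0, e1, e2]
  rcases hsel with h | h | h
  · exact hmain i0 i1 i2 i3 h01 h02 h03 h12 h13 h23 h
  · exact hmain i0 i2 i1 i3 h02 h01 h03 h12.symm h23 h13 h
  · exact hmain i1 i2 i0 i3 h12 h01.symm h13 h02.symm h23 h03 h

theorem contradiction (hn4 : n = 4) (hq : q ≠ 3) {g₀ : GL (Fin n) F} (hg₀ : g₀ ∈ M)
    (hm₀ : ¬ Mono g₀) : False := by
  classical
  obtain ⟨g, hg, hm, i, x, hix⟩ := exists_zero hF S hG hn4 hq hg₀ hm₀
  have hgi := M.inv_mem hg
  have hmi : ¬ Mono g⁻¹ := fun h => hm (by simpa using h.inv)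
  have hU := S.gu hg
  have hUi := S.gu hgi
  obtain ⟨a, ha⟩ : ∃ a, a = (g : Matrix (Fin n) (Fin n) F) *ᵥ ev x := ⟨_, rfl⟩
  set r := ((g⁻¹ : GL (Fin n) F) : Matrix (Fin n) (Fin n) F) *ᵥ ev i with hr
  have hanz : ∀ l, l ≠ i → a l ≠ 0 := fun l hl e => hl (zeros_one hF S hG hn4 hq hg hm (ha ▸ e) hix)
  have hrx : r x = 0 := by rw [hr, inv_entry hF hU, hix, map_zero]
  have hrnz : ∀ l, l ≠ x → r l ≠ 0 := fun l hl e => hl (zeros_one hF S hG hn4 hq hgi hmi e hrx)
  have hga : ((g⁻¹ : GL (Fin n) F) : Matrix (Fin n) (Fin n) F) *ᵥ a = ev x := by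
    rw [ha, gl_inv_mulVec]
  have hai : a i = 0 := by rw [ha, hix]
  -- every norm one scalar is an `n`-th root of one
  have hroots : ∀ l ∈ mu hF, l ^ n = 1 := by
    intro lam hlam
    set μ := (lam ^ (n - 1))⁻¹ with hμ
    have hμm : μ ∈ mu hF := inv_mem_mu hF (pow_mem_mu hF hlam _)
    obtain ⟨h, hhM, hh⟩ := diag_exact hF S (Function.update (fun _ => lam) i μ) (fun l => by
        rcases eq_or_ne l i with rfl | hl
        · rw [Function.update_self]; exact hμm
        · rw [Function.update_of_ne hl]; exact hlam) (by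
      rw [← Finset.mul_prod_erase _ _ (Finset.mem_univ i), Function.update_self,
        Finset.prod_congr rfl (g := fun _ => lam) (fun l hl =>
          Function.update_of_ne (Finset.ne_of_mem_erase hl) _ _), Finset.prod_const,
        Finset.card_erase_of_mem (Finset.mem_univ i), Finset.card_univ, Fintype.card_fin, hμ,
        inv_mul_cancel₀ (pow_ne_zero _ (ne_zero_of_mu hF hlam))])
    have hdec : ∀ w : Fin n → F, (h : Matrix (Fin n) (Fin n) F) *ᵥ w =
        lam • w + ((μ - lam) * w i) • ev i := fun w => by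
      rw [hh]
      funext l
      rcases eq_or_ne l i with rfl | hl
      · simp [ev_self]; ring
      · simp [ev_ne hl, Function.update_of_ne hl]
    set k := g⁻¹ * h * g with hk
    have hkx : ∀ l, (k : Matrix (Fin n) (Fin n) F) *ᵥ ev l =
        lam • ev l + ((μ - lam) * ((g : Matrix (Fin n) (Fin n) F) *ᵥ ev l) i) • r := fun l => by
      rw [hk, gl_mul_mulVec, gl_mul_mulVec, hdec, mulVec_add, mulVec_smul, mulVec_smul,
        gl_inv_mulVec, hr]
    have hkm : Mono k := mono_of_single_col hF S hG (M.mul_mem (M.mul_mem hgi hhM) hg) (x := x) (by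
      rw [hkx, hix]; simpa using single_smul_ev lam x)
    by_contra hne
    have hμl : μ - lam ≠ 0 := sub_ne_zero.mpr fun e => hne (by
      have h1 := pow_ne_zero (n - 1) (ne_zero_of_mu hF hlam)
      rw [hμ] at e
      rw [show n = n - 1 + 1 by omega, pow_succ]
      nth_rewrite 2 [← e]
      exact mul_inv_cancel₀ h1)
    obtain ⟨l, hl⟩ := Finset.card_pos.mp (show 0 < (Finset.univ.erase x).card by
      rw [Finset.card_erase_of_mem (Finset.mem_univ x), Finset.card_univ, Fintype.card_fin]; omega)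
    have hlx := Finset.ne_of_mem_erase hl
    have hgl : ((g : Matrix (Fin n) (Fin n) F) *ᵥ ev l) i ≠ 0 := fun e =>
      hrnz l hlx (by rw [hr, inv_entry hF hU, e, map_zero])
    obtain ⟨j, hj⟩ := hkm l
    obtain ⟨m, hm'⟩ := Finset.card_pos.mp (show 0 < (((Finset.univ.erase x).erase l).erase j).card by
      have h1 := Finset.pred_card_le_card_erase (a := j) (s := (Finset.univ.erase x).erase l)
      have h2 := Finset.pred_card_le_card_erase (a := l) (s := Finset.univ.erase x)
      rw [Finset.card_erase_of_mem (Finset.mem_univ x), Finset.card_univ, Fintype.card_fin] at h2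
      omega)
    simp only [Finset.mem_erase, Finset.mem_univ, and_true] at hm'
    have h0 := hj m hm'.1
    rw [hkx] at h0
    simp [ev_ne hm'.2.1, hμl, hgl, hrnz m hm'.2.2] at h0
  have hqn := card_le_of_roots hF S hroots (by omega)
  have hq2 : q = 2 := by
    have := one_lt_q hF
    omega
  obtain ⟨θ, hθ', hθre⟩ := exists_norm_one_nonreal hF
  have h4 := hroots θ ((mem_mu hF).mpr hθ')
  rw [powAut_apply, hq2, ← pow_succ'] at hθ'
  rw [hn4, show 4 = 2 + 1 + 1 from rfl, pow_succ, hθ', one_mul] at h4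
  exact hθre (by rw [h4, map_one])

end NotGood

include hF in
/-- Over the field with four elements every anisotropic vector is related to the coordinate points. -/
theorem lam_all (S : Over q M) (hn4 : n = 4) (hq : q = 2) (hG : Good hF M) :
    ∀ v : Fin n → F, 𝕗 v v ≠ 0 → Lam hF M v := by
  classical
  obtain ⟨h2, hnorm, -⟩ := four_facts hF hq
  have hmu : ∀ {x : F}, x ≠ 0 → x ∈ mu hF := fun hx => (mem_mu hF).mpr (hnorm _ hx)
  have hodd : ∀ v : Fin n → F, 𝕗 v v ≠ 0 → (supp v).card = 1 ∨ (supp v).card = 3 := by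
    intro v hv
    have hle := Finset.card_le_univ (supp v)
    rw [Fintype.card_fin] at hle
    have hs : 𝕗 v v = ((supp v).card : F) := by
      rw [← nsmul_one (supp v).card, ← Finset.sum_const, herm_eq_sum,
        ← Finset.sum_subset (Finset.subset_univ (supp v)) (fun j _ hj => by
          rw [show v j = 0 from by_contra fun h => hj (mem_supp.mpr h), zero_mul])]
      exact Finset.sum_congr rfl fun j hj => by
        rw [← powAut_apply hF]; exact hnorm _ (mem_supp.mp hj)
    rw [hs] at hv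
    rcases (show (supp v).card = 1 ∨ (supp v).card = 3 ∨ (supp v).card = 0 ∨ (supp v).card = 2 ∨
      (supp v).card = 4 by omega) with h | h | h | h | h
    · exact Or.inl h
    · exact Or.inr h
    all_goals
      refine absurd ?_ hv
      rw [h]
      push_cast
    · rfl
    · exact h2
    · linear_combination (2 : F) * h2
  obtain ⟨b, i, hb1, hbi, hbns, hbo⟩ := hG
  have hbc : (supp b).card = 3 := (hodd b (by rw [hb1]; exact one_ne_zero)).resolve_left
    fun h => hbns (single_of_card_le i h.le)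
  obtain ⟨o, hob⟩ : ∃ o, o = i := ⟨i, rfl⟩
  rw [← hob] at hbo
  have hb : Lam hF M b := lam_of_rel hF S hbi
  -- every vector with three non-zero coordinates
  have hthree : ∀ v : Fin n → F, (supp v).card = 3 → Lam hF M v := by
    intro v hv
    let e : supp b ≃ supp v := Finset.equivOfCardEq (hbc.trans hv.symm)
    let π := Equiv.extendSubtype (p := fun j => j ∈ supp b) (q := fun j => j ∈ supp v) e
    have hπ : ∀ j, j ∈ supp b → π j ∈ supp v := fun j hj =>
      Equiv.extendSubtype_mem e j hj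
    have hπ' : ∀ j, j ∉ supp b → π j ∉ supp v := fun j hj =>
      Equiv.extendSubtype_not_mem e j hj
    obtain ⟨g, hg, hgv⟩ := S.exists_mono hF π
      (fun j => if j ∈ supp b then v (π j) / b j else 1) (fun j => by
        split_ifs with hj
        · exact hmu (div_ne_zero (mem_supp.mp (hπ j hj)) (mem_supp.mp hj))
        · exact one_mem_mu hF) o
    have hgb : (g : Matrix (Fin n) (Fin n) F) *ᵥ b = v := by
      conv_lhs => rw [← sum_ev b]
      rw [mulVec_sum]
      conv_rhs => rw [← sum_ev v, ← Equiv.sum_comp π (fun j => v j • (ev j : Fin n → F))]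
      refine Finset.sum_congr rfl fun j _ => ?_
      rw [mulVec_smul]
      by_cases hj : j ∈ supp b
      · rw [hgv j (fun e => mem_supp.mp hj (e ▸ hbo)), if_pos hj, smul_smul,
          mul_div_cancel₀ _ (mem_supp.mp hj)]
      · rw [show b j = 0 from by_contra fun h => hj (mem_supp.mpr h),
          show v (π j) = 0 from by_contra fun h => hπ' j hj (mem_supp.mpr h), zero_smul, zero_smul]
    haveI : Nontrivial (Fin n) := Fin.nontrivial_iff_two_le.2 (by omega)
    obtain ⟨l, hl⟩ := exists_ne o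
    have h := lam_map hF S hb hg (l := l) (l' := π l) (t := _)
      (ne_zero_of_mu hF (show (if l ∈ supp b then v (π l) / b l else (1 : F)) ∈ mu hF by
        split_ifs with hj
        · exact hmu (div_ne_zero (mem_supp.mp (hπ l hj)) (mem_supp.mp hj))
        · exact one_mem_mu hF)) (hgv l hl)
    rwa [hgb] at h
  intro v hv
  rcases hodd v hv with h | h
  · obtain ⟨j, hj⟩ := Finset.card_eq_one.mp h
    have hvj : v j ≠ 0 := mem_supp.mp (by rw [hj]; simp)
    have heq : v = v j • ev j := single_eq fun u hu => by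
      by_contra h
      have := mem_supp.mpr h
      rw [hj] at this
      simp [hu] at this
    intro l
    rw [heq]
    exact (S.rel_ev hF j l).smul_left hF hvj
  · exact hthree v h

include hF in
/-- In dimension four, for `q ≠ 3`, a subgroup containing all monomial isometries of determinant one
and something else contains `SU`. -/
theorem su_le_of_mono (S : Over q M) (hn4 : n = 4) (hq3 : q ≠ 3) {g : GL (Fin n) F} (hg : g ∈ M)
    (hm : ¬ Mono g) : Cfsg.GU n F q ⊓ Cfsg.Geo.specialLinear (Fin n) F ≤ M := by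
  have hG : Good hF M := by
    by_contra hG
    exact contradiction hF S hG hn4 hq3 hg hm
  by_cases hq : q = 2
  swap
  · obtain ⟨x, hx, hx2⟩ := exists_two_support hF S (by omega) hq hG
    obtain ⟨l, m, a, b, hlm, ha0, ha1, ha, hb, h⟩ := exists_plane_tva hF S (by omega) hq hx hx2
    exact su_le hF (by omega) (centres_all hF S (by omega) hq fun p r hpr u v huv =>
      pair_centres hF S (by omega) hlm ha0 ha1 ha hb h hpr huv)
  have hall := lam_all hF S hn4 hq hG
  set φ : SU n F q →* GL (Fin n) F := (Cfsg.GU n F q).subtype.comp (suToGU n F q) with hφ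
  set N := (M.comap φ).normalCore with hN
  obtain ⟨c, hc', hcre⟩ := exists_norm_one_nonreal hF
  have hc : c ∈ mu hF := (mem_mu hF).mpr hc'
  let e0 : Fin n := ⟨0, by omega⟩
  let e1 : Fin n := ⟨1, by omega⟩
  let e2 : Fin n := ⟨2, by omega⟩
  have he : ∀ l : Fin n, 𝕗 (ev l) (ev l) ≠ 0 := fun l => by rw [ev_norm hF]; exact one_ne_zero
  set P := pr hF c (ev e0) (ev e1) with hP
  obtain ⟨X, hX⟩ := exists_SU_of_GU (A := (⟨P, pr_mem_GU hF c _ _⟩ : GU n F q))
    ((mem_specialLinear_iff P).mp (pr_det hF hc (he _) (he _)))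
  have hφX : φ X = P := Units.ext hX
  have hXN : X ∈ N := by
    intro Y
    show φ (Y * X * Y⁻¹) ∈ M
    have hY : φ Y ∈ Cfsg.GU n F q := SetLike.coe_mem _
    rw [map_mul, map_mul, map_inv, hφX, hP, pr_conj hF hY hc (he _) (he _)]
    have hy0 : ∀ l, 𝕗 ((φ Y : Matrix (Fin n) (Fin n) F) *ᵥ ev l)
        ((φ Y : Matrix (Fin n) (Fin n) F) *ᵥ ev l) ≠ 0 := fun l => by
      rw [mem_GU_iff'.mp hY]; exact he l
    exact ((hall _ (hy0 e0) e0).trans hF ((hall _ (hy0 e1) e0).symm hF)).2.2 c hc
  have hNc : ¬ N ≤ Subgroup.center (SU n F q) := by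
    intro hle
    obtain ⟨l, hl⟩ := (mem_center_SU_iff hF (by omega) X).mp (hle hXN)
    have h01 : e0 ≠ e1 := by simp [e0, e1]
    have h02 : e2 ≠ e0 := by simp [e0, e2]
    have h12 : e2 ≠ e1 := by simp [e1, e2]
    have hmat : (X.1.1 : Matrix (Fin n) (Fin n) F) = (P : Matrix (Fin n) (Fin n) F) := hX
    have a2 := hl (ev e2)
    rw [hmat, hP, pr_fix hF hc (he _) (he _) (ev_orth hF h02) (ev_orth hF h12)] at a2
    have a0 := hl (ev e0)
    rw [hmat, hP, pr_mulVec, qr_fix hF (sigma_mem_mu hF hc) (he _) (ev_orth hF h01),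
      qr_self hF hc (he _)] at a0
    have b2 := congrFun a2 e2
    have b0 := congrFun a0 e0
    simp only [Pi.smul_apply, smul_eq_mul, ev_self, mul_one] at b2 b0
    exact hcre (by rw [b0, ← b2, map_one])
  have htop := SU_normal_eq_top hF (by omega) (by omega) (Subgroup.normalCore_normal _) hNc
  rintro h ⟨hh, hdet⟩
  obtain ⟨Y, hY⟩ := exists_SU_of_GU (A := (⟨h, hh⟩ : GU n F q))
    ((mem_specialLinear_iff h).mp hdet)
  have hYM := Subgroup.normalCore_le _ (show Y ∈ (M.comap φ).normalCore by rw [htop]; exact Subgroup.mem_top Y)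
  rwa [Subgroup.mem_comap, show φ Y = h from Units.ext hY] at hYM

end Cfsg.Agent.Lib.Subspaces.UnitMonoFour
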