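import Cfsg.Agent.Lib.Subspaces.Transvection

/-!
Functionals attached to two-argument forms given as functions.
-/

set_option autoImplicit false

namespace Cfsg.Agent.Lib.Subspaces.FormVec

open Matrix Cfsg.Agent.Lib.Subspaces.Transvection

variable {ι : Type} [Fintype ι] [DecidableEq ι] {F : Type*} [Field F]

/-- The row vector of `x ↦ f x v`. -/
def formVec (f : (ι → F) → (ι → F) → F) (v : ι → F) : ι → F :=
  fun j => f (Pi.single j 1) v

/-- `f` is linear in its first argument. -/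
structure IsLinearLeft (f : (ι → F) → (ι → F) → F) : Prop where
  add_left : ∀ x y v, f (x + y) v = f x v + f y v
  smul_left : ∀ (c : F) (x v : ι → F), f (c • x) v = c * f x v

theorem isLinearLeft_of_bilinear {f : (ι → F) → (ι → F) → F} (hf : Cfsg.Geo.IsBilinearForm f) :
    IsLinearLeft f := ⟨hf.add_left, hf.smul_left⟩

theorem isLinearLeft_of_unitary {σ : F ≃+* F} {f : (ι → F) → (ι → F) → F}
    (hf : Cfsg.Geo.IsUnitaryForm σ f) : IsLinearLeft f := ⟨hf.add_left, hf.smul_left⟩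

theorem formVec_dot {f : (ι → F) → (ι → F) → F} (hf : IsLinearLeft f) (v x : ι → F) :
    formVec f v ⬝ᵥ x = f x v := by
  let L : (ι → F) →ₗ[F] F :=
    { toFun := fun y => f y v
      map_add' := fun a b => hf.add_left a b v
      map_smul' := fun c a => by simpa using hf.smul_left c a v }
  have h : L x = ∑ i, x i • L (fun j => if i = j then 1 else 0) := LinearMap.pi_apply_eq_sum_univ L x
  have h' : ∀ i : ι, (fun j => if i = j then (1 : F) else 0) = Pi.single i 1 := fun i =>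
    funext fun j => by simp [Pi.single_apply, eq_comm]
  simp only [h', smul_eq_mul] at h
  change formVec f v ⬝ᵥ x = L x
  rw [h, dotProduct]
  exact Finset.sum_congr rfl fun i _ => mul_comm _ _

theorem form_zero_left {f : (ι → F) → (ι → F) → F} (hf : IsLinearLeft f) (v : ι → F) :
    f 0 v = 0 := by
  rw [← formVec_dot hf, dotProduct_zero]

theorem form_sub_left {f : (ι → F) → (ι → F) → F} (hf : IsLinearLeft f) (x y v : ι → F) :
    f (x - y) v = f x v - f y v := by
  rw [← formVec_dot hf, dotProduct_sub, formVec_dot hf, formVec_dot hf]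

/-- For a non-degenerate form, additive in the second argument, every functional is some
`x ↦ f x v`. -/
theorem formVec_surjective [Finite F] {f : (ι → F) → (ι → F) → F} (hf : IsLinearLeft f)
    (hadd : ∀ x v w, f x (v + w) = f x v + f x w) (hn : Cfsg.Geo.IsNondegenerateForm f) :
    Function.Surjective (formVec f) := by
  refine (Finite.injective_iff_surjective).mp fun v w hvw => ?_
  by_contra hne
  obtain ⟨⟨x, hx⟩, -⟩ := hn (v - w) (sub_ne_zero.mpr hne)
  apply hx
  have h1 := hadd x (v - w) w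
  rw [sub_add_cancel, ← formVec_dot hf v, ← formVec_dot hf w, hvw] at h1
  simpa using h1

theorem formVec_ne_zero {f : (ι → F) → (ι → F) → F} (hf : IsLinearLeft f)
    (hn : Cfsg.Geo.IsNondegenerateForm f) {v : ι → F} (hv : v ≠ 0) : formVec f v ≠ 0 := by
  intro h
  obtain ⟨⟨x, hx⟩, -⟩ := hn v hv
  exact hx (by rw [← formVec_dot hf, h, zero_dotProduct])

/-- A functional vanishing on the kernel of a non-zero one is a multiple of it. -/
theorem exists_smul_of_ker_le {φ ψ : ι → F} (hφ : φ ≠ 0)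
    (h : ∀ z, φ ⬝ᵥ z = 0 → ψ ⬝ᵥ z = 0) : ∃ a : F, ψ = a • φ := by
  obtain ⟨i, hi⟩ := Function.ne_iff.mp hφ
  simp only [Pi.zero_apply] at hi
  refine ⟨ψ i / φ i, funext fun j => ?_⟩
  have hz := h (Pi.single j 1 - (φ j / φ i) • Pi.single i 1) (by
    rw [dotProduct_sub, dotProduct_smul, dotProduct_single, dotProduct_single]
    simp [hi])
  rw [dotProduct_sub, dotProduct_smul, dotProduct_single, dotProduct_single, smul_eq_mul, mul_one,
    mul_one, sub_eq_zero] at hz
  rw [Pi.smul_apply, smul_eq_mul, hz]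
  field_simp

/-- A common zero of `k` functionals outside a subspace of small dimension. -/
theorem exists_common_zero_not_mem (S : Submodule F (ι → F)) {k : ℕ} (φs : Fin k → ι → F)
    (h : k + Module.finrank F S < Fintype.card ι) : ∃ z, z ∉ S ∧ ∀ i, φs i ⬝ᵥ z = 0 := by
  let A := Matrix.mulVecLin (Matrix.of φs)
  have hle : Module.finrank F (LinearMap.range A) ≤ k :=
    le_trans (Submodule.finrank_le _) (by rw [Module.finrank_fin_fun])
  have hsum := LinearMap.finrank_range_add_finrank_ker A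
  rw [Module.finrank_fintype_fun_eq_card] at hsum
  have hnle : ¬ LinearMap.ker A ≤ S := fun hle' => by
    have := Submodule.finrank_mono hle'
    omega
  obtain ⟨z, hz, hzS⟩ := SetLike.not_le_iff_exists.mp hnle
  refine ⟨z, hzS, fun i => ?_⟩
  have := congrFun (LinearMap.mem_ker.mp hz) i
  simpa [A, Matrix.mulVec] using this

theorem exists_dot_ne_zero_both {φ ψ : ι → F} (hφ : φ ≠ 0) (hψ : ψ ≠ 0) :
    ∃ z, φ ⬝ᵥ z ≠ 0 ∧ ψ ⬝ᵥ z ≠ 0 := by
  obtain ⟨i, hi⟩ := Function.ne_iff.mp hφ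
  obtain ⟨j, hj⟩ := Function.ne_iff.mp hψ
  simp only [Pi.zero_apply] at hi hj
  by_cases h1 : ψ i ≠ 0
  · exact ⟨Pi.single i 1, by simpa using hi, by simpa using h1⟩
  by_cases h2 : φ j ≠ 0
  · exact ⟨Pi.single j 1, by simpa using h2, by simpa using hj⟩
  push Not at h1 h2
  refine ⟨Pi.single i 1 + Pi.single j 1, ?_, ?_⟩
  · simpa [dotProduct_add, h2] using hi
  · simpa [dotProduct_add, h1] using hj

/-- Axes `φ` for which all multiples give a transvection with centre `x` in `M`. -/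
def axes (M : Subgroup (GL ι F)) (x : ι → F) : Submodule F (ι → F) where
  carrier := {φ | φ ⬝ᵥ x = 0 ∧ ∀ a : F, tv x (a • φ) ∈ M}
  add_mem' := by
    rintro φ ψ ⟨h1, h1'⟩ ⟨h2, h2'⟩
    refine ⟨by rw [add_dotProduct, h1, h2, add_zero], fun a => ?_⟩
    rw [smul_add, ← tv_mul_center (by rw [smul_dotProduct, h1, smul_zero])
      (by rw [smul_dotProduct, h2, smul_zero])]
    exact M.mul_mem (h1' a) (h2' a)
  zero_mem' := ⟨zero_dotProduct x, fun a => by rw [smul_zero, tv_zero_right]; exact M.one_mem⟩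
  smul_mem' := by
    rintro c φ ⟨h, h'⟩
    refine ⟨by rw [smul_dotProduct, h, smul_zero], fun a => ?_⟩
    rw [smul_smul]
    exact h' _

theorem tv_mem_of_mem_axes {M : Subgroup (GL ι F)} {x φ : ι → F} (h : φ ∈ axes M x) :
    tv x φ ∈ M := by simpa using h.2 1

theorem vecMul_tv {u ω : ι → F} (hω : ω ⬝ᵥ u = 0) (φ : ι → F) :
    φ ᵥ* (tv u ω : Matrix ι ι F) = φ + (φ ⬝ᵥ u) • ω := by
  rw [coe_tv hω, vecMul_add, vecMul_one, vecMul_vecMulVec]

/-- Conjugating a transvection with centre `x` by one fixing `x`. -/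
theorem conj_tv_tv {x φ u ω : ι → F} (hφ : φ ⬝ᵥ x = 0) (hω : ω ⬝ᵥ u = 0) (hωx : ω ⬝ᵥ x = 0) :
    tv u ω * tv x φ * (tv u ω)⁻¹ = tv x (φ - (φ ⬝ᵥ u) • ω) := by
  rw [conj_tv _ hφ, tv_mulVec hω, hωx, zero_smul, add_zero, tv_inv hω,
    vecMul_tv (by rw [neg_dotProduct, hω, neg_zero]), smul_neg, sub_eq_add_neg]

theorem tv_axis_shift_mem {M : Subgroup (GL ι F)} {x φ u ω : ι → F} (hφ : φ ⬝ᵥ x = 0)
    (hω : ω ⬝ᵥ u = 0) (hωx : ω ⬝ᵥ x = 0) (h : tv x φ ∈ M) (hu : tv u ω ∈ M) :
    tv x ((φ ⬝ᵥ u) • ω) ∈ M := by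
  have h1 : tv x (φ - (φ ⬝ᵥ u) • ω) ∈ M := by
    rw [← conj_tv_tv hφ hω hωx]
    exact M.mul_mem (M.mul_mem hu h) (M.inv_mem hu)
  have hneg : (-((φ ⬝ᵥ u) • ω)) ⬝ᵥ x = 0 := by
    rw [neg_dotProduct, smul_dotProduct, hωx, smul_zero, neg_zero]
  have h2 : tv x (-((φ ⬝ᵥ u) • ω)) ∈ M := by
    have := M.mul_mem (M.inv_mem h) h1
    rwa [tv_inv hφ, tv_mul_center (by rw [neg_dotProduct, hφ, neg_zero]) (by
      rw [sub_dotProduct, smul_dotProduct, hφ, hωx, smul_zero, sub_zero]),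
      show -φ + (φ - (φ ⬝ᵥ u) • ω) = -((φ ⬝ᵥ u) • ω) by abel] at this
  have := M.inv_mem h2
  rwa [tv_inv hneg, neg_neg] at this

end Cfsg.Agent.Lib.Subspaces.FormVec
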