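import Cfsg.Agent.Lib.Subspaces.FormVec

/-!
Isotropic vectors of a non-degenerate unitary form (given as a function) over a finite field, in
large dimension, and the transvections attached to them.
-/

set_option autoImplicit false

namespace Cfsg.Agent.Lib.Subspaces.UnitaryForm

open Matrix Cfsg.Agent.Lib.Subspaces.Transvection Cfsg.Agent.Lib.Subspaces.FormVec

variable {ι : Type} [Fintype ι] [DecidableEq ι] {F : Type*} [Field F]
  {σ : F ≃+* F} {f : (ι → F) → (ι → F) → F}

/-- `α + β a² + γ b² = 0` is solvable in a finite field when `β γ ≠ 0`. -/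
theorem exists_quad_root {K : Type*} [Field K] [Finite K] (α β γ : K) (hβ : β ≠ 0) (hγ : γ ≠ 0) :
    ∃ a b : K, α + β * a ^ 2 + γ * b ^ 2 = 0 := by
  have := Fintype.ofFinite K
  by_cases h2 : ringChar K = 2
  · obtain ⟨a, ha⟩ := FiniteField.isSquare_of_char_two h2 (-α / β)
    refine ⟨a, 0, ?_⟩
    rw [pow_two, pow_two, ← ha]
    field_simp
    ring
  · open Polynomial in
    obtain ⟨a, b, h⟩ := FiniteField.exists_root_sum_quadratic
      (f := C β * X ^ 2 + C 0 * X + C α) (g := C γ * X ^ 2 + C 0 * X + C 0)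
      (degree_quadratic hβ) (degree_quadratic hγ) (FiniteField.odd_card_of_char_ne_two h2)
    refine ⟨a, b, ?_⟩
    simp at h
    linear_combination h

theorem herm_zero_left (hf : Cfsg.Geo.IsUnitaryForm σ f) (v : ι → F) : f 0 v = 0 :=
  form_zero_left (isLinearLeft_of_unitary hf) v

theorem add_right (hf : Cfsg.Geo.IsUnitaryForm σ f) (x v w : ι → F) :
    f x (v + w) = f x v + f x w := by
  rw [hf.herm, hf.add_left, map_add, ← hf.herm, ← hf.herm]

theorem smul_right (hf : Cfsg.Geo.IsUnitaryForm σ f) (c : F) (x v : ι → F) :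
    f x (c • v) = σ c * f x v := by
  rw [hf.herm, hf.smul_left, map_mul, ← hf.herm]

theorem zero_right (hf : Cfsg.Geo.IsUnitaryForm σ f) (v : ι → F) : f v 0 = 0 := by
  rw [hf.herm, herm_zero_left hf, map_zero]

theorem sub_right (hf : Cfsg.Geo.IsUnitaryForm σ f) (x v w : ι → F) :
    f x (v - w) = f x v - f x w := by
  rw [hf.herm, form_sub_left (isLinearLeft_of_unitary hf), map_sub, ← hf.herm, ← hf.herm]

theorem swap_eq_zero (hf : Cfsg.Geo.IsUnitaryForm σ f) {v w : ι → F} (h : f v w = 0) :
    f w v = 0 := by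
  rw [hf.herm, h, map_zero]

theorem formVec_smul (hf : Cfsg.Geo.IsUnitaryForm σ f) (a : F) (v : ι → F) :
    formVec f (a • v) = σ a • formVec f v :=
  funext fun _ => smul_right hf _ _ _

theorem formVec_add (hf : Cfsg.Geo.IsUnitaryForm σ f) (v w : ι → F) :
    formVec f (v + w) = formVec f v + formVec f w :=
  funext fun _ => add_right hf _ _ _

theorem dual_right (hf : Cfsg.Geo.IsUnitaryForm σ f) [Finite F] {S : Submodule F (ι → F)}
    {z : ι → F} (hz : z ∉ S) : ∃ t, (∀ s ∈ S, f t s = 0) ∧ f t z = 1 := by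
  have hl := isLinearLeft_of_unitary hf
  obtain ⟨φ, hφ, hφz⟩ := exists_functional hz
  obtain ⟨t, rfl⟩ := formVec_surjective hl (add_right hf) hf.nondegenerate φ
  refine ⟨t, fun s hs => swap_eq_zero hf ?_, ?_⟩
  · rw [← formVec_dot hl]; exact hφ s hs
  · rw [formVec_dot hl] at hφz
    rw [hf.herm, hφz, map_one]

theorem exists_add_ne_zero (hf : Cfsg.Geo.IsUnitaryForm σ f) : ∃ w : F, w + σ w ≠ 0 := by
  by_contra h
  push Not at h
  apply hf.ne_refl
  refine RingEquiv.ext fun w => ?_
  have h1 : (1 : F) + 1 = 0 := by simpa using h 1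
  have := h w
  rw [RingEquiv.refl_apply]
  linear_combination this - w * h1

theorem exists_skew_scalar (hf : Cfsg.Geo.IsUnitaryForm σ f) : ∃ e : F, e ≠ 0 ∧ e + σ e = 0 := by
  obtain ⟨b, hb⟩ : ∃ b, σ b ≠ b := by
    by_contra h
    push Not at h
    exact hf.ne_refl (RingEquiv.ext h)
  refine ⟨b - σ b, sub_ne_zero.mpr (Ne.symm hb), ?_⟩
  rw [map_sub, hf.involutive]
  ring

theorem exists_trace (hf : Cfsg.Geo.IsUnitaryForm σ f) {r : F} (hr : σ r = r) :
    ∃ t : F, t + σ t = r := by
  obtain ⟨w, hw⟩ := exists_add_ne_zero hf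
  have hfix : σ (w + σ w) = w + σ w := by rw [map_add, hf.involutive, add_comm]
  refine ⟨r / (w + σ w) * w, ?_⟩
  rw [map_mul, map_div₀, hr, hfix]
  field_simp

theorem self_fixed (hf : Cfsg.Geo.IsUnitaryForm σ f) (v : ι → F) : σ (f v v) = f v v :=
  (hf.herm v v).symm

theorem exists_norm (hf : Cfsg.Geo.IsUnitaryForm σ f) [Finite F] {r : F} (hr : σ r = r) :
    ∃ d : F, d * σ d = r := by
  obtain ⟨e, he, he'⟩ := exists_skew_scalar hf
  have hσe : σ e = -e := by linear_combination he'
  obtain ⟨⟨a, ha⟩, ⟨b, hb⟩, hab⟩ := exists_quad_root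
    (⟨-r, by simp [hr]⟩ : RingHom.eqLocusField (σ : F →+* F) (RingHom.id F))
    1 ⟨-(e * e), by simp [hσe]⟩ one_ne_zero
    (fun h => mul_ne_zero he he (neg_eq_zero.mp (congrArg Subtype.val h)))
  have ha' : σ a = a := ha
  have hb' : σ b = b := hb
  have hab' : -r + 1 * a ^ 2 + -(e * e) * b ^ 2 = 0 := congrArg Subtype.val hab
  refine ⟨a + b * e, ?_⟩
  rw [map_add, map_mul, ha', hb', hσe]
  linear_combination hab'

theorem expand_add_smul (hf : Cfsg.Geo.IsUnitaryForm σ f) (z v : ι → F) (a : F) :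
    f (z + a • v) (z + a • v) =
      f z z + (a * f v z + σ (a * f v z)) + a * σ a * f v v := by
  rw [hf.add_left, add_right hf, add_right hf, hf.smul_left, hf.smul_left, smul_right hf,
    smul_right hf, map_mul, ← hf.herm]
  ring

/-- An isotropic vector on a line through `z` in the direction of an isotropic `v`, with non-zero
parameter. -/
theorem exists_isotropic_shift (hf : Cfsg.Geo.IsUnitaryForm σ f) {z v : ι → F} (hv : f v v = 0)
    (hvz : f v z ≠ 0) : ∃ a : F, a ≠ 0 ∧ f (z + a • v) (z + a • v) = 0 := by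
  obtain ⟨t, ht⟩ := exists_trace hf (r := - f z z) (by rw [map_neg, self_fixed hf])
  obtain ⟨e, he, he'⟩ := exists_skew_scalar hf
  have key : ∀ s, s + σ s = - f z z → f (z + (s / f v z) • v) (z + (s / f v z) • v) = 0 := by
    intro s hs
    rw [expand_add_smul hf, div_mul_cancel₀ s hvz, hs, hv]
    ring
  by_cases ht0 : t = 0
  · refine ⟨(t + e) / f v z, div_ne_zero (by rwa [ht0, zero_add]) hvz, key _ ?_⟩
    rw [map_add, ← ht]
    linear_combination he'
  · exact ⟨t / f v z, div_ne_zero ht0 hvz, key _ ht⟩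

theorem finrank_span_range_le {k : ℕ} (s : Fin k → ι → F) :
    Module.finrank F (Submodule.span F (Set.range s)) ≤ k := by
  classical
  have := finrank_range_le_card (R := F) (b := s)
  rwa [Fintype.card_fin] at this

/-- A non-isotropic vector orthogonal to `m` given vectors, `2 m < n`. -/
theorem exists_anisotropic (hf : Cfsg.Geo.IsUnitaryForm σ f) [Finite F] {m : ℕ} (s : Fin m → ι → F)
    (hm : 2 * m < Fintype.card ι) : ∃ y, (∀ i, f y (s i) = 0) ∧ f y y ≠ 0 := by
  have hl := isLinearLeft_of_unitary hf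
  have hr := finrank_span_range_le s
  obtain ⟨y, hyS, hy⟩ := exists_common_zero_not_mem (Submodule.span F (Set.range s))
    (fun i => formVec f (s i)) (by omega)
  have hy' : ∀ i, f y (s i) = 0 := fun i => by rw [← formVec_dot hl]; exact hy i
  obtain ⟨w, hw, hwy⟩ := dual_right hf hyS
  have hw' : ∀ i, f w (s i) = 0 := fun i => hw _ (Submodule.subset_span ⟨i, rfl⟩)
  by_cases h1 : f y y = 0
  · by_cases h2 : f w w = 0
    · obtain ⟨μ, hμ⟩ := exists_add_ne_zero hf
      refine ⟨y + μ • w, fun i => ?_, ?_⟩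
      · rw [hf.add_left, hf.smul_left, hy', hw', mul_zero, add_zero]
      · rwa [expand_add_smul hf, h1, h2, hwy, mul_one, zero_add, mul_zero, add_zero]
    · exact ⟨w, hw', h2⟩
  · exact ⟨y, hy', h1⟩

/-- If the common perpendicular of at most half as many vectors as coordinates is totally isotropic,
a vector not orthogonal to all of them is not orthogonal to that perpendicular. -/
theorem exists_not_orth_of_isotropic (hf : Cfsg.Geo.IsUnitaryForm σ f) [Finite F] {k : ℕ}
    (L : Fin k → ι → F) (hk : 2 * k ≤ Fintype.card ι)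
    (hall : ∀ y, (∀ i, f y (L i) = 0) → f y y = 0) {t : ι → F} (ht : ∃ i, f t (L i) ≠ 0) :
    ∃ d, (∀ i, f d (L i) = 0) ∧ f d t ≠ 0 := by
  by_contra hc
  push Not at hc
  let T : (ι → F) →ₗ[F] (Fin k → F) :=
    { toFun := fun x i => f x (L i)
      map_add' := fun x y => funext fun i => hf.add_left x y (L i)
      map_smul' := fun c x => funext fun i => hf.smul_left c x (L i) }
  set W := LinearMap.ker T
  have hmem : ∀ {x}, x ∈ W → ∀ i, f x (L i) = 0 := fun hx => congrFun (LinearMap.mem_ker.mp hx)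
  have hiso : ∀ x ∈ W, ∀ y ∈ W, f x y = 0 := by
    intro x hx y hy
    obtain ⟨w, hw⟩ := exists_add_ne_zero hf
    by_contra hxy
    have h1 := hall (y + (w / f x y) • x) (hmem (W.add_mem hy (W.smul_mem _ hx)))
    rw [expand_add_smul hf, hall y (hmem hy), hall x (hmem hx), div_mul_cancel₀ _ hxy, mul_zero,
      add_zero, zero_add] at h1
    exact hw h1
  have htW : t ∉ W := fun h => by
    obtain ⟨i, hi⟩ := ht
    exact hi (hmem h i)
  have hr : Fintype.card ι ≤ Module.finrank F W + k := by
    have h1 := LinearMap.finrank_range_add_finrank_ker T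
    rw [Module.finrank_fintype_fun_eq_card] at h1
    have h2 : Module.finrank F (LinearMap.range T) ≤ k :=
      (Submodule.finrank_le _).trans (by rw [Module.finrank_fin_fun])
    have h3 : Module.finrank F (LinearMap.range T) + Module.finrank F W = Fintype.card ι := h1
    omega
  let b := Module.finBasis F W
  let A : (ι → F) →ₗ[F] (Fin (Module.finrank F W) → F) :=
    { toFun := fun x i => f x (b i : ι → F)
      map_add' := fun x y => funext fun i => hf.add_left x y _
      map_smul' := fun c x => funext fun i => hf.smul_left c x _ }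
  have hA : Function.Surjective A := by
    intro c
    have hli : LinearIndependent F (fun i => (b i : ι → F)) :=
      b.linearIndependent.map' W.subtype W.ker_subtype
    have hp : ∀ i, ∃ p, ∀ j, f p (b j : ι → F) = if j = i then 1 else 0 := fun i => by
      obtain ⟨p, hp, hpi⟩ := dual_right hf (hli.notMem_span_image (s := {j | j ≠ i}) (x := i) (by simp))
      refine ⟨p, fun j => ?_⟩
      split_ifs with h
      · rw [h]; exact hpi
      · exact hp _ (Submodule.subset_span ⟨j, h, rfl⟩)
    choose p hp using hp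
    refine ⟨∑ i, c i • p i, funext fun j => ?_⟩
    rw [map_sum, Finset.sum_apply]
    simp [A, hf.smul_left, hp]
  have hle : W ⊔ Submodule.span F {t} ≤ LinearMap.ker A := by
    refine sup_le (fun x hx => funext fun i => hiso x hx _ (b i).2)
      ((Submodule.span_singleton_le_iff_mem _ _).mpr (funext fun i => ?_))
    exact swap_eq_zero hf (hc _ (hmem (b i).2))
  have hlt : Module.finrank F W < Module.finrank F (LinearMap.ker A) :=
    Submodule.finrank_lt_finrank_of_lt (lt_of_lt_of_le
      (lt_of_le_not_ge le_sup_left fun h => htW (h (Submodule.mem_sup_right (Submodule.mem_span_singleton_self t))))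
      hle)
  have h1 := LinearMap.finrank_range_add_finrank_ker A
  rw [LinearMap.range_eq_top.mpr hA, finrank_top, Module.finrank_fin_fun,
    Module.finrank_fintype_fun_eq_card] at h1
  omega

/-- An isotropic vector with prescribed products against a few vectors. -/
theorem exists_isotropic (hf : Cfsg.Geo.IsUnitaryForm σ f) [Finite F] {k : ℕ} (s : Fin k → ι → F)
    {z : ι → F} (hz : z ∉ Submodule.span F (Set.range s))
    (hk : 2 * (k + 1) ≤ Fintype.card ι) :
    ∃ u, f u u = 0 ∧ (∀ i, f u (s i) = 0) ∧ f u z = 1 := by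
  obtain ⟨t0, ht0, ht0z⟩ := dual_right hf hz
  by_cases hall : ∀ y, (∀ i, f y ((Fin.cons z s : Fin (k + 1) → ι → F) i) = 0) → f y y = 0
  · obtain ⟨d, hd, hdt⟩ := exists_not_orth_of_isotropic hf (Fin.cons z s) hk hall (t := t0)
      ⟨0, by simp [ht0z]⟩
    have hdz : f d z = 0 := by simpa using hd 0
    have hds : ∀ i, f d (s i) = 0 := fun i => by simpa using hd i.succ
    obtain ⟨a, -, ha⟩ := exists_isotropic_shift hf (z := t0) (hall d hd) hdt
    exact ⟨_, ha, fun i => by
      rw [hf.add_left, hf.smul_left, ht0 _ (Submodule.subset_span ⟨i, rfl⟩), hds]; ring,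
      by rw [hf.add_left, hf.smul_left, ht0z, hdz]; ring⟩
  push Not at hall
  obtain ⟨y, hy, hyn⟩ := hall
  have hyz : f y z = 0 := by simpa using hy 0
  have hys : ∀ i, f y (s i) = 0 := fun i => by simpa using hy i.succ
  set t := t0 + (-(f t0 y / f y y)) • y with htd
  have hty : f t y = 0 := by
    rw [htd, hf.add_left, hf.smul_left, neg_mul, div_mul_cancel₀ _ hyn]; ring
  have hts : ∀ i, f t (s i) = 0 := fun i => by
    rw [htd, hf.add_left, hf.smul_left, ht0 _ (Submodule.subset_span ⟨i, rfl⟩), hys]; ring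
  have htz : f t z = 1 := by rw [htd, hf.add_left, hf.smul_left, ht0z, hyz]; ring
  clear_value t
  obtain ⟨d, hd⟩ := exists_norm hf (r := -(f t t) / f y y)
    (by rw [map_div₀, map_neg, self_fixed hf, self_fixed hf])
  refine ⟨t + d • y, ?_, fun i => ?_, ?_⟩
  · rw [expand_add_smul hf, swap_eq_zero hf hty, hd, div_mul_cancel₀ _ hyn, mul_zero, map_zero]
    ring
  · rw [hf.add_left, hf.smul_left, hts, hys]; ring
  · rw [hf.add_left, hf.smul_left, htz, hyz]; ring

/-- An isotropic vector with product one against a given non-zero vector. -/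
theorem exists_isotropic_one (hf : Cfsg.Geo.IsUnitaryForm σ f) [Finite F]
    (hn : 2 ≤ Fintype.card ι) {z : ι → F} (hz : z ≠ 0) : ∃ u, f u u = 0 ∧ f u z = 1 := by
  obtain ⟨u, h1, -, h2⟩ := exists_isotropic hf (![] : Fin 0 → ι → F) (z := z) (by simpa using hz)
    (by omega)
  exact ⟨u, h1, h2⟩

/-- Isotropic vectors span. -/
theorem span_isotropic (hf : Cfsg.Geo.IsUnitaryForm σ f) [Finite F] (hn : 2 ≤ Fintype.card ι) :
    Submodule.span F {v : ι → F | f v v = 0} = ⊤ := by
  refine eq_top_iff.mpr fun z _ => ?_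
  rcases eq_or_ne z 0 with rfl | hz
  · exact Submodule.zero_mem _
  obtain ⟨u, hu, huz⟩ := exists_isotropic_one hf hn hz
  obtain ⟨a, -, ha⟩ := exists_isotropic_shift hf hu (z := z) (by rw [huz]; exact one_ne_zero)
  have := Submodule.sub_mem _ (Submodule.subset_span (R := F) (s := {v | f v v = 0}) ha)
    (Submodule.smul_mem _ a (Submodule.subset_span (R := F) (s := {v | f v v = 0}) hu))
  rwa [add_sub_cancel_right] at this

theorem utv_dot (hf : Cfsg.Geo.IsUnitaryForm σ f) {v : ι → F} (hv : f v v = 0) (a : F) :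
    (a • formVec f v) ⬝ᵥ v = 0 := by
  rw [smul_dotProduct, formVec_dot (isLinearLeft_of_unitary hf), hv, smul_zero]

theorem utv_mulVec (hf : Cfsg.Geo.IsUnitaryForm σ f) {v : ι → F} (hv : f v v = 0) (a : F)
    (x : ι → F) : (tv v (a • formVec f v) : Matrix ι ι F) *ᵥ x = x + (a * f x v) • v := by
  rw [tv_mulVec (utv_dot hf hv a), smul_dotProduct, formVec_dot (isLinearLeft_of_unitary hf),
    smul_eq_mul]

/-- Unitary transvections are isometries. -/
theorem utv_isometry (hf : Cfsg.Geo.IsUnitaryForm σ f) {v : ι → F} (hv : f v v = 0) {a : F}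
    (ha : a + σ a = 0) (x y : ι → F) :
    f ((tv v (a • formVec f v) : Matrix ι ι F) *ᵥ x) ((tv v (a • formVec f v) : Matrix ι ι F) *ᵥ y)
      = f x y := by
  rw [utv_mulVec hf hv, utv_mulVec hf hv, hf.add_left, add_right hf, add_right hf, hf.smul_left,
    hf.smul_left, smul_right hf, smul_right hf, map_mul, ← hf.herm, hv]
  linear_combination f x v * f v y * ha

/-- A subspace invariant under all unitary transvections is zero or everything. -/
theorem invariant_eq_top (hf : Cfsg.Geo.IsUnitaryForm σ f) [Finite F] (hn : 2 ≤ Fintype.card ι)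
    {W : Submodule F (ι → F)} {e : F} (he : e ≠ 0)
    (hinv : ∀ v, f v v = 0 → ∀ w ∈ W, w + (e * f w v) • v ∈ W) : W = ⊥ ∨ W = ⊤ := by
  by_cases hW : W = ⊥
  · exact Or.inl hW
  obtain ⟨y, hy, hy0⟩ := Submodule.exists_mem_ne_zero_of_ne_bot hW
  have hmem : ∀ v, f v v = 0 → f y v ≠ 0 → v ∈ W := by
    intro v hv hyv
    have h := W.smul_mem (e * f y v)⁻¹ (W.sub_mem (hinv v hv y hy) hy)
    rwa [add_sub_cancel_left, smul_smul, inv_mul_cancel₀ (mul_ne_zero he hyv), one_smul] at h
  obtain ⟨u, hu, huy⟩ := exists_isotropic_one hf hn hy0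
  have hyu : f y u = 1 := by rw [hf.herm, huy, map_one]
  have huW : u ∈ W := hmem u hu (by rw [hyu]; exact one_ne_zero)
  refine Or.inr (eq_top_iff.mpr ?_)
  rw [← span_isotropic hf hn, Submodule.span_le]
  intro v (hv : f v v = 0)
  by_cases hyv : f y v = 0
  · obtain ⟨a, ha0, ha⟩ : ∃ a : F, a ≠ 0 ∧ f (v + a • u) (v + a • u) = 0 := by
      by_cases huv : f u v = 0
      · exact ⟨1, one_ne_zero, by rw [expand_add_smul hf, hv, hu, huv]; simp⟩
      · exact exists_isotropic_shift hf hu huv
    have := W.sub_mem (hmem _ ha (by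
      rw [add_right hf, smul_right hf, hyv, hyu, zero_add, mul_one]
      simpa using ha0)) (W.smul_mem a huW)
    rwa [add_sub_cancel_right] at this
  · exact hmem v hv hyv

end Cfsg.Agent.Lib.Subspaces.UnitaryForm
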