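import Cfsg.Agent.Lib.Subspaces.SympGen

/-!
Centres of full symplectic transvection groups contained in a subgroup, and the spreading rules.
-/

set_option autoImplicit false

namespace Cfsg.Agent.Lib.Subspaces.SympCenters

open Matrix Cfsg.Agent.Lib.Subspaces.Transvection Cfsg.Agent.Lib.Subspaces.FormVec
  Cfsg.Agent.Lib.Subspaces.SympGen

variable {ι : Type} [Fintype ι] [DecidableEq ι] {F : Type*} [Field F]
  {f : (ι → F) → (ι → F) → F}

/-- All symplectic transvections with centre `v` lie in `M`. -/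
def SympCenter (f : (ι → F) → (ι → F) → F) (M : Subgroup (GL ι F)) (v : ι → F) : Prop :=
  ∀ a : F, tv v (a • formVec f v) ∈ M

theorem isometry_inv {g : GL ι F}
    (hg : ∀ x y, f ((g : Matrix ι ι F) *ᵥ x) ((g : Matrix ι ι F) *ᵥ y) = f x y) (x y : ι → F) :
    f x ((g : Matrix ι ι F) *ᵥ y) = f (((g⁻¹ : GL ι F) : Matrix ι ι F) *ᵥ x) y := by
  conv_lhs => rw [← gl_mulVec_inv g x, hg]

theorem formVec_vecMul_inv (hf : IsLinearLeft f) {g : GL ι F}
    (hg : ∀ x y, f ((g : Matrix ι ι F) *ᵥ x) ((g : Matrix ι ι F) *ᵥ y) = f x y) (v : ι → F) :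
    formVec f v ᵥ* ((g⁻¹ : GL ι F) : Matrix ι ι F) = formVec f ((g : Matrix ι ι F) *ᵥ v) := by
  refine dotProduct_eq _ _ fun x => ?_
  rw [← dotProduct_mulVec, formVec_dot hf, formVec_dot hf, isometry_inv hg]

theorem conj_stv (hf : Cfsg.Geo.IsSymplecticForm f) {g : GL ι F}
    (hg : ∀ x y, f ((g : Matrix ι ι F) *ᵥ x) ((g : Matrix ι ι F) *ᵥ y) = f x y) (v : ι → F)
    (a : F) :
    g * tv v (a • formVec f v) * g⁻¹ =
      tv ((g : Matrix ι ι F) *ᵥ v) (a • formVec f ((g : Matrix ι ι F) *ᵥ v)) := by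
  rw [conj_tv g (stv_dot hf v a), smul_vecMul,
    formVec_vecMul_inv (isLinearLeft_of_bilinear hf.bilinear) hg]

theorem sympCenter_conj (hf : Cfsg.Geo.IsSymplecticForm f) {M : Subgroup (GL ι F)} {v : ι → F}
    (h : SympCenter f M v) {g : GL ι F} (hgM : g ∈ M)
    (hg : ∀ x y, f ((g : Matrix ι ι F) *ᵥ x) ((g : Matrix ι ι F) *ᵥ y) = f x y) :
    SympCenter f M ((g : Matrix ι ι F) *ᵥ v) := fun a => by
  rw [← conj_stv hf hg]
  exact M.mul_mem (M.mul_mem hgM (h a)) (M.inv_mem hgM)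

theorem sympCenter_zero (M : Subgroup (GL ι F)) : SympCenter f M 0 := fun a => by
  rw [tv_zero_left]; exact M.one_mem

theorem sympCenter_smul (hf : Cfsg.Geo.IsSymplecticForm f) {M : Subgroup (GL ι F)} {v : ι → F}
    (h : SympCenter f M v) (t : F) : SympCenter f M (t • v) := fun a => by
  have h0 : (a • formVec f (t • v)) ⬝ᵥ v = 0 := by
    rw [formVec_smul hf, smul_smul]
    exact stv_dot hf v _
  rw [tv_smul h0, formVec_smul hf, smul_smul, smul_smul]
  exact h _

theorem sympCenter_add_smul (hf : Cfsg.Geo.IsSymplecticForm f) {M : Subgroup (GL ι F)}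
    {u v : ι → F} (hu : SympCenter f M u) (hv : SympCenter f M v) (huv : f v u ≠ 0) (c : F) :
    SympCenter f M (v + c • u) := by
  have := sympCenter_conj hf hv (hu (c / f v u)) (stv_isometry hf u _)
  rwa [stv_mulVec hf, div_mul_cancel₀ c huv] at this

theorem exists_nonorth_both (hf : Cfsg.Geo.IsSymplecticForm f) {v w : ι → F} (hv : v ≠ 0)
    (hw : w ≠ 0) : ∃ z, f z v ≠ 0 ∧ f z w ≠ 0 := by
  have hl := isLinearLeft_of_bilinear hf.bilinear
  obtain ⟨z, h1, h2⟩ := exists_dot_ne_zero_both (formVec_ne_zero hl hf.nondegenerate hv)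
    (formVec_ne_zero hl hf.nondegenerate hw)
  rw [formVec_dot hl] at h1 h2
  exact ⟨z, h1, h2⟩

end Cfsg.Agent.Lib.Subspaces.SympCenters
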