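import Cfsg.Agent.Lib.Subspaces.OrthForm

/-!
Long root elements `sieg Q a b` (`a`, `b` singular and orthogonal) of a quadratic form given as a
function, and the set of singular lines whose root group lies in a subgroup (any characteristic).
-/

set_option autoImplicit false

namespace Cfsg.Agent.Lib.Subspaces.OrthLines

open Matrix Cfsg.Agent.Lib.Subspaces.Transvection Cfsg.Agent.Lib.Subspaces.FormVec
  Cfsg.Agent.Lib.Subspaces.OrthForm

variable {ι : Type} [Fintype ι] [DecidableEq ι] {F : Type*} [Field F] {Q : (ι → F) → F}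

local notation "B" => QuadraticMap.polar Q

theorem lsieg_mulVec (hQ : Cfsg.Geo.IsNondegenerateQuadraticForm Q) {a b : ι → F} (ha : Q a = 0)
    (hb : Q b = 0) (hab : B a b = 0) (x : ι → F) :
    (sieg Q a b : Matrix ι ι F) *ᵥ x = x + B x a • b + (-(B x b)) • a := by
  rw [sieg_mulVec hQ ha (by rw [B_comm, hab]), hb, zero_mul, sub_zero]

theorem conj_sieg (hQ : Cfsg.Geo.IsNondegenerateQuadraticForm Q) {g : GL ι F}
    (hg : ∀ x, Q ((g : Matrix ι ι F) *ᵥ x) = Q x) {u w : ι → F} (hu : Q u = 0) (hwu : B w u = 0) :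
    g * sieg Q u w * g⁻¹ =
      sieg Q ((g : Matrix ι ι F) *ᵥ u) ((g : Matrix ι ι F) *ᵥ w) := by
  refine gl_ext fun x => ?_
  have key : ∀ v, B x ((g : Matrix ι ι F) *ᵥ v) = B (((g⁻¹ : GL ι F) : Matrix ι ι F) *ᵥ x) v :=
    fun v => by conv_lhs => rw [← gl_mulVec_inv g x, B_map hg]
  rw [gl_mul_mulVec, gl_mul_mulVec, sieg_mulVec hQ hu hwu,
    sieg_mulVec hQ (by rw [hg, hu]) (by rw [B_map hg, hwu]), mulVec_add, mulVec_add, mulVec_smul,
    mulVec_smul, gl_mulVec_inv, key, key, hg]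

theorem sieg_add_right (hQ : Cfsg.Geo.IsNondegenerateQuadraticForm Q) {u v w : ι → F}
    (hu : Q u = 0) (hvu : B v u = 0) (hwu : B w u = 0) :
    sieg Q u (v + w) = sieg Q u v * sieg Q u w := by
  have huu : B u u = 0 := by
    rw [B_self hQ, hu, mul_zero]
  refine gl_ext fun x => ?_
  rw [gl_mul_mulVec, sieg_mulVec hQ hu (by rw [hQ.polar_bilinear.add_left, hvu, hwu, add_zero]),
    sieg_mulVec hQ hu hvu, sieg_mulVec hQ hu hwu, Q_add (Q := Q), hQ.polar_bilinear.add_right]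
  simp only [hQ.polar_bilinear.add_left, hQ.polar_bilinear.smul_left, hwu, huu, B_comm u v, hvu,
    B_comm w v]
  module

/-- All long root elements of the line through `a` and `b` are in `M`. -/
def Line (Q : (ι → F) → F) (M : Subgroup (GL ι F)) (a b : ι → F) : Prop :=
  Q a = 0 ∧ Q b = 0 ∧ QuadraticMap.polar Q a b = 0 ∧ ∀ c : F, sieg Q (c • a) b ∈ M

variable {M : Subgroup (GL ι F)}

theorem line_conj (hQ : Cfsg.Geo.IsNondegenerateQuadraticForm Q) {a b : ι → F}
    (h : Line Q M a b) {g : GL ι F} (hgM : g ∈ M) (hg : ∀ x, Q ((g : Matrix ι ι F) *ᵥ x) = Q x) :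
    Line Q M ((g : Matrix ι ι F) *ᵥ a) ((g : Matrix ι ι F) *ᵥ b) := by
  refine ⟨by rw [hg, h.1], by rw [hg, h.2.1], by rw [B_map hg, h.2.2.1], fun c => ?_⟩
  rw [← mulVec_smul, ← conj_sieg hQ hg (by rw [hQ.smul, h.1, mul_zero])
    (by rw [hQ.polar_bilinear.smul_right, B_comm, h.2.2.1, mul_zero])]
  exact M.mul_mem (M.mul_mem hgM (h.2.2.2 c)) (M.inv_mem hgM)

theorem line_symm (hQ : Cfsg.Geo.IsNondegenerateQuadraticForm Q) {a b : ι → F}
    (h : Line Q M a b) : Line Q M b a := by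
  refine ⟨h.2.1, h.1, by rw [B_comm, h.2.2.1], fun c => ?_⟩
  have heq : sieg Q (c • b) a = sieg Q ((-c) • a) b := by
    refine gl_ext fun x => ?_
    rw [lsieg_mulVec hQ (by rw [hQ.smul, h.2.1, mul_zero]) h.1
        (by rw [hQ.polar_bilinear.smul_left, B_comm, h.2.2.1, mul_zero]),
      lsieg_mulVec hQ (by rw [hQ.smul, h.1, mul_zero]) h.2.1
        (by rw [hQ.polar_bilinear.smul_left, h.2.2.1, mul_zero]),
      hQ.polar_bilinear.smul_right, hQ.polar_bilinear.smul_right]
    module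
  rw [heq]
  exact h.2.2.2 _

theorem line_smul (hQ : Cfsg.Geo.IsNondegenerateQuadraticForm Q) {a b : ι → F}
    (h : Line Q M a b) (t : F) : Line Q M (t • a) b :=
  ⟨by rw [hQ.smul, h.1, mul_zero], h.2.1,
    by rw [hQ.polar_bilinear.smul_left, h.2.2.1, mul_zero],
    fun c => by rw [smul_smul]; exact h.2.2.2 _⟩

theorem line_sub (hQ : Cfsg.Geo.IsNondegenerateQuadraticForm Q) {a a' b : ι → F}
    (h : Line Q M (a + a') b) (ha : Line Q M a b) (ha' : Q a' = 0) : Line Q M a' b := by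
  have hb := hQ.polar_bilinear
  have haa : B a a' = 0 := by
    have := h.1
    rwa [Q_add (Q := Q), ha.1, ha', zero_add, zero_add] at this
  have hab' : B a' b = 0 := by
    have := h.2.2.1
    rwa [hb.add_left, ha.2.2.1, zero_add] at this
  refine ⟨ha', h.2.1, hab', fun c => ?_⟩
  have heq : sieg Q (c • (a + a')) b = sieg Q (c • a) b * sieg Q (c • a') b := by
    refine gl_ext fun x => ?_
    rw [gl_mul_mulVec, lsieg_mulVec hQ (by rw [hQ.smul, h.1, mul_zero]) h.2.1
        (by rw [hb.smul_left, h.2.2.1, mul_zero]),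
      lsieg_mulVec hQ (by rw [hQ.smul, ha.1, mul_zero]) h.2.1
        (by rw [hb.smul_left, ha.2.2.1, mul_zero]),
      lsieg_mulVec hQ (by rw [hQ.smul, ha', mul_zero]) h.2.1
        (by rw [hb.smul_left, hab', mul_zero])]
    simp only [hb.add_left, hb.smul_left, hb.smul_right, hb.add_right, B_comm a' a, haa,
      B_comm b a, ha.2.2.1, hab', B_self hQ, h.2.1]
    module
  have := M.mul_mem (M.inv_mem (ha.2.2.2 c)) (h.2.2.2 c)
  rwa [heq, inv_mul_cancel_left] at this

end Cfsg.Agent.Lib.Subspaces.OrthLines
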