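import Cfsg.Agent.Lib.Subspaces.FormVec

/-!
Non-degenerate quadratic forms given as functions, odd characteristic: singular vectors with
prescribed products and Siegel transformations written with transvection matrices.
-/

set_option autoImplicit false

namespace Cfsg.Agent.Lib.Subspaces.OrthForm

open Matrix Cfsg.Agent.Lib.Subspaces.Transvection Cfsg.Agent.Lib.Subspaces.FormVec

variable {ι : Type} [Fintype ι] [DecidableEq ι] {F : Type*} [Field F] {Q : (ι → F) → F}

local notation "B" => QuadraticMap.polar Q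

theorem two_ne_zero_of_odd [Fintype F] (h : Odd (Fintype.card F)) : (2 : F) ≠ 0 :=
  Ring.two_ne_zero fun e => by
    have := (FiniteField.even_card_iff_char_two (F := F)).mp e
    rw [Nat.odd_iff] at h
    omega

theorem bil (hQ : Cfsg.Geo.IsNondegenerateQuadraticForm Q) : IsLinearLeft B :=
  isLinearLeft_of_bilinear hQ.polar_bilinear

theorem Q_add (x y : ι → F) : Q (x + y) = Q x + Q y + B x y := by
  rw [QuadraticMap.polar]; ring

theorem Q_zero (hQ : Cfsg.Geo.IsNondegenerateQuadraticForm Q) : Q 0 = 0 := by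
  simpa using hQ.smul 0 0

theorem B_self (hQ : Cfsg.Geo.IsNondegenerateQuadraticForm Q) (x : ι → F) : B x x = 2 * Q x := by
  rw [QuadraticMap.polar, ← two_smul F x, hQ.smul]; ring

theorem B_comm (x y : ι → F) : B x y = B y x := QuadraticMap.polar_comm Q x y

theorem zero_right (hQ : Cfsg.Geo.IsNondegenerateQuadraticForm Q) (x : ι → F) : B x 0 = 0 := by
  rw [B_comm]; exact form_zero_left (bil hQ) x

theorem sub_right (hQ : Cfsg.Geo.IsNondegenerateQuadraticForm Q) (x v w : ι → F) :
    B x (v - w) = B x v - B x w := by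
  rw [B_comm, form_sub_left (bil hQ), B_comm v, B_comm w]

theorem Q_add_smul (hQ : Cfsg.Geo.IsNondegenerateQuadraticForm Q) (x y : ι → F) (a : F) :
    Q (x + a • y) = Q x + a ^ 2 * Q y + a * B x y := by
  rw [Q_add (Q := Q), hQ.smul, hQ.polar_bilinear.smul_right]

theorem dual [Finite F] (hQ : Cfsg.Geo.IsNondegenerateQuadraticForm Q)
    {S : Submodule F (ι → F)} {z : ι → F} (hz : z ∉ S) :
    ∃ t, (∀ s ∈ S, B t s = 0) ∧ B t z = 1 := by
  obtain ⟨φ, hφ, hφz⟩ := exists_functional hz
  obtain ⟨t, rfl⟩ :=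
    formVec_surjective (bil hQ) hQ.polar_bilinear.add_right hQ.nondegenerate φ
  refine ⟨t, fun s hs => ?_, ?_⟩
  · rw [B_comm, ← formVec_dot (bil hQ)]; exact hφ s hs
  · rwa [formVec_dot (bil hQ), B_comm] at hφz

theorem finrank_span_range_le {k : ℕ} (s : Fin k → ι → F) :
    Module.finrank F (Submodule.span F (Set.range s)) ≤ k := by
  classical
  have := finrank_range_le_card (R := F) (b := s)
  rwa [Fintype.card_fin] at this

/-- A non-singular vector orthogonal to `m` given vectors, `2 m < n`. -/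
theorem exists_anisotropic [Finite F] (hQ : Cfsg.Geo.IsNondegenerateQuadraticForm Q) {m : ℕ}
    (s : Fin m → ι → F) (hm : 2 * m < Fintype.card ι) : ∃ y, (∀ i, B y (s i) = 0) ∧ Q y ≠ 0 := by
  have hr := finrank_span_range_le s
  obtain ⟨y, hyS, hy⟩ := exists_common_zero_not_mem (Submodule.span F (Set.range s))
    (fun i => formVec B (s i)) (by omega)
  have hy' : ∀ i, B y (s i) = 0 := fun i => by rw [← formVec_dot (bil hQ)]; exact hy i
  obtain ⟨w, hw, hwy⟩ := dual hQ hyS
  have hw' : ∀ i, B w (s i) = 0 := fun i => hw _ (Submodule.subset_span ⟨i, rfl⟩)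
  by_cases h1 : Q y = 0
  · by_cases h2 : Q w = 0
    · refine ⟨y + w, fun i => ?_, ?_⟩
      · rw [hQ.polar_bilinear.add_left, hy', hw', add_zero]
      · rw [Q_add (Q := Q), h1, h2, B_comm, hwy, zero_add, zero_add]; exact one_ne_zero
    · exact ⟨w, hw', h2⟩
  · exact ⟨y, hy', h1⟩

/-- A non-singular vector orthogonal to `m` given vectors and to a non-singular vector orthogonal
to them, `2 m + 2 ≤ n`. -/
theorem exists_anisotropic_succ [Finite F] (hQ : Cfsg.Geo.IsNondegenerateQuadraticForm Q)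
    (h2 : (2 : F) ≠ 0) {m : ℕ} (s : Fin m → ι → F) {a : ι → F} (ha : ∀ i, B a (s i) = 0)
    (han : Q a ≠ 0) (hm : 2 * m + 1 < Fintype.card ι) :
    ∃ y, B y a = 0 ∧ (∀ i, B y (s i) = 0) ∧ Q y ≠ 0 := by
  have hr := finrank_span_range_le s
  have hb := hQ.polar_bilinear
  obtain ⟨y, hyS, hy⟩ := exists_common_zero_not_mem (Submodule.span F (Set.range s))
    (Fin.cons (formVec B a) fun i => formVec B (s i)) (by omega)
  have hya : B y a = 0 := by rw [← formVec_dot (bil hQ)]; simpa using hy 0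
  have hy' : ∀ i, B y (s i) = 0 := fun i => by
    rw [← formVec_dot (bil hQ)]; simpa using hy i.succ
  obtain ⟨w0, hw0, hw0y⟩ := dual hQ hyS
  set w := w0 + (-(B w0 a / (2 * Q a))) • a with hwd
  have hwa : B w a = 0 := by
    rw [hwd, hb.add_left, hb.smul_left, B_self hQ, neg_mul,
      div_mul_cancel₀ _ (mul_ne_zero h2 han)]
    ring
  have hw' : ∀ i, B w (s i) = 0 := fun i => by
    rw [hwd, hb.add_left, hb.smul_left, hw0 _ (Submodule.subset_span ⟨i, rfl⟩), ha]; ring
  have hwy : B w y = 1 := by rw [hwd, hb.add_left, hb.smul_left, hw0y, B_comm a, hya]; ring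
  by_cases h1 : Q y = 0
  · by_cases h3 : Q w = 0
    · refine ⟨y + w, by rw [hb.add_left, hya, hwa, add_zero], fun i => ?_, ?_⟩
      · rw [hb.add_left, hy', hw', add_zero]
      · rw [Q_add (Q := Q), h1, h3, B_comm, hwy, zero_add, zero_add]; exact one_ne_zero
    · exact ⟨w, hwa, hw', h3⟩
  · exact ⟨y, hya, hy', h1⟩

/-- Three dimensions contain a non-zero singular vector. -/
theorem exists_singular_mem [Finite F] (hQ : Cfsg.Geo.IsNondegenerateQuadraticForm Q)
    (h2 : (2 : F) ≠ 0) {m : ℕ} (s : Fin m → ι → F) (hm : m + 2 < Fintype.card ι) :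
    ∃ u, u ≠ 0 ∧ Q u = 0 ∧ ∀ i, B u (s i) = 0 := by
  have hb := hQ.polar_bilinear
  obtain ⟨x, hx, hxs⟩ := exists_common_zero_not_mem (⊥ : Submodule F (ι → F))
    (fun i => formVec B (s i)) (by rw [finrank_bot]; omega)
  have hxs' : ∀ i, B x (s i) = 0 := fun i => by rw [← formVec_dot (bil hQ)]; exact hxs i
  by_cases hxQ : Q x = 0
  · exact ⟨x, by simpa using hx, hxQ, hxs'⟩
  obtain ⟨y, hy, hys⟩ := exists_common_zero_not_mem (⊥ : Submodule F (ι → F))
    (Fin.cons (formVec B x) fun i => formVec B (s i)) (by rw [finrank_bot]; omega)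
  have hyx : B y x = 0 := by rw [← formVec_dot (bil hQ)]; simpa using hys 0
  have hys' : ∀ i, B y (s i) = 0 := fun i => by
    rw [← formVec_dot (bil hQ)]; simpa using hys i.succ
  by_cases hyQ : Q y = 0
  · exact ⟨y, by simpa using hy, hyQ, hys'⟩
  obtain ⟨z, hz, hzs⟩ := exists_common_zero_not_mem (⊥ : Submodule F (ι → F))
    (Fin.cons (formVec B y) (Fin.cons (formVec B x) fun i => formVec B (s i)))
    (by rw [finrank_bot]; omega)
  have hzy : B z y = 0 := by rw [← formVec_dot (bil hQ)]; simpa using hzs 0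
  have hzx : B z x = 0 := by rw [← formVec_dot (bil hQ)]; simpa using hzs (Fin.succ 0)
  have hzs' : ∀ i, B z (s i) = 0 := fun i => by
    rw [← formVec_dot (bil hQ)]; simpa using hzs i.succ.succ
  by_cases hzQ : Q z = 0
  · exact ⟨z, by simpa using hz, hzQ, hzs'⟩
  obtain ⟨a, b, hab⟩ : ∃ a b : F, Q z + Q x * a ^ 2 + Q y * b ^ 2 = 0 := by
    have := Fintype.ofFinite F
    have hc : ringChar F ≠ 2 := fun e => h2 (by
      have : CharP F 2 := ringChar.eq_iff.mp e
      exact_mod_cast CharP.cast_eq_zero F 2)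
    open Polynomial in
    obtain ⟨a, b, h⟩ := FiniteField.exists_root_sum_quadratic
      (f := C (Q x) * X ^ 2 + C 0 * X + C (Q z)) (g := C (Q y) * X ^ 2 + C 0 * X + C 0)
      (degree_quadratic hxQ) (degree_quadratic hyQ) (FiniteField.odd_card_of_char_ne_two hc)
    refine ⟨a, b, ?_⟩
    simp at h
    linear_combination h
  refine ⟨z + a • x + b • y, fun e => ?_, ?_, fun i => ?_⟩
  · have h := congrArg (fun v => B v z) e
    simp only [hb.add_left, hb.smul_left, B_self hQ, B_comm x, B_comm y, hzx, hzy,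
      form_zero_left (bil hQ)] at h
    exact mul_ne_zero h2 hzQ (by linear_combination h)
  · rw [Q_add_smul hQ, Q_add_smul hQ, hb.add_left, hb.smul_left, hzx, hzy, B_comm x y, hyx]
    linear_combination hab
  · simp [hb.add_left, hb.smul_left, hzs', hxs', hys']

/-- A singular vector with prescribed products against a few vectors. -/
theorem exists_singular [Finite F] (hQ : Cfsg.Geo.IsNondegenerateQuadraticForm Q)
    (h2 : (2 : F) ≠ 0) {k : ℕ} (s : Fin k → ι → F) {z : ι → F}
    (hz : z ∉ Submodule.span F (Set.range s)) (hk : 2 * (k + 2) ≤ Fintype.card ι) :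
    ∃ u, Q u = 0 ∧ (∀ i, B u (s i) = 0) ∧ B u z = 1 := by
  obtain ⟨t0, ht, htz⟩ := dual hQ hz
  have ht' : ∀ i, B t0 (s i) = 0 := fun i => ht _ (Submodule.subset_span ⟨i, rfl⟩)
  obtain ⟨y1, hy1, hy1n⟩ := exists_anisotropic hQ (Fin.cons z s) (by omega)
  obtain ⟨y2, h21, hy2, hy2n⟩ :=
    exists_anisotropic_succ hQ h2 (Fin.cons z s) hy1 hy1n (by omega)
  have h1z : B y1 z = 0 := by simpa using hy1 0
  have h1s : ∀ i, B y1 (s i) = 0 := fun i => by simpa using hy1 i.succ
  have h2z : B y2 z = 0 := by simpa using hy2 0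
  have h2s : ∀ i, B y2 (s i) = 0 := fun i => by simpa using hy2 i.succ
  have hb := hQ.polar_bilinear
  set t := t0 + (-(B t0 y1 / (2 * Q y1))) • y1 + (-(B t0 y2 / (2 * Q y2))) • y2 with htdef
  have htz' : B t z = 1 := by
    simp [-neg_smul, htdef, hb.add_left, hb.smul_left, htz, h1z, h2z]
  have hts : ∀ i, B t (s i) = 0 := fun i => by
    simp [-neg_smul, htdef, hb.add_left, hb.smul_left, ht', h1s, h2s]
  have ht1 : B t y1 = 0 := by
    rw [htdef, hb.add_left, hb.add_left, hb.smul_left, hb.smul_left, h21, B_self hQ, neg_mul,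
      div_mul_cancel₀ _ (mul_ne_zero h2 hy1n)]
    ring
  have ht2 : B t y2 = 0 := by
    rw [htdef, hb.add_left, hb.add_left, hb.smul_left, hb.smul_left, B_comm y1, h21, B_self hQ,
      neg_mul (B t0 y2 / _), div_mul_cancel₀ _ (mul_ne_zero h2 hy2n)]
    ring
  clear_value t
  obtain ⟨a, b, hab⟩ : ∃ a b : F, Q t + Q y1 * a ^ 2 + Q y2 * b ^ 2 = 0 := by
    have := Fintype.ofFinite F
    have hc : ringChar F ≠ 2 := fun e => h2 (by
      have : CharP F 2 := ringChar.eq_iff.mp e
      exact_mod_cast CharP.cast_eq_zero F 2)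
    open Polynomial in
    obtain ⟨a, b, h⟩ := FiniteField.exists_root_sum_quadratic
      (f := C (Q y1) * X ^ 2 + C 0 * X + C (Q t)) (g := C (Q y2) * X ^ 2 + C 0 * X + C 0)
      (degree_quadratic hy1n) (degree_quadratic hy2n) (FiniteField.odd_card_of_char_ne_two hc)
    refine ⟨a, b, ?_⟩
    simp at h
    linear_combination h
  refine ⟨t + a • y1 + b • y2, ?_, fun i => ?_, ?_⟩
  · rw [Q_add_smul hQ, Q_add_smul hQ, hb.add_left, hb.smul_left, ht1, ht2, B_comm y1, h21]
    linear_combination hab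
  · simp [hb.add_left, hb.smul_left, hts, h1s, h2s]
  · simp [hb.add_left, hb.smul_left, htz', h1z, h2z]

/-- The Siegel transformation `x ↦ x + B(x,u) w − B(x,w) u − Q(w) B(x,u) u`. -/
noncomputable def sieg (Q : (ι → F) → F) (u w : ι → F) : GL ι F :=
  tv w (formVec (QuadraticMap.polar Q) u) *
    tv u (- formVec (QuadraticMap.polar Q) w - Q w • formVec (QuadraticMap.polar Q) u)

theorem sieg_mulVec (hQ : Cfsg.Geo.IsNondegenerateQuadraticForm Q) {u w : ι → F} (hu : Q u = 0)
    (hwu : B w u = 0) (x : ι → F) :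
    (sieg Q u w : Matrix ι ι F) *ᵥ x =
      x + B x u • w + (-(B x w) - Q w * B x u) • u := by
  have huu : B u u = 0 := by rw [B_self hQ, hu, mul_zero]
  have e1 : formVec B u ⬝ᵥ w = 0 := by rw [formVec_dot (bil hQ), hwu]
  have e2 : (- formVec B w - Q w • formVec B u) ⬝ᵥ u = 0 := by
    rw [sub_dotProduct, neg_dotProduct, smul_dotProduct, formVec_dot (bil hQ),
      formVec_dot (bil hQ), huu, B_comm u w, hwu]
    simp
  rw [sieg, gl_mul_mulVec, tv_mulVec e2, tv_mulVec e1]
  simp only [sub_dotProduct, neg_dotProduct, smul_dotProduct, formVec_dot (bil hQ), smul_eq_mul,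
    hQ.polar_bilinear.add_left, hQ.polar_bilinear.smul_left, huu]
  module

theorem sieg_isometry (hQ : Cfsg.Geo.IsNondegenerateQuadraticForm Q) {u w : ι → F} (hu : Q u = 0)
    (hwu : B w u = 0) (x : ι → F) : Q ((sieg Q u w : Matrix ι ι F) *ᵥ x) = Q x := by
  rw [sieg_mulVec hQ hu hwu, Q_add_smul hQ, Q_add_smul hQ, hQ.polar_bilinear.add_left,
    hQ.polar_bilinear.smul_left, hu, hwu]
  ring

theorem sieg_mem_specialLinear (u w : ι → F) : sieg Q u w ∈ Cfsg.Geo.specialLinear ι F :=
  mul_mem (tv_mem_specialLinear _ _) (tv_mem_specialLinear _ _)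

theorem B_map {g : GL ι F} (hg : ∀ x, Q ((g : Matrix ι ι F) *ᵥ x) = Q x) (x y : ι → F) :
    B ((g : Matrix ι ι F) *ᵥ x) ((g : Matrix ι ι F) *ᵥ y) = B x y := by
  simp only [QuadraticMap.polar, ← mulVec_add, hg]

/-- Singular vectors span. -/
theorem span_singular [Finite F] (hQ : Cfsg.Geo.IsNondegenerateQuadraticForm Q)
    (h2 : (2 : F) ≠ 0) (hn : 4 < Fintype.card ι) :
    Submodule.span F {v : ι → F | Q v = 0} = ⊤ := by
  refine eq_top_iff.mpr fun z _ => ?_
  rcases eq_or_ne z 0 with rfl | hz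
  · exact Submodule.zero_mem _
  obtain ⟨u, hu, -, huz⟩ := exists_singular hQ h2 (![] : Fin 0 → ι → F) (z := z) (by simpa using hz)
    (by omega)
  have h1 : Q (z + (-Q z) • u) = 0 := by
    rw [Q_add_smul hQ, hu, B_comm, huz]; ring
  have := Submodule.sub_mem _ (Submodule.subset_span (R := F) (s := {v | Q v = 0}) h1)
    (Submodule.smul_mem _ (-Q z) (Submodule.subset_span (R := F) (s := {v | Q v = 0}) hu))
  rwa [add_sub_cancel_right] at this

theorem perp_span (hQ : Cfsg.Geo.IsNondegenerateQuadraticForm Q) {k : ℕ} {s : Fin k → ι → F}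
    {a : ι → F} (h : ∀ i, B a (s i) = 0) :
    ∀ x ∈ Submodule.span F (Set.range s), B a x = 0 := by
  intro x hx
  induction hx using Submodule.span_induction with
  | mem x hx => obtain ⟨i, rfl⟩ := hx; exact h i
  | zero => exact zero_right hQ a
  | add x y _ _ hx hy => rw [hQ.polar_bilinear.add_right, hx, hy, add_zero]
  | smul t x _ hx => rw [hQ.polar_bilinear.smul_right, hx, mul_zero]

/-- A functional family `B(·, s i)` vanishing at `a` means `a` is orthogonal to the family. -/
theorem perp_span' (hQ : Cfsg.Geo.IsNondegenerateQuadraticForm Q) {k : ℕ} {s : Fin k → ι → F}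
    {a : ι → F} (h : ∀ i, formVec B (s i) ⬝ᵥ a = 0) :
    ∀ x ∈ Submodule.span F (Set.range s), B a x = 0 :=
  perp_span hQ fun i => by rw [← formVec_dot (bil hQ)]; exact h i

end Cfsg.Agent.Lib.Subspaces.OrthForm
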