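import Cfsg.Agent.Lib.Subspaces.UnitBlock

/-!
Sums of norm one scalars with given coefficients in the field with `q²` elements, and pigeonhole
lemmas for their traces.
-/

set_option autoImplicit false

namespace Cfsg.Agent.Lib.Subspaces.UnitCircle

open Cfsg.Agent.Lib.Subspaces.UnitaryGen Cfsg.Agent.Lib.Subspaces.UnitBlock
  Cfsg.Agent.Lib.Unitary

variable {F : Type*} [Field F] [Fintype F] {q : ℕ} (hF : Fintype.card F = q ^ 2)

include hF

/-- Norm one scalars. -/
noncomputable def mu : Finset F := by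
  classical exact Finset.univ.filter fun x => x * powAut hF x = 1

/-- The fixed field of `powAut`. -/
noncomputable def fix : Finset F := by
  classical exact Finset.univ.filter fun x => powAut hF x = x

theorem mem_mu {x : F} : x ∈ mu hF ↔ x * powAut hF x = 1 := by
  classical simp [mu]

theorem mem_fix {x : F} : x ∈ fix hF ↔ powAut hF x = x := by
  classical simp [fix]

theorem sigma_sigma (x : F) : powAut hF (powAut hF x) = x := pow_q_q hF x

theorem one_mem_mu : (1 : F) ∈ mu hF := by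
  rw [mem_mu, map_one, one_mul]

theorem ne_zero_of_mu {x : F} (hx : x ∈ mu hF) : x ≠ 0 := fun e => by
  rw [mem_mu, e, zero_mul] at hx
  exact zero_ne_one hx

theorem sigma_eq_inv {x : F} (hx : x ∈ mu hF) : powAut hF x = x⁻¹ :=
  eq_inv_of_mul_eq_one_right ((mem_mu hF).mp hx)

theorem sigma_mem_mu {x : F} (hx : x ∈ mu hF) : powAut hF x ∈ mu hF := by
  rw [mem_mu, sigma_sigma, mul_comm]; exact (mem_mu hF).mp hx

theorem mul_mem_mu {x y : F} (hx : x ∈ mu hF) (hy : y ∈ mu hF) : x * y ∈ mu hF := by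
  rw [mem_mu] at hx hy ⊢
  rw [map_mul]
  linear_combination x * powAut hF x * hy + hx

theorem inv_mem_mu {x : F} (hx : x ∈ mu hF) : x⁻¹ ∈ mu hF := by
  rw [← sigma_eq_inv hF hx]; exact sigma_mem_mu hF hx

theorem pow_mem_mu {x : F} (hx : x ∈ mu hF) (m : ℕ) : x ^ m ∈ mu hF := by
  induction m with
  | zero => rw [pow_zero]; exact one_mem_mu hF
  | succ m ih => rw [pow_succ]; exact mul_mem_mu hF ih hx

theorem neg_one_mem_mu : (-1 : F) ∈ mu hF := by
  rw [mem_mu, map_neg, map_one, neg_mul_neg, one_mul]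

theorem card_mu : (mu hF).card = q + 1 := by
  classical
  rw [← card_norm_one hF, Nat.card_eq_fintype_card, Fintype.card_subtype]
  congr 1
  ext x
  simp [mem_mu hF, powAut_apply, pow_succ']

theorem card_fix : (fix hF).card = q := by
  classical
  conv_rhs => rw [← card_fixed hF, Nat.card_eq_fintype_card, Fintype.card_subtype]
  unfold fix
  congr 1

theorem norm_fixed (x : F) : powAut hF (x * powAut hF x) = x * powAut hF x := by
  rw [map_mul, sigma_sigma, mul_comm]

theorem trace_fixed (x : F) : powAut hF (x + powAut hF x) = x + powAut hF x := by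
  rw [map_add, sigma_sigma, add_comm]

theorem exists_mu_pow_ne_one {m : ℕ} (hm : 0 < m) (hmq : m < q + 1) :
    ∃ x ∈ mu hF, x ^ m ≠ 1 := by
  classical
  by_contra h
  push Not at h
  have hle : mu hF ⊆ (Polynomial.nthRoots m (1 : F)).toFinset := fun x hx => by
    rw [Multiset.mem_toFinset, Polynomial.mem_nthRoots hm]
    exact h x hx
  have := (Finset.card_le_card hle).trans ((Multiset.toFinset_card_le _).trans
    (Polynomial.card_nthRoots m (1 : F)))
  rw [card_mu hF] at this
  omega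

open Classical in
theorem card_trace_image {w : F} (hw : w ≠ 0) :
    q + 1 ≤ 2 * ((mu hF).image fun l => l * w + powAut hF (l * w)).card := by
  set σ := powAut hF
  rw [← card_mu hF]
  refine Finset.card_le_mul_card_image _ _ fun T _ => ?_
  set p : Polynomial F := Polynomial.X ^ 2 - Polynomial.C T * Polynomial.X +
    Polynomial.C (w * σ w) with hp
  have hdeg : p.natDegree = 2 := by
    rw [hp]; compute_degree!
  have hp0 : p ≠ 0 := fun e => by rw [e] at hdeg; simp at hdeg
  refine le_trans ?_ (hdeg ▸ p.card_roots' : p.roots.card ≤ 2)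
  refine le_trans ?_ (Multiset.toFinset_card_le _)
  refine Finset.card_le_card_of_injOn (fun l => l * w) (fun l hl => ?_)
    (fun a _ b _ h => mul_right_cancel₀ hw h)
  simp only [Finset.coe_filter, Set.mem_ofPred_eq] at hl
  obtain ⟨hl1, rfl⟩ := hl
  have hl' : σ l * l = 1 := by rw [mul_comm]; exact (mem_mu hF).mp hl1
  simp only [Finset.mem_coe, Multiset.mem_toFinset, Polynomial.mem_roots hp0]
  simp [hp, map_mul]
  linear_combination -(w * σ w) * hl'

/-- Two traces with free norm one multipliers reach every element of the fixed field. -/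
theorem exists_two_traces {v w : F} (hv : v ≠ 0) (hw : w ≠ 0) {c : F} (hc : powAut hF c = c) :
    ∃ l ∈ mu hF, ∃ m ∈ mu hF,
      l * v + powAut hF (l * v) + (m * w + powAut hF (m * w)) = c := by
  classical
  set σ := powAut hF
  set A := (mu hF).image fun l => l * v + σ (l * v)
  set B := ((mu hF).image fun l => l * w + σ (l * w)).image fun x => c - x with hB
  have hA : A ⊆ fix hF := fun x hx => by
    obtain ⟨l, -, rfl⟩ := Finset.mem_image.mp hx
    exact (mem_fix hF).mpr (trace_fixed hF _)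
  have hBs : B ⊆ fix hF := fun x hx => by
    rw [hB, Finset.image_image] at hx
    obtain ⟨l, -, rfl⟩ := Finset.mem_image.mp hx
    rw [Function.comp_apply, mem_fix, map_sub, hc, trace_fixed hF]
  have hcB : B.card = ((mu hF).image fun l => l * w + σ (l * w)).card :=
    Finset.card_image_of_injective _ fun a b h => by simpa using h
  have h1 := Finset.card_union_add_card_inter A B
  have h2 := Finset.card_le_card (Finset.union_subset hA hBs)
  rw [card_fix hF] at h2
  have h3 := card_trace_image hF hv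
  have h4 := card_trace_image hF hw
  have h3' : q + 1 ≤ 2 * A.card := h3
  rw [← hcB] at h4
  obtain ⟨x, hx⟩ : (A ∩ B).Nonempty := by
    rw [← Finset.card_pos]; omega
  obtain ⟨hxA, hxB⟩ := Finset.mem_inter.mp hx
  obtain ⟨l, hl, rfl⟩ := Finset.mem_image.mp hxA
  rw [hB, Finset.image_image] at hxB
  obtain ⟨m, hm, hm'⟩ := Finset.mem_image.mp hxB
  exact ⟨l, hl, m, hm, by rw [Function.comp_apply] at hm'; linear_combination -hm'⟩

/-- Three circles: every non-zero value is `l₁ p₁ + l₂ p₂ + l₃ p₃`. -/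
theorem exists_three_circle {p₁ p₂ p₃ : F} (h1 : p₁ ≠ 0) (h2 : p₂ ≠ 0) (h3 : p₃ ≠ 0) {c : F}
    (hc : c ≠ 0) :
    ∃ a ∈ mu hF, ∃ b ∈ mu hF, ∃ d ∈ mu hF, a * p₁ + b * p₂ + d * p₃ = c := by
  set σ := powAut hF
  have hσ0 : ∀ {x : F}, x ≠ 0 → σ x ≠ 0 := fun h => by simpa using h
  obtain ⟨l, hl, m, hm, hlm⟩ := exists_two_traces hF (v := p₁ * σ p₂) (w := p₃ * σ c)
    (mul_ne_zero h1 (hσ0 h2)) (mul_ne_zero h3 (hσ0 hc))
    (c := c * σ c + p₃ * σ p₃ - p₁ * σ p₁ - p₂ * σ p₂) (by
      simp only [map_sub, map_add, norm_fixed hF, σ])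
  have hl' := (mem_mu hF).mp hl
  have hm' := (mem_mu hF).mp hm
  rw [map_mul, map_mul, map_mul, map_mul, sigma_sigma, sigma_sigma] at hlm
  have key : (l * p₁ + p₂) * σ (l * p₁ + p₂) = (c - m * p₃) * σ (c - m * p₃) := by
    rw [map_add, map_sub, map_mul, map_mul]
    linear_combination hlm + p₁ * σ p₁ * hl' - p₃ * σ p₃ * hm'
  by_cases h0 : l * p₁ + p₂ = 0
  · rw [h0, map_zero, mul_zero, eq_comm, mul_eq_zero, map_eq_zero, or_self, sub_eq_zero] at key
    exact ⟨l, hl, 1, one_mem_mu hF, m, hm, by rw [key, one_mul, h0, zero_add]⟩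
  · set η := (c - m * p₃) / (l * p₁ + p₂) with hη
    have hη' : η ∈ mu hF := by
      rw [mem_mu, hη, map_div₀, div_mul_div_comm, ← key]
      exact div_self (mul_ne_zero h0 (hσ0 h0))
    refine ⟨η * l, mul_mem_mu hF hη' hl, η, hη', m, hm, ?_⟩
    have : η * (l * p₁ + p₂) = c - m * p₃ := div_mul_cancel₀ _ h0
    linear_combination this

/-- On at least four indices a linear combination of norm one scalars vanishes. -/
theorem exists_zero_sum {ι : Type*} [DecidableEq ι] (S : Finset ι) (hS : 4 ≤ S.card) {p : ι → F}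
    (hp : ∀ i ∈ S, p i ≠ 0) :
    ∃ z : ι → F, (∀ i, z i ∈ mu hF) ∧ ∑ i ∈ S, z i * p i = 0 := by
  classical
  obtain ⟨a, ha, b, hb, d, hd, hab, had, hbd⟩ := Finset.two_lt_card.mp (show 2 < S.card by omega)
  set R := S \ {a, b, d} with hR
  obtain ⟨r, hr⟩ : R.Nonempty := by
    rw [← Finset.card_pos]
    have h1 := Finset.le_card_sdiff ({a, b, d} : Finset ι) S
    have h2 : ({a, b, d} : Finset ι).card ≤ 3 := Finset.card_le_three
    rw [hR]
    omega
  obtain ⟨l, hl, hlre⟩ := exists_norm_one_nonreal hF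
  have hl1 : l ≠ 1 := fun e => hlre (by rw [e, map_one])
  obtain ⟨w, hw, hw0⟩ : ∃ w : ι → F, (∀ i, w i ∈ mu hF) ∧ ∑ i ∈ R, w i * p i ≠ 0 := by
    by_cases h : ∑ i ∈ R, p i = 0
    · refine ⟨Function.update 1 r l, fun i => ?_, ?_⟩
      · rcases eq_or_ne i r with rfl | hir
        · rw [Function.update_self]; exact (mem_mu hF).mpr hl
        · rw [Function.update_of_ne hir]; exact one_mem_mu hF
      · rw [← Finset.add_sum_erase _ _ hr] at h ⊢
        rw [Function.update_self, Finset.sum_congr rfl (g := p) (fun i hi => by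
          rw [Function.update_of_ne (Finset.ne_of_mem_erase hi), Pi.one_apply, one_mul])]
        intro h'
        have hrS : r ∈ S := (Finset.mem_sdiff.mp hr).1
        exact hp r hrS ((mul_eq_zero.mp (by linear_combination h' - h : (l - 1) * p r = 0)
          ).resolve_left (sub_ne_zero.mpr hl1))
    · exact ⟨1, fun _ => one_mem_mu hF, by simpa using h⟩
  obtain ⟨x, hx, y, hy, v, hv, hxyv⟩ := exists_three_circle hF (hp a ha) (hp b hb) (hp d hd)
    (neg_ne_zero.mpr hw0)
  refine ⟨fun i => if i = a then x else if i = b then y else if i = d then v else w i,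
    fun i => by
      simp only []
      split_ifs <;> first | assumption | exact hw i, ?_⟩
  have hsub : ({a, b, d} : Finset ι) ⊆ S := by simp [Finset.insert_subset_iff, ha, hb, hd]
  rw [← Finset.sum_sdiff hsub, ← hR, Finset.sum_congr rfl (g := fun i => w i * p i) (fun i hi => by
    have h := (Finset.mem_sdiff.mp hi).2
    simp only [Finset.mem_insert, Finset.mem_singleton, not_or] at h
    simp only []
    rw [if_neg h.1, if_neg h.2.1, if_neg h.2.2]), Finset.sum_insert (by simp [hab, had]),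
    Finset.sum_insert (by simp [hbd]), Finset.sum_singleton]
  simp only []
  simp only [hab.symm, had.symm, hbd.symm, if_false, if_true]
  linear_combination hxyv

omit hF in
theorem card_filter_lt {n m : ℕ} (h : m ≤ n) :
    (Finset.univ.filter fun i : Fin n => (i : ℕ) < m).card = m := by
  conv_rhs => rw [← Finset.card_range m]
  exact Finset.card_bij (fun a _ => (a : ℕ)) (fun a ha => by simpa using ha)
    (fun a _ b _ hab => Fin.ext hab) (fun b hb => by
      have hb' : b < m := Finset.mem_range.mp hb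
      exact ⟨⟨b, by omega⟩, by simp [hb'], rfl⟩)

/-- Norm one scalars of product one, not all equal, with vanishing combination. -/
theorem exists_gadget_large {n : ℕ} (hn : 13 ≤ n) {p : Fin n → F} (hp : ∀ i, p i ≠ 0) :
    ∃ z : Fin n → F, (∀ i, z i ∈ mu hF) ∧ ∏ i, z i = 1 ∧ ∑ i, z i * p i = 0 ∧
      ∃ i j, z i ≠ z j := by
  classical
  set S := Finset.univ.filter fun i : Fin n => (i : ℕ) < 4 with hS
  set T := (Finset.univ.filter fun i : Fin n => ¬ (i : ℕ) < 4).filter fun i : Fin n => (i : ℕ) < 9 with hT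
  set U := (Finset.univ.filter fun i : Fin n => ¬ (i : ℕ) < 4).filter fun i : Fin n => ¬ (i : ℕ) < 9 with hU
  have cS : S.card = 4 := card_filter_lt (by omega)
  have c9 := card_filter_lt (n := n) (m := 9) (by omega)
  have e1 := Finset.card_filter_add_card_filter_not
    (s := (Finset.univ.filter fun i : Fin n => (i : ℕ) < 9)) (fun i : Fin n => (i : ℕ) < 4)
  have e1' : ((Finset.univ.filter fun i : Fin n => (i : ℕ) < 9).filter fun i : Fin n => (i : ℕ) < 4) = S := by
    ext i; simp [S]; omega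
  have e2' : ((Finset.univ.filter fun i : Fin n => (i : ℕ) < 9).filter fun i : Fin n => ¬ (i : ℕ) < 4) = T := by
    ext i; simp [T]; omega
  rw [e1', e2', c9, cS] at e1
  have e3 := Finset.card_filter_add_card_filter_not
    (s := (Finset.univ.filter fun i : Fin n => ¬ (i : ℕ) < 4)) (fun i : Fin n => (i : ℕ) < 9)
  have e4 := Finset.card_filter_add_card_filter_not
    (s := (Finset.univ : Finset (Fin n))) (fun i : Fin n => (i : ℕ) < 4)
  rw [← hT, ← hU] at e3
  rw [← hS, Finset.card_univ, Fintype.card_fin] at e4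
  have cT : T.card = 5 := by omega
  have cU : 4 ≤ U.card := by omega
  obtain ⟨z1, hz1, s1⟩ := exists_zero_sum hF S (by omega) fun i _ => hp i
  obtain ⟨z2, hz2, s2⟩ := exists_zero_sum hF T (by omega) fun i _ => hp i
  obtain ⟨z3, hz3, s3⟩ := exists_zero_sum hF U cU fun i _ => hp i
  let Z : F → F → Fin n → F := fun a b i =>
    if (i : ℕ) < 4 then a * z1 i else if (i : ℕ) < 9 then b * z2 i else z3 i
  have hsplit : ∀ g : Fin n → F, ∏ i, g i = (∏ i ∈ S, g i) * ((∏ i ∈ T, g i) * ∏ i ∈ U, g i) :=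
    fun g => by
      rw [hT, hU, Finset.prod_filter_mul_prod_filter_not, hS,
        Finset.prod_filter_mul_prod_filter_not]
  have hsplit' : ∀ g : Fin n → F, ∑ i, g i = (∑ i ∈ S, g i) + ((∑ i ∈ T, g i) + ∑ i ∈ U, g i) :=
    fun g => by
      rw [hT, hU, Finset.sum_filter_add_sum_filter_not, hS, Finset.sum_filter_add_sum_filter_not]
  have hZS : ∀ a b, ∀ i ∈ S, Z a b i = a * z1 i := fun a b i hi => if_pos (by simpa [S] using hi)
  have hZT : ∀ a b, ∀ i ∈ T, Z a b i = b * z2 i := fun a b i hi => by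
    simp [T] at hi
    show (if _ then _ else _) = _
    rw [if_neg (by omega), if_pos hi.2]
  have hZU : ∀ a b, ∀ i ∈ U, Z a b i = z3 i := fun a b i hi => by
    simp [U] at hi
    show (if _ then _ else _) = _
    rw [if_neg (by omega), if_neg (by omega)]
  have hprod : ∀ a b, ∏ i, Z a b i =
      a ^ 4 * b ^ 5 * ((∏ i ∈ S, z1 i) * ((∏ i ∈ T, z2 i) * ∏ i ∈ U, z3 i)) := fun a b => by
    rw [hsplit, Finset.prod_congr rfl (hZS a b), Finset.prod_congr rfl (hZT a b),
      Finset.prod_congr rfl (hZU a b), Finset.prod_mul_distrib, Finset.prod_mul_distrib,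
      Finset.prod_const, Finset.prod_const, cS, cT]
    ring
  set π := (∏ i ∈ S, z1 i) * ((∏ i ∈ T, z2 i) * ∏ i ∈ U, z3 i) with hπ
  have hπμ : π ∈ mu hF := by
    have hpm : ∀ (s : Finset (Fin n)) (g : Fin n → F), (∀ i, g i ∈ mu hF) → ∏ i ∈ s, g i ∈ mu hF :=
      fun s g hg => Finset.prod_induction g (fun x => x ∈ mu hF) (fun a b => mul_mem_mu hF)
        (one_mem_mu hF) fun i _ => hg i
    exact mul_mem_mu hF (hpm _ _ hz1) (mul_mem_mu hF (hpm _ _ hz2) (hpm _ _ hz3))
  have hπ0 := ne_zero_of_mu hF hπμ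
  obtain ⟨θ, hθ, hθre⟩ := exists_norm_one_nonreal hF
  have hθ' := (mem_mu hF).mpr hθ
  have hθ0 := ne_zero_of_mu hF hθ'
  have hθ1 : θ ≠ 1 := fun e => hθre (by rw [e, map_one])
  have hgood : ∀ a b, a ∈ mu hF → b ∈ mu hF → a ^ 4 * b ^ 5 * π = 1 →
      (∀ i, Z a b i ∈ mu hF) ∧ ∏ i, Z a b i = 1 ∧ ∑ i, Z a b i * p i = 0 := by
    intro a b ha hb hab
    refine ⟨fun i => ?_, (hprod a b).trans hab, ?_⟩
    · simp only [Z]
      split_ifs
      exacts [mul_mem_mu hF ha (hz1 i), mul_mem_mu hF hb (hz2 i), hz3 i]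
    · have q1 : ∑ i ∈ S, Z a b i * p i = a * ∑ i ∈ S, z1 i * p i := by
        rw [Finset.mul_sum]
        exact Finset.sum_congr rfl fun i hi => by rw [hZS a b i hi, mul_assoc]
      have q2 : ∑ i ∈ T, Z a b i * p i = b * ∑ i ∈ T, z2 i * p i := by
        rw [Finset.mul_sum]
        exact Finset.sum_congr rfl fun i hi => by rw [hZT a b i hi, mul_assoc]
      have q3 : ∑ i ∈ U, Z a b i * p i = ∑ i ∈ U, z3 i * p i :=
        Finset.sum_congr rfl fun i hi => by rw [hZU a b i hi]
      rw [hsplit', q1, q2, q3, s1, s2, s3]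
      ring
  have hπinv := inv_mem_mu hF hπμ
  have g1 := hgood π π⁻¹ hπμ hπinv (by field_simp)
  have g2 := hgood (π * θ ^ 5) (π⁻¹ * (θ ^ 4)⁻¹) (mul_mem_mu hF hπμ (pow_mem_mu hF hθ' 5))
    (mul_mem_mu hF hπinv (inv_mem_mu hF (pow_mem_mu hF hθ' 4))) (by field_simp)
  by_contra hc
  push Not at hc
  obtain ⟨u, hu⟩ : U.Nonempty := Finset.card_pos.mp (by omega)
  obtain ⟨s, hs⟩ : S.Nonempty := Finset.card_pos.mp (by omega)
  obtain ⟨r, hr⟩ : T.Nonempty := Finset.card_pos.mp (by omega)
  have a1 := hc _ g1.1 g1.2.1 g1.2.2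
  have a2 := hc _ g2.1 g2.2.1 g2.2.2
  have b1 := (hZS _ _ s hs).symm.trans ((a1 s u).trans (hZU _ _ u hu))
  have b2 := (hZS _ _ s hs).symm.trans ((a2 s u).trans (hZU _ _ u hu))
  have c1 := (hZT _ _ r hr).symm.trans ((a1 r u).trans (hZU _ _ u hu))
  have c2 := (hZT _ _ r hr).symm.trans ((a2 r u).trans (hZU _ _ u hu))
  have h5 : θ ^ 5 = 1 := by
    have := mul_right_cancel₀ (ne_zero_of_mu hF (hz1 s)) (b1.trans b2.symm)
    field_simp at this
    exact this.symm
  have h4 : θ ^ 4 = 1 := by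
    have := mul_right_cancel₀ (ne_zero_of_mu hF (hz2 r)) (c1.trans c2.symm)
    field_simp at this
    exact this
  exact hθ1 (by linear_combination h5 - θ * h4)

/-- The same through a split into five and the rest, of coprime sizes. -/
theorem exists_gadget_five {n m i₀ j₀ : ℕ} (hnm : n = 5 + m) (hm : 4 ≤ m) (hij : 5 * i₀ = m * j₀ + 1)
    {p : Fin n → F} (hp : ∀ i, p i ≠ 0) :
    ∃ z : Fin n → F, (∀ i, z i ∈ mu hF) ∧ ∏ i, z i = 1 ∧ ∑ i, z i * p i = 0 ∧
      ∃ i j, z i ≠ z j := by
  classical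
  obtain ⟨S, hS, hSne⟩ : ∃ S : Finset (Fin n), S.card = 5 ∧
      (∑ i, p i = 0 → ∑ i ∈ S, p i ≠ 0) := by
    by_contra hc
    push Not at hc
    have heq : ∀ i j, p i = p j := by
      intro i j
      rcases eq_or_ne i j with rfl | hij
      · rfl
      obtain ⟨R, hR, hRc⟩ := Finset.exists_subset_card_eq
        (s := (Finset.univ : Finset (Fin n)) \ {i, j}) (n := 4) (by
          rw [Finset.card_sdiff_of_subset (Finset.subset_univ _), Finset.card_univ, Fintype.card_fin,
            Finset.card_pair hij]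
          omega)
      have hiR : i ∉ R := fun h => by simpa using (Finset.mem_sdiff.mp (hR h)).2
      have hjR : j ∉ R := fun h => by simpa using (Finset.mem_sdiff.mp (hR h)).2
      have h1 := (hc (insert i R) (by rw [Finset.card_insert_of_notMem hiR, hRc])).2
      have h2 := (hc (insert j R) (by rw [Finset.card_insert_of_notMem hjR, hRc])).2
      rw [Finset.sum_insert hiR] at h1
      rw [Finset.sum_insert hjR] at h2
      exact add_right_cancel (h1.trans h2.symm)
    obtain ⟨R, -, hR⟩ := Finset.exists_subset_card_eq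
      (s := (Finset.univ : Finset (Fin n))) (n := 5) (by rw [Finset.card_univ, Fintype.card_fin]; omega)
    obtain ⟨h1, h2⟩ := hc R hR
    set o : Fin n := ⟨0, by omega⟩
    rw [Finset.sum_congr rfl (g := fun _ => p o) (fun i _ => heq i o), Finset.sum_const] at h1 h2
    rw [Finset.card_univ, Fintype.card_fin, nsmul_eq_mul] at h1
    rw [hR, nsmul_eq_mul] at h2
    have e := congrArg (fun x : ℕ => (x : F)) hij
    have e' := congrArg (fun x : ℕ => (x : F)) hnm
    push_cast at h1 h2 e e'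
    exact hp o (by linear_combination (-(p o)) * e + (i₀ : F) * h2 - (j₀ : F) * (h1 - h2) + (j₀ : F) * p o * e')
  have hT : (Sᶜ).card = m := by rw [Finset.card_compl, Fintype.card_fin, hS]; omega
  obtain ⟨z1, hz1, s1⟩ := exists_zero_sum hF S (by omega) fun i _ => hp i
  obtain ⟨z2, hz2, s2⟩ := exists_zero_sum hF Sᶜ (by omega) fun i _ => hp i
  set π := (∏ i ∈ S, z1 i) * ∏ i ∈ Sᶜ, z2 i with hπ
  have hpm : ∀ (s : Finset (Fin n)) (g : Fin n → F), (∀ i, g i ∈ mu hF) → ∏ i ∈ s, g i ∈ mu hF :=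
    fun s g hg => Finset.prod_induction g (fun x => x ∈ mu hF) (fun a b => mul_mem_mu hF)
      (one_mem_mu hF) fun i _ => hg i
  have hπμ : π ∈ mu hF := mul_mem_mu hF (hpm _ _ hz1) (hpm _ _ hz2)
  have hπ0 := ne_zero_of_mu hF hπμ
  set a := (π ^ i₀)⁻¹ with ha
  set b := π ^ j₀ with hb
  have haμ : a ∈ mu hF := inv_mem_mu hF (pow_mem_mu hF hπμ i₀)
  have hbμ : b ∈ mu hF := pow_mem_mu hF hπμ j₀
  set z : Fin n → F := fun i => if i ∈ S then a * z1 i else b * z2 i with hz
  have hzS : ∀ i ∈ S, z i = a * z1 i := fun i hi => if_pos hi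
  have hzT : ∀ i ∈ Sᶜ, z i = b * z2 i := fun i hi => if_neg (Finset.mem_compl.mp hi)
  refine ⟨z, fun i => ?_, ?_, ?_, ?_⟩
  · simp only [hz]
    split_ifs
    exacts [mul_mem_mu hF haμ (hz1 i), mul_mem_mu hF hbμ (hz2 i)]
  · rw [← Finset.prod_mul_prod_compl S z, Finset.prod_congr rfl hzS, Finset.prod_congr rfl hzT,
      Finset.prod_mul_distrib, Finset.prod_mul_distrib, Finset.prod_const, Finset.prod_const, hS, hT]
    calc a ^ 5 * (∏ i ∈ S, z1 i) * (b ^ m * ∏ i ∈ Sᶜ, z2 i) = a ^ 5 * b ^ m * π := by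
          rw [hπ]; ring
      _ = 1 := by
        rw [ha, hb, inv_pow, ← pow_mul, ← pow_mul, mul_comm i₀, hij, mul_comm j₀, mul_assoc, ← pow_succ,
          inv_mul_cancel₀ (pow_ne_zero _ hπ0)]
  · rw [← Finset.sum_add_sum_compl S, Finset.sum_congr rfl (g := fun i => a * (z1 i * p i))
      (fun i hi => by rw [hzS i hi, mul_assoc]), Finset.sum_congr rfl (s₁ := Sᶜ)
      (g := fun i => b * (z2 i * p i)) (fun i hi => by rw [hzT i hi, mul_assoc]),
      ← Finset.mul_sum, ← Finset.mul_sum, s1, s2, mul_zero, mul_zero, add_zero]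
  · by_contra hcst
    push Not at hcst
    obtain ⟨r, hr⟩ : S.Nonempty := Finset.card_pos.mp (by omega)
    have hr0 : z1 r ≠ 0 := ne_zero_of_mu hF (hz1 r)
    have ha0 : a ≠ 0 := ne_zero_of_mu hF haμ
    have hb0 : b ≠ 0 := ne_zero_of_mu hF hbμ
    have hS0 : ∑ i ∈ S, p i = 0 := by
      rw [Finset.sum_congr rfl (g := fun i => z1 r * p i) (fun i hi => by
        rw [mul_left_cancel₀ ha0 (show a * z1 i = a * z1 r by
          rw [← hzS i hi, ← hzS r hr]; exact hcst i r)]), ← Finset.mul_sum] at s1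
      exact (mul_eq_zero.mp s1).resolve_left hr0
    have hT0 : ∑ i ∈ Sᶜ, p i = 0 := by
      rw [Finset.sum_congr rfl (g := fun i => a * z1 r / b * p i) (fun i hi => by
        rw [show z2 i = a * z1 r / b by
          rw [eq_div_iff hb0, mul_comm, ← hzT i hi, ← hzS r hr]; exact hcst i r]),
        ← Finset.mul_sum] at s2
      exact (mul_eq_zero.mp s2).resolve_left (div_ne_zero (mul_ne_zero ha0 hr0) hb0)
    refine hSne ?_ hS0
    rw [← Finset.sum_add_sum_compl S, hS0, hT0, add_zero]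

/-- Flipping three norm one scalars without changing their combination changes the class of the product. -/
theorem exists_gadget_ten {p : Fin 10 → F} (hp : ∀ i, p i ≠ 0) :
    ∃ z : Fin 10 → F, (∀ i, z i ∈ mu hF) ∧ ∏ i, z i = 1 ∧ ∑ i, z i * p i = 0 ∧
      ∃ i j, z i ≠ z j := by
  classical
  set σ := powAut hF
  have hq : 1 < q := by
    have h := Fintype.one_lt_card (α := F)
    rw [hF] at h
    by_contra hc
    interval_cases q <;> simp at h
  obtain ⟨θ, hθ, hθre⟩ := exists_norm_one_nonreal hF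
  have hθμ : θ ∈ mu hF := (mem_mu hF).mpr hθ
  have hθ1 : θ ≠ 1 := fun e => hθre (by rw [e, map_one])
  by_cases hdeg : (∀ i, p i = p 0) ∧ (2 : F) = 0
  · obtain ⟨hc, h2⟩ := hdeg
    refine ⟨![θ, θ, θ⁻¹, θ⁻¹, 1, 1, 1, 1, 1, 1], fun i => ?_, ?_, ?_, 0, 4, hθ1⟩
    · fin_cases i <;> simp [hθμ, inv_mem_mu hF hθμ, one_mem_mu hF]
    · simp [Fin.prod_univ_succ]
      field_simp [ne_zero_of_mu hF hθμ]
    · simp only [hc, Fin.sum_univ_succ, Fin.sum_univ_zero]
      simp
      linear_combination (θ + θ⁻¹ + 3) * p 0 * h2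
  -- six indices `a b d` and `r s u`, four others
  obtain ⟨S, hS, hSne⟩ : ∃ S : Finset (Fin 10), S.card = 4 ∧ (∑ i, p i = 0 → ∑ i ∈ S, p i ≠ 0) := by
    by_contra hc
    push Not at hc
    have heq : ∀ i j, p i = p j := by
      intro i j
      rcases eq_or_ne i j with rfl | hij
      · rfl
      obtain ⟨R, hR, hRc⟩ := Finset.exists_subset_card_eq
        (s := (Finset.univ : Finset (Fin 10)) \ {i, j}) (n := 3) (by
          rw [Finset.card_sdiff_of_subset (Finset.subset_univ _), Finset.card_univ, Fintype.card_fin,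
            Finset.card_pair hij]
          norm_num)
      have hiR : i ∉ R := fun h => by simpa using (Finset.mem_sdiff.mp (hR h)).2
      have hjR : j ∉ R := fun h => by simpa using (Finset.mem_sdiff.mp (hR h)).2
      have h1 := (hc (insert i R) (by rw [Finset.card_insert_of_notMem hiR, hRc])).2
      have h2 := (hc (insert j R) (by rw [Finset.card_insert_of_notMem hjR, hRc])).2
      rw [Finset.sum_insert hiR] at h1
      rw [Finset.sum_insert hjR] at h2
      exact add_right_cancel (h1.trans h2.symm)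
    obtain ⟨R, -, hR⟩ := Finset.exists_subset_card_eq
      (s := (Finset.univ : Finset (Fin 10))) (n := 4) (by simp)
    obtain ⟨h1, h2⟩ := hc R hR
    rw [Finset.sum_congr rfl (g := fun _ => p 0) (fun i _ => heq i 0), Finset.sum_const] at h1 h2
    rw [Finset.card_univ, Fintype.card_fin, nsmul_eq_mul] at h1
    rw [hR, nsmul_eq_mul] at h2
    push_cast at h1 h2
    refine hdeg ⟨fun i => heq i 0, (mul_eq_zero.mp ?_).resolve_right (hp 0)⟩
    linear_combination h1 - 2 * h2
  have hT : (Sᶜ).card = 6 := by rw [Finset.card_compl, Fintype.card_fin, hS]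
  obtain ⟨R, hRT, hR⟩ := Finset.exists_subset_card_eq (s := Sᶜ) (n := 3) (by omega)
  have hU : (Sᶜ \ R).card = 3 := by rw [Finset.card_sdiff_of_subset hRT]; omega
  obtain ⟨r, s, u, hrs, hru, hsu, rfl⟩ := Finset.card_eq_three.mp hR
  obtain ⟨a, b, d, hab, had, hbd, hUeq⟩ := Finset.card_eq_three.mp hU
  set P := p r * p s * p u with hP
  have hP0 : P ≠ 0 := mul_ne_zero (mul_ne_zero (hp r) (hp s)) (hp u)
  -- a target in the right class
  obtain ⟨c, hc0, hcl⟩ : ∃ c : F, c ≠ 0 ∧ ((2 : F) ≠ 0 → ¬ IsSquare (c * P)) := by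
    by_cases h2 : (2 : F) = 0
    · exact ⟨1, one_ne_zero, fun h => absurd h2 h⟩
    · obtain ⟨ν, hν⟩ := FiniteField.exists_nonsquare (F := F) fun e => h2 (by
        haveI : CharP F 2 := e ▸ ringChar.charP F
        exact CharTwo.two_eq_zero)
      refine ⟨ν / P, div_ne_zero (fun e => hν (e ▸ IsSquare.zero)) hP0, fun _ => ?_⟩
      rwa [div_mul_cancel₀ _ hP0]
  obtain ⟨x, hx, y, hy, v, hv, hxyv⟩ := exists_three_circle hF (hp r) (hp s) (hp u) hc0
  obtain ⟨x', hx', y', hy', v', hv', hxyv'⟩ := exists_three_circle hF (hp a) (hp b) (hp d) (neg_ne_zero.mpr hc0)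
  obtain ⟨z1, hz1, s1⟩ := exists_zero_sum hF S (by omega) fun i _ => hp i
  have hσ0 : ∀ {w : F}, w ≠ 0 → σ w ≠ 0 := fun h => by simpa using h
  -- the reflection of a solution in the target
  let refl : F → Fin 10 → F := fun w i => c / σ c * (σ (p i) / p i) * σ w
  have hrefl : ∀ {w : F} (i : Fin 10), w ∈ mu hF → refl w i ∈ mu hF ∧ refl w i * p i = c / σ c * σ (w * p i) := by
    intro w i hw
    have := hσ0 hc0
    have := hσ0 (hp i)
    refine ⟨mul_mem_mu hF (mul_mem_mu hF ?_ ?_) (sigma_mem_mu hF hw), ?_⟩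
    · rw [mem_mu, map_div₀, sigma_sigma]; simp only [← show σ = powAut hF from rfl]; field_simp
    · rw [mem_mu, map_div₀, sigma_sigma]; simp only [← show σ = powAut hF from rfl]; field_simp [hp i]
    · simp only [refl, map_mul]; field_simp [hp i]
  have hpm : ∀ (s : Finset (Fin 10)) (g : Fin 10 → F), (∀ i, g i ∈ mu hF) → ∏ i ∈ s, g i ∈ mu hF :=
    fun s g hg => Finset.prod_induction g (fun x => x ∈ mu hF) (fun a b => mul_mem_mu hF)
      (one_mem_mu hF) fun i _ => hg i
  set ρ := (∏ i ∈ S, z1 i) * (x' * y' * v') with hρ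
  have hρμ : ρ ∈ mu hF := mul_mem_mu hF (hpm _ _ hz1) (mul_mem_mu hF (mul_mem_mu hF hx' hy') hv')
  -- one of the two solutions makes the product a square
  obtain ⟨X, hX, Y, hY, V, hV, hsum, κ, hκ, hκsq⟩ : ∃ X ∈ mu hF, ∃ Y ∈ mu hF, ∃ V ∈ mu hF,
      X * p r + Y * p s + V * p u = c ∧ ∃ κ ∈ mu hF, ρ * (X * Y * V) = κ * κ := by
    have hπ : ρ * (x * y * v) ∈ mu hF := mul_mem_mu hF hρμ (mul_mem_mu hF (mul_mem_mu hF hx hy) hv)
    by_cases hsq : ∃ κ ∈ mu hF, ρ * (x * y * v) = κ * κ
    · exact ⟨x, hx, y, hy, v, hv, hxyv, hsq⟩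
    obtain ⟨hX, eX⟩ := hrefl r hx
    obtain ⟨hY, eY⟩ := hrefl s hy
    obtain ⟨hV, eV⟩ := hrefl u hv
    refine ⟨_, hX, _, hY, _, hV, ?_, ?_⟩
    · rw [eX, eY, eV, ← mul_add, ← mul_add, ← map_add, ← map_add, hxyv, div_mul_cancel₀ _ (hσ0 hc0)]
    -- squares and non-squares among the norm one scalars
    set k := (q + 1) / 2 with hk
    have hroot : ∀ {w : F}, w ∈ mu hF → w ^ (q + 1) = 1 := fun {w} hw => by
      have := (mem_mu hF).mp hw
      rwa [powAut_apply, ← pow_succ'] at this
    rcases Nat.even_or_odd q with hev | hodd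
    · obtain ⟨j, hj⟩ := hev
      refine absurd ⟨_, pow_mem_mu hF hπ (j + 1), ?_⟩ hsq
      rw [← pow_add, show j + 1 + (j + 1) = q + 1 + 1 by omega, pow_succ, hroot hπ, one_mul]
    have h2 : (2 : F) ≠ 0 := fun h => by
      have e := FiniteField.even_card_of_char_two (F := F)
        (ringChar.eq_iff.2 (CharTwo.of_one_ne_zero_of_two_eq_zero one_ne_zero h))
      rw [hF] at e
      obtain ⟨j, rfl⟩ := hodd
      simp [Nat.pow_mod, Nat.add_mod, Nat.mul_mod] at e
    obtain ⟨j, hj⟩ := hodd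
    -- the squares are the roots of `T ^ (j + 1) = 1`
    have hchar : ∀ w ∈ mu hF, w ^ (j + 1) = 1 → ∃ κ ∈ mu hF, w = κ * κ := by
      intro w hw hw1
      have himg : ((mu hF).image fun κ => κ * κ) =
          (mu hF).filter fun w => w ^ (j + 1) = 1 := by
        refine Finset.eq_of_subset_of_card_le (fun w hw => ?_) ?_
        · obtain ⟨κ, hκ, rfl⟩ := Finset.mem_image.mp hw
          refine Finset.mem_filter.mpr ⟨mul_mem_mu hF hκ hκ, ?_⟩
          rw [← pow_two, ← pow_mul, show 2 * (j + 1) = q + 1 by omega, hroot hκ]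
        · have h1 : ((mu hF).filter fun w => w ^ (j + 1) = 1).card ≤ j + 1 := by
            refine (Finset.card_le_card (t := (Polynomial.nthRoots (j + 1) (1 : F)).toFinset) fun w hw => ?_).trans
              ((Multiset.toFinset_card_le _).trans (Polynomial.card_nthRoots _ _))
            rw [Multiset.mem_toFinset, Polynomial.mem_nthRoots (by omega)]
            exact (Finset.mem_filter.mp hw).2
          have h3 := Finset.card_le_mul_card_image (f := fun κ => κ * κ) (mu hF) 2 fun w _ => by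
            refine (Finset.card_le_card (t := (Polynomial.nthRoots 2 w).toFinset) fun κ hκ => ?_).trans
              ((Multiset.toFinset_card_le _).trans (Polynomial.card_nthRoots _ _))
            rw [Multiset.mem_toFinset, Polynomial.mem_nthRoots (by norm_num), pow_two]
            exact (Finset.mem_filter.mp hκ).2
          rw [card_mu hF] at h3
          omega
      have : w ∈ (mu hF).image fun κ => κ * κ := himg ▸ Finset.mem_filter.mpr ⟨hw, hw1⟩
      obtain ⟨κ, hκ, rfl⟩ := Finset.mem_image.mp this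
      exact ⟨κ, hκ, rfl⟩
    set π := ρ * (x * y * v) with hπdef
    have hpm1 : ∀ w ∈ mu hF, w ^ (j + 1) = 1 ∨ w ^ (j + 1) = -1 := fun w hw =>
      mul_self_eq_one_iff.mp (by rw [← pow_add, show j + 1 + (j + 1) = q + 1 by omega, hroot hw])
    have hπ1 : π ^ (j + 1) = -1 := (hpm1 π hπ).resolve_left fun e => hsq (hchar π hπ e)
    refine hchar _ (mul_mem_mu hF hρμ (mul_mem_mu hF (mul_mem_mu hF hX hY) hV)) ?_
    have hcP : c * P ≠ 0 := mul_ne_zero hc0 hP0
    have hrat : ρ * (refl x r * refl y s * refl v u) =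
        (c * c / (σ c * σ c)) * (c / σ c * (σ P / P)) * (π / ((x * y * v) * (x * y * v))) := by
      rw [hπdef]
      simp only [refl, hP, map_mul, sigma_eq_inv hF hx, sigma_eq_inv hF hy, sigma_eq_inv hF hv, σ]
      field_simp [hp r, hp s, hp u, ne_zero_of_mu hF hx, ne_zero_of_mu hF hy, ne_zero_of_mu hF hv]
    have hsq' : ∀ {w : F}, w ∈ mu hF → (w * w) ^ (j + 1) = 1 := fun {w} hw => by
      rw [← pow_two, ← pow_mul, show 2 * (j + 1) = q + 1 by omega, hroot hw]
    have hcσ : c / σ c ∈ mu hF := by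
      have := hσ0 hc0
      rw [mem_mu, map_div₀, sigma_sigma]; simp only [← show σ = powAut hF from rfl]; field_simp
    -- the class of `σ w / w` is that of `w`
    have hclass : (σ (c * P) / (c * P)) ^ (j + 1) = -1 := by
      have e : σ (c * P) / (c * P) = (c * P) ^ (q - 1) := by
        rw [eq_comm, eq_div_iff hcP, ← pow_succ, show q - 1 + 1 = q by omega, powAut_apply]
      rw [e, ← pow_mul]
      have hcard : (q - 1) * (j + 1) = Fintype.card F / 2 := by
        rw [hF, hj]
        simp only [Nat.add_sub_cancel]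
        rw [show (2 * j + 1) ^ 2 = 2 * (2 * j * (j + 1)) + 1 by ring]
        omega
      rw [hcard]
      have h2' : ringChar F ≠ 2 := fun e => h2 (by
        haveI : CharP F 2 := e ▸ ringChar.charP F
        exact CharTwo.two_eq_zero)
      exact (FiniteField.pow_dichotomy h2' hcP).resolve_left fun e =>
        hcl h2 ((FiniteField.isSquare_iff h2' hcP).mpr e)
    have hrat2 : c / σ c * (σ P / P) = (c / σ c) * (c / σ c) * (σ (c * P) / (c * P)) := by
      have := hσ0 hc0
      have := hσ0 hP0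
      rw [map_mul]; field_simp; simp only [hP, map_mul]; ring
    rw [hrat, hrat2, show c * c / (σ c * σ c) = c / σ c * (c / σ c) by rw [div_mul_div_comm],
      mul_pow (c / σ c * (c / σ c) * _), mul_pow (c / σ c * (c / σ c)), mul_pow (c / σ c * (c / σ c)) (σ (c * P) / (c * P)),
      hsq' hcσ, hclass, div_pow, hπ1, hsq' (mul_mem_mu hF (mul_mem_mu hF hx hy) hv)]
    ring
  have hκ0 := ne_zero_of_mu hF hκ
  set A := (κ ^ 2)⁻¹ with hA
  have hAμ : A ∈ mu hF := inv_mem_mu hF (pow_mem_mu hF hκ 2)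
  let W : Fin 10 → F := fun i => if i = r then X else if i = s then Y else if i = u then V else
    if i = a then x' else if i = b then y' else v'
  set z : Fin 10 → F := fun i => if i ∈ S then A * z1 i else κ * W i with hz
  have hzS : ∀ i ∈ S, z i = A * z1 i := fun i hi => if_pos hi
  have hzT : ∀ i ∈ Sᶜ, z i = κ * W i := fun i hi => if_neg (Finset.mem_compl.mp hi)
  have hTs : Sᶜ = {r, s, u, a, b, d} := by
    rw [← Finset.union_sdiff_of_subset hRT, hUeq]
    ext i; simp; tauto
  have hne : ∀ i ∈ ({a, b, d} : Finset (Fin 10)), i ≠ r ∧ i ≠ s ∧ i ≠ u := fun i hi => by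
    have := (Finset.mem_sdiff.mp (hUeq ▸ hi)).2
    simpa using this
  obtain ⟨har, has, hau⟩ := hne a (by simp)
  obtain ⟨hbr, hbs, hbu⟩ := hne b (by simp)
  obtain ⟨hdr, hds, hdu⟩ := hne d (by simp)
  have hsumT : ∀ g : Fin 10 → F, ∑ i ∈ Sᶜ, g i = g r + g s + g u + g a + g b + g d := fun g => by
    rw [hTs]
    simp [Finset.sum_insert, hrs, hru, hsu, hab, had, hbd, har.symm, has.symm, hau.symm, hbr.symm, hbs.symm,
      hbu.symm, hdr.symm, hds.symm, hdu.symm]
    ring
  have hprodT : ∀ g : Fin 10 → F, ∏ i ∈ Sᶜ, g i = g r * g s * g u * g a * g b * g d := fun g => by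
    rw [hTs]
    simp [Finset.prod_insert, hrs, hru, hsu, hab, had, hbd, har.symm, has.symm, hau.symm, hbr.symm, hbs.symm,
      hbu.symm, hdr.symm, hds.symm, hdu.symm]
    ring
  have hWv : W r = X ∧ W s = Y ∧ W u = V ∧ W a = x' ∧ W b = y' ∧ W d = v' :=
    ⟨by simp [W], by simp [W, hrs.symm], by simp [W, hru.symm, hsu.symm], by simp [W, har, has, hau],
      by simp [W, hbr, hbs, hbu, hab.symm], by simp [W, hdr, hds, hdu, had.symm, hbd.symm]⟩
  have sT : ∑ i ∈ Sᶜ, W i * p i = 0 := by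
    rw [hsumT, hWv.1, hWv.2.1, hWv.2.2.1, hWv.2.2.2.1, hWv.2.2.2.2.1, hWv.2.2.2.2.2]
    linear_combination hsum + hxyv'
  refine ⟨z, fun i => ?_, ?_, ?_, ?_⟩
  · simp only [hz, W]
    split_ifs
    all_goals first | exact mul_mem_mu hF hAμ (hz1 i) | exact mul_mem_mu hF hκ (by assumption)
  · rw [← Finset.prod_mul_prod_compl S z, Finset.prod_congr rfl hzS, Finset.prod_congr rfl hzT,
      Finset.prod_mul_distrib, Finset.prod_mul_distrib, Finset.prod_const, Finset.prod_const, hS, hT,
      hprodT W, hWv.1, hWv.2.1, hWv.2.2.1, hWv.2.2.2.1, hWv.2.2.2.2.1, hWv.2.2.2.2.2]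
    calc A ^ 4 * (∏ i ∈ S, z1 i) * (κ ^ 6 * (X * Y * V * x' * y' * v'))
        = A ^ 4 * κ ^ 6 * (ρ * (X * Y * V)) := by rw [hρ]; ring
      _ = 1 := by rw [hκsq, hA]; field_simp
  · rw [← Finset.sum_add_sum_compl S, Finset.sum_congr rfl (g := fun i => A * (z1 i * p i))
      (fun i hi => by rw [hzS i hi, mul_assoc]), Finset.sum_congr rfl (s₁ := Sᶜ)
      (g := fun i => κ * (W i * p i)) (fun i hi => by rw [hzT i hi, mul_assoc]),
      ← Finset.mul_sum, ← Finset.mul_sum, s1, sT, mul_zero, mul_zero, add_zero]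
  · by_contra hcst
    push Not at hcst
    obtain ⟨l, hl⟩ : S.Nonempty := Finset.card_pos.mp (by omega)
    have hl0 : z1 l ≠ 0 := ne_zero_of_mu hF (hz1 l)
    have hA0 : A ≠ 0 := ne_zero_of_mu hF hAμ
    have hS0 : ∑ i ∈ S, p i = 0 := by
      rw [Finset.sum_congr rfl (g := fun i => z1 l * p i) (fun i hi => by
        rw [mul_left_cancel₀ hA0 (show A * z1 i = A * z1 l by
          rw [← hzS i hi, ← hzS l hl]; exact hcst i l)]), ← Finset.mul_sum] at s1
      exact (mul_eq_zero.mp s1).resolve_left hl0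
    have hT0 : ∑ i ∈ Sᶜ, p i = 0 := by
      rw [Finset.sum_congr rfl (g := fun i => A * z1 l / κ * p i) (fun i hi => by
        rw [show W i = A * z1 l / κ by
          rw [eq_div_iff hκ0, mul_comm, ← hzT i hi, ← hzS l hl]; exact hcst i l]),
        ← Finset.mul_sum] at sT
      exact (mul_eq_zero.mp sT).resolve_left (div_ne_zero (mul_ne_zero hA0 hl0) hκ0)
    refine hSne ?_ hS0
    rw [← Finset.sum_add_sum_compl S, hS0, hT0, add_zero]

/-- Norm one scalars of product one, not all equal, with vanishing combination. -/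
theorem exists_gadget {n : ℕ} (hn : 10 ≤ n) {p : Fin n → F} (hp : ∀ i, p i ≠ 0) :
    ∃ z : Fin n → F, (∀ i, z i ∈ mu hF) ∧ ∏ i, z i = 1 ∧ ∑ i, z i * p i = 0 ∧
      ∃ i j, z i ≠ z j := by
  rcases Nat.lt_or_ge n 13 with h | h
  · rcases (show n = 10 ∨ n = 11 ∨ n = 12 by omega) with rfl | rfl | rfl
    · exact exists_gadget_ten hF hp
    · exact exists_gadget_five hF (m := 6) (i₀ := 5) (j₀ := 4) rfl (by norm_num) (by norm_num) hp
    · exact exists_gadget_five hF (m := 7) (i₀ := 3) (j₀ := 2) rfl (by norm_num) (by norm_num) hp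
  · exact exists_gadget_large hF h hp

omit hF in
theorem sum_symmDiff {K ι : Type*} [Field K] [DecidableEq ι] (h2 : (2 : K) = 0) (A B : Finset ι)
    (N : ι → K) : ∑ i ∈ symmDiff A B, N i = (∑ i ∈ A, N i) + ∑ i ∈ B, N i := by
  have hd : Disjoint (A \ B) (B \ A) := disjoint_sdiff_sdiff
  rw [show symmDiff A B = (A \ B) ∪ (B \ A) from rfl, Finset.sum_union hd,
    ← Finset.sum_sdiff (Finset.inter_subset_left (s₂ := B) (s₁ := A)),
    ← Finset.sum_sdiff (Finset.inter_subset_right (s₁ := A) (s₂ := B)),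
    Finset.sdiff_inter_self_left, Finset.sdiff_inter_self_right]
  linear_combination -(∑ i ∈ A ∩ B, N i) * h2

/-- In characteristic two, many fixed field values contain a non-empty zero sum. -/
theorem exists_zero_subset {ι : Type*} [DecidableEq ι] (h2 : (2 : F) = 0) (I : Finset ι)
    (N : ι → F) (hN : ∀ i ∈ I, powAut hF (N i) = N i) (hI : q < 2 ^ I.card) :
    ∃ A ⊆ I, A.Nonempty ∧ ∑ i ∈ A, N i = 0 := by
  classical
  obtain ⟨A, hA, B, hB, hne, heq⟩ := Finset.exists_ne_map_eq_of_card_lt_of_maps_to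
    (s := I.powerset) (t := fix hF) (by rw [card_fix hF, Finset.card_powerset]; exact hI)
    (f := fun A => ∑ i ∈ A, N i) fun A hA => by
      simp only [Finset.mem_coe, mem_fix]
      rw [map_sum]
      exact Finset.sum_congr rfl fun i hi => hN i (Finset.mem_powerset.mp hA hi)
  refine ⟨symmDiff A B, ?_, ?_, ?_⟩
  · exact fun i hi => by
      rcases Finset.mem_symmDiff.mp hi with h | h
      exacts [Finset.mem_powerset.mp hA h.1, Finset.mem_powerset.mp hB h.1]
  · exact Finset.symmDiff_nonempty.mpr hne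
  · rw [sum_symmDiff h2, heq]
    linear_combination (∑ i ∈ B, N i) * h2

end Cfsg.Agent.Lib.Subspaces.UnitCircle
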