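import Cfsg.Agent.S5657
import Cfsg.Agent.Lib.Subspaces.UnitCircle

/-!
Two complementary totally isotropic planes in four dimensions, `q ≥ 4`: an overgroup of the stabiliser of
the pair inside `SU` has all isotropic vectors as centres or stabilises the pair.
-/

set_option autoImplicit false
set_option maxHeartbeats 800000

namespace Cfsg.Agent.Lib.Subspaces.UnitPlanesFour

open Matrix Cfsg.Agent.Lib.Subspaces.Transvection Cfsg.Agent.Lib.Subspaces.FormVec
  Cfsg.Agent.Lib.Subspaces.UnitaryForm Cfsg.Agent.Lib.Subspaces.UnitaryGen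
  Cfsg.Agent.Lib.Subspaces.UnitaryEichler Cfsg.Agent.Lib.Subspaces.Decomposition
open Cfsg.Agent.S5657 (comp_add form_comp form_comp' exists_dual exists_perp_one centre_spread exists_swap)

variable {F : Type*} [Field F] [Fintype F] {q : ℕ} (hF : Fintype.card F = q ^ 2)
  {D : Fin 2 → Submodule F (Fin 4 → F)}

local notation "𝕗" => Cfsg.hermForm 4 F q
local notation "σ" => powAut hF

/-- The running hypotheses. -/
structure Setting (q : ℕ) (D : Fin 2 → Submodule F (Fin 4 → F)) (M : Subgroup (GL (Fin 4) F)) :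
    Prop where
  dec : Cfsg.Geo.IsMDecomposition 2 D
  ts : ∀ i, ∀ u ∈ D i, ∀ v ∈ D i, Cfsg.hermForm 4 F q u v = 0
  four : 4 ≤ q
  iso : ∀ g ∈ M, ∀ x y, Cfsg.hermForm 4 F q ((g : Matrix (Fin 4) (Fin 4) F) *ᵥ x)
    ((g : Matrix (Fin 4) (Fin 4) F) *ᵥ y) = Cfsg.hermForm 4 F q x y
  det : ∀ g ∈ M, g ∈ Cfsg.Geo.specialLinear (Fin 4) F
  stab : ∀ g : GL (Fin 4) F, g ∈ Cfsg.Geo.decompositionStabilizer D →
    (∀ x y, Cfsg.hermForm 4 F q ((g : Matrix (Fin 4) (Fin 4) F) *ᵥ x)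
      ((g : Matrix (Fin 4) (Fin 4) F) *ᵥ y) = Cfsg.hermForm 4 F q x y) →
    g ∈ Cfsg.Geo.specialLinear (Fin 4) F → g ∈ M

/-- A basis adapted to two orthogonal points, one in each plane. -/
structure Frame (q : ℕ) (D : Fin 2 → Submodule F (Fin 4 → F)) (i j : Fin 2)
    (a a' b b' : Fin 4 → F) : Prop where
  ne : i ≠ j
  ha : a ∈ D i
  ha' : a' ∈ D i
  hb : b ∈ D j
  hb' : b' ∈ D j
  ab : Cfsg.hermForm 4 F q a b = 0
  ab' : Cfsg.hermForm 4 F q a b' = 1
  a'b : Cfsg.hermForm 4 F q a' b = 1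
  a'b' : Cfsg.hermForm 4 F q a' b' = 0

variable {M : Subgroup (GL (Fin 4) F)} {i j : Fin 2} {a a' b b' : Fin 4 → F}

include hF

theorem hf4 : Cfsg.Geo.IsUnitaryForm σ 𝕗 := hermForm_isUnitary hF

theorem other (k i j : Fin 2) (hij : i ≠ j) (hki : k ≠ i) : k = j := by omega

theorem Frame.symm (R : Frame q D i j a a' b b') : Frame q D j i b b' a a' := by
  have hf := hf4 hF
  exact ⟨R.ne.symm, R.hb, R.hb', R.ha, R.ha', swap_eq_zero hf R.ab,
    by rw [hf.herm, R.a'b, map_one], by rw [hf.herm, R.ab', map_one],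
    swap_eq_zero hf R.a'b'⟩

variable (S : Setting q D M)
include S

theorem exists_frame (hij : i ≠ j) (ha : a ∈ D i) (hb : b ∈ D j) (ha0 : a ≠ 0) (hb0 : b ≠ 0)
    (hab : 𝕗 a b = 0) : ∃ a' b', Frame q D i j a a' b b' := by
  have hf := hf4 hF
  obtain ⟨y, hy⟩ := (hf.nondegenerate b hb0).1
  have hy' : 𝕗 (comp S.dec i y) b ≠ 0 := by rwa [← form_comp' hf S.dec S.ts hij.symm hb]
  set a' := (𝕗 (comp S.dec i y) b)⁻¹ • comp S.dec i y with ha'
  have ha'b : 𝕗 a' b = 1 := by rw [ha', hf.smul_left, inv_mul_cancel₀ hy']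
  have ha'm : a' ∈ D i := (D i).smul_mem _ (comp_mem S.dec i y)
  have hns : a ∉ Submodule.span F {a'} := by
    intro h
    obtain ⟨s, hs⟩ := Submodule.mem_span_singleton.mp h
    rw [← hs, hf.smul_left, ha'b, mul_one] at hab
    exact ha0 (by rw [← hs, hab, zero_smul])
  obtain ⟨φ, hφ, hφa⟩ := exists_functional hns
  obtain ⟨b', hb', hbφ⟩ := exists_dual hf S.dec S.ts hij φ
  exact ⟨a', b', hij, ha, ha'm, hb, hb', hab, by rw [hbφ a ha, hφa], ha'b,
    by rw [hbφ a' ha'm, hφ a' (Submodule.mem_span_singleton_self a')]⟩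

theorem Frame.plane (R : Frame q D i j a a' b b') : IsPlane 𝕗 a b :=
  ⟨S.ts i a R.ha a R.ha, S.ts j b R.hb b R.hb, R.ab⟩

theorem Frame.expand (R : Frame q D i j a a' b b') (x : Fin 4 → F) :
    x = 𝕗 x b' • a + 𝕗 x b • a' + 𝕗 x a' • b + 𝕗 x a • b' := by
  have hf := hf4 hF
  have hji := R.symm hF
  set z := x - (𝕗 x b' • a + 𝕗 x b • a' + 𝕗 x a' • b + 𝕗 x a • b') with hz
  have h0 : ∀ {w : Fin 4 → F}, w = a ∨ w = a' ∨ w = b ∨ w = b' → 𝕗 z w = 0 := by
    intro w hw
    have hsub : ∀ u v, 𝕗 (u - v) w = 𝕗 u w - 𝕗 v w := fun u v => by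
      rw [sub_eq_add_neg, ← neg_one_smul F v, hf.add_left, hf.smul_left]; ring
    rw [hz, hsub]
    simp only [hf.add_left, hf.smul_left]
    rcases hw with rfl | rfl | rfl | rfl
    · rw [S.ts i _ R.ha _ R.ha, S.ts i _ R.ha' _ R.ha, hji.ab, hji.a'b]; ring
    · rw [S.ts i _ R.ha _ R.ha', S.ts i _ R.ha' _ R.ha', hji.ab', hji.a'b']; ring
    · rw [R.ab, R.a'b, S.ts j _ R.hb _ R.hb, S.ts j _ R.hb' _ R.hb]; ring
    · rw [R.ab', R.a'b', S.ts j _ R.hb _ R.hb', S.ts j _ R.hb' _ R.hb']; ring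
  have hli : ∀ {p p' r r' : Fin 4 → F}, 𝕗 p r' = 1 → 𝕗 p r = 0 → 𝕗 p' r = 1 →
      LinearIndependent F ![p, p'] := by
    intro p p' r r' h1 h2 h3
    rw [LinearIndependent.pair_iff]
    intro s t hst
    have e1 := congrArg (fun u => 𝕗 u r) hst
    simp only [hf.add_left, hf.smul_left, h2, h3, herm_zero_left hf, mul_zero, mul_one,
      zero_add] at e1
    rw [e1, zero_smul, add_zero, smul_eq_zero] at hst
    refine ⟨hst.resolve_right ?_, e1⟩
    rintro rfl
    rw [herm_zero_left hf] at h1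
    exact zero_ne_one h1
  have hspan : ∀ {l : Fin 2} {p p' : Fin 4 → F}, p ∈ D l → p' ∈ D l → LinearIndependent F ![p, p'] →
      D l = Submodule.span F (Set.range ![p, p']) := by
    intro l p p' hp hp' h
    refine (Submodule.eq_of_le_of_finrank_le (Submodule.span_le.mpr ?_) ?_).symm
    · rintro _ ⟨k, rfl⟩
      fin_cases k
      exacts [hp, hp']
    · rw [finrank_span_eq_card h, S.dec.finrank_eq, Fintype.card_fin]
  have hblock : ∀ {l : Fin 2} {p p' : Fin 4 → F}, D l = Submodule.span F (Set.range ![p, p']) →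
      𝕗 z p = 0 → 𝕗 z p' = 0 → ∀ u ∈ D l, 𝕗 z u = 0 := by
    intro l p p' hl h1 h2 u hu
    rw [hl] at hu
    induction hu using Submodule.span_induction with
    | mem u hu =>
      obtain ⟨k, rfl⟩ := hu
      fin_cases k
      exacts [h1, h2]
    | zero => exact zero_right hf z
    | add u v _ _ h1 h2 => rw [add_right hf, h1, h2, add_zero]
    | smul c u _ h1 => rw [smul_right hf, h1, mul_zero]
  have hi := hblock (hspan R.ha R.ha' (hli R.ab' R.ab R.a'b)) (h0 (Or.inl rfl))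
    (h0 (Or.inr (Or.inl rfl)))
  have hj := hblock (hspan R.hb R.hb' (hli hji.ab' hji.ab hji.a'b)) (h0 (Or.inr (Or.inr (Or.inl rfl))))
    (h0 (Or.inr (Or.inr (Or.inr rfl))))
  have hz0 : z = 0 := by
    by_contra h
    obtain ⟨w, hw⟩ := (hf.nondegenerate z h).2
    refine hw ?_
    rw [← comp_add S.dec R.ne w, add_right hf, hi _ (comp_mem S.dec i w), hj _ (comp_mem S.dec j w),
      add_zero]
  exact sub_eq_zero.mp hz0

theorem ueich_mem (hij : i ≠ j) {e : F} (he : e + σ e = 0) (ha : a ∈ D i) (hb : b ∈ D j)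
    (hab : 𝕗 a b = 0) : ueich 𝕗 e a b ∈ M := by
  have hf := hf4 hF
  have hp : IsPlane 𝕗 a b := ⟨S.ts i a ha a ha, S.ts j b hb b hb, hab⟩
  refine S.stab _ (mem_stabilizer_of_fix fun l => mem_subspaceStabilizer_iff.mpr fun x hx => ?_)
    (ueich_isometry hf he hp) (ueich_mem_specialLinear _ _ _)
  rw [ueich_mulVec hf e hp]
  by_cases hl : l = i
  · subst hl
    rw [S.ts l x hx a ha, mul_zero, zero_smul, add_zero]
    exact (D l).add_mem hx ((D l).smul_mem _ ha)
  · obtain rfl := other hF l i j hij hl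
    rw [S.ts l x hx b hb, mul_zero, zero_smul, add_zero]
    exact (D l).add_mem hx ((D l).smul_mem _ hb)

/-- A torus element of the stabiliser. -/
theorem torus (R : Frame q D i j a a' b b') {α β : F} (hα : α ≠ 0) (hβ : β ≠ 0)
    (hk : σ (α * β) = α * β) :
    ∃ h ∈ M, (h : Matrix (Fin 4) (Fin 4) F) *ᵥ a = α • a ∧
      (h : Matrix (Fin 4) (Fin 4) F) *ᵥ b = (σ β)⁻¹ • b := by
  have hf := hf4 hF
  have hji := R.symm hF
  have h1 : Cfsg.Agent.Lib.Unitary.Hyp q a b' :=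
    ⟨S.ts i a R.ha a R.ha, S.ts j b' R.hb' b' R.hb', R.ab'⟩
  have h2 : Cfsg.Agent.Lib.Unitary.Hyp q a' b :=
    ⟨S.ts i a' R.ha' a' R.ha', S.ts j b R.hb b R.hb, R.a'b⟩
  obtain ⟨A, hAd, hAa, hAb', hAf⟩ := Cfsg.Agent.Lib.Unitary.exists_GU_hyp_scale hF h1 hα
  obtain ⟨B, hBd, hBa', hBb, hBf⟩ := Cfsg.Agent.Lib.Unitary.exists_GU_hyp_scale hF h2 hβ
  rw [← powAut_apply hF] at hBb hBd hAd hAb'
  set h : GL (Fin 4) F := (A : GL (Fin 4) F) * (B : GL (Fin 4) F) with hh
  have hhw : ∀ w, (h : Matrix (Fin 4) (Fin 4) F) *ᵥ w =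
      A.1.1 *ᵥ (B.1.1 *ᵥ w) := fun w => by rw [hh, gl_mul_mulVec]
  have ea : (h : Matrix (Fin 4) (Fin 4) F) *ᵥ a = α • a := by
    rw [hhw, hBf a (S.ts i a R.ha a' R.ha') R.ab, hAa]
  have ea' : (h : Matrix (Fin 4) (Fin 4) F) *ᵥ a' = β • a' := by
    rw [hhw, hBa', mulVec_smul, hAf a' (S.ts i a' R.ha' a R.ha) R.a'b']
  have eb : (h : Matrix (Fin 4) (Fin 4) F) *ᵥ b = (σ β)⁻¹ • b := by
    rw [hhw, hBb, mulVec_smul, hAf b hji.ab (S.ts j b R.hb b' R.hb')]
  have eb' : (h : Matrix (Fin 4) (Fin 4) F) *ᵥ b' = (σ α)⁻¹ • b' := by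
    rw [hhw, hBf b' hji.a'b' (S.ts j b' R.hb' b R.hb), hAb']
  refine ⟨h, S.stab h (mem_stabilizer_of_mapsTo S.dec fun l => ⟨l, fun x hx => ?_⟩)
    (mem_GU_iff'.mp (mul_mem A.2 B.2)) ?_, ea, eb⟩
  · rw [R.expand hF S x, mulVec_add, mulVec_add, mulVec_add, mulVec_smul, mulVec_smul, mulVec_smul,
      mulVec_smul, ea, ea', eb, eb']
    by_cases hl : l = i
    · subst hl
      rw [S.ts l x hx a R.ha, S.ts l x hx a' R.ha', zero_smul, zero_smul, add_zero, add_zero]
      exact (D l).add_mem ((D l).smul_mem _ ((D l).smul_mem _ R.ha))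
        ((D l).smul_mem _ ((D l).smul_mem _ R.ha'))
    · obtain rfl := other hF l i j R.ne hl
      rw [S.ts l x hx b R.hb, S.ts l x hx b' R.hb', zero_smul, zero_smul, zero_add, zero_add]
      exact (D l).add_mem ((D l).smul_mem _ ((D l).smul_mem _ R.hb))
        ((D l).smul_mem _ ((D l).smul_mem _ R.hb'))
  · rw [mem_specialLinear_iff, hh, Units.val_mul, Matrix.det_mul]
    show A.1.1.det * B.1.1.det = 1
    rw [hAd, hBd]
    have hsα : σ α ≠ 0 := by simpa using hα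
    have hsβ : σ β ≠ 0 := by simpa using hβ
    rw [map_mul] at hk
    field_simp
    linear_combination -hk

/-- A product of transvections in two orthogonal points gives a centre. -/
theorem centre_of_sep (R : Frame q D i j a a' b b') {r1 r2 : F} (hr1 : r1 + σ r1 = 0)
    (hr2 : r2 + σ r2 = 0) (hne : r1 ≠ 0)
    (hM : tv a (r1 • formVec 𝕗 a) * tv b (r2 • formVec 𝕗 b) ∈ M) : UnitCenter σ 𝕗 M a := by
  classical
  have hf := hf4 hF
  have haa := S.ts i a R.ha a R.ha
  have hbb := S.ts j b R.hb b R.hb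
  refine ⟨haa, fun r hr => ?_⟩
  rcases eq_or_ne r 0 with rfl | hr0
  · rw [zero_smul, tv_zero_right]; exact M.one_mem
  -- a fixed scalar whose square is not one
  obtain ⟨k, hk, hk0, hk1⟩ : ∃ k : F, σ k = k ∧ k ≠ 0 ∧ k * k ≠ 1 := by
    by_contra hc
    push Not at hc
    have hle : Cfsg.Agent.Lib.Subspaces.UnitCircle.fix hF ⊆ {0, 1, -1} := fun x hx => by
      rw [Cfsg.Agent.Lib.Subspaces.UnitCircle.mem_fix hF] at hx
      by_cases h0 : x = 0
      · simp [h0]
      · rcases mul_self_eq_one_iff.1 (hc x hx h0) with h | h <;> simp [h]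
    have h3 := (Finset.card_le_card hle).trans Finset.card_le_three
    rw [Cfsg.Agent.Lib.Subspaces.UnitCircle.card_fix hF] at h3
    have := S.four
    omega
  have hrr : σ (r / r1) = r / r1 := by
    rw [map_div₀, eq_neg_of_add_eq_zero_right hr, eq_neg_of_add_eq_zero_right hr1, neg_div_neg_eq]
  set ν := (r / r1) / (k * k - 1) with hν
  have hν0 : ν ≠ 0 := div_ne_zero (div_ne_zero hr0 hne) (sub_ne_zero.mpr hk1)
  have hνf : σ ν⁻¹ = ν⁻¹ := by rw [hν, map_inv₀, map_div₀, hrr, map_sub, map_mul, hk, map_one]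
  obtain ⟨β, hβ⟩ := exists_norm hf hνf
  have hβ0 : β ≠ 0 := fun e => inv_ne_zero hν0 (by rw [← hβ, e, zero_mul])
  -- two torus conjugates with the same effect on `b`
  have key : ∀ t : F, σ t = t → t ≠ 0 →
      tv a ((r1 * (t * t * ν)) • formVec 𝕗 a) * tv b ((r2 * ν) • formVec 𝕗 b) ∈ M := by
    intro t ht ht0
    obtain ⟨h, hh, ea, eb⟩ := torus hF S R (α := t / β) (β := β) (div_ne_zero ht0 hβ0) hβ0
      (by rw [div_mul_cancel₀ _ hβ0]; exact ht)
    have h1 := M.mul_mem (M.mul_mem hh hM) (M.inv_mem hh)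
    rw [show h * (tv a (r1 • formVec 𝕗 a) * tv b (r2 • formVec 𝕗 b)) * h⁻¹ =
      (h * tv a (r1 • formVec 𝕗 a) * h⁻¹) * (h * tv b (r2 • formVec 𝕗 b) * h⁻¹) by group,
      conj_utv hf (S.iso h hh) haa, conj_utv hf (S.iso h hh) hbb, ea, eb] at h1
    rw [formVec_smul hf, formVec_smul hf, smul_smul, smul_smul, tv_smul (utv_dot hf haa _),
      tv_smul (utv_dot hf hbb _), smul_smul, smul_smul] at h1
    have hsβ : σ β ≠ 0 := by simpa using hβ0
    have hn : β * σ β * ν = 1 := by rw [hβ, inv_mul_cancel₀ hν0]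
    have e1 : t / β * (r1 * σ (t / β)) = r1 * (t * t * ν) := by
      rw [map_div₀, ht]; field_simp; linear_combination -hn
    have e2 : (σ β)⁻¹ * (r2 * σ (σ β)⁻¹) = r2 * ν := by
      rw [map_inv₀, hf.involutive]; field_simp; linear_combination -r2 * hn
    rwa [e1, e2] at h1
  have h2 := M.mul_mem (key k hk hk0) (M.inv_mem (key 1 (map_one _) one_ne_zero))
  rw [_root_.mul_inv_rev, mul_assoc, ← mul_assoc (tv b _), mul_inv_cancel, one_mul,
    tv_inv (utv_dot hf haa _), tv_mul_center (utv_dot hf haa _)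
      (by rw [neg_dotProduct, utv_dot hf haa, neg_zero]), ← sub_eq_add_neg, ← sub_smul] at h2
  have e : r1 * (k * k * ν) - r1 * (1 * 1 * ν) = r := by
    rw [show r1 * (k * k * ν) - r1 * (1 * 1 * ν) = r1 * ((k * k - 1) * ν) by ring, hν,
      mul_div_cancel₀ _ (sub_ne_zero.mpr hk1), mul_div_cancel₀ r hne]
  rwa [e] at h2

/-- Either point gives a centre. -/
theorem centre_of_sep' (R : Frame q D i j a a' b b') {r1 r2 : F} (hr1 : r1 + σ r1 = 0)
    (hr2 : r2 + σ r2 = 0) (hne : r1 ≠ 0 ∨ r2 ≠ 0)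
    (hM : tv a (r1 • formVec 𝕗 a) * tv b (r2 • formVec 𝕗 b) ∈ M) :
    ∃ l, ∃ u ∈ D l, u ≠ 0 ∧ UnitCenter σ 𝕗 M u := by
  have hf := hf4 hF
  have hji := R.symm hF
  rcases hne with h | h
  · exact ⟨i, a, R.ha, fun e => one_ne_zero (by rw [← R.ab', e, herm_zero_left hf]),
      centre_of_sep hF S R hr1 hr2 h hM⟩
  · refine ⟨j, b, R.hb, fun e => one_ne_zero (by rw [← hji.ab', e, herm_zero_left hf]),
      centre_of_sep hF S hji hr2 hr1 h ?_⟩
    convert hM using 1
    refine gl_ext fun x => ?_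
    rw [gl_mul_mulVec, gl_mul_mulVec, utv_mulVec hf (S.ts i a R.ha a R.ha),
      utv_mulVec hf (S.ts j b R.hb b R.hb), utv_mulVec hf (S.ts i a R.ha a R.ha),
      utv_mulVec hf (S.ts j b R.hb b R.hb)]
    simp only [hf.add_left, hf.smul_left, R.ab, hji.ab]
    module

/-- A second plane through `a`, or inside the same plane. -/
theorem centre_of_plane (R : Frame q D i j a a' b b') {e : F} (he0 : e ≠ 0) (he : e + σ e = 0)
    {c d : Fin 4 → F} (hM : ∀ t : F, ueich 𝕗 e c (t • d) ∈ M) (hcd : IsPlane 𝕗 c d)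
    (hca : 𝕗 c a = 0) (hcb : 𝕗 c b = 0) (hda : 𝕗 d a = 0) (hdb : 𝕗 d b = 0)
    (hne : 𝕗 c b' * 𝕗 d b' ≠ 0 ∨ 𝕗 c a' * 𝕗 d a' ≠ 0) :
    ∃ l, ∃ u ∈ D l, u ≠ 0 ∧ UnitCenter σ 𝕗 M u := by
  have hf := hf4 hF
  set α := 𝕗 c b' with hα
  set β := 𝕗 c a' with hβ
  set γ := 𝕗 d b' with hγ
  set δ := 𝕗 d a' with hδ
  have hc : c = α • a + β • b := by
    conv_lhs => rw [R.expand hF S c, hca, hcb, zero_smul, zero_smul, add_zero, add_zero]
  have hd : d = γ • a + δ • b := by
    conv_lhs => rw [R.expand hF S d, hda, hdb, zero_smul, zero_smul, add_zero, add_zero]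
  obtain ⟨w, hw⟩ := exists_add_ne_zero hf
  obtain ⟨t, ht⟩ : ∃ t : F, σ α * (t * γ) + σ (σ α * (t * γ)) ≠ 0 ∨
      σ β * (t * δ) + σ (σ β * (t * δ)) ≠ 0 := by
    rcases hne with h | h <;> rw [mul_ne_zero_iff] at h
    · have : σ α ≠ 0 := by simpa using h.1
      refine ⟨w / (σ α * γ), Or.inl ?_⟩
      rw [show σ α * (w / (σ α * γ) * γ) = w by field_simp [h.2]]
      exact hw
    · have : σ β ≠ 0 := by simpa using h.1
      refine ⟨w / (σ β * δ), Or.inr ?_⟩
      rw [show σ β * (w / (σ β * δ) * δ) = w by field_simp [h.2]]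
      exact hw
  set r1 := e * (σ α * (t * γ) + σ (σ α * (t * γ))) with hr1
  set r2 := e * (σ β * (t * δ) + σ (σ β * (t * δ))) with hr2
  have hskew : ∀ u : F, e * (u + σ u) + σ (e * (u + σ u)) = 0 := fun u => by
    rw [map_mul, map_add, hf.involutive]
    linear_combination (u + σ u) * he
  set τ := t * δ * σ α + β * σ (t * γ) with hτ
  refine centre_of_sep' hF S R (hskew _) (hskew _)
    (ht.imp (fun h => mul_ne_zero he0 h) (fun h => mul_ne_zero he0 h)) ?_
  have hp' : IsPlane 𝕗 c (t • d) := ⟨hcd.left, by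
    rw [hf.smul_left, smul_right hf, hcd.right]; ring, by rw [smul_right hf, hcd.orth, mul_zero]⟩
  have hpab : IsPlane 𝕗 a (τ • b) := ⟨(R.plane hF S).left, by
    rw [hf.smul_left, smul_right hf, (R.plane hF S).right]; ring, by
    rw [smul_right hf, R.ab, mul_zero]⟩
  have heq : tv a (r1 • formVec 𝕗 a) * tv b (r2 • formVec 𝕗 b) * ueich 𝕗 e a (τ • b) =
      ueich 𝕗 e c (t • d) := by
    refine gl_ext fun x => ?_
    rw [gl_mul_mulVec, gl_mul_mulVec, ueich_mulVec hf e hp', ueich_mulVec hf e hpab,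
      utv_mulVec hf (R.plane hF S).right, utv_mulVec hf (R.plane hF S).left]
    simp only [hc, hd, hf.add_left, hf.smul_left, add_right hf, smul_right hf, R.ab,
      (R.symm hF).ab, (R.plane hF S).left, (R.plane hF S).right, hτ, hr1, hr2, map_add, map_mul,
      hf.involutive]
    module
  have h1 := M.mul_mem (hM t) (M.inv_mem (ueich_mem hF S R.ne he R.ha ((D j).smul_mem τ R.hb) hpab.orth))
  rwa [← heq, mul_inv_cancel_right] at h1

/-- A second plane through `a` that is not inside the plane of `a` and `b`. -/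
theorem centre_of_common (R : Frame q D i j a a' b b') {e : F} (he0 : e ≠ 0) (he : e + σ e = 0)
    {w : Fin 4 → F} (hw : IsPlane 𝕗 a w) (hwb : 𝕗 w b ≠ 0) (hM : ueich 𝕗 e a w ∈ M) :
    ∃ l, ∃ u ∈ D l, u ≠ 0 ∧ UnitCenter σ 𝕗 M u := by
  have hf := hf4 hF
  have hpl := R.plane hF S
  refine ⟨i, a, R.ha, fun e => one_ne_zero (by rw [← R.ab', e, herm_zero_left hf]),
    hpl.left, fun r hr => ?_⟩
  obtain ⟨k, hk⟩ := exists_trace hf (r := r / e) (by
    rw [map_div₀, eq_neg_of_add_eq_zero_right hr, eq_neg_of_add_eq_zero_right he, neg_div_neg_eq])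
  set t := σ (k / (e * 𝕗 w b)) with ht
  have hp : IsPlane 𝕗 a (t • b) := ⟨hpl.left, by
    rw [hf.smul_left, smul_right hf, hpl.right]; ring, by rw [smul_right hf, hpl.orth, mul_zero]⟩
  have h1 := tv_of_common_point hf he hp hw
    (ueich_mem hF S R.ne he R.ha ((D j).smul_mem t R.hb) hp.orth) hM
  have hv : e * 𝕗 w (t • b) = k := by
    rw [smul_right hf, ht, hf.involutive]; field_simp
  rwa [hv, hk, mul_div_cancel₀ r he0] at h1

/-- An element outside the stabiliser gives a centre in one of the planes. -/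
theorem exists_centre {g : GL (Fin 4) F} (hgM : g ∈ M)
    (hg : g ∉ Cfsg.Geo.decompositionStabilizer D) :
    ∃ l, ∃ u ∈ D l, u ≠ 0 ∧ UnitCenter σ 𝕗 M u := by
  classical
  by_contra hc
  have hf := hf4 hF
  have hiso := S.iso g hgM
  obtain ⟨e, he0, he⟩ := exists_skew_scalar hf
  have hconj : ∀ {p r : Fin 4 → F} {g : GL (Fin 4) F}, g ∈ M → p ∈ D 0 → r ∈ D 1 → 𝕗 p r = 0 →
      ∀ t : F, ueich 𝕗 e ((g : Matrix (Fin 4) (Fin 4) F) *ᵥ p)
        (t • ((g : Matrix (Fin 4) (Fin 4) F) *ᵥ r)) ∈ M := by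
    intro p r g hgM hp hr hpr t
    have hpl : IsPlane 𝕗 p (t • r) := ⟨S.ts 0 p hp p hp, S.ts 1 _ ((D 1).smul_mem t hr) _
      ((D 1).smul_mem t hr), by rw [smul_right hf, hpr, mul_zero]⟩
    rw [← mulVec_smul, ← conj_ueich hf (S.iso g hgM) e hpl]
    exact M.mul_mem (M.mul_mem hgM (ueich_mem hF S (show (0 : Fin 2) ≠ 1 by decide) he hp
      ((D 1).smul_mem t hr) hpl.orth)) (M.inv_mem hgM)
  have h01 : (0 : Fin 2) ≠ 1 := by decide
  -- a general vector mapped into a plane is impossible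
  have hgen : ∀ v, (∃ l, (g : Matrix (Fin 4) (Fin 4) F) *ᵥ v ∈ D l) →
      𝕗 (comp S.dec 0 v) (comp S.dec 1 v) = 0 → comp S.dec 0 v ≠ 0 → comp S.dec 1 v ≠ 0 →
      False := by
    rintro v ⟨l, hl⟩ hQ hp0 hr0
    set p := comp S.dec 0 v
    set r := comp S.dec 1 v
    set c := (g : Matrix (Fin 4) (Fin 4) F) *ᵥ p with hcdef
    set d := (g : Matrix (Fin 4) (Fin 4) F) *ᵥ r with hddef
    set a := (g : Matrix (Fin 4) (Fin 4) F) *ᵥ v with hadef
    have hacd : c + d = a := by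
      rw [hcdef, hddef, hadef, ← mulVec_add, comp_add S.dec h01]
    obtain ⟨j, hj⟩ : ∃ j, l ≠ j := ⟨l + 1, by fin_cases l <;> decide⟩
    have ha0 : a ≠ 0 := fun e0 => hp0 (by
      have : v = 0 := gl_mulVec_injective g (by
        show (g : Matrix (Fin 4) (Fin 4) F) *ᵥ v = (g : Matrix (Fin 4) (Fin 4) F) *ᵥ 0
        rw [← hadef, e0, mulVec_zero])
      show comp S.dec 0 v = 0
      rw [this, map_zero])
    obtain ⟨b, hb, hbS, hba⟩ := exists_perp_one hf S.dec j (⊥ : Submodule F (Fin 4 → F)) a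
      (by rw [finrank_bot]; omega)
    have hb0 : b ≠ 0 := by simpa using hbS
    obtain ⟨a', b', R⟩ := exists_frame hF S hj hl hb ha0 hb0 (swap_eq_zero hf hba)
    have hcd : IsPlane 𝕗 c d := (show IsPlane 𝕗 p r from ⟨S.ts 0 _ (comp_mem S.dec 0 v) _
      (comp_mem S.dec 0 v), S.ts 1 _ (comp_mem S.dec 1 v) _ (comp_mem S.dec 1 v), hQ⟩).map hiso
    have hM := hconj hgM (comp_mem S.dec 0 v) (comp_mem S.dec 1 v) hQ
    have hca : 𝕗 c a = 0 := by rw [← hacd, add_right hf, hcd.left, hcd.orth, add_zero]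
    have hda : 𝕗 d a = 0 := by rw [← hacd, add_right hf, hcd.right, hcd.orth' hf, add_zero]
    by_cases hdb : 𝕗 d b = 0
    · have hcb : 𝕗 c b = 0 := by
        have := R.ab; rw [← hacd, hf.add_left, hdb, add_zero] at this; exact this
      refine hc (centre_of_plane hF S R he0 he hM hcd hca hcb hda hdb ?_)
      by_contra h
      push Not at h
      have h1 : 𝕗 c b' + 𝕗 d b' = 1 := by rw [← hf.add_left, hacd, R.ab']
      have h2 : 𝕗 c a' + 𝕗 d a' = 0 := by
        rw [← hf.add_left, hacd]; exact S.ts l _ hl _ R.ha'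
      have h3 : 𝕗 c a' = 0 := mul_self_eq_zero.mp (by linear_combination 𝕗 c a' * h2 - h.2)
      have h4 : 𝕗 d a' = 0 := by linear_combination h2 - h3
      have hcl := R.expand hF S c
      rw [hca, hcb, h3, zero_smul, zero_smul, zero_smul, add_zero, add_zero, add_zero] at hcl
      have hdl := R.expand hF S d
      rw [hda, hdb, h4, zero_smul, zero_smul, zero_smul, add_zero, add_zero, add_zero] at hdl
      have hzero : (g : Matrix (Fin 4) (Fin 4) F) *ᵥ (𝕗 d b' • p - 𝕗 c b' • r) = 0 := by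
        rw [mulVec_sub, mulVec_smul, mulVec_smul, ← hcdef, ← hddef]
        conv_lhs => arg 1; rw [hcl]
        conv_lhs => arg 2; rw [hdl]
        module
      have h5 : 𝕗 d b' • p - 𝕗 c b' • r = 0 := gl_mulVec_injective g (by
        show (g : Matrix (Fin 4) (Fin 4) F) *ᵥ _ = (g : Matrix (Fin 4) (Fin 4) F) *ᵥ 0
        rw [hzero, mulVec_zero])
      have e0 := congrArg (comp S.dec 0) h5
      have e1 := congrArg (comp S.dec 1) h5
      rw [map_sub, map_smul, map_smul, comp_self S.dec (comp_mem S.dec 0 v),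
        comp_other S.dec h01 (comp_mem S.dec 1 v), smul_zero, sub_zero, map_zero,
        smul_eq_zero] at e0
      rw [map_sub, map_smul, map_smul, comp_self S.dec (comp_mem S.dec 1 v),
        comp_other S.dec h01.symm (comp_mem S.dec 0 v), smul_zero, zero_sub, map_zero, neg_eq_zero,
        smul_eq_zero] at e1
      rw [e0.resolve_right hp0, e1.resolve_right hr0, add_zero] at h1
      exact zero_ne_one h1
    · obtain ⟨s, hs⟩ := exists_add_ne_zero hf
      have hps : IsPlane 𝕗 c (s • d) := ⟨hcd.left, by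
        rw [hf.smul_left, smul_right hf, hcd.right]; ring, by
        rw [smul_right hf, hcd.orth, mul_zero]⟩
      set h := ueich 𝕗 e c (s • d) with hh
      set w := (h : Matrix (Fin 4) (Fin 4) F) *ᵥ b with hw
      have hbc : 𝕗 b c = - 𝕗 b d := by
        have : 𝕗 b (c + d) = 0 := by rw [hacd]; exact hba
        rw [add_right hf] at this
        linear_combination this
      have hfix : (h : Matrix (Fin 4) (Fin 4) F) *ᵥ a = a := by
        rw [hh, ueich_mulVec hf e hps, swap_eq_zero hf hca, smul_right hf, swap_eq_zero hf hda]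
        simp
      have hiso' := ueich_isometry hf he hps
      have hab : IsPlane 𝕗 a b := R.plane hF S
      have hwM : ueich 𝕗 e a w ∈ M := by
        rw [← hfix, hw, ← conj_ueich hf hiso' e hab]
        exact M.mul_mem (M.mul_mem (hM s) (ueich_mem hF S R.ne he R.ha R.hb R.ab))
          (M.inv_mem (hM s))
      have hwp : IsPlane 𝕗 a w := by
        have := hab.map hiso'
        rwa [hfix] at this
      refine hc (centre_of_common hF S R he0 he hwp ?_ hwM)
      rw [hw, hh, ueich_mulVec hf e hps, smul_right hf, hbc]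
      simp only [hf.add_left, hf.smul_left, hab.right, hf.herm d b, hf.herm c b, hbc, map_neg]
      intro h
      have hbd : σ (𝕗 b d) ≠ 0 := fun e0 => hdb (by rw [hf.herm, e0])
      have hbd' : 𝕗 b d ≠ 0 := fun e0 => hdb (swap_eq_zero hf e0)
      have h7 : e * (𝕗 b d * σ (𝕗 b d)) * (s + σ s) = 0 := by linear_combination -h
      exact hs ((mul_eq_zero.mp h7).resolve_left (mul_ne_zero he0 (mul_ne_zero hbd' hbd)))
  -- a vector of a plane mapped into a plane
  obtain ⟨v, hv0, hv, hQ⟩ : ∃ v, v ≠ 0 ∧ (g : Matrix (Fin 4) (Fin 4) F) *ᵥ v ∈ D 0 ∧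
      𝕗 (comp S.dec 0 v) (comp S.dec 1 v) = 0 := by
    obtain ⟨u, hu, hu0⟩ := Submodule.exists_mem_ne_zero_of_ne_bot (block_ne_bot S.dec 0)
    obtain ⟨u', hu', hu'S⟩ : ∃ u' ∈ D 0, u' ∉ Submodule.span F {u} := by
      by_contra h
      push Not at h
      have := Submodule.finrank_mono (show D 0 ≤ Submodule.span F {u} from h)
      rw [S.dec.finrank_eq, finrank_span_singleton hu0] at this
      omega
    set x := ((g⁻¹ : GL (Fin 4) F) : Matrix (Fin 4) (Fin 4) F) *ᵥ u with hx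
    set y := ((g⁻¹ : GL (Fin 4) F) : Matrix (Fin 4) (Fin 4) F) *ᵥ u' with hy
    have hWts : ∀ z z', (g : Matrix (Fin 4) (Fin 4) F) *ᵥ z ∈ D 0 →
        (g : Matrix (Fin 4) (Fin 4) F) *ᵥ z' ∈ D 0 → 𝕗 z z' = 0 := fun z z' h1 h2 => by
      rw [← hiso]; exact S.ts 0 _ h1 _ h2
    have hgx : (g : Matrix (Fin 4) (Fin 4) F) *ᵥ x ∈ D 0 := by rw [hx, gl_mulVec_inv]; exact hu
    have hgy : (g : Matrix (Fin 4) (Fin 4) F) *ᵥ y ∈ D 0 := by rw [hy, gl_mulVec_inv]; exact hu'
    let Q : (Fin 4 → F) → (Fin 4 → F) → F := fun z z' => 𝕗 (comp S.dec 0 z) (comp S.dec 1 z')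
    have hsk : ∀ z z', (g : Matrix (Fin 4) (Fin 4) F) *ᵥ z ∈ D 0 →
        (g : Matrix (Fin 4) (Fin 4) F) *ᵥ z' ∈ D 0 → Q z z' + σ (Q z' z) = 0 := by
      intro z z' h1 h2
      have h := hWts z z' h1 h2
      rw [← comp_add S.dec h01 z, ← comp_add S.dec h01 z', hf.add_left, add_right hf,
        add_right hf, S.ts 0 _ (comp_mem S.dec 0 z) _ (comp_mem S.dec 0 z'),
        S.ts 1 _ (comp_mem S.dec 1 z) _ (comp_mem S.dec 1 z'), zero_add, add_zero,
        hf.herm (comp S.dec 1 z)] at h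
      exact h
    have hexp : ∀ s : F, Q (x + s • y) (x + s • y) =
        Q x x + σ s * Q x y + s * Q y x + s * σ s * Q y y := fun s => by
      simp only [Q, map_add, map_smul, hf.add_left, add_right hf, hf.smul_left, smul_right hf]
      ring
    have hne : ∀ s : F, x + s • y ≠ 0 := fun s h => by
      refine hu'S (Submodule.mem_span_singleton.mpr ?_)
      have h1 : u + s • u' = 0 := by
        have := congrArg (fun z => (g : Matrix (Fin 4) (Fin 4) F) *ᵥ z) h
        simpa [mulVec_add, mulVec_smul, hx, hy, gl_mulVec_inv] using this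
      have hs0 : s ≠ 0 := fun e0 => hu0 (by simpa [e0] using h1)
      exact ⟨-s⁻¹, by rw [eq_neg_of_add_eq_zero_left h1, smul_neg, neg_smul, neg_neg, smul_smul,
        inv_mul_cancel₀ hs0, one_smul]⟩
    have hmem : ∀ s : F, (g : Matrix (Fin 4) (Fin 4) F) *ᵥ (x + s • y) ∈ D 0 := fun s => by
      rw [mulVec_add, mulVec_smul]; exact (D 0).add_mem hgx ((D 0).smul_mem _ hgy)
    by_cases hyy : Q y y = 0
    · refine ⟨y, fun e0 => hu'S ?_, hgy, hyy⟩
      have : u' = 0 := by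
        rw [← gl_mulVec_inv g u', ← hy, e0, mulVec_zero]
      rw [this]; exact Submodule.zero_mem _
    -- complete the square
    set A := -(Q x y) / Q y y
    have hxy := hsk x y hgx hgy
    have hxx := hsk x x hgx hgx
    have hyy' := hsk y y hgy hgy
    have hσy : σ (Q y y) = - Q y y := by linear_combination hyy'
    have hσx : σ (Q x x) = - Q x x := by linear_combination hxx
    have hσxy : σ (Q x y) = - Q y x := by linear_combination hsk y x hgy hgx
    set T := (Q x y * σ (Q x y) / Q y y + Q x x) / (-(Q y y))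
    have hT : σ T = T := by
      simp only [T, map_div₀, map_add, map_neg, map_mul, hf.involutive, hσy, hσx]
      field_simp
      ring
    obtain ⟨z, hz⟩ := exists_norm hf hT
    refine ⟨x + (A + z) • y, hne _, hmem _, ?_⟩
    show Q (x + (A + z) • y) (x + (A + z) • y) = 0
    rw [hexp]
    have hσA : σ A = -(Q y x) / Q y y := by
      simp only [A, map_div₀, map_neg, hσxy, hσy]
      field_simp
    have hQyx : Q y x = - σ (Q x y) := by linear_combination hσxy
    rw [map_add, hσA]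
    simp only [A, T] at hz ⊢
    field_simp at hz ⊢
    rw [hQyx] at *
    linear_combination hz
  -- reduce to an element fixing a point of a plane
  obtain ⟨k, hk⟩ : ∃ k, v ∈ D k := by
    by_contra h
    push Not at h
    refine hgen v ⟨0, hv⟩ hQ (fun e0 => h 1 ?_) (fun e0 => h 0 ?_)
    · rw [← comp_add S.dec h01 v, e0, zero_add]; exact comp_mem S.dec 1 v
    · rw [← comp_add S.dec h01 v, e0, add_zero]; exact comp_mem S.dec 0 v
  obtain ⟨g1, hg1M, hg1, hg1v⟩ : ∃ g1 ∈ M, g1 ∉ Cfsg.Geo.decompositionStabilizer D ∧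
      (g1 : Matrix (Fin 4) (Fin 4) F) *ᵥ v ∈ D k := by
    by_cases hk0 : k = 0
    · exact ⟨g, hgM, hg, hk0 ▸ hv⟩
    obtain ⟨T, hT, hTd, hT0, hT1⟩ := exists_swap hf S.dec S.ts he0 he (Ne.symm hk0)
    have hTs : T ∈ Cfsg.Geo.decompositionStabilizer D := mem_stabilizer_of_mapsTo S.dec fun l => by
      by_cases hl : l = 0
      · exact ⟨k, hl ▸ hT0⟩
      · exact ⟨0, (other hF l 0 k (Ne.symm hk0) hl) ▸ hT1⟩
    refine ⟨T * g, M.mul_mem (S.stab T hTs hT hTd) hgM, fun h => hg ?_, ?_⟩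
    · simpa using Subgroup.mul_mem _ (Subgroup.inv_mem _ hTs) h
    · rw [gl_mul_mulVec]; exact hT0 _ hv
  obtain ⟨g2, hg2M, hg2, θ, hθ, hg2v⟩ : ∃ g2 ∈ M, g2 ∉ Cfsg.Geo.decompositionStabilizer D ∧
      ∃ θ : F, θ ≠ 0 ∧ (g2 : Matrix (Fin 4) (Fin 4) F) *ᵥ v = θ • v := by
    set p := (g1 : Matrix (Fin 4) (Fin 4) F) *ᵥ v with hp
    have hp0 : p ≠ 0 := fun e0 => hv0 (gl_mulVec_injective g1 (by
      show (g1 : Matrix (Fin 4) (Fin 4) F) *ᵥ v = (g1 : Matrix (Fin 4) (Fin 4) F) *ᵥ 0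
      rw [← hp, e0, mulVec_zero]))
    by_cases hmem : v ∈ Submodule.span F {p}
    · obtain ⟨s, hs⟩ := Submodule.mem_span_singleton.mp hmem
      have hs0 : s ≠ 0 := fun e0 => hv0 (by rw [← hs, e0, zero_smul])
      refine ⟨g1, hg1M, hg1, s⁻¹, inv_ne_zero hs0, ?_⟩
      rw [← hp]
      conv_rhs => rw [← hs, smul_smul, inv_mul_cancel₀ hs0, one_smul]
    · obtain ⟨m, hm⟩ : ∃ m, k ≠ m := ⟨k + 1, by fin_cases k <;> decide⟩
      have hnot : p ∉ Submodule.span F {v - p} := fun h => by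
        obtain ⟨s, hs⟩ := Submodule.mem_span_singleton.mp h
        have hs0 : s ≠ 0 := fun e0 => hp0 (by rw [← hs, e0, zero_smul])
        refine hmem (Submodule.mem_span_singleton.mpr ⟨s⁻¹ + 1, ?_⟩)
        rw [add_smul, one_smul]
        nth_rw 1 [← hs]
        rw [smul_smul, inv_mul_cancel₀ hs0, one_smul, sub_add_cancel]
      obtain ⟨φ, hφ, hφp⟩ := exists_functional hnot
      obtain ⟨b, hb, hbφ⟩ := exists_dual hf S.dec S.ts hm (e⁻¹ • φ)
      have hvp : v - p ∈ D k := (D k).sub_mem hk hg1v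
      have hab : 𝕗 (v - p) b = 0 := by
        rw [hbφ _ hvp, smul_dotProduct, hφ _ (Submodule.mem_span_singleton_self _), smul_zero]
      have hpl : IsPlane 𝕗 (v - p) b := ⟨S.ts k _ hvp _ hvp, S.ts m b hb b hb, hab⟩
      set h := ueich 𝕗 e (v - p) b with hh
      have hhs : h ∈ Cfsg.Geo.decompositionStabilizer D :=
        mem_stabilizer_of_fix fun l => mem_subspaceStabilizer_iff.mpr fun x hx => by
          rw [hh, ueich_mulVec hf e hpl]
          by_cases hl : l = k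
          · subst hl
            rw [S.ts l x hx _ hvp, mul_zero, zero_smul, add_zero]
            exact (D l).add_mem hx ((D l).smul_mem _ hvp)
          · obtain rfl := other hF l k m hm hl
            rw [S.ts l x hx b hb, mul_zero, zero_smul, add_zero]
            exact (D l).add_mem hx ((D l).smul_mem _ hb)
      refine ⟨h * g1, M.mul_mem (ueich_mem hF S hm he hvp hb hab) hg1M, fun h' => hg1 ?_, 1,
        one_ne_zero, ?_⟩
      · simpa using Subgroup.mul_mem _ (Subgroup.inv_mem _ hhs) h'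
      · rw [gl_mul_mulVec, ← hp, hh, ueich_mulVec hf e hpl, S.ts k p hg1v _ hvp, mul_zero,
          zero_smul, add_zero, hbφ p hg1v, smul_dotProduct, hφp, smul_eq_mul, mul_one,
          mul_inv_cancel₀ he0, one_smul, add_sub_cancel, one_smul]
  obtain ⟨m, hm⟩ : ∃ m, k ≠ m := ⟨k + 1, by fin_cases k <;> decide⟩
  obtain ⟨b, hb, hbS, hba⟩ := exists_perp_one hf S.dec m (⊥ : Submodule F (Fin 4 → F)) v
    (by rw [finrank_bot]; omega)
  have hb0 : b ≠ 0 := by simpa using hbS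
  obtain ⟨a', b', R⟩ := exists_frame hF S hm hk hb hv0 hb0 (swap_eq_zero hf hba)
  have hji := R.symm hF
  have hi2 := S.iso g2 hg2M
  set d := (g2 : Matrix (Fin 4) (Fin 4) F) *ᵥ b with hddef
  have hpl := R.plane hF S
  have hpl' : IsPlane 𝕗 (θ • v) d := by
    have := hpl.map hi2
    rwa [hg2v] at this
  have hMd : ∀ t : F, ueich 𝕗 e (θ • v) (t • d) ∈ M := by
    intro t
    have hp : IsPlane 𝕗 v (t • b) := ⟨hpl.left, by
      rw [hf.smul_left, smul_right hf, hpl.right]; ring, by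
      rw [smul_right hf, hpl.orth, mul_zero]⟩
    rw [← hg2v, hddef, ← mulVec_smul, ← conj_ueich hf hi2 e hp]
    exact M.mul_mem (M.mul_mem hg2M (ueich_mem hF S hm he hk ((D m).smul_mem t hb) hp.orth))
      (M.inv_mem hg2M)
  have hdv : 𝕗 d v = 0 := by
    have := hpl'.orth
    rw [hf.smul_left, mul_eq_zero] at this
    exact swap_eq_zero hf (this.resolve_left hθ)
  by_cases hdb : 𝕗 d b = 0
  swap
  · have hp2 : IsPlane 𝕗 v (σ θ • d) := ⟨hpl.left, by
      rw [hf.smul_left, smul_right hf, hpl'.right]; ring, by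
      rw [smul_right hf, swap_eq_zero hf hdv, mul_zero]⟩
    refine hc (centre_of_common hF S R he0 he hp2 ?_ ?_)
    · rw [hf.smul_left]
      exact mul_ne_zero (by simpa using hθ) hdb
    · have := hMd 1
      rw [one_smul] at this
      convert this using 1
      refine gl_ext fun x => ?_
      rw [ueich_mulVec hf e hp2, ueich_mulVec hf e hpl', smul_right hf, smul_right hf,
        hf.involutive]
      module
  have hd_eq : d = 𝕗 d b' • v + 𝕗 d a' • b := by
    conv_lhs => rw [R.expand hF S d, hdv, hdb, zero_smul, zero_smul, add_zero, add_zero]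
  have hdb' : 𝕗 d b' = 0 := by
    by_contra h
    refine hc (centre_of_plane hF S R he0 he hMd hpl' (by rw [hf.smul_left, hpl.left, mul_zero])
      (by rw [hf.smul_left, hpl.orth, mul_zero]) hdv hdb (Or.inl ?_))
    rw [hf.smul_left, R.ab', mul_one]
    exact mul_ne_zero hθ h
  rw [hdb', zero_smul, zero_add] at hd_eq
  set y := 𝕗 d a'
  have hy : y ≠ 0 := fun e0 => hb0 (gl_mulVec_injective g2 (by
    show (g2 : Matrix (Fin 4) (Fin 4) F) *ᵥ b = (g2 : Matrix (Fin 4) (Fin 4) F) *ᵥ 0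
    rw [← hddef, hd_eq, e0, zero_smul, mulVec_zero]))
  set A := (g2 : Matrix (Fin 4) (Fin 4) F) *ᵥ a' with hAdef
  set B := (g2 : Matrix (Fin 4) (Fin 4) F) *ᵥ b' with hBdef
  have hAv : 𝕗 A v = 0 := by
    have := hi2 a' v
    rw [hg2v, smul_right hf, S.ts k _ R.ha' _ hk, mul_eq_zero] at this
    exact this.resolve_left (by simpa using hθ)
  have hBb : 𝕗 B b = 0 := by
    have := hi2 b' b
    rw [← hddef, hd_eq, smul_right hf, S.ts m _ R.hb' _ hb, mul_eq_zero] at this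
    exact this.resolve_left (by simpa using hy)
  have hAb : 𝕗 A b * σ y = 1 := by
    have := hi2 a' b
    rw [← hddef, hd_eq, smul_right hf, R.a'b] at this
    rw [mul_comm]; exact this
  have hBv : 𝕗 B v * σ θ = 1 := by
    have := hi2 b' v
    rw [hg2v, smul_right hf, hji.a'b] at this
    rw [mul_comm]; exact this
  have hA : A = 𝕗 A b' • v + 𝕗 A b • a' + 𝕗 A a' • b := by
    conv_lhs => rw [R.expand hF S A, hAv, zero_smul, add_zero]
  have hB : B = 𝕗 B b' • v + 𝕗 B a' • b + 𝕗 B v • b' := by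
    conv_lhs => rw [R.expand hF S B, hBb, zero_smul, add_zero]
  -- the two shears
  set r2 := 𝕗 A a' / y
  set r1 := 𝕗 B b' / θ
  have hskew : ∀ {u w z : F}, u * σ w + w * σ u = 0 → w * σ z = 1 → z ≠ 0 →
      u / z + σ (u / z) = 0 := by
    intro u w z h1 h2 hz
    have hσz : σ z ≠ 0 := by simpa using hz
    have h2' : σ w * z = 1 := by
      have := congrArg σ h2
      rwa [map_mul, hf.involutive, map_one] at this
    rw [map_div₀]
    field_simp
    linear_combination (z * σ z) * h1 - (u * σ z) * h2' - (z * σ u) * h2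
  have hAA : 𝕗 A a' * σ (𝕗 A b) + 𝕗 A b * σ (𝕗 A a') = 0 := by
    have h0 : 𝕗 A A = 0 := by rw [hAdef, hi2]; exact S.ts k _ R.ha' _ R.ha'
    conv at h0 => lhs; arg 5; rw [hA]
    rw [add_right hf, add_right hf, smul_right hf, smul_right hf, smul_right hf, hAv] at h0
    linear_combination h0
  have hBB : 𝕗 B b' * σ (𝕗 B v) + 𝕗 B v * σ (𝕗 B b') = 0 := by
    have h0 : 𝕗 B B = 0 := by rw [hBdef, hi2]; exact S.ts m _ R.hb' _ R.hb'
    conv at h0 => lhs; arg 5; rw [hB]
    rw [add_right hf, add_right hf, smul_right hf, smul_right hf, smul_right hf, hBb] at h0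
    linear_combination h0
  have hr1 : r1 + σ r1 = 0 := hskew hBB hBv hθ
  have hr2 : r2 + σ r2 = 0 := hskew hAA hAb hy
  have hvv := hpl.left
  have hbb := hpl.right
  set s := tv v (r1 • formVec 𝕗 v) * tv b (r2 • formVec 𝕗 b) with hsdef
  have hs : ∀ x, (s : Matrix (Fin 4) (Fin 4) F) *ᵥ x =
      x + (r2 * 𝕗 x b) • b + (r1 * 𝕗 x v) • v := fun x => by
    rw [hsdef, gl_mul_mulVec, utv_mulVec hf hvv, utv_mulVec hf hbb]
    simp only [hf.add_left, hf.smul_left, hba, mul_zero, add_zero]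
  have hsiso : ∀ x z, 𝕗 ((s : Matrix (Fin 4) (Fin 4) F) *ᵥ x) ((s : Matrix (Fin 4) (Fin 4) F) *ᵥ z)
      = 𝕗 x z := fun x z => by
    rw [hsdef, gl_mul_mulVec, gl_mul_mulVec, utv_isometry hf hvv hr1, utv_isometry hf hbb hr2]
  have hinv : ∀ {x}, ∀ z, (s : Matrix (Fin 4) (Fin 4) F) *ᵥ z = x →
      ((s⁻¹ : GL (Fin 4) F) : Matrix (Fin 4) (Fin 4) F) *ᵥ x = z := fun z hz => by
    rw [← hz, gl_inv_mulVec]
  set h := g2 * s⁻¹ with hhdef
  have hhst : h ∈ Cfsg.Geo.decompositionStabilizer D := by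
    have e1 : (h : Matrix (Fin 4) (Fin 4) F) *ᵥ v = θ • v := by
      rw [hhdef, gl_mul_mulVec, hinv v (by rw [hs, hvv, hpl.orth]; simp), hg2v]
    have e2 : (h : Matrix (Fin 4) (Fin 4) F) *ᵥ b = y • b := by
      rw [hhdef, gl_mul_mulVec, hinv b (by rw [hs, hbb, hba]; simp), ← hddef, hd_eq]
    have e3 : (h : Matrix (Fin 4) (Fin 4) F) *ᵥ a' = 𝕗 A b' • v + 𝕗 A b • a' := by
      rw [hhdef, gl_mul_mulVec, hinv (a' - r2 • b) (by
        have hb1 : ∀ z, 𝕗 (a' - r2 • b) z = 𝕗 a' z - r2 * 𝕗 b z := fun z => by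
          rw [sub_eq_add_neg, ← neg_smul, hf.add_left, hf.smul_left]; ring
        rw [hs, hb1, hb1, R.a'b, S.ts k _ R.ha' _ hk, hbb, hba]
        module), mulVec_sub, mulVec_smul, ← hAdef, ← hddef, hd_eq, smul_smul,
        div_mul_cancel₀ _ hy]
      conv_lhs => arg 1; rw [hA]
      module
    have e4 : (h : Matrix (Fin 4) (Fin 4) F) *ᵥ b' = 𝕗 B a' • b + 𝕗 B v • b' := by
      rw [hhdef, gl_mul_mulVec, hinv (b' - r1 • v) (by
        have hb1 : ∀ z, 𝕗 (b' - r1 • v) z = 𝕗 b' z - r1 * 𝕗 v z := fun z => by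
          rw [sub_eq_add_neg, ← neg_smul, hf.add_left, hf.smul_left]; ring
        rw [hs, hb1, hb1, hji.a'b, S.ts m _ R.hb' _ hb, hvv, hpl.orth]
        module), mulVec_sub, mulVec_smul, ← hBdef, hg2v, smul_smul, div_mul_cancel₀ _ hθ]
      conv_lhs => arg 1; rw [hB]
      module
    refine mem_stabilizer_of_mapsTo S.dec fun l => ⟨l, fun x hx => ?_⟩
    rw [R.expand hF S x, mulVec_add, mulVec_add, mulVec_add, mulVec_smul, mulVec_smul, mulVec_smul,
      mulVec_smul, e1, e2, e3, e4]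
    by_cases hl : l = k
    · subst hl
      rw [S.ts l x hx v hk, S.ts l x hx a' R.ha', zero_smul, zero_smul, add_zero, add_zero]
      exact (D l).add_mem ((D l).smul_mem _ ((D l).smul_mem _ hk)) ((D l).smul_mem _
        ((D l).add_mem ((D l).smul_mem _ hk) ((D l).smul_mem _ R.ha')))
    · obtain rfl := other hF l k m hm hl
      rw [S.ts l x hx b hb, S.ts l x hx b' R.hb', zero_smul, zero_smul, zero_add, zero_add]
      exact (D l).add_mem ((D l).smul_mem _ ((D l).smul_mem _ hb)) ((D l).smul_mem _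
        ((D l).add_mem ((D l).smul_mem _ hb) ((D l).smul_mem _ R.hb')))
  have hsdet : s ∈ Cfsg.Geo.specialLinear (Fin 4) F :=
    mul_mem (tv_mem_specialLinear _ _) (tv_mem_specialLinear _ _)
  have hhM : h ∈ M := S.stab h hhst (fun x z => by
    rw [hhdef, gl_mul_mulVec, gl_mul_mulVec, hi2, ← hsiso (((s⁻¹ : GL (Fin 4) F) : Matrix _ _ F) *ᵥ x),
      gl_mulVec_inv, gl_mulVec_inv]) (mul_mem (S.det g2 hg2M) (inv_mem hsdet))
  have hsM : s ∈ M := by
    have := M.mul_mem (M.inv_mem hhM) hg2M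
    rwa [hhdef, _root_.mul_inv_rev, inv_inv, inv_mul_cancel_right] at this
  by_cases h0 : r1 ≠ 0 ∨ r2 ≠ 0
  · exact hc (centre_of_sep' hF S R hr1 hr2 h0 hsM)
  push Not at h0
  refine hg2 ?_
  have hs1 : s = 1 := by
    rw [hsdef, h0.1, h0.2, zero_smul, zero_smul, tv_zero_right, tv_zero_right, one_mul]
  rwa [hhdef, hs1, inv_one, mul_one] at hhst

/-- An overgroup of the stabiliser outside it has every isotropic vector as a centre. -/
theorem centers_all {g : GL (Fin 4) F} (hgM : g ∈ M)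
    (hg : g ∉ Cfsg.Geo.decompositionStabilizer D) :
    ∀ z, 𝕗 z z = 0 → UnitCenter σ 𝕗 M z := by
  have hf := hf4 hF
  obtain ⟨e, he0, he⟩ := exists_skew_scalar hf
  obtain ⟨i, a, ha, ha0, haC⟩ := exists_centre hF S hgM hg
  obtain ⟨j, hij⟩ : ∃ j, i ≠ j := ⟨i + 1, by fin_cases i <;> decide⟩
  have hE : ∀ {i j : Fin 2}, i ≠ j → ∀ p ∈ D i, ∀ r ∈ D j, 𝕗 p r = 0 → ueich 𝕗 e p r ∈ M :=
    fun hij p hp r hr h => ueich_mem hF S hij he hp hr h
  have hCi := centre_spread hf S.dec S.ts he0 he hij (hE hij) ha ha0 haC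
  obtain ⟨T, hT, hTdet, hTi, hTj⟩ := exists_swap hf S.dec S.ts he0 he hij
  have hTM : T ∈ M := S.stab T (mem_stabilizer_of_mapsTo S.dec fun l => by
    by_cases hl : l = i
    · exact ⟨j, hl ▸ hTi⟩
    · exact ⟨i, (other hF l i j hij hl) ▸ hTj⟩) hT hTdet
  have hCj : ∀ u ∈ D j, UnitCenter σ 𝕗 M u := centre_spread hf S.dec S.ts he0 he hij.symm
    (hE hij.symm) (hTi a ha) (fun e0 => ha0 (gl_mulVec_injective T (by simpa using e0)))
    (unitCenter_conj hf haC hTM hT)
  have hadd : ∀ v, UnitCenter σ 𝕗 M v → ∀ w ∈ D j, 𝕗 v w ≠ 0 → 𝕗 v w + σ (𝕗 v w) = 0 →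
      UnitCenter σ 𝕗 M (v + w) := by
    intro v hv w hw hne htr
    have := unitCenter_move hf (hCj w hw) hv (a := (𝕗 v w)⁻¹)
      (by rw [map_inv₀, eq_neg_of_add_eq_zero_right htr, inv_neg, add_neg_cancel])
    rwa [inv_mul_cancel₀ hne, one_smul] at this
  intro z hz
  set z0 := comp S.dec i z with hz0
  set z1 := comp S.dec j z with hz1
  have hz0m : z0 ∈ D i := comp_mem S.dec i z
  have hz1m : z1 ∈ D j := comp_mem S.dec j z
  rw [← comp_add S.dec hij z, ← hz0, ← hz1] at hz ⊢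
  rcases eq_or_ne z0 0 with he1 | he1
  · rw [he1, zero_add]; exact hCj z1 hz1m
  have htr : 𝕗 z0 z1 + σ (𝕗 z0 z1) = 0 := by
    rw [hf.add_left, add_right hf, add_right hf, S.ts i _ hz0m _ hz0m, S.ts j _ hz1m _ hz1m,
      hf.herm z1 z0] at hz
    linear_combination hz
  by_cases hzz : 𝕗 z0 z1 = 0
  · obtain ⟨⟨y, hy⟩, -⟩ := hf.nondegenerate z0 he1
    have hy' : 𝕗 z0 (comp S.dec j y) ≠ 0 := by
      rw [← form_comp hf S.dec S.ts hij hz0m]
      exact fun h => hy (swap_eq_zero hf h)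
    set u := σ (e / 𝕗 z0 (comp S.dec j y)) • comp S.dec j y with hu
    have hum : u ∈ D j := (D j).smul_mem _ (comp_mem S.dec j y)
    have hzu : 𝕗 z0 u = e := by
      rw [hu, smul_right hf, hf.involutive, div_mul_cancel₀ e hy']
    have h1 := hadd z0 (hCi z0 hz0m) u hum (by rwa [hzu]) (by rwa [hzu])
    have hval : 𝕗 (z0 + u) (z1 - u) = -e := by
      rw [hf.add_left, S.ts j u hum _ ((D j).sub_mem hz1m hum), add_zero, sub_right hf, hzz, hzu,
        zero_sub]
    have h3 := hadd _ h1 (z1 - u) ((D j).sub_mem hz1m hum)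
      (by rw [hval]; exact neg_ne_zero.mpr he0)
      (by rw [hval, map_neg]; linear_combination -he)
    rwa [add_assoc, add_sub_cancel] at h3
  · exact hadd z0 (hCi z0 hz0m) z1 hz1m hzz htr

end Cfsg.Agent.Lib.Subspaces.UnitPlanesFour
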