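import Cfsg.Agent.Lib.Subspaces.UnitBlock

/-!
A subgroup containing the determinant one stabiliser of an orthogonal decomposition into blocks of
dimension at least two and an element outside it has every isotropic vector as a centre.
-/

set_option autoImplicit false

namespace Cfsg.Agent.Lib.Subspaces.UnitBlockCentres

open Matrix Cfsg.Agent.Lib.Subspaces.Transvection Cfsg.Agent.Lib.Subspaces.FormVec
  Cfsg.Agent.Lib.Subspaces.UnitaryForm Cfsg.Agent.Lib.Subspaces.UnitaryGen
  Cfsg.Agent.Lib.Subspaces.UnitarySplit Cfsg.Agent.Lib.Subspaces.Decomposition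
  Cfsg.Agent.Lib.Subspaces.UnitBlock
  Cfsg.Agent.Lib.Unitary

variable {F : Type*} [Field F] [Fintype F] {q n : ℕ} {t k : ℕ}
  {D : Fin t → Submodule F (Fin n → F)}

local notation "𝕗" => Cfsg.hermForm n F q

/-- The isometries of determinant one stabilising the decomposition lie in `M`. -/
def StabIn (q : ℕ) (D : Fin t → Submodule F (Fin n → F)) (M : Subgroup (GL (Fin n) F)) : Prop :=
  ∀ g : GL (Fin n) F, g ∈ Cfsg.Geo.decompositionStabilizer D → g ∈ Cfsg.GU n F q →
    g ∈ Cfsg.Geo.specialLinear (Fin n) F → g ∈ M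

variable (hF : Fintype.card F = q ^ 2) (hD : Cfsg.Geo.IsNondegenerateMDecomposition (Cfsg.hermForm n F q) k D)
  (hk : 2 ≤ k) {M : Subgroup (GL (Fin n) F)} (hH : StabIn q D M)

include hD hH in
theorem block_centre {i : Fin t} {u : Fin n → F} (hu : u ∈ D i) (hu0 : 𝕗 u u = 0) :
    UnitCenter (powAut hF) 𝕗 M u := by
  have hf := hermForm_isUnitary (n := n) hF
  refine ⟨hu0, fun a ha => hH _ (mem_stabilizer_of_mapsTo hD.decomp fun l => ⟨l, fun x hx => ?_⟩)
    (mem_GU_iff'.mpr (utv_isometry hf hu0 ha)) (tv_mem_specialLinear _ _)⟩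
  rw [utv_mulVec hf hu0]
  by_cases h : l = i
  · subst h; exact (D l).add_mem hx ((D l).smul_mem _ hu)
  · rw [hD.orthogonal l i h x hx u hu, mul_zero, zero_smul, add_zero]; exact hx

include hD hk hH in
/-- From a centre with two non-zero components, a two block centre with anisotropic components. -/
theorem two_block_centre {x : Fin n → F} (hx : UnitCenter (powAut hF) 𝕗 M x) {i j : Fin t}
    (hij : i ≠ j) (hi : comp hD.decomp i x ≠ 0) (hj : comp hD.decomp j x ≠ 0) {r : F}
    (hr : powAut hF r = r) (hr0 : r ≠ 0) :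
    ∃ a ∈ D i, ∃ b ∈ D j, 𝕗 a a = r ∧ 𝕗 b b = -r ∧ UnitCenter (powAut hF) 𝕗 M (a + b) := by
  have hf := hermForm_isUnitary (n := n) hF
  obtain ⟨l, hl, hlre⟩ := exists_norm_one_nonreal hF
  set σ := powAut hF
  have hl0 : l ≠ 0 := fun e => by rw [e, zero_mul] at hl; exact zero_ne_one hl
  have hl1 : l ≠ 1 := fun e => hlre (by rw [e, map_one])
  set δ := (l - 1) * σ (l - 1) with hδdef
  have hδ : δ ≠ 0 := mul_ne_zero (sub_ne_zero.mpr hl1) (by
    simpa [sub_eq_zero] using hl1)
  have hσδ : σ δ = δ := by rw [hδdef, map_mul, hf.involutive, mul_comm]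
  set ρ := r / δ with hρdef
  have hρ : σ ρ = ρ := by rw [hρdef, map_div₀, hr, hσδ]
  have hρ0 : ρ ≠ 0 := div_ne_zero hr0 hδ
  obtain ⟨c, hc⟩ := norm_surjective hF ρ hρ
  obtain ⟨c', hc'⟩ := norm_surjective hF (-ρ) (by rw [map_neg, hρ])
  have hmem := comp_mem hD.decomp
  obtain ⟨w, hw, hwx, hww⟩ := exists_dual_norm hF (nondeg_of_on (hD.nondegenerate i))
    (by rw [hD.decomp.finrank_eq]; exact hk) (hmem i x) hi 1 (r := ρ⁻¹)
    (by rw [map_inv₀, hρ]) (Or.inl one_ne_zero)
  obtain ⟨w', hw', hwx', hww'⟩ := exists_dual_norm hF (nondeg_of_on (hD.nondegenerate j))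
    (by rw [hD.decomp.finrank_eq]; exact hk) (hmem j x) hj 1 (r := (-ρ)⁻¹)
    (by rw [map_inv₀, map_neg, hρ]) (Or.inl one_ne_zero)
  rw [← form_comp hF hD hw] at hwx
  rw [← form_comp hF hD hw'] at hwx'
  have hu1 : 𝕗 (c • w) (c • w) = 1 := by
    rw [hf.smul_left, smul_right hf, ← mul_assoc, hc, hww, mul_inv_cancel₀ hρ0]
  have hu1' : 𝕗 (c' • w') (c' • w') = 1 := by
    rw [hf.smul_left, smul_right hf, ← mul_assoc, hc', hww', mul_inv_cancel₀ (neg_ne_zero.mpr hρ0)]
  have hlq : l * l ^ q = 1 := hl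
  have hσl : σ l = l⁻¹ := eq_inv_of_mul_eq_one_right hl
  obtain ⟨A, hAdet, hAu, hAfix⟩ := exists_GU_scale hF hu1 hlq
  obtain ⟨B, hBdet, hBu, hBfix⟩ := exists_GU_scale hF hu1' (inv_norm_one hF hlq)
  have hexp : ∀ (S : GU n F q) (u : Fin n → F) (z : F), 𝕗 u u = 1 → S.1.1 *ᵥ u = z • u →
      (∀ v, 𝕗 v u = 0 → S.1.1 *ᵥ v = v) → ∀ v, S.1.1 *ᵥ v = v + ((z - 1) * 𝕗 v u) • u := by
    intro S u z hu hSu hSf v
    have e1 : v = (v - 𝕗 v u • u) + 𝕗 v u • u := by abel
    conv_lhs => rw [e1]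
    rw [mulVec_add, mulVec_smul, hSu, hSf _ (by
      rw [herm_sub_left, herm_smul_left, hu, mul_one, sub_self])]
    module
  have hA := hexp A _ l hu1 hAu hAfix
  have hB := hexp B _ l⁻¹ hu1' hBu hBfix
  set T := A * B
  have hxu : 𝕗 x (c • w) = σ c := by
    rw [smul_right hf, hf.herm, hwx, map_one, mul_one]
  have hxu' : 𝕗 x (c' • w') = σ c' := by
    rw [smul_right hf, hf.herm, hwx', map_one, mul_one]
  have horth : 𝕗 w' w = 0 := hD.orthogonal j i hij.symm w' hw' w hw
  have hTx : T.1.1 *ᵥ x = x + ((l - 1) * ρ) • w + ((l⁻¹ - 1) * (-ρ)) • w' := by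
    rw [GU_mul_mulVec, hB, hA, hf.add_left, hf.smul_left, hf.smul_left, hxu, hxu',
      smul_right hf _ w' w, horth, mul_zero, mul_zero, mul_zero, add_zero, smul_smul, smul_smul]
    rw [show (l - 1) * σ c * c = (l - 1) * ρ by rw [← hc]; ring,
      show (l⁻¹ - 1) * σ c' * c' = (l⁻¹ - 1) * (-ρ) by rw [← hc']; ring]
    abel
  have hTD : ∀ m, ∀ v ∈ D m, T.1.1 *ᵥ v ∈ D m := by
    have hone : ∀ (S : GU n F q) (a : Fin t) (u : Fin n → F) (z : F), u ∈ D a →
        (∀ v, S.1.1 *ᵥ v = v + ((z - 1) * 𝕗 v u) • u) → ∀ m, ∀ v ∈ D m, S.1.1 *ᵥ v ∈ D m := by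
      intro S a u z hu hS m v hv
      rw [hS]
      by_cases h : m = a
      · subst h; exact (D m).add_mem hv ((D m).smul_mem _ hu)
      · rw [hD.orthogonal m a h v hv u hu, mul_zero, zero_smul, add_zero]; exact hv
    intro m v hv
    rw [GU_mul_mulVec]
    exact hone A i _ l ((D i).smul_mem _ hw) hA m _ (hone B j _ l⁻¹ ((D j).smul_mem _ hw') hB m v hv)
  have hTM : (T : GL (Fin n) F) ∈ M :=
    hH _ (mem_stabilizer_of_mapsTo hD.decomp fun m => ⟨m, hTD m⟩) T.2 (by
      rw [mem_specialLinear_iff]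
      show (A.1.1 * B.1.1).det = 1
      rw [Matrix.det_mul, hAdet, hBdet, mul_inv_cancel₀ hl0])
  have hTC := unitCenter_conj hf hx hTM (mem_GU_iff'.mp T.2)
  set y := T.1.1 *ᵥ x with hy
  have hyx : 𝕗 y x = ρ * (l - l⁻¹) := by
    rw [hTx, hf.add_left, hf.add_left, hf.smul_left, hf.smul_left, hx.1, hwx, hwx']
    ring
  have hne : 𝕗 y x ≠ 0 := by
    rw [hyx]; exact mul_ne_zero hρ0 (sub_ne_zero.mpr fun e => hlre (by rw [hσl, ← e]))
  have hskew : 𝕗 y x + σ (𝕗 y x) = 0 := by
    rw [hyx, map_mul, map_sub, map_inv₀, hρ, hσl, inv_inv]; ring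
  have h3 := unitCenter_move hf hx hTC (a := -(𝕗 y x)⁻¹) (by
    rw [map_neg, map_inv₀, eq_neg_of_add_eq_zero_right hskew, inv_neg, neg_neg, neg_add_cancel])
  rw [neg_mul, inv_mul_cancel₀ hne, neg_one_smul, hTx] at h3
  refine ⟨((l - 1) * ρ) • w, (D i).smul_mem _ hw, ((l⁻¹ - 1) * (-ρ)) • w', (D j).smul_mem _ hw',
    ?_, ?_, ?_⟩
  · have key : (l - 1) * σ (l - 1) * ρ = r := by rw [← hδdef, hρdef, mul_div_cancel₀ _ hδ]
    rw [hf.smul_left, smul_right hf, hww, map_mul, hρ]
    linear_combination key + (l - 1) * σ (l - 1) * ρ * mul_inv_cancel₀ hρ0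
  · have e1 : σ (l - 1) = l⁻¹ - 1 := by rw [map_sub, hσl, map_one]
    have key : (l - 1) * (l⁻¹ - 1) * ρ = r := by
      rw [← e1, ← hδdef, hρdef, mul_div_cancel₀ _ hδ]
    rw [hf.smul_left, smul_right hf, hww', map_mul, map_neg, hρ,
      show σ (l⁻¹ - 1) = l - 1 by rw [map_sub, map_inv₀, hσl, inv_inv, map_one], inv_neg]
    linear_combination -key - (l - 1) * (l⁻¹ - 1) * ρ * mul_inv_cancel₀ hρ0
  · convert h3 using 1
    abel

include hD hk hH in
/-- All isotropic vectors are centres. -/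
theorem centres_all (hex : k = 2 → q ≠ 2) {g : GL (Fin n) F} (hgM : g ∈ M)
    (hgU : g ∈ Cfsg.GU n F q) (hg : g ∉ Cfsg.Geo.decompositionStabilizer D) :
    ∀ z, 𝕗 z z = 0 → UnitCenter (powAut hF) 𝕗 M z := by
  classical
  have hf := hermForm_isUnitary (n := n) hF
  set σ := powAut hF
  have hnd := fun i => nondeg_of_on (hD.nondegenerate i)
  have hdim : ∀ i, Module.finrank F (D i) = k := hD.decomp.finrank_eq
  have hdual : ∀ (i : Fin t) (x : Fin n → F), x ∈ D i → x ≠ 0 → ∀ (s r : F), σ r = r →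
      (s ≠ 0 ∨ 3 ≤ k) → ∃ u ∈ D i, 𝕗 u x = s ∧ 𝕗 u u = r := fun i x hx hx0 s r hr hs =>
    exists_dual_norm hF (hnd i) (by rw [hdim]; exact hk) hx hx0 s hr (by rwa [hdim])
  obtain ⟨e, he0, he⟩ := exists_skew_scalar hf
  have hsk : ∀ {a}, a + σ a = 0 → σ a = -a := fun h => eq_neg_of_add_eq_zero_right h
  -- a centre with two non-zero components
  obtain ⟨x, hxC, i, j, hij, hi, hj⟩ : ∃ x, UnitCenter σ 𝕗 M x ∧ ∃ i j, i ≠ j ∧
      comp hD.decomp i x ≠ 0 ∧ comp hD.decomp j x ≠ 0 := by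
    by_contra hc
    push Not at hc
    have hsingle : ∀ {i : Fin t} {v : Fin n → F}, v ∈ D i → 𝕗 v v = 0 →
        ∀ a b, a ≠ b → comp hD.decomp a ((g : Matrix (Fin n) (Fin n) F) *ᵥ v) ≠ 0 →
        comp hD.decomp b ((g : Matrix (Fin n) (Fin n) F) *ᵥ v) = 0 := fun hv hv0 a b hab ha =>
      hc _ (unitCenter_conj hf (block_centre hF hD hH hv hv0) hgM (mem_GU_iff'.mp hgU)) a b hab ha
    apply hg
    refine mem_stabilizer_of_mapsTo hD.decomp fun i => ?_
    -- a non-zero isotropic vector in the block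
    obtain ⟨x0, hx0, hx01⟩ := exists_norm_one_of_nondeg hF (hnd i) (block_ne_bot hD.decomp i)
    have hiso : ∀ v ∈ D i, v ≠ 0 → ∃ u ∈ D i, 𝕗 u v ≠ 0 ∧ 𝕗 u u = 0 := fun v hv hv0 => by
      obtain ⟨u, hu, h1, h2⟩ := hdual i v hv hv0 1 0 (map_zero _) (Or.inl one_ne_zero)
      exact ⟨u, hu, by rw [h1]; exact one_ne_zero, h2⟩
    obtain ⟨v, hv, hvx, hvv⟩ := hiso x0 hx0 (fun h => by
      rw [h, Cfsg.Agent.Lib.Unitary.herm_zero_left] at hx01; exact zero_ne_one hx01)
    have hv0 : v ≠ 0 := fun h => hvx (by rw [h, Cfsg.Agent.Lib.Unitary.herm_zero_left])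
    obtain ⟨a, ha⟩ : ∃ a, comp hD.decomp a ((g : Matrix (Fin n) (Fin n) F) *ᵥ v) ≠ 0 := by
      by_contra h
      push Not at h
      refine hv0 (gl_mulVec_injective g ?_)
      show (g : Matrix (Fin n) (Fin n) F) *ᵥ v = (g : Matrix (Fin n) (Fin n) F) *ᵥ 0
      rw [mulVec_zero, ← sum_comp hD.decomp ((g : Matrix (Fin n) (Fin n) F) *ᵥ v)]
      exact Finset.sum_eq_zero fun l _ => h l
    refine ⟨a, ?_⟩
    have hva : ∀ b, b ≠ a → comp hD.decomp b ((g : Matrix (Fin n) (Fin n) F) *ᵥ v) = 0 :=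
      fun b hb => hsingle hv hvv a b hb.symm ha
    have hadj : ∀ p ∈ D i, 𝕗 p p = 0 → 𝕗 p v ≠ 0 →
        (g : Matrix (Fin n) (Fin n) F) *ᵥ p ∈ D a := by
      intro p hp hpp hpv
      refine mem_of_comp_eq_zero hD.decomp fun b hb => ?_
      by_contra hpb
      obtain ⟨c, hc0, hciso⟩ := exists_isotropic_shift hf (z := v) hpp hpv
      have h1 := hsingle ((D i).add_mem hv ((D i).smul_mem c hp)) hciso a b hb.symm
      rw [mulVec_add, mulVec_smul, map_add, map_smul,
        show comp hD.decomp a ((g : Matrix (Fin n) (Fin n) F) *ᵥ p) = 0 from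
          hsingle hp hpp b a hb hpb, smul_zero, add_zero] at h1
      have h2 := h1 ha
      rw [map_add, map_smul, hva b hb, zero_add, smul_eq_zero] at h2
      exact hpb (h2.resolve_left hc0)
    have hgv : (g : Matrix (Fin n) (Fin n) F) *ᵥ v ∈ D a := mem_of_comp_eq_zero hD.decomp hva
    intro p hp
    obtain ⟨u, hu, huv, huu⟩ := hiso v hv hv0
    have hgu := hadj u hu huu huv
    -- reduce to vectors orthogonal to `v`
    set p' := p - (𝕗 p v / 𝕗 u v) • u
    have hp'v : 𝕗 p' v = 0 := by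
      rw [form_sub_left (isLinearLeft_of_unitary hf), hf.smul_left, div_mul_cancel₀ _ huv, sub_self]
    have hp'i : p' ∈ D i := (D i).sub_mem hp ((D i).smul_mem _ hu)
    suffices h : (g : Matrix (Fin n) (Fin n) F) *ᵥ p' ∈ D a by
      rw [show p = p' + (𝕗 p v / 𝕗 u v) • u by rw [sub_add_cancel], mulVec_add, mulVec_smul]
      exact (D a).add_mem h ((D a).smul_mem _ hgu)
    have h1 : 𝕗 (p' + u) v ≠ 0 := by rw [hf.add_left, hp'v, zero_add]; exact huv
    obtain ⟨c, -, hc'⟩ := exists_isotropic_shift hf (z := p' + u) hvv (fun h => h1 (swap_eq_zero hf h))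
    have h2 := hadj _ ((D i).add_mem ((D i).add_mem hp'i hu) ((D i).smul_mem c hv)) hc' (by
      rw [hf.add_left, hf.smul_left, hvv, mul_zero, add_zero]; exact h1)
    rw [mulVec_add, mulVec_add, mulVec_smul] at h2
    have h3 := (D a).sub_mem ((D a).sub_mem h2 ((D a).smul_mem c hgv)) hgu
    rwa [add_sub_cancel_right, add_sub_cancel_right] at h3
  -- two block centres with anisotropic components
  have hpair : ∀ {p p' : Fin t}, p ≠ p' → ∀ {a b : Fin n → F}, a ∈ D p → b ∈ D p' →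
      𝕗 a a ≠ 0 → 𝕗 b b = -𝕗 a a → UnitCenter σ 𝕗 M (a + b) := by
    intro p p' hpp' a b ha hb ha0 hab
    obtain ⟨a', ha', b', hb', haa, hbb, hC⟩ := two_block_centre hF hD hk hH hxC hij hi hj
      (r := 𝕗 a a) (self_fixed hf a) ha0
    set τ : Equiv.Perm (Fin t) := Equiv.swap (Equiv.swap i p j) p' * Equiv.swap i p with hτ
    have hτi : τ i = p := by
      rw [hτ, Equiv.Perm.mul_apply, Equiv.swap_apply_left]
      refine Equiv.swap_apply_of_ne_of_ne (fun h => hij ?_) hpp'
      exact (Equiv.swap i p).injective (by rw [Equiv.swap_apply_left]; exact h)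
    have hτj : τ j = p' := by rw [hτ, Equiv.Perm.mul_apply, Equiv.swap_apply_left]
    obtain ⟨T, hTU, hTS, hTD, hT⟩ := exists_block_perm hF hD τ
    have h1 := unitCenter_conj hf hC (hH T hTD hTU hTS) (mem_GU_iff'.mp hTU)
    rw [mulVec_add] at h1
    have hTa : (T : Matrix (Fin n) (Fin n) F) *ᵥ a' ∈ D p := hτi ▸ hT i a' ha'
    have hTb : (T : Matrix (Fin n) (Fin n) F) *ᵥ b' ∈ D p' := hτj ▸ hT j b' hb'
    obtain ⟨T1, hU1, hS1, hW1, hP1, hm1⟩ := exists_block_move hF (hnd p) (by rw [hdim]; exact hk)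
      hTa ha (by rw [mem_GU_iff'.mp hTU, haa]) (by rwa [mem_GU_iff'.mp hTU, haa])
    obtain ⟨T2, hU2, hS2, hW2, hP2, hm2⟩ := exists_block_move hF (hnd p') (by rw [hdim]; exact hk)
      hTb hb (by rw [mem_GU_iff'.mp hTU, hbb, hab])
      (by rw [mem_GU_iff'.mp hTU, hbb]; exact neg_ne_zero.mpr ha0)
    have hmove : ∀ (S : GL (Fin n) F) (l : Fin t), S ∈ Cfsg.GU n F q →
        S ∈ Cfsg.Geo.specialLinear (Fin n) F →
        (∀ x ∈ D l, (S : Matrix (Fin n) (Fin n) F) *ᵥ x ∈ D l) →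
        (∀ x ∈ perp q (D l), (S : Matrix (Fin n) (Fin n) F) *ᵥ x = x) → S ∈ M := by
      intro S l hU hS hW hP
      refine hH S (mem_stabilizer_of_mapsTo hD.decomp fun m => ⟨m, fun x hx => ?_⟩) hU hS
      by_cases h : m = l
      · subst h; exact hW x hx
      · rw [hP x (perp_of_other hD h hx)]; exact hx
    have h2 := unitCenter_conj hf h1 (hmove T1 p hU1 hS1 hW1 hP1) (mem_GU_iff'.mp hU1)
    rw [mulVec_add, hm1, hP1 _ (perp_of_other hD hpp'.symm hTb)] at h2
    have h3 := unitCenter_conj hf h2 (hmove T2 p' hU2 hS2 hW2 hP2) (mem_GU_iff'.mp hU2)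
    rwa [mulVec_add, hm2, hP2 _ (perp_of_other hD hpp' ha)] at h3
  suffices H : ∀ (S : Finset (Fin t)) (z : Fin n → F), 𝕗 z z = 0 →
      (∀ l ∉ S, comp hD.decomp l z = 0) → UnitCenter σ 𝕗 M z from
    fun z hz => H Finset.univ z hz fun l hl => absurd (Finset.mem_univ l) hl
  intro S
  induction S using Finset.strongInduction with
  | _ S ih =>
  -- the case of an anisotropic component
  have haniso : ∀ z, 𝕗 z z = 0 → (∀ l ∉ S, comp hD.decomp l z = 0) →
      ∀ m, 𝕗 (comp hD.decomp m z) (comp hD.decomp m z) ≠ 0 → UnitCenter σ 𝕗 M z := by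
    intro z hz hzS m hm
    set zm := comp hD.decomp m z with hzm
    have hzmD : zm ∈ D m := comp_mem hD.decomp m z
    have hmS : m ∈ S := by
      by_contra h; exact hm (by rw [hzm, hzS m h, Cfsg.Agent.Lib.Unitary.herm_zero_left])
    obtain ⟨p, hpm, hp⟩ : ∃ p, p ≠ m ∧ comp hD.decomp p z ≠ 0 := by
      by_contra h
      push Not at h
      have hzz : z = zm := (comp_self hD.decomp (mem_of_comp_eq_zero hD.decomp h)).symm
      exact hm (by rw [← hzz]; exact hz)
    obtain ⟨e', he'0, he', hs⟩ : ∃ e', e' ≠ 0 ∧ e' + σ e' = 0 ∧ (e' - 𝕗 zm zm ≠ 0 ∨ 3 ≤ k) := by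
      by_cases h : e - 𝕗 zm zm = 0 ∧ k = 2
      · obtain ⟨μ, hμ, hμ0, hμ1⟩ : ∃ μ : F, σ μ = μ ∧ μ ≠ 0 ∧ μ ≠ 1 := by
          by_contra hall
          push Not at hall
          have hq := hex h.2
          have h1q := one_lt_q hF
          have hc := card_fixed hF
          rw [Nat.card_eq_fintype_card, Fintype.card_subtype] at hc
          have hle := Finset.card_le_card
            (s := Finset.univ.filter fun x : F => x ^ q = x) (t := ({0, 1} : Finset F))
            (fun x hx => by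
              simp only [Finset.mem_filter, Finset.mem_univ, true_and] at hx
              simp only [Finset.mem_insert, Finset.mem_singleton]
              by_cases hx0 : x = 0
              · exact Or.inl hx0
              · exact Or.inr (hall x hx hx0))
          have : ({0, 1} : Finset F).card ≤ 2 := Finset.card_le_two
          omega
        refine ⟨μ * e, mul_ne_zero hμ0 he0, by rw [map_mul, hμ, ← mul_add, he, mul_zero],
          Or.inl ?_⟩
        rw [← sub_eq_zero.mp h.1, ← sub_one_mul]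
        exact mul_ne_zero (sub_ne_zero.mpr hμ1) he0
      · refine ⟨e, he0, he, ?_⟩
        by_cases hk2 : k = 2
        · exact Or.inl fun h0 => h ⟨h0, hk2⟩
        · exact Or.inr (by omega)
    obtain ⟨u, hu, huz, huu⟩ := hdual p _ (comp_mem hD.decomp p z) hp (e' - 𝕗 zm zm)
      (-𝕗 zm zm) (by rw [map_neg, self_fixed hf]) hs
    have hC := hpair hpm hu hzmD (by rw [huu]; exact neg_ne_zero.mpr hm) (by rw [huu, neg_neg])
    set a := u + zm with ha
    have haz : 𝕗 a z = e' := by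
      rw [ha, hf.add_left, form_comp hF hD hu, form_comp hF hD hzmD, huz, ← hzm]; ring
    have hbz : 𝕗 (z - a) (z - a) = 0 := by
      rw [form_sub_left (isLinearLeft_of_unitary hf), sub_right hf, sub_right hf, hz, hC.1,
        hf.herm z a, haz]
      linear_combination -he'
    have hpS : p ∈ S := by
      by_contra h; exact hp (hzS p h)
    have hb := ih (S.erase m) (Finset.erase_ssubset hmS) (z - a) hbz fun l hl => by
      rw [map_sub, ha, map_add]
      by_cases hlm : l = m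
      · subst hlm
        rw [comp_other hD.decomp hpm.symm hu, comp_self hD.decomp hzmD, zero_add, ← hzm, sub_self]
      · have hlS : l ∉ S := fun h => hl (Finset.mem_erase.mpr ⟨hlm, h⟩)
        rw [comp_other hD.decomp (fun h : l = p => hlS (h.symm ▸ hpS)) hu,
          comp_other hD.decomp hlm hzmD, hzS l hlS, add_zero, sub_zero]
    have := centre_add hF hC hb (by
      rw [form_sub_left (isLinearLeft_of_unitary hf), hC.1, hf.herm z a, haz, sub_zero, hsk he']
      exact neg_ne_zero.mpr he'0) (by rwa [sub_add_cancel])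
    rwa [sub_add_cancel] at this
  intro z hz hzS
  by_cases hA : ∃ m, 𝕗 (comp hD.decomp m z) (comp hD.decomp m z) ≠ 0
  · exact haniso z hz hzS _ hA.choose_spec
  push Not at hA
  by_cases h1 : ∀ p p', p ≠ p' → comp hD.decomp p z = 0 ∨ comp hD.decomp p' z = 0
  · by_cases h0 : ∃ p, comp hD.decomp p z ≠ 0
    · obtain ⟨p, hp⟩ := h0
      exact block_centre hF hD hH (mem_of_comp_eq_zero hD.decomp fun l hl =>
        (h1 l p hl).resolve_right hp) hz
    · push Not at h0
      rw [← sum_comp hD.decomp z, Finset.sum_eq_zero fun l _ => h0 l]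
      exact block_centre hF hD hH (i := ⟨0, by have := hD.decomp.two_le; omega⟩)
        (Submodule.zero_mem _) (Cfsg.Agent.Lib.Unitary.herm_zero_left _)
  push Not at h1
  obtain ⟨p, p', hpp', hp, hp'⟩ := h1
  obtain ⟨s, r, hr, hr0, hrs, hs, hs'⟩ : ∃ s r : F, σ r = r ∧ r ≠ 0 ∧ r - (s + σ s) ≠ 0 ∧
      (s ≠ 0 ∨ 3 ≤ k) ∧ (e - s ≠ 0 ∨ 3 ≤ k) := by
    by_cases h3 : 3 ≤ k
    · exact ⟨0, 1, map_one _, one_ne_zero, by simp, Or.inr h3, Or.inr h3⟩
    have hq : 3 ≤ q := by
      have := one_lt_q hF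
      have := hex (by omega)
      omega
    obtain ⟨s, hs0, hse⟩ : ∃ s : F, s ≠ 0 ∧ s ≠ e := by
      by_contra h
      push Not at h
      have := Finset.card_le_card (s := (Finset.univ : Finset F)) (t := ({0, e} : Finset F))
        fun x _ => by
          by_cases hx : x = 0
          · simp [hx]
          · simp [h x hx]
      rw [Finset.card_univ, hF] at this
      have : ({0, e} : Finset F).card ≤ 2 := Finset.card_le_two
      nlinarith
    obtain ⟨r, hr, hr0, hr1⟩ : ∃ r : F, σ r = r ∧ r ≠ 0 ∧ r ≠ s + σ s := by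
      by_contra h
      push Not at h
      have hc := card_fixed hF
      rw [Nat.card_eq_fintype_card, Fintype.card_subtype] at hc
      have hle := Finset.card_le_card
        (s := Finset.univ.filter fun x : F => x ^ q = x) (t := ({0, s + σ s} : Finset F))
        (fun x hx => by
          simp only [Finset.mem_filter, Finset.mem_univ, true_and] at hx
          simp only [Finset.mem_insert, Finset.mem_singleton]
          by_cases hx0 : x = 0
          · exact Or.inl hx0
          · exact Or.inr (h x hx hx0))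
      have : ({0, s + σ s} : Finset F).card ≤ 2 := Finset.card_le_two
      omega
    exact ⟨s, r, hr, hr0, sub_ne_zero.mpr hr1, Or.inl hs0, Or.inl (sub_ne_zero.mpr hse.symm)⟩
  obtain ⟨u, hu, huz, huu⟩ := hdual p _ (comp_mem hD.decomp p z) hp s r hr hs
  obtain ⟨v, hv, hvz, hvv⟩ := hdual p' _ (comp_mem hD.decomp p' z) hp' (e - s) (-r)
    (by rw [map_neg, hr]) hs'
  have hC := hpair hpp' hu hv (by rwa [huu]) (by rw [hvv, huu])
  set a := u + v with ha
  have haz : 𝕗 a z = e := by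
    rw [ha, hf.add_left, form_comp hF hD hu, form_comp hF hD hv, huz, hvz]; ring
  have hbz : 𝕗 (z - a) (z - a) = 0 := by
    rw [form_sub_left (isLinearLeft_of_unitary hf), sub_right hf, sub_right hf, hz, hC.1,
      hf.herm z a, haz]
    linear_combination -he
  have hb := haniso (z - a) hbz (fun l hl => by
      have hlp : l ≠ p := fun h => hp (h ▸ hzS l hl)
      have hlp' : l ≠ p' := fun h => hp' (h ▸ hzS l hl)
      rw [map_sub, ha, map_add, comp_other hD.decomp hlp hu, comp_other hD.decomp hlp' hv,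
        hzS l hl, add_zero, sub_zero]) p (by
    rw [map_sub, ha, map_add, comp_self hD.decomp hu, comp_other hD.decomp hpp' hv, add_zero,
      form_sub_left (isLinearLeft_of_unitary hf), sub_right hf, sub_right hf, hA p, huu, huz,
      hf.herm (comp hD.decomp p z) u, huz]
    intro h; apply hrs; linear_combination h)
  have := centre_add hF hC hb (by
    rw [form_sub_left (isLinearLeft_of_unitary hf), hC.1, hf.herm z a, haz, sub_zero, hsk he]
    exact neg_ne_zero.mpr he0) (by rwa [sub_add_cancel])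
  rwa [sub_add_cancel] at this

end Cfsg.Agent.Lib.Subspaces.UnitBlockCentres
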