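import Cfsg.Agent.Lib.Subspaces.UnitMonoTv
import Cfsg.Agent.Lib.Unitary.Simple

/-!
Overgroups of the monomial subgroup of `SU`: the field with four elements, and the main theorem.
-/

set_option autoImplicit false
set_option maxHeartbeats 800000

namespace Cfsg.Agent.Lib.Subspaces.UnitMonoFull

open Matrix Cfsg.Agent.Lib.Subspaces.Transvection Cfsg.Agent.Lib.Subspaces.FormVec
  Cfsg.Agent.Lib.Subspaces.UnitaryGen Cfsg.Agent.Lib.Subspaces.UnitBlock
  Cfsg.Agent.Lib.Subspaces.UnitCircle Cfsg.Agent.Lib.Subspaces.UnitQuasi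
  Cfsg.Agent.Lib.Subspaces.UnitMono Cfsg.Agent.Lib.Subspaces.UnitMonoLam
  Cfsg.Agent.Lib.Subspaces.UnitMonoTv
  Cfsg.Agent.Lib.Unitary

variable {F : Type*} [Field F] [Fintype F] {q n : ℕ} (hF : Fintype.card F = q ^ 2)
  {M : Subgroup (GL (Fin n) F)}

local notation "𝕗" => Cfsg.hermForm n F q

/-- Facts about the field with four elements. -/
theorem four_facts (hq : q = 2) :
    (2 : F) = 0 ∧ (∀ x : F, x ≠ 0 → x * powAut hF x = 1) ∧
      ∃ w : F, w ≠ 0 ∧ w ≠ 1 ∧ 1 + w + w ^ 2 = 0 ∧
        ∀ u : F, u ≠ 0 → u ≠ 1 → u + powAut hF u = 1 := by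
  classical
  have hfix : ∀ x : F, powAut hF x = x → x ≠ 0 → x = 1 := by
    intro x hx hx0
    by_contra hx1
    have hsub : ({0, 1, x} : Finset F) ⊆ fix hF := by
      simp [Finset.insert_subset_iff, mem_fix hF, hx]
    have h := Finset.card_le_card hsub
    rw [card_fix hF, Finset.card_insert_of_notMem (by simp [Ne.symm hx0]),
      Finset.card_pair (Ne.symm hx1), hq] at h
    omega
  have hnorm : ∀ x : F, x ≠ 0 → x * powAut hF x = 1 := fun x hx =>
    hfix _ (norm_fixed hF x) (mul_ne_zero hx (by simpa using hx))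
  have h2 : (2 : F) = 0 := by
    by_contra h
    have h1 : powAut hF (2 : F) = 2 := map_ofNat _ 2
    exact one_ne_zero (by linear_combination hfix 2 h1 h : (1 : F) = 0)
  have htr : ∀ u : F, u ≠ 0 → u ≠ 1 → u + powAut hF u = 1 := by
    intro u hu hu1
    refine hfix _ (trace_fixed hF u) fun e => hu1 ?_
    have e1 : powAut hF u = u := by linear_combination e - u * h2
    exact hfix u e1 hu
  obtain ⟨w, hw⟩ : ∃ w : F, w ∉ ({0, 1} : Finset F) := by
    by_contra hall
    push Not at hall
    have := Finset.card_le_card (s := (Finset.univ : Finset F)) (t := {0, 1}) fun t _ => hall t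
    rw [Finset.card_univ, hF, hq] at this
    have h3 : ({0, 1} : Finset F).card ≤ 2 := Finset.card_le_two
    omega
  simp only [Finset.mem_insert, Finset.mem_singleton, not_or] at hw
  refine ⟨h2, hnorm, w, hw.1, hw.2, ?_, htr⟩
  have h3 := htr w hw.1 hw.2
  have h4 : powAut hF w = w ^ 2 := by rw [powAut_apply, hq]
  linear_combination h3 - h4 + h2

include hF in
/-- Over the field with four elements every anisotropic vector is related to the coordinate
points. -/
theorem lam_all (S : Over q M) (hn : 10 ≤ n) (hq : q = 2) (hG : Good hF M) :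
    ∀ v : Fin n → F, 𝕗 v v ≠ 0 → Lam hF M v := by
  classical
  obtain ⟨h2, hnorm, w, hw0, hw1, hw3, htr⟩ := four_facts hF hq
  set σ := powAut hF with hσdef
  have hmu : ∀ {x : F}, x ≠ 0 → x ∈ mu hF := fun hx => (mem_mu hF).mpr (hnorm _ hx)
  have hnormsum : ∀ v : Fin n → F, 𝕗 v v = ((supp v).card : F) := fun v => by
    rw [← nsmul_one (supp v).card, ← Finset.sum_const, herm_eq_sum,
      ← Finset.sum_subset (Finset.subset_univ (supp v)) (fun j _ hj => by
        rw [show v j = 0 from by_contra fun h => hj (mem_supp.mpr h), zero_mul])]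
    exact Finset.sum_congr rfl fun j hj => by
      rw [← powAut_apply hF]; exact hnorm _ (mem_supp.mp hj)
  have hodd : ∀ v : Fin n → F, 𝕗 v v ≠ 0 → Odd (supp v).card ∧ 𝕗 v v = 1 := by
    intro v hv
    rw [hnormsum] at hv ⊢
    rcases Nat.even_or_odd (supp v).card with ⟨t, ht⟩ | ⟨t, ht⟩
    · rw [ht, Nat.cast_add, ← two_mul, h2, zero_mul] at hv
      exact absurd rfl hv
    · exact ⟨⟨t, ht⟩, by
        rw [ht, Nat.cast_add, Nat.cast_mul, Nat.cast_two, h2, zero_mul, zero_add, Nat.cast_one]⟩
  have hne_of_odd : ∀ v : Fin n → F, Odd (supp v).card → 𝕗 v v = 1 := fun v ⟨t, ht⟩ => by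
    rw [hnormsum, ht, Nat.cast_add, Nat.cast_mul, Nat.cast_two, h2, zero_mul, zero_add, Nat.cast_one]
  -- one point with three non-zero coordinates
  obtain ⟨a, i, ha1, hai, hans, haz⟩ := hG
  obtain ⟨b, hb, hbc⟩ : ∃ b, Pt hF M b ∧ (supp b).card = 3 := by
    have ha : Pt hF M a := ⟨lam_of_rel hF S hai, ha1, hans, i, haz⟩
    have h3 : 3 ≤ (supp a).card := by
      obtain ⟨t, ht⟩ := (hodd a (by rw [ha1]; exact one_ne_zero)).1
      by_contra h
      exact hans (single_of_card_le i (by omega))
    obtain ⟨A, hA, hAc⟩ := Finset.exists_subset_card_eq (s := supp a) (n := 3) h3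
    obtain ⟨b, hb, hbs, -⟩ := pt_change hF S (by omega) ha hA (by omega) (z := fun _ => w)
      (fun _ => hmu hw0) (fun _ _ => hw1) (by
        rw [Finset.sum_congr rfl (g := fun _ => (1 : F)) (fun j hj => by
          rw [htr w hw0 hw1, hnorm _ (mem_supp.mp (hA hj))]; ring), Finset.sum_const, hAc]
        simp only [nsmul_eq_mul, mul_one, Nat.cast_ofNat]
        linear_combination h2)
    exact ⟨b, hb, by rw [hbs, hAc]⟩
  obtain ⟨o, hbo⟩ := hb.2.2.2
  -- every vector with three non-zero coordinates
  have hthree : ∀ v : Fin n → F, (supp v).card = 3 → Lam hF M v := by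
    intro v hv
    let e : supp b ≃ supp v := Finset.equivOfCardEq (hbc.trans hv.symm)
    let π := Equiv.extendSubtype (p := fun j => j ∈ supp b) (q := fun j => j ∈ supp v) e
    have hπ : ∀ j, j ∈ supp b → π j ∈ supp v := fun j hj =>
      Equiv.extendSubtype_mem e j hj
    have hπ' : ∀ j, j ∉ supp b → π j ∉ supp v := fun j hj =>
      Equiv.extendSubtype_not_mem e j hj
    obtain ⟨g, hg, hgv⟩ := S.exists_mono hF π
      (fun j => if j ∈ supp b then v (π j) / b j else 1) (fun j => by
        split_ifs with hj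
        · exact hmu (div_ne_zero (mem_supp.mp (hπ j hj)) (mem_supp.mp hj))
        · exact one_mem_mu hF) o
    have hgb : (g : Matrix (Fin n) (Fin n) F) *ᵥ b = v := by
      conv_lhs => rw [← sum_ev b]
      rw [mulVec_sum]
      conv_rhs => rw [← sum_ev v, ← Equiv.sum_comp π (fun j => v j • (ev j : Fin n → F))]
      refine Finset.sum_congr rfl fun j _ => ?_
      rw [mulVec_smul]
      by_cases hj : j ∈ supp b
      · rw [hgv j (fun e => mem_supp.mp hj (e ▸ hbo)), if_pos hj, smul_smul,
          mul_div_cancel₀ _ (mem_supp.mp hj)]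
      · rw [show b j = 0 from by_contra fun h => hj (mem_supp.mpr h),
          show v (π j) = 0 from by_contra fun h => hπ' j hj (mem_supp.mpr h), zero_smul, zero_smul]
    haveI : Nontrivial (Fin n) := Fin.nontrivial_iff_two_le.2 (by omega)
    obtain ⟨l, hl⟩ := exists_ne o
    have h := lam_map hF S hb.1 hg (l := l) (l' := π l) (t := _)
      (ne_zero_of_mu hF (show (if l ∈ supp b then v (π l) / b l else (1 : F)) ∈ mu hF by
        split_ifs with hj
        · exact hmu (div_ne_zero (mem_supp.mp (hπ l hj)) (mem_supp.mp hj))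
        · exact one_mem_mu hF)) (hgv l hl)
    rwa [hgb] at h
  suffices H : ∀ k, ∀ v : Fin n → F, (supp v).card = k → Odd k → Lam hF M v from
    fun v hv => H _ v rfl (hodd v hv).1
  intro k
  induction k using Nat.strong_induction_on with
  | _ k ih =>
    intro v hvk hk
    obtain ⟨t, ht⟩ := hk
    rcases (show k = 1 ∨ k = 3 ∨ 5 ≤ k by omega) with h1 | h3 | h5
    · obtain ⟨j, hj⟩ := Finset.card_eq_one.mp (hvk.trans h1)
      have hvj : v j ≠ 0 := mem_supp.mp (by rw [hj]; simp)
      have heq : v = v j • ev j := single_eq fun u hu => by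
        by_contra h
        have := mem_supp.mpr h
        rw [hj] at this
        simp [hu] at this
      intro l
      rw [heq]
      exact (S.rel_ev hF j l).smul_left hF hvj
    · exact hthree v (hvk.trans h3)
    obtain ⟨l, hl, m, hm, p, hp, hlm, hlp, hmp⟩ :=
      Finset.two_lt_card.mp (show 2 < (supp v).card by omega)
    obtain ⟨c, hc0, hc1⟩ : ∃ c : F, c ≠ 0 ∧ c ≠ v l := by
      by_cases h : v l = 1
      · exact ⟨w, hw0, by rw [h]; exact hw1⟩
      · exact ⟨1, one_ne_zero, Ne.symm h⟩
    -- split `v` as a difference of two shorter points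
    set x : Fin n → F := fun j => if j = l then c else if j = m ∨ j = p then v j else 0 with hx
    set y : Fin n → F := x - v with hy
    have hxs : supp x = {l, m, p} := by
      ext j
      rw [mem_supp, hx]
      simp only [Finset.mem_insert, Finset.mem_singleton]
      by_cases hjl : j = l
      · simp [hjl, hc0]
      by_cases hjm : j = m
      · simp [hjm, hlm.symm, mem_supp.mp hm]
      by_cases hjp : j = p
      · simp [hjp, hlp.symm, mem_supp.mp hp]
      simp [hjl, hjm, hjp]
    have hys : supp y = ((supp v).erase m).erase p := by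
      ext j
      rw [mem_supp, hy, hx]
      simp only [Pi.sub_apply, Finset.mem_erase, mem_supp]
      by_cases hjl : j = l
      · subst hjl
        simp [hlm, hlp, mem_supp.mp hl, sub_eq_zero, hc1]
      by_cases hjm : j = m
      · simp [hjm, hlm.symm]
      by_cases hjp : j = p
      · simp [hjp, hlp.symm]
      simp [hjl, hjm, hjp]
    have hxc : (supp x).card = 3 := by
      rw [hxs, Finset.card_insert_of_notMem (by simp [hlm, hlp]), Finset.card_pair hmp]
    have hyc : (supp y).card = k - 2 := by
      rw [hys, Finset.card_erase_of_mem (Finset.mem_erase.mpr ⟨hmp.symm, hp⟩),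
        Finset.card_erase_of_mem hm, hvk]
      omega
    have hxL := hthree x hxc
    have hyL := ih (k - 2) (by omega) y hyc ⟨t - 1, by omega⟩
    have hy1 : 𝕗 y y = 1 := hne_of_odd y ⟨t - 1, by omega⟩
    have hxo : ∀ j, j ∉ ({l, m, p} : Finset (Fin n)) → x j = 0 := fun j hj => by_contra fun h =>
      hj (hxs ▸ mem_supp.mpr h)
    have htr' : 𝕗 x y + σ (𝕗 x y) = 1 := by
      have e : 𝕗 x y = c * (c - v l) ^ q := by
        rw [herm_eq_sum, Finset.sum_eq_single l]
        · simp [hx, hy]
        · intro j _ hjl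
          by_cases hj : j = m ∨ j = p
          · simp [hy, hx, hjl, hj, zero_pow_q hF]
          · simp [hx, hjl, hj]
        · simp
      rw [e, ← powAut_apply hF, ← hσdef]
      refine htr _ (mul_ne_zero hc0 (by simpa [sub_eq_zero] using hc1)) fun h => ?_
      have hd := hnorm (c - v l) (sub_ne_zero.mpr hc1)
      have hcd : c = c - v l := mul_right_cancel₀
        (show σ (c - v l) ≠ 0 by simpa [sub_eq_zero] using hc1) (h.trans hd.symm)
      exact mem_supp.mp hl (by linear_combination hcd)
    -- a point orthogonal to both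
    obtain ⟨z, hzL, hxz, hyz⟩ : ∃ z, Lam hF M z ∧ 𝕗 y z = 0 ∧ 𝕗 x z = 0 := by
      by_cases hfull : k < n
      · obtain ⟨j, hj⟩ := Finset.card_pos.mp (show 0 < ((supp v)ᶜ).card by
          rw [Finset.card_compl, Fintype.card_fin]; omega)
        rw [Finset.mem_compl] at hj
        have hxj : x j = 0 := hxo j (by
          simp only [Finset.mem_insert, Finset.mem_singleton]
          rintro (rfl | rfl | rfl) <;> contradiction)
        refine ⟨ev j, lam_ev hF S j, ?_, by rw [herm_ev hF, hxj]⟩
        rw [herm_ev hF, hy, Pi.sub_apply, hxj, show v j = 0 from by_contra fun h =>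
          hj (mem_supp.mpr h), sub_zero]
      · have hvfull : ∀ j, v j ≠ 0 := fun j => by
          have : supp v = Finset.univ := Finset.eq_univ_of_card _ (by
            rw [Fintype.card_fin]
            have := Finset.card_le_univ (supp v)
            rw [Fintype.card_fin] at this
            omega)
          exact mem_supp.mp (this ▸ Finset.mem_univ j)
        obtain ⟨T, hT, hTc⟩ := Finset.exists_subset_card_eq
          (s := ({l, m, p} : Finset (Fin n))ᶜ) (n := 3) (by
            rw [Finset.card_compl, Fintype.card_fin]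
            have : ({l, m, p} : Finset (Fin n)).card ≤ 3 := Finset.card_le_three
            omega)
        obtain ⟨r, s, u, hrs, hru, hsu, rfl⟩ := Finset.card_eq_three.mp hTc
        have hsub : ∀ j ∈ ({r, s, u} : Finset (Fin n)), x j = 0 ∧ y j = -v j := fun j hj => by
          have h := hxo j (Finset.mem_compl.mp (hT hj))
          exact ⟨h, by rw [hy, Pi.sub_apply, h, zero_sub]⟩
        set z : Fin n → F := fun j => if j = r then y r else if j = s then w * y s
          else if j = u then w ^ 2 * y u else 0 with hz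
        have hy0 : ∀ j ∈ ({r, s, u} : Finset (Fin n)), y j ≠ 0 := fun j hj => by
          rw [(hsub j hj).2]; exact neg_ne_zero.mpr (hvfull j)
        have hzo : ∀ j, j ∉ ({r, s, u} : Finset (Fin n)) → z j = 0 := fun j hj => by
          simp only [Finset.mem_insert, Finset.mem_singleton, not_or] at hj
          simp [hz, hj.1, hj.2.1, hj.2.2]
        have hzs : supp z = {r, s, u} := by
          ext j
          rw [mem_supp]
          refine ⟨fun h => by_contra fun hj => h (hzo j hj), fun hj => ?_⟩
          have hyj := hy0 j hj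
          simp only [Finset.mem_insert, Finset.mem_singleton] at hj
          rcases hj with rfl | rfl | rfl
          · simp [hz, hyj]
          · simp [hz, hrs.symm, hyj, hw0]
          · simp [hz, hru.symm, hsu.symm, hyj, hw0]
        refine ⟨z, hthree z (by rw [hzs, hTc]), swap_zero ?_, swap_zero ?_⟩
        · rw [herm_eq_sum, ← Finset.sum_subset (Finset.subset_univ {r, s, u})
            (fun j _ hj => by rw [hzo j hj, zero_mul]), Finset.sum_insert (by simp [hrs, hru]),
            Finset.sum_pair hsu, ← powAut_apply hF, ← powAut_apply hF, ← powAut_apply hF, ← hσdef,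
            show z r = y r by simp [hz], show z s = w * y s by simp [hz, hrs.symm],
            show z u = w ^ 2 * y u by simp [hz, hru.symm, hsu.symm], mul_assoc, mul_assoc,
            hnorm _ (hy0 r (by simp)), hnorm _ (hy0 s (by simp)), hnorm _ (hy0 u (by simp))]
          linear_combination hw3
        · rw [herm_eq_sum]
          refine Finset.sum_eq_zero fun j _ => ?_
          by_cases hj : j ∈ ({r, s, u} : Finset (Fin n))
          · rw [(hsub j hj).1, zero_pow_q hF, mul_zero]
          · rw [hzo j hj, zero_mul]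
    have h := lam_sub hF hyL hzL hxL hxz hyz hy1 S htr'
    rwa [hy, sub_sub_cancel] at h
where
  swap_zero {u v : Fin n → F} (h : 𝕗 u v = 0) : 𝕗 v u = 0 := herm_eq_zero_symm hF h

include hF in
/-- A subgroup containing all monomial isometries of determinant one and something else contains
`SU`. -/
theorem su_le_of_mono (S : Over q M) (hn : 10 ≤ n) {g : GL (Fin n) F} (hg : g ∈ M) (hm : ¬ Mono g) :
    Cfsg.GU n F q ⊓ Cfsg.Geo.specialLinear (Fin n) F ≤ M := by
  have hG := good hF S hn hg hm
  by_cases hq : q = 2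
  · have hall := lam_all hF S hn hq hG
    set φ : SU n F q →* GL (Fin n) F := (Cfsg.GU n F q).subtype.comp (suToGU n F q) with hφ
    set N := (M.comap φ).normalCore with hN
    obtain ⟨c, hc', hcre⟩ := exists_norm_one_nonreal hF
    have hc : c ∈ mu hF := (mem_mu hF).mpr hc'
    let e0 : Fin n := ⟨0, by omega⟩
    let e1 : Fin n := ⟨1, by omega⟩
    let e2 : Fin n := ⟨2, by omega⟩
    have he : ∀ l : Fin n, 𝕗 (ev l) (ev l) ≠ 0 := fun l => by rw [ev_norm hF]; exact one_ne_zero
    set P := pr hF c (ev e0) (ev e1) with hP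
    obtain ⟨X, hX⟩ := exists_SU_of_GU (A := (⟨P, pr_mem_GU hF c _ _⟩ : GU n F q))
      ((mem_specialLinear_iff P).mp (pr_det hF hc (he _) (he _)))
    have hφX : φ X = P := Units.ext hX
    have hXN : X ∈ N := by
      intro Y
      show φ (Y * X * Y⁻¹) ∈ M
      have hY : φ Y ∈ Cfsg.GU n F q := SetLike.coe_mem _
      rw [map_mul, map_mul, map_inv, hφX, hP, pr_conj hF hY hc (he _) (he _)]
      have hy0 : ∀ l, 𝕗 ((φ Y : Matrix (Fin n) (Fin n) F) *ᵥ ev l)
          ((φ Y : Matrix (Fin n) (Fin n) F) *ᵥ ev l) ≠ 0 := fun l => by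
        rw [mem_GU_iff'.mp hY]; exact he l
      exact ((hall _ (hy0 e0) e0).trans hF ((hall _ (hy0 e1) e0).symm hF)).2.2 c hc
    have hNc : ¬ N ≤ Subgroup.center (SU n F q) := by
      intro hle
      obtain ⟨l, hl⟩ := (mem_center_SU_iff hF (by omega) X).mp (hle hXN)
      have h01 : e0 ≠ e1 := by simp [e0, e1]
      have h02 : e2 ≠ e0 := by simp [e0, e2]
      have h12 : e2 ≠ e1 := by simp [e1, e2]
      have hmat : (X.1.1 : Matrix (Fin n) (Fin n) F) = (P : Matrix (Fin n) (Fin n) F) := hX
      have a2 := hl (ev e2)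
      rw [hmat, hP, pr_fix hF hc (he _) (he _) (ev_orth hF h02) (ev_orth hF h12)] at a2
      have a0 := hl (ev e0)
      rw [hmat, hP, pr_mulVec, qr_fix hF (sigma_mem_mu hF hc) (he _) (ev_orth hF h01),
        qr_self hF hc (he _)] at a0
      have b2 := congrFun a2 e2
      have b0 := congrFun a0 e0
      simp only [Pi.smul_apply, smul_eq_mul, ev_self, mul_one] at b2 b0
      exact hcre (by rw [b0, ← b2, map_one])
    have htop := SU_normal_eq_top hF (by omega) (by omega) (Subgroup.normalCore_normal _) hNc
    rintro h ⟨hh, hdet⟩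
    obtain ⟨Y, hY⟩ := exists_SU_of_GU (A := (⟨h, hh⟩ : GU n F q))
      ((mem_specialLinear_iff h).mp hdet)
    have hYM := Subgroup.normalCore_le _ (show Y ∈ (M.comap φ).normalCore by rw [htop]; exact Subgroup.mem_top Y)
    rwa [Subgroup.mem_comap, show φ Y = h from Units.ext hY] at hYM
  · obtain ⟨x, hx, hx2⟩ := exists_two_support hF S (by omega) hq hG
    obtain ⟨l, m, a, b, hlm, ha0, ha1, ha, hb, h⟩ := exists_plane_tva hF S (by omega) hq hx hx2
    exact su_le hF (by omega) (centres_all hF S (by omega) hq fun p r hpr u v huv =>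
      pair_centres hF S (by omega) hlm ha0 ha1 ha hb h hpr huv)

end Cfsg.Agent.Lib.Subspaces.UnitMonoFull
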