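import Cfsg.Agent.Lib.Subspaces.OrthNondeg

/-!
Over a field with at most three elements the stabiliser in `Ω` of a hyperbolic plane is not maximal.
-/

set_option autoImplicit false

namespace Cfsg.Agent.Lib.Subspaces.NonMaxPlane

open Matrix Cfsg.Agent.Lib.Subspaces.Transvection Cfsg.Agent.Lib.Subspaces.FormVec
  Cfsg.Agent.Lib.Subspaces.OrthForm Cfsg.Agent.Lib.Subspaces.OmegaGL
  Cfsg.Agent.Lib.Subspaces.OrthNondeg

variable {ι : Type} [Fintype ι] [DecidableEq ι] {F : Type*} [Field F] {Q : (ι → F) → F}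

local notation "B" => QuadraticMap.polar Q

theorem eq_of_mul_eq_one [Finite F] (hq : Nat.card F ≤ 3) {a b : F} (h : a * b = 1) :
    a = b ∧ a * a = 1 := by
  classical
  have : Fintype F := Fintype.ofFinite F
  rw [Nat.card_eq_fintype_card] at hq
  have ha : a ≠ 0 := left_ne_zero_of_mul_eq_one h
  suffices a * a = 1 from ⟨(mul_left_cancel₀ ha (h.trans this.symm)).symm, this⟩
  have h1 := FiniteField.pow_card_sub_one_eq_one a ha
  have h2 := Fintype.one_lt_card (α := F)
  obtain hc | hc : Fintype.card F = 2 ∨ Fintype.card F = 3 := by omega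
  · rw [hc] at h1; rw [show a = 1 by simpa using h1, one_mul]
  · rw [hc] at h1; rw [← h1]; simp [sq]

theorem exists_between [Finite F] (hQ : Cfsg.Geo.IsNondegenerateQuadraticForm Q)
    (hn : 12 < Fintype.card ι) (hq : Nat.card F ≤ 3) {W : Submodule F (ι → F)}
    (hdim : Module.finrank F W = 2) (hW : Cfsg.Geo.IsNondegenerateOn B W)
    (hWp : Cfsg.Geo.IsPlusTypeOn Q W) :
    ∃ K : Subgroup (GL ι F), Cfsg.Geo.subspaceStabilizer W ⊓ Cfsg.Geo.omegaGL Q < K ∧
      K < Cfsg.Geo.omegaGL Q := by
  have hb := hQ.polar_bilinear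
  obtain ⟨U, hUW, hU, hUd⟩ := hWp
  obtain ⟨e, heU, he0⟩ := Submodule.exists_mem_ne_zero_of_ne_bot
    (p := U) (fun h => by rw [h, finrank_bot, hdim] at hUd; omega)
  have heQ : Q e = 0 := hU e heU
  obtain ⟨-, y, hy, hey⟩ := hW e (hUW heU) he0
  set f := (B e y)⁻¹ • y + (-Q ((B e y)⁻¹ • y)) • e with hf
  have hee : B e e = 0 := by rw [B_self hQ, heQ, mul_zero]
  have hef : B e f = 1 := by
    rw [hf, hb.add_right, hb.smul_right, hb.smul_right, hee, inv_mul_cancel₀ hey, mul_zero,
      add_zero]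
  have hfQ : Q f = 0 := by
    rw [hf, Q_add_smul hQ, heQ, hb.smul_left, B_comm y e, inv_mul_cancel₀ hey]
    ring
  have hfW : f ∈ W := W.add_mem (W.smul_mem _ hy) (W.smul_mem _ (hUW heU))
  have hfe : B f e = 1 := by rw [B_comm]; exact hef
  have hff : B f f = 0 := by rw [B_self hQ, hfQ, mul_zero]
  have hspan : W = Submodule.span F {e, f} := by
    refine (Submodule.eq_of_le_of_finrank_le (Submodule.span_le.mpr ?_) ?_).symm
    · rintro z (rfl | rfl)
      exacts [hUW heU, hfW]
    · have hlt : Submodule.span F {e} < Submodule.span F {e, f} := by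
        refine lt_of_le_of_ne (Submodule.span_mono (by simp)) fun h => ?_
        obtain ⟨c, hc⟩ := Submodule.mem_span_singleton.mp
          (h.ge (Submodule.subset_span (by simp : f ∈ ({e, f} : Set (ι → F)))))
        exact one_ne_zero (by rw [← hef, ← hc, hb.smul_right, hee, mul_zero])
      have := Submodule.finrank_lt_finrank_of_lt hlt
      rw [finrank_span_singleton he0] at this
      omega
  set v := e + f with hv
  have hvW : v ∈ W := W.add_mem (hUW heU) hfW
  have hvQ : Q v = 1 := by rw [hv, Q_add (Q := Q), heQ, hfQ, hef]; ring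
  have hve : B v e = 1 := by rw [hv, hb.add_left, hee, hfe, zero_add]
  have hvf : B v f = 1 := by rw [hv, hb.add_left, hef, hff, add_zero]
  obtain ⟨u, hu, hu0, huQ⟩ := exists_singular_in hQ (S := perpQ hQ W) (by
    have := finrank_add_perpQ (hQ := hQ) hW; omega)
  have hue : B u e = 0 := hu e (hUW heU)
  have huf : B u f = 0 := hu f hfW
  have huW : u ∉ W := fun h => by
    obtain ⟨-, z, hz, huz⟩ := hW u h hu0
    exact huz (hu z hz)
  refine ⟨Cfsg.Geo.subspaceStabilizer (Submodule.span F {v}) ⊓ Cfsg.Geo.omegaGL Q,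
    lt_of_le_not_ge ?_ ?_, lt_of_le_not_ge inf_le_right ?_⟩
  · rintro g ⟨hg, hgΩ⟩
    refine ⟨mem_subspaceStabilizer_iff.mpr fun x hx => ?_, hgΩ⟩
    obtain ⟨c, rfl⟩ := Submodule.mem_span_singleton.mp hx
    rw [mulVec_smul]
    refine Submodule.smul_mem _ _ ?_
    have hgv := mem_subspaceStabilizer_iff.mp hg v hvW
    have hgQ : Q ((g : Matrix ι ι F) *ᵥ v) = 1 := (omega_isometry hQ hgΩ v).trans hvQ
    rw [hspan, Submodule.mem_span_pair] at hgv
    obtain ⟨a, b, hab⟩ := hgv
    rw [← hab, Q_add (Q := Q), hQ.smul, hQ.smul, heQ, hfQ, hb.smul_left, hb.smul_right, hef] at hgQ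
    obtain ⟨hab', -⟩ := eq_of_mul_eq_one hq (a := a) (b := b) (by linear_combination hgQ)
    exact Submodule.mem_span_singleton.mpr ⟨a, by rw [← hab, hv, smul_add, hab']⟩
  · intro hle
    set w := e + (-1 : F) • f with hw
    have hwu : B w u = 0 := by rw [B_comm, hw, hb.add_right, hb.smul_right, hue, huf]; ring
    have hwv : B v w = 0 := by rw [hw, hb.add_right, hb.smul_right, hve, hvf]; ring
    have hmem : sieg Q u w ∈
        Cfsg.Geo.subspaceStabilizer (Submodule.span F {v}) ⊓ Cfsg.Geo.omegaGL Q := by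
      refine ⟨mem_subspaceStabilizer_iff.mpr fun x hx => ?_,
        sieg_mem_omega hQ (by omega) huQ hwu⟩
      obtain ⟨c, rfl⟩ := Submodule.mem_span_singleton.mp hx
      rw [sieg_mulVec hQ huQ hwu, hb.smul_left, hb.smul_left, hwv, B_comm v u, hu v hvW]
      simpa using Submodule.smul_mem _ c (Submodule.mem_span_singleton_self v)
    have h := mem_subspaceStabilizer_iff.mp (hle hmem).1 e (hUW heU)
    have hew : B e w = -1 := by rw [hw, hb.add_right, hb.smul_right, hee, hef]; ring
    rw [sieg_mulVec hQ huQ hwu, B_comm e u, hue, zero_smul, add_zero, hew, neg_neg, mul_zero,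
      sub_zero, one_smul] at h
    exact huW (by simpa using W.sub_mem h (hUW heU))
  · intro hle
    have heu : B e u = 0 := by rw [B_comm]; exact hue
    have h := mem_subspaceStabilizer_iff.mp (hle (sieg_mem_omega hQ (by omega) huQ heu)).1 v
      (Submodule.mem_span_singleton_self v)
    rw [sieg_mulVec hQ huQ heu, B_comm v u, hu v hvW, zero_smul, add_zero, hve, mul_zero,
      sub_zero, neg_one_smul] at h
    have h' := (Submodule.span_singleton_le_iff_mem v W).mpr hvW h
    exact huW (by simpa using W.sub_mem hvW h')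

end Cfsg.Agent.Lib.Subspaces.NonMaxPlane
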