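import Cfsg.Agent.Lib.Subspaces.OrthNondeg
import Cfsg.Agent.Lib.Subspaces.Decomposition

/-!
Overgroups in `Ω` of the stabiliser of an orthogonal decomposition into isometric non-degenerate
blocks, through pairs of reflections: once one anisotropic vector with two non-zero components is
`M`-equivalent to a block vector, `M` contains `Ω`.
-/

set_option autoImplicit false

namespace Cfsg.Agent.Lib.Subspaces.OrthDecomp

open Matrix Cfsg.Agent.Lib.Subspaces.Transvection Cfsg.Agent.Lib.Subspaces.FormVec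
  Cfsg.Agent.Lib.Subspaces.OrthForm Cfsg.Agent.Lib.Subspaces.OrthLines
  Cfsg.Agent.Lib.Subspaces.OmegaGL Cfsg.Agent.Lib.Subspaces.OrthSingular
  Cfsg.Agent.Lib.Subspaces.OrthNondeg Cfsg.Agent.Lib.Subspaces.Decomposition
open scoped commutatorElement

variable {ι : Type} [Fintype ι] [DecidableEq ι] {F : Type*} [Field F] {Q : (ι → F) → F}

local notation "B" => QuadraticMap.polar Q

/-- The reflection at `a`, as a function. -/
def rf (Q : (ι → F) → F) (a x : ι → F) : ι → F :=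
  x - ((Q a)⁻¹ * QuadraticMap.polar Q x a) • a

section Reflection

variable (hQ : Cfsg.Geo.IsNondegenerateQuadraticForm Q)

include hQ

theorem rf_of_ortho {a x : ι → F} (h : B x a = 0) : rf Q a x = x := by
  have := hQ.smul
  rw [rf, h, mul_zero, zero_smul, sub_zero]

theorem B_rf_left {a : ι → F} (ha : Q a ≠ 0) (x : ι → F) : B (rf Q a x) a = -B x a := by
  rw [rf, form_sub_left (bil hQ), hQ.polar_bilinear.smul_left, B_self hQ]
  field_simp
  ring

theorem rf_rf {a : ι → F} (ha : Q a ≠ 0) (x : ι → F) : rf Q a (rf Q a x) = x := by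
  conv_lhs => rw [rf, B_rf_left hQ ha, rf]
  rw [mul_neg, neg_smul, sub_neg_eq_add, sub_add_cancel]

theorem rf_isometry {a : ι → F} (ha : Q a ≠ 0) (x : ι → F) : Q (rf Q a x) = Q x := by
  rw [rf, sub_eq_add_neg, ← neg_smul, Q_add_smul hQ]
  field_simp
  ring

theorem rf_map {g : GL ι F} (hg : ∀ x, Q ((g : Matrix ι ι F) *ᵥ x) = Q x) (a x : ι → F) :
    rf Q ((g : Matrix ι ι F) *ᵥ a) ((g : Matrix ι ι F) *ᵥ x) =
      (g : Matrix ι ι F) *ᵥ rf Q a x := by
  have := hQ.smul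
  rw [rf, rf, hg, B_map hg, mulVec_sub, mulVec_smul]

end Reflection

/-- The product of the reflections at `a` and `b` lies in `M`. -/
def Pair (Q : (ι → F) → F) (M : Subgroup (GL ι F)) (a b : ι → F) : Prop :=
  ∃ g ∈ M, ∀ x, (g : Matrix ι ι F) *ᵥ x = rf Q a (rf Q b x)

variable {M : Subgroup (GL ι F)}

theorem pair_refl (hQ : Cfsg.Geo.IsNondegenerateQuadraticForm Q) {a : ι → F} (ha : Q a ≠ 0) :
    Pair Q M a a :=
  ⟨1, M.one_mem, fun x => by rw [Units.val_one, one_mulVec, rf_rf hQ ha]⟩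

theorem pair_symm (hQ : Cfsg.Geo.IsNondegenerateQuadraticForm Q) {a b : ι → F} (ha : Q a ≠ 0)
    (hb : Q b ≠ 0) (h : Pair Q M a b) : Pair Q M b a := by
  obtain ⟨g, hg, hgx⟩ := h
  refine ⟨g⁻¹, M.inv_mem hg, fun x => gl_mulVec_injective g ?_⟩
  show (g : Matrix ι ι F) *ᵥ _ = (g : Matrix ι ι F) *ᵥ _
  rw [gl_mulVec_inv, hgx, rf_rf hQ hb, rf_rf hQ ha]

theorem pair_trans (hQ : Cfsg.Geo.IsNondegenerateQuadraticForm Q) {a b c : ι → F} (hb : Q b ≠ 0)
    (h : Pair Q M a b) (h' : Pair Q M b c) : Pair Q M a c := by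
  obtain ⟨g, hg, hgx⟩ := h
  obtain ⟨g', hg', hgx'⟩ := h'
  exact ⟨g * g', M.mul_mem hg hg', fun x => by rw [gl_mul_mulVec, hgx', hgx, rf_rf hQ hb]⟩

theorem pair_conj (hQ : Cfsg.Geo.IsNondegenerateQuadraticForm Q) {a b : ι → F} {g : GL ι F}
    (hgM : g ∈ M) (hg : ∀ x, Q ((g : Matrix ι ι F) *ᵥ x) = Q x) (h : Pair Q M a b) :
    Pair Q M ((g : Matrix ι ι F) *ᵥ a) ((g : Matrix ι ι F) *ᵥ b) := by
  obtain ⟨h, hh, hx⟩ := h
  refine ⟨g * h * g⁻¹, M.mul_mem (M.mul_mem hgM hh) (M.inv_mem hgM), fun x => ?_⟩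
  rw [gl_mul_mulVec, gl_mul_mulVec, hx, ← rf_map hQ hg, ← rf_map hQ hg, gl_mulVec_inv]

variable {t k : ℕ} {D : Fin t → Submodule F (ι → F)}

/-- `M` lies between the stabiliser and `Ω`, and every block represents every scalar. -/
structure Base (Q : (ι → F) → F) (M : Subgroup (GL ι F))
    (D : Fin t → Submodule F (ι → F)) (k : ℕ) : Prop where
  form : Cfsg.Geo.IsNondegenerateQuadraticForm Q
  dim : 5 ≤ Fintype.card ι
  decomp : Cfsg.Geo.IsOrthogonalMDecomposition Q k D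
  above : Cfsg.Geo.decompositionStabilizer D ⊓ Cfsg.Geo.omegaGL Q ≤ M
  below : M ≤ Cfsg.Geo.omegaGL Q
  rep : ∀ i, ∀ c : F, c ≠ 0 → ∃ z ∈ D i, Q z = c

/-- The standing hypotheses: `M` lies between the stabiliser and `Ω`, and the blocks are rich
enough. -/
structure Ctx (Q : (ι → F) → F) (M : Subgroup (GL ι F))
    (D : Fin t → Submodule F (ι → F)) (k : ℕ) : Prop extends Base Q M D k where
  perp : ∀ a : ι → F, Q a ≠ 0 → ∀ c : F, c ≠ 0 →
    ∃ i, ∃ z ∈ D i, Q z = c ∧ QuadraticMap.polar Q z a = 0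
  trans : ∀ i, ∀ x ∈ D i, ∀ y ∈ D i, Q x = Q y → Q x ≠ 0 →
    Q (x - y) ≠ 0 ∨ ∃ u ∈ D i, Q u = Q x ∧ Q (x - u) ≠ 0 ∧ Q (u - y) ≠ 0
  aff : ∀ i, ∀ a ∈ D i, a ≠ 0 → ∀ β c : F, c ≠ 0 → (β ≠ 0 ∨ Nat.card F = 3) →
    ∃ x ∈ D i, Q x = c ∧ QuadraticMap.polar Q a x = β
  indep : ∀ i, ∀ a ∈ D i, a ≠ 0 → ∀ c : F, c ≠ 0 →
    ∃ x ∈ D i, Q x = c ∧ QuadraticMap.polar Q a x ≠ 0 ∧ x ∉ Submodule.span F {a}
  split : Nat.card F ≠ 2 → ∀ c : F, c ≠ 0 → ∃ c' : F, c' ≠ 0 ∧ c + c' ≠ 0 ∧ (c' - c ≠ 0 ∨ Nat.card F = 3)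

/-- `a` has norm `c` and is equivalent to a block vector of norm `c`. -/
def InL (Q : (ι → F) → F) (M : Subgroup (GL ι F)) (D : Fin t → Submodule F (ι → F)) (c : F)
    (a : ι → F) : Prop :=
  Q a = c ∧ ∃ i, ∃ z ∈ D i, Q z = c ∧ Pair Q M a z

theorem B_sum_right (hQ : Cfsg.Geo.IsNondegenerateQuadraticForm Q) {α : Type*} (s : Finset α)
    (f : α → ι → F) (v : ι → F) : B v (∑ i ∈ s, f i) = ∑ i ∈ s, B v (f i) :=
  map_sum (AddMonoidHom.mk' (fun x => B v x) fun x y => hQ.polar_bilinear.add_right v x y) f s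

namespace Base

variable [Finite F] (h : Base Q M D k)

include h

omit [Finite F] in
theorem orthog {i j : Fin t} (hij : i ≠ j) {x y : ι → F} (hx : x ∈ D i) (hy : y ∈ D j) :
    B x y = 0 := h.decomp.decomp.orthogonal i j hij x hx y hy

omit [Finite F] in
theorem isMDec : Cfsg.Geo.IsMDecomposition k D := h.decomp.decomp.decomp

omit [Finite F] in
theorem iso {g : GL ι F} (hg : g ∈ M) : ∀ x, Q ((g : Matrix ι ι F) *ᵥ x) = Q x :=
  omega_isometry h.form (h.below hg)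

omit [Finite F] in
theorem exists_ne (i : Fin t) : ∃ j, j ≠ i := by
  have := h.isMDec.two_le
  exact Fintype.exists_ne_of_one_lt_card (by rw [Fintype.card_fin]; omega) i

omit [Finite F] in
theorem rf_mem {i j : Fin t} {x v : ι → F} (hx : x ∈ D i) (hv : v ∈ D j) : rf Q x v ∈ D j := by
  by_cases hij : j = i
  · subst hij; exact (D j).sub_mem hv ((D j).smul_mem _ hx)
  · rw [rf_of_ortho h.form (h.orthog hij hv hx)]; exact hv

omit [Finite F] in
theorem B_comp (x : ι → F) {i : Fin t} {v : ι → F} (hv : v ∈ D i) :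
    B x v = B (comp h.isMDec i x) v := by
  classical
  conv_lhs => rw [← sum_comp h.isMDec x]
  rw [B_comm, B_sum_right h.form, Finset.sum_eq_single i (fun j _ hj =>
    h.orthog (Ne.symm hj) hv (comp_mem h.isMDec j x)) (by simp), B_comm]

theorem pair_block {i j : Fin t} {x y : ι → F} (hx : x ∈ D i) (hy : y ∈ D j) (hxy : Q x = Q y)
    (hne : Q x ≠ 0) : Pair Q M x y := by
  have main : ∀ {i j : Fin t}, i ≠ j → ∀ {x y : ι → F}, x ∈ D i → y ∈ D j → Q x = Q y → Q x ≠ 0 →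
      Pair Q M x y := by
    intro i j hij x y hx hy hxy hne
    obtain ⟨g, hgΩ, hg⟩ := exists_refl_pair h.form h.dim hne hxy.symm (h.orthog hij hx hy)
    have hgx : ∀ z, (g : Matrix ι ι F) *ᵥ z = rf Q x (rf Q y z) := by
      intro z
      rw [hg, rf, rf, form_sub_left (bil h.form), h.form.polar_bilinear.smul_left,
        B_comm y x, h.orthog hij hx hy, ← hxy]
      module
    refine ⟨g, h.above ⟨mem_stabilizer_of_mapsTo h.isMDec fun l => ⟨l, fun v hv => ?_⟩, hgΩ⟩, hgx⟩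
    rw [hgx]
    exact h.rf_mem hx (h.rf_mem hy hv)
  by_cases hij : i = j
  · obtain ⟨l, hl⟩ := h.exists_ne i
    obtain ⟨z, hz, hzQ⟩ := h.rep l (Q x) hne
    exact pair_trans h.form (hzQ ▸ hne) (main (Ne.symm hl) hx hz hzQ.symm hne)
      (main (hij ▸ hl) hz hy (hzQ.trans hxy) (hzQ ▸ hne))
  · exact main hij hx hy hxy hne

theorem inL_block {i : Fin t} {x : ι → F} (hx : x ∈ D i) (hne : Q x ≠ 0) : InL Q M D (Q x) x :=
  ⟨rfl, i, x, hx, rfl, pair_refl h.form hne⟩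

theorem inL_pair {c : F} (hc : c ≠ 0) {a a' : ι → F} (ha : InL Q M D c a)
    (ha' : InL Q M D c a') : Pair Q M a a' := by
  obtain ⟨haQ, i, z, hz, hzQ, hp⟩ := ha
  obtain ⟨ha'Q, j, z', hz', hzQ', hp'⟩ := ha'
  exact pair_trans h.form (hzQ' ▸ hc)
    (pair_trans h.form (hzQ ▸ hc) hp (h.pair_block hz hz' (hzQ.trans hzQ'.symm) (hzQ ▸ hc)))
    (pair_symm h.form (ha'Q ▸ hc) (hzQ' ▸ hc) hp')

theorem inL_map {c : F} (hc : c ≠ 0) {g : GL ι F} (hg : g ∈ M) {w : ι → F}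
    (hw : InL Q M D c w) (hgw : InL Q M D c ((g : Matrix ι ι F) *ᵥ w)) {a : ι → F}
    (ha : InL Q M D c a) : InL Q M D c ((g : Matrix ι ι F) *ᵥ a) := by
  have hp := pair_conj h.form hg (h.iso hg) (h.inL_pair hc ha hw)
  obtain ⟨hgwQ, i, z, hz, hzQ, hp'⟩ := hgw
  exact ⟨by rw [h.iso hg, ha.1], i, z, hz, hzQ, pair_trans h.form (hgwQ ▸ hc) hp hp'⟩

omit [Finite F] in
theorem B_blocks (x y : ι → F) :
    B x y = ∑ i, B (comp h.isMDec i x) (comp h.isMDec i y) := by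
  conv_lhs => rw [← sum_comp h.isMDec x, ← sum_comp h.isMDec y,
    form_sum_sum h.form.polar_bilinear.add_left h.form.polar_bilinear.add_right
      h.decomp.decomp.orthogonal (fun i => comp_mem h.isMDec i x) (fun i => comp_mem h.isMDec i y)]

omit [Finite F] in
theorem exists_swap (a b : Fin t) : ∃ T : GL ι F, T ∈ Cfsg.isometryGroup F Q ∧
    T ∈ Cfsg.Geo.decompositionStabilizer D ∧
    (∀ i, ∀ x ∈ D i, (T : Matrix ι ι F) *ᵥ x ∈ D (Equiv.swap a b i)) ∧
    ∀ i, i ≠ a → i ≠ b → ∀ x ∈ D i, (T : Matrix ι ι F) *ᵥ x = x := by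
  classical
  have hex : ∀ i, ∃ e : D i ≃ₗ[F] D (Equiv.swap a b i),
      (∀ w : D i, Q ((e w : D (Equiv.swap a b i)) : ι → F) = Q (w : ι → F)) ∧
        (i ≠ a → i ≠ b → ∀ w : D i, ((e w : D (Equiv.swap a b i)) : ι → F) = w) := by
    intro i
    by_cases hi : i ≠ a ∧ i ≠ b
    · have hfix := Equiv.swap_apply_of_ne_of_ne hi.1 hi.2
      exact ⟨LinearEquiv.ofEq _ _ (congrArg D hfix.symm), fun w => by simp,
        fun _ _ w => by simp⟩
    · obtain ⟨e, he⟩ := h.decomp.isometric i (Equiv.swap a b i)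
      exact ⟨e, he, fun h1 h2 => absurd ⟨h1, h2⟩ hi⟩
  choose e he hefix using hex
  let φ : Fin t → (ι → F) →ₗ[F] (ι → F) := fun i =>
    (D _).subtype ∘ₗ (e i).toLinearMap ∘ₗ (comp h.isMDec i).codRestrict (D i) (comp_mem h.isMDec i)
  have hφ : ∀ i x (hx : x ∈ D i), φ i x = (e i ⟨x, hx⟩ : ι → F) := fun i x hx => by
    show ((e i _ : D (Equiv.swap a b i)) : ι → F) = _
    congr 2
    exact Subtype.ext (comp_self h.isMDec hx)
  have hφm : ∀ i, ∀ x ∈ D i, φ i x ∈ D (Equiv.swap a b i) := fun i x hx => by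
    rw [hφ i x hx]; exact Submodule.coe_mem _
  have hφQ : ∀ i, ∀ x ∈ D i, Q (φ i x) = Q x := fun i x hx => by
    rw [hφ i x hx]; exact he i ⟨x, hx⟩
  have hφB : ∀ i, ∀ x ∈ D i, ∀ y ∈ D i, B (φ i x) (φ i y) = B x y := fun i x hx y hy => by
    rw [QuadraticMap.polar, QuadraticMap.polar, ← map_add, hφQ i _ ((D i).add_mem hx hy),
      hφQ i x hx, hφQ i y hy]
  obtain ⟨T, hT, hTB, hTD⟩ := exists_glue h.form.polar_bilinear.add_left
    h.form.polar_bilinear.add_right h.form.nondegenerate h.decomp.decomp (Equiv.swap a b) φ hφm hφB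
  have hTQ : ∀ x, Q ((T : Matrix ι ι F) *ᵥ x) = Q x := by
    let δ : (ι → F) →+ F := AddMonoidHom.mk' (fun x => Q ((T : Matrix ι ι F) *ᵥ x) - Q x)
      fun x y => by
        rw [mulVec_add, Q_add (Q := Q), Q_add (Q := Q) x y, hTB]; ring
    intro x
    have h0 : δ x = 0 := by
      rw [← sum_comp h.isMDec x, map_sum]
      refine Finset.sum_eq_zero fun i _ => sub_eq_zero.mpr ?_
      rw [hT i _ (comp_mem h.isMDec i x)]
      exact hφQ i _ (comp_mem h.isMDec i x)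
    exact sub_eq_zero.mp h0
  refine ⟨T, fun u _ => hTQ u, hTD, fun i x hx => ?_, fun i hia hib x hx => ?_⟩
  · rw [hT i x hx]
    exact hφm i x hx
  · rw [hT i x hx, hφ i x hx, hefix i hia hib]

omit [Finite F] in
theorem swap_inv {a b : Fin t} {T : GL ι F}
    (hT : ∀ i, ∀ x ∈ D i, (T : Matrix ι ι F) *ᵥ x ∈ D (Equiv.swap a b i)) (i : Fin t) :
    ∀ x ∈ D i, ((T⁻¹ : GL ι F) : Matrix ι ι F) *ᵥ x ∈ D (Equiv.swap a b i) := by
  intro x hx
  have hle : (D (Equiv.swap a b i)).map (Matrix.toLin' (T : Matrix ι ι F)) ≤ D i := by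
    rintro _ ⟨y, hy, rfl⟩
    simpa using hT _ y hy
  have heq := Submodule.eq_of_le_of_finrank_le hle (by
    rw [h.isMDec.finrank_eq i, ← h.isMDec.finrank_eq (Equiv.swap a b i)]
    exact finrank_le_of_mapsTo (g := T) fun y hy => ⟨y, hy, Matrix.toLin'_apply _ _⟩)
  obtain ⟨y, hy, rfl⟩ := heq.ge hx
  rw [Matrix.toLin'_apply, gl_inv_mulVec]
  exact hy

/-- An element of `M` carrying `D l` onto `D j` and `D m` onto `D l`. -/
theorem exists_cycle {l m j : Fin t} (hlm : l ≠ m) (hjl : j ≠ l) (hjm : j ≠ m) :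
    ∃ g ∈ M, (∀ x ∈ D l, (g : Matrix ι ι F) *ᵥ x ∈ D j) ∧
      (∀ x ∈ D m, (g : Matrix ι ι F) *ᵥ x ∈ D l) ∧
      (∀ y ∈ D j, ∃ x ∈ D l, (g : Matrix ι ι F) *ᵥ x = y) ∧
      (∀ y ∈ D l, ∃ x ∈ D m, (g : Matrix ι ι F) *ᵥ x = y) ∧
      ∀ i, i ≠ l → i ≠ m → i ≠ j → ∀ x ∈ D i, (g : Matrix ι ι F) *ᵥ x = x := by
  obtain ⟨T1, hT1Q, hT1D, hT1, hF1⟩ := h.exists_swap l m
  obtain ⟨T2, hT2Q, hT2D, hT2, hF2⟩ := h.exists_swap m j
  let C : Cfsg.isometryGroup F Q :=
    ⁅(⟨T1, hT1Q⟩ : Cfsg.isometryGroup F Q), (⟨T2, hT2Q⟩ : Cfsg.isometryGroup F Q)⁆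
  have hCval : (C : GL ι F) = T1 * T2 * T1⁻¹ * T2⁻¹ := by
    simp [C, commutatorElement_def]
  set g := T1 * T2 * T1⁻¹ * T2⁻¹ with hg
  have hgΩ : g ∈ Cfsg.Geo.omegaGL Q :=
    ⟨C, Subgroup.commutator_mem_commutator (Subgroup.mem_top _) (Subgroup.mem_top _), hCval⟩
  have hgD : g ∈ Cfsg.Geo.decompositionStabilizer D :=
    Subgroup.mul_mem _ (Subgroup.mul_mem _ (Subgroup.mul_mem _ hT1D hT2D)
      (Subgroup.inv_mem _ hT1D)) (Subgroup.inv_mem _ hT2D)
  have hgM : g ∈ M := h.above ⟨hgD, hgΩ⟩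
  have hmap : ∀ i, ∀ x ∈ D i, (g : Matrix ι ι F) *ᵥ x ∈
      D (Equiv.swap l m (Equiv.swap m j (Equiv.swap l m (Equiv.swap m j i)))) := by
    intro i x hx
    rw [hg, gl_mul_mulVec, gl_mul_mulVec, gl_mul_mulVec]
    exact hT1 _ _ (hT2 _ _ (h.swap_inv hT1 _ _ (h.swap_inv hT2 _ _ hx)))
  have hml : ∀ x ∈ D l, (g : Matrix ι ι F) *ᵥ x ∈ D j := fun x hx => by
    have := hmap l x hx
    rwa [Equiv.swap_apply_of_ne_of_ne hlm (Ne.symm hjl), Equiv.swap_apply_left,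
      Equiv.swap_apply_left, Equiv.swap_apply_of_ne_of_ne hjl hjm] at this
  have hmm : ∀ x ∈ D m, (g : Matrix ι ι F) *ᵥ x ∈ D l := fun x hx => by
    have := hmap m x hx
    rwa [Equiv.swap_apply_left, Equiv.swap_apply_of_ne_of_ne hjl hjm, Equiv.swap_apply_right,
      Equiv.swap_apply_right] at this
  have hsurj : ∀ {i i' : Fin t}, (∀ x ∈ D i, (g : Matrix ι ι F) *ᵥ x ∈ D i') → ∀ y ∈ D i',
      ∃ x ∈ D i, (g : Matrix ι ι F) *ᵥ x = y := by
    intro i i' hii y hy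
    have heq := Submodule.eq_of_le_of_finrank_le
      (show (D i).map (Matrix.toLin' (g : Matrix ι ι F)) ≤ D i' by
        rintro _ ⟨x, hx, rfl⟩
        simpa using hii x hx)
      (by
        rw [h.isMDec.finrank_eq i', ← h.isMDec.finrank_eq i]
        exact finrank_le_of_mapsTo (g := g) fun y hy => ⟨y, hy, Matrix.toLin'_apply _ _⟩)
    obtain ⟨x, hx, rfl⟩ := heq.ge hy
    exact ⟨x, hx, (Matrix.toLin'_apply _ _).symm⟩
  refine ⟨g, hgM, hml, hmm, hsurj hml, hsurj hmm, fun i hil him hij x hx => ?_⟩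
  have h1 : ((T1⁻¹ : GL ι F) : Matrix ι ι F) *ᵥ x = x :=
    gl_mulVec_injective T1 (by simp only [gl_mulVec_inv]; exact (hF1 i hil him x hx).symm)
  have h2 : ((T2⁻¹ : GL ι F) : Matrix ι ι F) *ᵥ x = x :=
    gl_mulVec_injective T2 (by simp only [gl_mulVec_inv]; exact (hF2 i him hij x hx).symm)
  rw [hg, gl_mul_mulVec, gl_mul_mulVec, gl_mul_mulVec, h2, h1, hF2 i him hij x hx,
    hF1 i hil him x hx]

omit [Finite F] in
theorem Q_blocks (x : ι → F) : Q x = ∑ i, Q (comp h.isMDec i x) := by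
  classical
  suffices ∀ s : Finset (Fin t),
      Q (∑ i ∈ s, comp h.isMDec i x) = ∑ i ∈ s, Q (comp h.isMDec i x) by
    conv_lhs => rw [← sum_comp h.isMDec x]
    exact this _
  intro s
  induction s using Finset.induction_on with
  | empty => simp [Q_zero h.form]
  | insert a s ha ih =>
    rw [Finset.sum_insert ha, Finset.sum_insert ha, Q_add (Q := Q), ih,
      B_sum_right h.form, Finset.sum_eq_zero (fun i hi => h.orthog
        (fun e => ha (by rw [e]; exact hi)) (comp_mem h.isMDec a x) (comp_mem h.isMDec i x)),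
      add_zero]

end Base

namespace Ctx

variable [Finite F] (h : Ctx Q M D k)

include h

theorem rf_block {c : F} {a : ι → F} (ha : InL Q M D c a) (hc : c ≠ 0) {j : Fin t} {x : ι → F}
    (hx : x ∈ D j) (hne : Q x ≠ 0) : InL Q M D c (rf Q x a) := by
  obtain ⟨l, z, hz, hzQ, hza⟩ := h.perp a (ha.1 ▸ hc) (Q x) hne
  obtain ⟨g, hg, hgx⟩ := h.pair_block hx hz hzQ.symm hne
  obtain ⟨w, hw, hwQ⟩ := h.rep j c hc
  have hgw : InL Q M D c ((g : Matrix ι ι F) *ᵥ w) := by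
    have := h.inL_block (x := (g : Matrix ι ι F) *ᵥ w) (i := j)
      (by rw [hgx]; exact h.rf_mem hx (h.rf_mem hz hw)) (by rw [h.iso hg, hwQ]; exact hc)
    rwa [h.iso hg, hwQ] at this
  have := h.inL_map hc hg (hwQ ▸ h.inL_block hw (hwQ ▸ hc)) hgw ha
  rwa [hgx, rf_of_ortho h.form (show B a z = 0 by rw [B_comm]; exact hza)] at this

theorem rf_inL {c d : F} {a x : ι → F} (hx : InL Q M D d x) (hd : d ≠ 0) (ha : InL Q M D c a)
    (hc : c ≠ 0) : InL Q M D c (rf Q x a) := by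
  obtain ⟨i, w, hw, hwQ, hwx⟩ := h.perp x (hx.1 ▸ hd) c hc
  obtain ⟨j, z, hz, hzQ, hzw⟩ := h.perp w (hwQ ▸ hc) d hd
  have hzL : InL Q M D d z := hzQ ▸ h.inL_block hz (hzQ ▸ hd)
  obtain ⟨g, hg, hgx⟩ := h.inL_pair hd hx hzL
  have hwL : InL Q M D c w := hwQ ▸ h.inL_block hw (hwQ ▸ hc)
  have hgw : (g : Matrix ι ι F) *ᵥ w = w := by
    rw [hgx, rf_of_ortho h.form (show B w z = 0 by rw [B_comm]; exact hzw),
      rf_of_ortho h.form hwx]
  have := h.inL_map hc hg hwL (hgw.symm ▸ hwL) (h.rf_block ha hc hz (hzQ ▸ hd))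
  rwa [hgx, rf_rf h.form (hzQ ▸ hd)] at this

/-- Vectors supported on the pair `l, m` with anisotropic components are equivalent to block
vectors. -/
def Two (_h : Ctx Q M D k) (l m : Fin t) : Prop :=
  ∀ x ∈ D l, ∀ y ∈ D m, Q x ≠ 0 → Q y ≠ 0 → Q x + Q y ≠ 0 → InL Q M D (Q x + Q y) (x + y)

omit [Finite F] in
theorem two_symm {l m : Fin t} (h2 : h.Two l m) : h.Two m l := fun x hx y hy hxQ hyQ hs => by
  rw [add_comm x, add_comm (Q x)]
  exact h2 y hy x hx hyQ hxQ (by rwa [add_comm])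

theorem move_comp {c : F} (hc : c ≠ 0) {l m : Fin t} (hlm : l ≠ m) {x y : ι → F} (hx : x ∈ D l)
    (hy : y ∈ D m) (hxQ : Q x ≠ 0) (hxy : InL Q M D c (x + y)) {x' : ι → F} (hx' : x' ∈ D l)
    (hx'Q : Q x' = Q x) : InL Q M D c (x' + y) := by
  have hb := h.form.polar_bilinear
  have key : ∀ {u v : ι → F}, u ∈ D l → v ∈ D l → Q u = Q v → Q (u - v) ≠ 0 →
      InL Q M D c (u + y) → InL Q M D c (v + y) := by
    intro u v hu hv huv hne huy
    have := h.rf_block huy hc (x := u - v) ((D l).sub_mem hu hv) hne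
    have hB : B u (u - v) = Q (u - v) := by
      have h1 := Q_add (Q := Q) v (u - v)
      rw [add_sub_cancel, sub_right h.form, B_self h.form] at h1
      rw [sub_right h.form, B_self h.form, B_comm u v]
      linear_combination huv + h1
    rwa [rf, hb.add_left, hB, h.orthog (Ne.symm hlm) hy ((D l).sub_mem hu hv), add_zero,
      inv_mul_cancel₀ hne, one_smul, show u + y - (u - v) = v + y by abel] at this
  rcases h.trans l x hx x' hx' hx'Q.symm hxQ with h1 | ⟨u, hu, huQ, h1, h2⟩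
  · exact key hx hx' hx'Q.symm h1 hxy
  · exact key hu hx' (by rw [huQ, hx'Q]) h2 (key hx hu huQ.symm h1 hxy)

theorem two_split {c : F} (hc : c ≠ 0) {a : ι → F} (ha : InL Q M D c a) {l m : Fin t}
    (hlm : l ≠ m) (hal : comp h.isMDec l a ≠ 0) (ham : comp h.isMDec m a ≠ 0) {x y : ι → F}
    (hx : x ∈ D l) (hy : y ∈ D m) (hxQ : Q x ≠ 0) (hyQ : Q y ≠ 0) (hsum : Q x + Q y = c) :
    InL Q M D c (x + y) := by
  have hb := h.form.polar_bilinear
  obtain ⟨dl, hdl, hdlQ, hdlB⟩ := h.aff l _ (comp_mem h.isMDec l a) hal (-Q x) (Q x) hxQ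
    (Or.inl (neg_ne_zero.mpr hxQ))
  obtain ⟨dm, hdm, hdmQ, hdmB⟩ := h.aff m _ (comp_mem h.isMDec m a) ham (-Q y) (Q y) hyQ
    (Or.inl (neg_ne_zero.mpr hyQ))
  have hal' : B a dl = -Q x := by rw [h.B_comp a hdl, hdlB]
  have ham' : B a dm = -Q y := by rw [h.B_comp a hdm, hdmB]
  have h1 := h.rf_block (h.rf_block ha hc hdm (hdmQ ▸ hyQ)) hc hdl (hdlQ ▸ hxQ)
  have e1 : rf Q dm a = a + dm := by
    rw [rf, ham', hdmQ, mul_neg, inv_mul_cancel₀ hyQ, neg_one_smul, sub_neg_eq_add]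
  have e2 : rf Q dl (a + dm) = a + dm + dl := by
    rw [rf, hb.add_left, hal', h.orthog (Ne.symm hlm) hdm hdl, add_zero, hdlQ, mul_neg,
      inv_mul_cancel₀ hxQ, neg_one_smul, sub_neg_eq_add]
  rw [e1, e2] at h1
  have h2 := h.rf_inL ha hc h1 hc
  have e3 : rf Q a (a + dm + dl) = dl + dm := by
    rw [rf, hb.add_left, hb.add_left, B_self h.form, ha.1, B_comm dm a, B_comm dl a, ham', hal',
      show 2 * c + -Q y + -Q x = c by linear_combination -hsum, inv_mul_cancel₀ hc, one_smul]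
    abel
  rw [e3] at h2
  have h3 := h.move_comp hc hlm hdl hdm (hdlQ ▸ hxQ) h2 hx hdlQ.symm
  rw [add_comm] at h3 ⊢
  exact h.move_comp hc (Ne.symm hlm) hdm hx (hdmQ ▸ hyQ) h3 hy hdmQ.symm

theorem two_of_mixed {c : F} (hc : c ≠ 0) {a : ι → F} (ha : InL Q M D c a) {l m : Fin t}
    (hlm : l ≠ m) (hal : comp h.isMDec l a ≠ 0) (ham : comp h.isMDec m a ≠ 0) : h.Two l m := by
  intro x hx y hy hxQ hyQ hs
  by_cases hd : Q x + Q y = c
  · exact hd ▸ h.two_split hc ha hlm hal ham hx hy hxQ hyQ hd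
  -- a mixed vector of norm `Q x + Q y`
  set d := Q x + Q y
  obtain ⟨v, hv, hvQ, hvB, hvspan⟩ := h.indep l _ (comp_mem h.isMDec l a) hal d hs
  have hvL : InL Q M D d v := hvQ ▸ h.inL_block hv (hvQ ▸ hs)
  have hav : B v a ≠ 0 := by rw [B_comm, h.B_comp a hv]; exact hvB
  have h1 := h.rf_inL ha hc hvL hs
  have hcoef : (Q a)⁻¹ * B v a ≠ 0 := mul_ne_zero (inv_ne_zero (ha.1 ▸ hc)) hav
  refine h.two_split hs h1 hlm ?_ ?_ hx hy hxQ hyQ rfl
  · rw [rf, map_sub, map_smul, comp_self h.isMDec hv]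
    intro e
    exact hvspan (Submodule.mem_span_singleton.mpr ⟨_, (sub_eq_zero.mp e).symm⟩)
  · rw [rf, map_sub, map_smul, comp_other h.isMDec (Ne.symm hlm) hv, zero_sub, neg_ne_zero]
    exact smul_ne_zero hcoef ham

theorem two_shift {l m j : Fin t} (hlm : l ≠ m) (hjl : j ≠ l) (hjm : j ≠ m) (h2 : h.Two l m) :
    h.Two j l := by
  obtain ⟨g, hgM, hml, hmm, hl', hm', -⟩ := h.exists_cycle hlm hjl hjm
  intro x hx y hy hxQ hyQ hs
  obtain ⟨x', hx', rfl⟩ := hl' x hx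
  obtain ⟨y', hy', rfl⟩ := hm' y hy
  simp only [h.iso hgM] at hxQ hyQ hs ⊢
  obtain ⟨w, hw, hwQ⟩ := h.rep l (Q x' + Q y') hs
  have hwL : InL Q M D (Q x' + Q y') w := hwQ ▸ h.inL_block hw (hwQ ▸ hs)
  have hgwL : InL Q M D (Q x' + Q y') ((g : Matrix ι ι F) *ᵥ w) := by
    have := h.inL_block (hml w hw) (by rw [h.iso hgM, hwQ]; exact hs)
    rwa [h.iso hgM, hwQ] at this
  have := h.inL_map hs hgM hwL hgwL (h2 x' hx' y' hy' hxQ hyQ hs)
  rwa [mulVec_add] at this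

theorem two_all {l m : Fin t} (hlm : l ≠ m) (h2 : h.Two l m) {i j : Fin t} (hij : i ≠ j) :
    h.Two i j := by
  have step : ∀ {i : Fin t}, i ≠ l → h.Two i l := by
    intro i hil
    by_cases him : i = m
    · subst him; exact h.two_symm h2
    · exact h.two_shift hlm hil him h2
  by_cases hjl : j = l
  · subst hjl; exact step hij
  by_cases hil : i = l
  · subst hil; exact h.two_symm (step hjl)
  exact h.two_symm (h.two_shift hil (Ne.symm hij) hjl (step hil))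

theorem inL_all (hq : Nat.card F ≠ 2) {l₀ m₀ : Fin t} (hlm : l₀ ≠ m₀) (h2 : h.Two l₀ m₀) :
    ∀ (S : Finset (Fin t)) (z : ι → F), (∀ i ∉ S, comp h.isMDec i z = 0) → Q z ≠ 0 →
      InL Q M D (Q z) z := by
  classical
  have hb := h.form.polar_bilinear
  intro S
  induction S using Finset.strongInduction with
  | _ S ih =>
    intro z hz hzQ
    obtain ⟨l, hl⟩ : ∃ l, Q (comp h.isMDec l z) ≠ 0 := by
      by_contra hc
      push Not at hc
      exact hzQ (by rw [h.Q_blocks z]; exact Finset.sum_eq_zero fun i _ => hc i)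
    have hlS : l ∈ S := by
      by_contra hc
      exact hl (by rw [hz l hc, Q_zero h.form])
    by_cases hone : ∀ m, m ≠ l → comp h.isMDec m z = 0
    · exact h.inL_block (mem_of_comp_eq_zero h.isMDec hone) hzQ
    push Not at hone
    obtain ⟨m, hml, hm⟩ := hone
    have hmS : m ∈ S := by
      by_contra hc
      exact hm (hz m hc)
    set c := Q (comp h.isMDec l z) with hc
    obtain ⟨c', hc'0, hcc', hβ⟩ := h.split hq c hl
    obtain ⟨xm, hxm, hxmQ, hxmB⟩ := h.aff m _ (comp_mem h.isMDec m z) hm (c' - c) c' hc'0 hβ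
    set x := comp h.isMDec l z + xm with hx
    have hxQ : Q x = c + c' := by
      rw [hx, Q_add (Q := Q), hxmQ, h.orthog (Ne.symm hml) (comp_mem h.isMDec l z) hxm, add_zero]
    have hxL : InL Q M D (c + c') x := by
      have := h.two_all hlm h2 (Ne.symm hml) _ (comp_mem h.isMDec l z) xm hxm hl
        (by rw [hxmQ]; exact hc'0) (by rw [hxmQ]; exact hcc')
      rwa [hxmQ] at this
    have hBzx : B z x = c + c' := by
      rw [hx, hb.add_right, h.B_comp z (comp_mem h.isMDec l z), B_self h.form, h.B_comp z hxm,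
        hxmB, ← hc]
      ring
    have hrf : rf Q x z = z - x := by
      rw [rf, hBzx, hxQ, inv_mul_cancel₀ hcc', one_smul]
    have hQ' : Q (z - x) = Q z := by
      rw [← hrf, rf_isometry h.form (hxQ ▸ hcc')]
    have hsmall := ih (S.erase l) (Finset.erase_ssubset hlS) (z - x) (fun i hi => by
      rw [map_sub, hx, map_add]
      by_cases hil : i = l
      · subst hil
        rw [comp_self h.isMDec (comp_mem h.isMDec i z), comp_other h.isMDec (Ne.symm hml) hxm]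
        simp
      · have hiS : i ∉ S := fun e => hi (Finset.mem_erase.mpr ⟨hil, e⟩)
        have him : i ≠ m := fun e => hiS (e ▸ hmS)
        rw [hz i hiS, comp_other h.isMDec hil (comp_mem h.isMDec l z),
          comp_other h.isMDec him hxm]
        simp) (hQ' ▸ hzQ)
    rw [hQ'] at hsmall
    have := h.rf_inL hxL hcc' hsmall hzQ
    rwa [← hrf, rf_rf h.form (hxQ ▸ hcc')] at this

theorem omega_le_of_inL (hall : ∀ x, Q x ≠ 0 → InL Q M D (Q x) x) :
    Cfsg.Geo.omegaGL Q ≤ M := by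
  have hb := h.form.polar_bilinear
  have hpair : ∀ x y, Q x ≠ 0 → Q y = Q x → Pair Q M x y := fun x y hx hy =>
    h.inL_pair hx (hall x hx) (hy ▸ hall y (hy ▸ hx))
  have hsieg : ∀ u w, Q u = 0 → B w u = 0 → Q w ≠ 0 → sieg Q u w ∈ M := by
    intro u w hu hwu hw
    set w' := w + Q w • u with hw'
    have hw'Q : Q w' = Q w := by rw [hw', Q_add_smul h.form, hu, hwu]; ring
    obtain ⟨g, hg, hgx⟩ := hpair w w' hw hw'Q
    have : g = sieg Q u w := gl_ext fun x => by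
      rw [hgx, sieg_mulVec h.form hu hwu, rf, rf, hw'Q, form_sub_left (bil h.form), hb.smul_left,
        hw', hb.add_left, hb.smul_left, hb.add_right, hb.smul_right, B_self h.form, B_comm u w,
        hwu]
      match_scalars <;> field_simp <;> ring
    exact this ▸ hg
  refine omega_le h.form h.dim fun u w hu hwu => ?_
  by_cases hw : Q w = 0
  swap
  · exact hsieg u w hu hwu hw
  obtain ⟨v, hv, hvQ⟩ := exists_anisotropic h.form (![u, w] : Fin 2 → ι → F)
    (by have := h.dim; omega)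
  have hvu : B v u = 0 := hv 0
  have hvw : B v w = 0 := hv 1
  have hwv : B (w - v) u = 0 := by rw [form_sub_left (bil h.form), hwu, hvu, sub_zero]
  rw [← sub_add_cancel w v, sieg_add_right h.form hu hwv hvu]
  refine M.mul_mem (hsieg u _ hu hwv ?_) (hsieg u v hu hvu hvQ)
  rw [sub_eq_add_neg, ← neg_one_smul F v, Q_add_smul h.form, hw, B_comm w v, hvw]
  simpa using hvQ

theorem omega_le_of_mixed (hq : Nat.card F ≠ 2) {c : F} (hc : c ≠ 0) {a : ι → F} (ha : InL Q M D c a) {l m : Fin t}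
    (hlm : l ≠ m) (hal : comp h.isMDec l a ≠ 0) (ham : comp h.isMDec m a ≠ 0) :
    Cfsg.Geo.omegaGL Q ≤ M :=
  h.omega_le_of_inL fun x hx => h.inL_all hq hlm (h.two_of_mixed hc ha hlm hal ham) Finset.univ x
    (fun i hi => absurd (Finset.mem_univ i) hi) hx

end Ctx

/-- The stabiliser of the decomposition does not contain `Ω`. -/
theorem exists_not_stab [Finite F] (hQ : Cfsg.Geo.IsNondegenerateQuadraticForm Q)
    (hn : 5 ≤ Fintype.card ι) (hD : Cfsg.Geo.IsOrthogonalMDecomposition Q k D) (hk : 2 ≤ k)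
    (hkt : 3 ≤ t ∨ 3 ≤ k) :
    ∃ g ∈ Cfsg.Geo.omegaGL Q, g ∉ Cfsg.Geo.decompositionStabilizer D := by
  have hd := hD.decomp.decomp
  have ht := hd.two_le
  obtain ⟨u, hu0, huQ, l, hl, hul⟩ : ∃ u : ι → F, u ≠ 0 ∧ Q u = 0 ∧
      ∃ l, (∀ w ∈ D l, B w u = 0) ∧ comp hd l u = 0 := by
    rcases hkt with h3 | h3
    · let i0 : Fin t := ⟨0, by omega⟩
      let i1 : Fin t := ⟨1, by omega⟩
      let i2 : Fin t := ⟨2, by omega⟩
      have hinf : D i0 ⊓ D i1 = ⊥ := by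
        rw [Submodule.eq_bot_iff]
        rintro x ⟨h0, h1⟩
        rw [← comp_self hd h0, comp_other hd (show i0 ≠ i1 by simp [i0, i1]) h1]
      have hdim := Submodule.finrank_sup_add_finrank_inf_eq (D i0) (D i1)
      rw [hinf, finrank_bot, hd.finrank_eq, hd.finrank_eq] at hdim
      obtain ⟨u, hu, hu0, huQ⟩ := exists_singular_in hQ (S := D i0 ⊔ D i1) (by omega)
      obtain ⟨a, ha, b, hb, rfl⟩ := Submodule.mem_sup.mp hu
      refine ⟨_, hu0, huQ, i2, fun w hw => ?_, ?_⟩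
      · rw [hQ.polar_bilinear.add_right, hD.decomp.orthogonal i2 i0 (by simp [i0, i2]) w hw a ha,
          hD.decomp.orthogonal i2 i1 (by simp [i1, i2]) w hw b hb, add_zero]
      · rw [map_add, comp_other hd (show i2 ≠ i0 by simp [i0, i2]) ha,
          comp_other hd (show i2 ≠ i1 by simp [i1, i2]) hb, add_zero]
    · let i0 : Fin t := ⟨0, by omega⟩
      let i1 : Fin t := ⟨1, by omega⟩
      obtain ⟨u, hu, hu0, huQ⟩ := exists_singular_in hQ (S := D i0)
        (by rw [hd.finrank_eq]; exact h3)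
      exact ⟨u, hu0, huQ, i1, fun w hw => hD.decomp.orthogonal i1 i0 (by simp [i0, i1]) w hw u hu,
        comp_other hd (show i1 ≠ i0 by simp [i0, i1]) hu⟩
  obtain ⟨w, hw, hw0⟩ := Submodule.exists_mem_ne_zero_of_ne_bot (block_ne_bot hd l)
  obtain ⟨-, v, hv, hwv⟩ := hD.decomp.nondegenerate l w hw hw0
  refine ⟨sieg Q u w, sieg_mem_omega hQ hn huQ (hl w hw), fun hmem => ?_⟩
  obtain ⟨σ, hσ⟩ := exists_image_of_mem hmem
  have h1 := hσ l v hv
  rw [sieg_mulVec hQ huQ (hl w hw), hl v hv, zero_smul, mul_zero, sub_zero, add_zero] at h1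
  have hv0 : v ≠ 0 := fun e => hwv (by rw [e, zero_right hQ])
  have hσl : σ l = l := by
    by_contra hne
    have h3 := comp_other hd (Ne.symm hne) h1
    rw [map_add, map_smul, comp_self hd hv, hul, smul_zero, add_zero] at h3
    exact hv0 h3
  rw [hσl] at h1
  have h3 := (D l).sub_mem h1 hv
  rw [add_sub_cancel_left] at h3
  have h4 := (D l).smul_mem (-B v w)⁻¹ h3
  rw [smul_smul, inv_mul_cancel₀ (neg_ne_zero.mpr (by rw [B_comm]; exact hwv)), one_smul] at h4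
  exact hu0 (by rw [← comp_self hd h4, hul])

end Cfsg.Agent.Lib.Subspaces.OrthDecomp
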