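import Cfsg.Agent.Lib.Subspaces.OrthDecompOdd

/-!
Stabilisers in `Ω` of orthogonal decompositions into blocks of dimension at least four,
characteristic two.
-/

set_option autoImplicit false

namespace Cfsg.Agent.Lib.Subspaces.OrthDecompEven

open Matrix Cfsg.Agent.Lib.Subspaces.Transvection Cfsg.Agent.Lib.Subspaces.FormVec
  Cfsg.Agent.Lib.Subspaces.OrthForm Cfsg.Agent.Lib.Subspaces.OmegaGL
  Cfsg.Agent.Lib.Subspaces.OrthNondeg Cfsg.Agent.Lib.Subspaces.OrthNondegMax
  Cfsg.Agent.Lib.Subspaces.Decomposition Cfsg.Agent.Lib.Subspaces.OrthDecomp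
  Cfsg.Agent.Lib.Subspaces.OrthDecompOdd

variable {ι : Type} [Fintype ι] [DecidableEq ι] {F : Type*} [Field F] [Finite F]
  {Q : (ι → F) → F}

local notation "B" => QuadraticMap.polar Q

omit [Finite F] in
theorem B_self_zero (hQ : Cfsg.Geo.IsNondegenerateQuadraticForm Q) (h2 : (2 : F) = 0)
    (x : ι → F) : B x x = 0 := by
  rw [B_self hQ, h2, zero_mul]

theorem exists_scale (hQ : Cfsg.Geo.IsNondegenerateQuadraticForm Q) (h2 : (2 : F) = 0)
    {x : ι → F} (hx : Q x ≠ 0) (c : F) : ∃ r : F, Q (r • x) = c := by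
  have : Fintype F := Fintype.ofFinite F
  have hc : ringChar F = 2 := by
    have : CharP F 2 := CharTwo.of_one_ne_zero_of_two_eq_zero one_ne_zero h2
    exact ringChar.eq F 2
  obtain ⟨r, hr⟩ := FiniteField.isSquare_of_char_two hc (c / Q x)
  exact ⟨r, by rw [hQ.smul, pow_two, ← hr, div_mul_cancel₀ _ hx]⟩

omit [Finite F] in
/-- Removing a pair with non-zero product. -/
theorem split_pair (hQ : Cfsg.Geo.IsNondegenerateQuadraticForm Q) (h2 : (2 : F) = 0)
    {U : Submodule F (ι → F)} (hU : Cfsg.Geo.IsNondegenerateOn B U) {a b : ι → F} (ha : a ∈ U)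
    (hb' : b ∈ U) (hab : B a b ≠ 0) :
    Cfsg.Geo.IsNondegenerateOn B (U ⊓ perpQ hQ (Submodule.span F {a, b}) : Submodule F (ι → F)) ∧
      Module.finrank F U ≤ Module.finrank F ↥(U ⊓ perpQ hQ (Submodule.span F {a, b})) + 2 := by
  have hb := hQ.polar_bilinear
  refine ⟨?_, ?_⟩
  · rintro u ⟨huU, hup⟩ hu0
    obtain ⟨hua, hub⟩ := mem_perp_pair (hQ := hQ) hup
    obtain ⟨-, y, hy, huy⟩ := hU u huU hu0
    set y' := y + (-B y b / B a b) • a + (-B y a / B a b) • b with hy'
    have hy'm : y' ∈ U ⊓ perpQ hQ (Submodule.span F {a, b}) := by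
      refine ⟨U.add_mem (U.add_mem hy (U.smul_mem _ ha)) (U.smul_mem _ hb'), fun w hw => ?_⟩
      obtain ⟨c, d, rfl⟩ := Submodule.mem_span_pair.mp hw
      simp only [hy', hb.add_left, hb.add_right, hb.smul_left, hb.smul_right, B_self_zero hQ h2,
        B_comm b a]
      field_simp
      ring
    have h : B u y' ≠ 0 := by
      rwa [hy', hb.add_right, hb.add_right, hb.smul_right, hb.smul_right, hua, hub, mul_zero,
        mul_zero, add_zero, add_zero]
    exact ⟨⟨y', hy'm, by rwa [B_comm]⟩, y', hy'm, h⟩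
  · have h1 := inf_perp_ge (hQ := hQ) U (Submodule.span F {a, b})
    have h2' := finrank_pair_le a b
    omega

/-- An anisotropic vector orthogonal to a pair whose first member is anisotropic. -/
theorem exists_aniso_perp (hQ : Cfsg.Geo.IsNondegenerateQuadraticForm Q) (h2 : (2 : F) = 0)
    {U : Submodule F (ι → F)} (hU : Cfsg.Geo.IsNondegenerateOn B U)
    (hUd : 3 ≤ Module.finrank F U) {a b : ι → F} (ha : a ∈ U) (hb : b ∈ U) (haQ : Q a ≠ 0) :
    ∃ τ ∈ U, Q τ ≠ 0 ∧ B τ a = 0 ∧ B τ b = 0 := by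
  by_cases hab : B a b = 0
  · exact ⟨a, ha, haQ, B_self_zero hQ h2 a, hab⟩
  obtain ⟨hC, hCd⟩ := split_pair hQ h2 hU ha hb hab
  obtain ⟨τ, ⟨hτ, hτp⟩, hτQ⟩ := exists_anisotropic_on hQ hC
    (fun e => by rw [e, finrank_bot] at hCd; omega)
  obtain ⟨h1, h2'⟩ := mem_perp_pair (hQ := hQ) hτp
  exact ⟨τ, hτ, hτQ, h1, h2'⟩

variable {t k : ℕ} {D : Fin t → Submodule F (ι → F)}

omit [Finite F] in
theorem exists_comp_aniso (hQ : Cfsg.Geo.IsNondegenerateQuadraticForm Q)
    (hD : Cfsg.Geo.IsNondegenerateMDecomposition B k D) {a : ι → F} (ha : Q a ≠ 0) :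
    ∃ i, Q (comp hD.decomp i a) ≠ 0 := by
  classical
  by_contra hc
  push Not at hc
  suffices ∀ s : Finset (Fin t), Q (∑ i ∈ s, comp hD.decomp i a) = 0 by
    exact ha (by rw [← sum_comp hD.decomp a]; exact this _)
  intro s
  induction s using Finset.induction_on with
  | empty => simp [Q_zero hQ]
  | insert p s hp ih =>
    rw [Finset.sum_insert hp, Q_add (Q := Q), ih, hc, B_sum_right hQ,
      Finset.sum_eq_zero (fun i hi => hD.orthogonal p i (fun e => hp (e ▸ hi)) _
        (comp_mem hD.decomp p a) _ (comp_mem hD.decomp i a))]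
    ring

theorem ctx_of (hQ : Cfsg.Geo.IsNondegenerateQuadraticForm Q) (h2 : (2 : F) = 0)
    (hn : 5 ≤ Fintype.card ι) (hD : Cfsg.Geo.IsOrthogonalMDecomposition Q k D) (hk : 4 ≤ k)
    (hex : Nat.card F = 2 → k = 4 → ∀ i, ¬ Cfsg.Geo.IsPlusTypeOn Q (D i))
    {M : Subgroup (GL ι F)}
    (habove : Cfsg.Geo.decompositionStabilizer D ⊓ Cfsg.Geo.omegaGL Q ≤ M)
    (hbelow : M ≤ Cfsg.Geo.omegaGL Q) : Ctx Q M D k := by
  classical
  have hb := hQ.polar_bilinear
  have hd := hD.decomp.decomp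
  have hnd := hD.decomp.nondegenerate
  have hfr := hd.finrank_eq
  have hrep : ∀ i, ∀ c : F, ∃ z ∈ D i, Q z = c := fun i c => by
    obtain ⟨v, hv, hvQ⟩ := exists_anisotropic_on hQ (hnd i) (block_ne_bot hd i)
    obtain ⟨r, hr⟩ := exists_scale hQ h2 hvQ c
    exact ⟨_, (D i).smul_mem r hv, hr⟩
  -- a vector of prescribed norm and product
  have haff : ∀ i, ∀ a ∈ D i, a ≠ 0 → ∀ β c : F, β ≠ 0 → ∃ x ∈ D i, Q x = c ∧ B a x = β := by
    intro i a ha ha0 β c hβ
    obtain ⟨-, y, hy, hay⟩ := hnd i a ha ha0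
    obtain ⟨f, hf, hfa⟩ : ∃ f ∈ D i, B a f = β :=
      ⟨(β / B a y) • y, (D i).smul_mem _ hy, by rw [hb.smul_right, div_mul_cancel₀ _ hay]⟩
    by_cases haQ : Q a = 0
    · refine ⟨f + ((c - Q f) / β) • a, (D i).add_mem hf ((D i).smul_mem _ ha), ?_, ?_⟩
      · rw [Q_add_smul hQ, haQ, B_comm f a, hfa, div_mul_cancel₀ _ hβ]
        ring
      · rw [hb.add_right, hb.smul_right, B_self_zero hQ h2, hfa, mul_zero, add_zero]
    · obtain ⟨hC, hCd⟩ := split_pair hQ h2 (hnd i) ha hf (by rw [hfa]; exact hβ)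
      rw [hfr i] at hCd
      obtain ⟨τ, ⟨hτ, hτp⟩, hτQ⟩ := exists_anisotropic_on hQ hC
        (fun e => by rw [e, finrank_bot] at hCd; omega)
      obtain ⟨hτa, hτf⟩ := mem_perp_pair (hQ := hQ) hτp
      obtain ⟨r, hr⟩ := exists_scale hQ h2 hτQ (c - Q f)
      refine ⟨f + r • τ, (D i).add_mem hf ((D i).smul_mem _ hτ), ?_, ?_⟩
      · rw [Q_add (Q := Q), hr, hb.smul_right, B_comm f τ, hτf]
        ring
      · rw [hb.add_right, hb.smul_right, B_comm a τ, hτa, hfa, mul_zero, add_zero]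
  refine
    { form := hQ, dim := hn, decomp := hD, above := habove, below := hbelow
      rep := fun i c _ => hrep i c, perp := ?_, trans := ?_, aff := ?_, indep := ?_, split := ?_ }
  · intro a haQ c _
    obtain ⟨l, hl⟩ := exists_comp_aniso hQ hD.decomp haQ
    obtain ⟨r, hr⟩ := exists_scale hQ h2 hl c
    refine ⟨l, _, (D l).smul_mem r (comp_mem hd l a), hr, ?_⟩
    rw [hb.smul_left, B_block hQ hD.decomp a (comp_mem hd l a), B_self_zero hQ h2, mul_zero]
  · intro i x hx y hy hxy hc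
    have hsub : ∀ {u v : ι → F}, Q u = Q v → Q (u - v) = -B u v := fun {u v} huv => by
      have h1 := Q_add (Q := Q) (u - v) v
      rw [sub_add_cancel, form_sub_left (bil hQ), B_self_zero hQ h2, sub_zero] at h1
      linear_combination -h1 + huv
    by_cases hB : B x y = 0
    swap
    · exact Or.inl (by rw [hsub hxy]; exact neg_ne_zero.mpr hB)
    obtain ⟨u, hu, huQ, hxu, hyu⟩ :
        ∃ u ∈ D i, Q u = Q x ∧ B x u ≠ 0 ∧ B y u ≠ 0 := by
      have hx0 : x ≠ 0 := fun e => hc (by rw [e, Q_zero hQ])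
      by_cases hxy' : x = y
      · obtain ⟨u, hu, huQ, huB⟩ := haff i x hx hx0 1 (Q x) one_ne_zero
        exact ⟨u, hu, huQ, by rw [huB]; exact one_ne_zero,
          by rw [← hxy', huB]; exact one_ne_zero⟩
      obtain ⟨f, hf, hfs, hfx⟩ := dual_in hQ (hnd i)
        ((Submodule.span_singleton_le_iff_mem _ _).mpr ((D i).sub_mem hx hy)) hx (fun hm => by
          obtain ⟨μ, hμ⟩ := Submodule.mem_span_singleton.mp hm
          have hμ0 : μ ≠ 0 := fun e => hx0 (by rw [← hμ, e, zero_smul])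
          have hy2 : y = ((μ - 1) / μ) • x := by
            have h1 : μ • y = (μ - 1) • x := by
              rw [smul_sub] at hμ
              linear_combination (norm := module) -hμ
            rw [div_eq_inv_mul, ← smul_smul, ← h1, smul_smul, inv_mul_cancel₀ hμ0, one_smul]
          have h3 := hxy
          rw [hy2, hQ.smul] at h3
          have h4 : ((μ - 1) / μ) ^ 2 = 1 := mul_right_cancel₀ hc (by linear_combination -h3)
          refine hxy' (hy2 ▸ ?_)
          rcases sq_eq_one_iff.mp h4 with h5 | h5 <;> rw [h5]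
          · rw [one_smul]
          · rw [show (-1 : F) = 1 by linear_combination -h2, one_smul])
      have hfy : B f y = 1 := by
        have := hfs _ (Submodule.mem_span_singleton_self _)
        rw [sub_right hQ, hfx, sub_eq_zero] at this
        exact this.symm
      obtain ⟨f', hf', hf'x, hf'y, hf'Q⟩ : ∃ f' ∈ D i, B f' x = 1 ∧ B f' y = 1 ∧
          (Q f' ≠ 0 ∨ Nat.card F ≠ 2) := by
        by_cases hq : Nat.card F = 2
        swap
        · exact ⟨f, hf, hfx, hfy, Or.inr hq⟩
        by_cases hfQ : Q f = 0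
        swap
        · exact ⟨f, hf, hfx, hfy, Or.inl hfQ⟩
        set e := x - y with he
        have heQ : Q e = 0 := by rw [he, hsub hxy, hB, neg_zero]
        have hef : B f e = 0 := hfs _ (Submodule.mem_span_singleton_self _)
        have he0 : e ≠ 0 := sub_ne_zero.mpr hxy'
        by_cases hk4 : k = 4
        · exfalso
          refine hex hq hk4 i ⟨Submodule.span F {e, f}, ?_, ?_, ?_⟩
          · rw [Submodule.span_le]
            rintro v (rfl | rfl)
            · exact (D i).sub_mem hx hy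
            · exact hf
          · intro v hv
            obtain ⟨p, r, rfl⟩ := Submodule.mem_span_pair.mp hv
            rw [Q_add (Q := Q), hQ.smul, hQ.smul, heQ, hfQ, hb.smul_left, hb.smul_right,
              B_comm e f, hef]
            ring
          · rw [hfr i, hk4]
            have hli : LinearIndependent F ![e, f] := by
              rw [LinearIndependent.pair_iff' he0]
              intro p hp
              rw [← hp, hb.smul_left, he, form_sub_left (bil hQ), B_self_zero hQ h2,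
                B_comm y x, hB, sub_zero, mul_zero] at hfx
              exact zero_ne_one hfx
            have := finrank_span_eq_card hli
            rw [Matrix.range_cons, Matrix.range_cons, Matrix.range_empty, Set.union_empty,
              Set.singleton_union, Fintype.card_fin] at this
            omega
        obtain ⟨hC, hCd⟩ := split_pair hQ h2 (hnd i) hf hx (by rw [hfx]; exact one_ne_zero)
        set C := D i ⊓ perpQ hQ (Submodule.span F {f, x}) with hCdef
        rw [hfr i] at hCd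
        have heC : e ∈ C := ⟨(D i).sub_mem hx hy, fun w hw => by
          obtain ⟨p, r, rfl⟩ := Submodule.mem_span_pair.mp hw
          rw [hb.add_right, hb.smul_right, hb.smul_right, B_comm e f, hef, he,
            form_sub_left (bil hQ), B_self_zero hQ h2, B_comm y x, hB]
          ring⟩
        obtain ⟨-, h', hh', heh⟩ := hC e heC he0
        obtain ⟨hC', hC'd⟩ := split_pair hQ h2 hC heC hh' heh
        have hkeven : 4 ≤ Module.finrank F C → 2 ≤ Module.finrank F
            ↥(C ⊓ perpQ hQ (Submodule.span F {e, h'})) := fun _ => by omega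
        obtain ⟨τ, ⟨⟨hτ, hτp⟩, hτe⟩, hτQ⟩ := exists_anisotropic_on hQ hC' (fun e' => by
          rw [e', finrank_bot] at hC'd
          omega)
        obtain ⟨hτf, hτx⟩ := mem_perp_pair (hQ := hQ) hτp
        have hτe' : B τ e = 0 := (mem_perp_pair (hQ := hQ) hτe).1
        have hτy : B τ y = 0 := by
          rw [he, sub_right hQ, hτx, zero_sub, neg_eq_zero] at hτe'
          exact hτe'
        refine ⟨f + τ, (D i).add_mem hf hτ, by rw [hb.add_left, hfx, hτx, add_zero],
          by rw [hb.add_left, hfy, hτy, add_zero], Or.inl ?_⟩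
        rw [Q_add (Q := Q), hfQ, B_comm f τ, hτf, zero_add, add_zero]
        exact hτQ
      have hxB : ∀ {r s : F}, B x (r • f' + s • x) = r := fun {r s} => by
        rw [hb.add_right, hb.smul_right, hb.smul_right, B_self_zero hQ h2, B_comm x f', hf'x]
        ring
      have hyB : ∀ {r s : F}, B y (r • f' + s • x) = r := fun {r s} => by
        rw [hb.add_right, hb.smul_right, hb.smul_right, B_comm y x, hB, B_comm y f', hf'y]
        ring
      have hQrs : ∀ {r s : F},
          Q (r • f' + s • x) = r ^ 2 * Q f' + s ^ 2 * Q x + r * s := fun {r s} => by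
        rw [Q_add (Q := Q), hQ.smul, hQ.smul, hb.smul_left, hb.smul_right, hf'x]
        ring
      have hm : ∀ r s : F, r • f' + s • x ∈ D i := fun r s =>
        (D i).add_mem ((D i).smul_mem _ hf') ((D i).smul_mem _ hx)
      by_cases hf'0 : Q f' = 0
      · have hq : Nat.card F ≠ 2 := hf'Q.resolve_left (not_not.mpr hf'0)
        have : Fintype F := Fintype.ofFinite F
        rw [Nat.card_eq_fintype_card] at hq
        obtain ⟨s, -, hs⟩ := Finset.exists_mem_notMem_of_card_lt_card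
          (s := ({0, 1} : Finset F)) (t := Finset.univ) (by
            rw [Finset.card_univ]
            have := Finset.card_le_two (a := (0 : F)) (b := 1)
            have := Fintype.one_lt_card (α := F)
            omega)
        simp only [Finset.mem_insert, Finset.mem_singleton, not_or] at hs
        have hr : Q x * (1 + s ^ 2) / s ≠ 0 := by
          refine div_ne_zero (mul_ne_zero hc fun h => hs.2 ?_) hs.1
          have h' : (s - 1) ^ 2 = 0 := by linear_combination h - s * h2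
          exact sub_eq_zero.mp (pow_eq_zero_iff two_ne_zero |>.mp h')
        refine ⟨_, hm (Q x * (1 + s ^ 2) / s) s, ?_, by rw [hxB]; exact hr,
          by rw [hyB]; exact hr⟩
        rw [hQrs, hf'0, mul_zero, zero_add, div_mul_cancel₀ _ hs.1]
        linear_combination Q x * s ^ 2 * h2
      · refine ⟨_, hm (Q f')⁻¹ 1, ?_, by rw [hxB]; exact inv_ne_zero hf'0,
          by rw [hyB]; exact inv_ne_zero hf'0⟩
        rw [hQrs, pow_two, mul_assoc, inv_mul_cancel₀ hf'0]
        linear_combination (Q f')⁻¹ * h2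
    refine Or.inr ⟨u, hu, huQ, ?_, ?_⟩
    · rw [hsub huQ.symm]; exact neg_ne_zero.mpr hxu
    · rw [hsub (huQ.trans hxy), B_comm]; exact neg_ne_zero.mpr hyu
  · intro i a ha ha0 β c _ hβ
    refine haff i a ha ha0 β c (hβ.resolve_right fun h3 => ?_)
    have : Fintype F := Fintype.ofFinite F
    rw [Nat.card_eq_fintype_card] at h3
    have h1 := FiniteField.cast_card_eq_zero F
    rw [h3] at h1
    push_cast at h1
    exact one_ne_zero (α := F) (by linear_combination h1 - h2)
  · intro i a ha ha0 c _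
    obtain ⟨x, hx, hxQ, hxB⟩ := haff i a ha ha0 1 c one_ne_zero
    refine ⟨x, hx, hxQ, by rw [hxB]; exact one_ne_zero, fun hm => ?_⟩
    obtain ⟨μ, rfl⟩ := Submodule.mem_span_singleton.mp hm
    rw [hb.smul_right, B_self_zero hQ h2, mul_zero] at hxB
    exact zero_ne_one hxB
  · intro hq c hc
    have : Fintype F := Fintype.ofFinite F
    rw [Nat.card_eq_fintype_card] at hq
    obtain ⟨γ, -, hγ⟩ := Finset.exists_mem_notMem_of_card_lt_card
      (s := ({0, 1} : Finset F)) (t := Finset.univ) (by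
        rw [Finset.card_univ]
        have := Finset.card_le_two (a := (0 : F)) (b := 1)
        have := Fintype.one_lt_card (α := F)
        omega)
    simp only [Finset.mem_insert, Finset.mem_singleton, not_or] at hγ
    refine ⟨γ * c, mul_ne_zero hγ.1 hc, fun h => hγ.2 ?_, Or.inl fun h => hγ.2 ?_⟩
    · have := (mul_eq_zero.mp (show (1 + γ) * c = 0 by linear_combination h)).resolve_right hc
      linear_combination this - h2
    · have := (mul_eq_zero.mp (show (γ - 1) * c = 0 by linear_combination h)).resolve_right hc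
      linear_combination this

section Mixed

variable {M : Subgroup (GL ι F)}

/-- An element keeping every block vector of norm one in a single block stabilises `D`. -/
theorem mem_stab_of_single (h : Ctx Q M D k) (h2 : (2 : F) = 0) (hk : 3 ≤ k) {g : GL ι F}
    (hg : g ∈ M) {c : F} (hc : c ≠ 0)
    (hs : ∀ i, ∀ x ∈ D i, Q x = c → ∃ a, (g : Matrix ι ι F) *ᵥ x ∈ D a) :
    g ∈ Cfsg.Geo.decompositionStabilizer D := by
  have hQ := h.form
  have hiso := h.iso hg
  refine mem_stabilizer_of_mapsTo h.isMDec fun i => ?_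
  obtain ⟨x0, hx0, hx0Q⟩ := h.rep i c hc
  obtain ⟨a, ha⟩ := hs i x0 hx0 hx0Q
  have hsame : ∀ {u v : ι → F} {p r : Fin t}, u ∈ D i → v ∈ D i → Q u = c → Q v = c →
      Q (u - v) ≠ 0 → (g : Matrix ι ι F) *ᵥ u ∈ D p → (g : Matrix ι ι F) *ᵥ v ∈ D r → p = r := by
    intro u v p r _ _ hu hv hne hp hr
    by_contra hpr
    have h0 : B u v = 0 := by rw [← B_map hiso]; exact h.orthog hpr hp hr
    apply hne
    rw [sub_eq_add_neg, ← neg_one_smul F v, Q_add_smul hQ, h0, hu, hv]
    linear_combination c * h2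
  have hall : ∀ x ∈ D i, Q x = c → (g : Matrix ι ι F) *ᵥ x ∈ D a := by
    intro x hx hxQ
    obtain ⟨b, hb⟩ := hs i x hx hxQ
    rcases h.trans i x hx x0 hx0 (hxQ.trans hx0Q.symm) (hxQ ▸ hc) with h1 | ⟨u, hu, huQ, h1, h1'⟩
    · exact hsame hx hx0 hxQ hx0Q h1 hb ha ▸ hb
    · rw [hxQ] at huQ
      obtain ⟨p, hp⟩ := hs i u hu huQ
      rw [hsame hx hu hxQ huQ h1 hb hp, hsame hu hx0 huQ hx0Q h1' hp ha] at hb
      exact hb
  set S := D i ⊓ (D a).comap (Matrix.mulVecLin (g : Matrix ι ι F)) with hS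
  have haniso : ∀ x ∈ D i, Q x ≠ 0 → x ∈ S := by
    intro x hx hxQ
    obtain ⟨r, hr⟩ := exists_scale hQ h2 hxQ c
    have hr0 : r ≠ 0 := fun e => hc (by rw [← hr, e, zero_smul, Q_zero hQ])
    exact (S.smul_mem_iff hr0).mp ⟨(D i).smul_mem _ hx, hall _ ((D i).smul_mem _ hx) hr⟩
  refine ⟨a, fun v hv => ?_⟩
  have hv' : v ∈ S := by
    by_cases hvQ : Q v = 0
    swap
    · exact haniso v hv hvQ
    by_cases hv0 : v = 0
    · rw [hv0]; exact S.zero_mem
    obtain ⟨-, f, hf, hvf⟩ := h.decomp.decomp.nondegenerate i v hv hv0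
    obtain ⟨hC, hCd⟩ := split_pair hQ h2 (h.decomp.decomp.nondegenerate i) hv hf hvf
    rw [h.isMDec.finrank_eq i] at hCd
    obtain ⟨τ, ⟨hτ, hτp⟩, hτQ⟩ := exists_anisotropic_on hQ hC
      (fun e => by rw [e, finrank_bot] at hCd; omega)
    have hQ' : Q (v + τ) ≠ 0 := by
      rwa [Q_add (Q := Q), hvQ, B_comm v τ, (mem_perp_pair (hQ := hQ) hτp).1, zero_add, add_zero]
    simpa using S.sub_mem (haniso _ ((D i).add_mem hv hτ) hQ') (haniso τ hτ hτQ)
  exact hv'.2

/-- A product of two reflections at norm one vectors with non-zero product, one of them mixed. -/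
theorem not_mem_stab (h : Ctx Q M D k) (h2 : (2 : F) = 0) (hk : 3 ≤ k) {R : GL ι F} {a b : ι → F}
    (haQ : Q a = 1) (hbQ : Q b = 1) (hab : B a b = 1)
    (hR : ∀ v, (R : Matrix ι ι F) *ᵥ v = rf Q a (rf Q b v))
    {l m : Fin t} (hlm : l ≠ m) (hal : comp h.isMDec l a ≠ 0) (ham : comp h.isMDec m a ≠ 0) :
    R ∉ Cfsg.Geo.decompositionStabilizer D := by
  classical
  intro hmem
  have hQ := h.form
  have hb := hQ.polar_bilinear
  have hnd := h.decomp.decomp.nondegenerate
  obtain ⟨σ, hσ⟩ := exists_image_of_mem hmem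
  have hσid : ∀ q, σ q = q := by
    intro q
    have h1 := inf_perp_ge (hQ := hQ) (D q) (Submodule.span F {a, b})
    have h3 := finrank_pair_le a b
    rw [h.isMDec.finrank_eq q] at h1
    obtain ⟨v, ⟨hv, hvp⟩, hv0⟩ := Submodule.exists_mem_ne_zero_of_ne_bot
      (p := D q ⊓ perpQ hQ (Submodule.span F {a, b})) (fun e => by rw [e, finrank_bot] at h1; omega)
    obtain ⟨hva, hvb⟩ := mem_perp_pair (hQ := hQ) hvp
    have := hσ q v hv
    rw [hR, rf_of_ortho hQ hvb, rf_of_ortho hQ hva] at this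
    by_contra hne
    exact hv0 (by rw [← comp_self h.isMDec hv, comp_other h.isMDec (Ne.symm hne) this])
  have E : ∀ q, ∀ v ∈ D q, ∀ j, j ≠ q →
      B v b • comp h.isMDec j b + (B v a - B v b) • comp h.isMDec j a = 0 := by
    intro q v hv j hj
    have h1 := (D q).sub_mem hv (hσid q ▸ hσ q v hv)
    have h3 := comp_other h.isMDec hj h1
    have h4 : v - (R : Matrix ι ι F) *ᵥ v = B v b • b + (B v a - B v b) • a := by
      rw [hR, rf, rf, form_sub_left (bil hQ), hb.smul_left, haQ, hbQ, B_comm b a, hab]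
      simp only [inv_one, one_mul, mul_one]
      module
    rwa [h4, map_add, map_smul, map_smul] at h3
  set α : Fin t → ι → F := fun q => comp h.isMDec q a with hα
  set β : Fin t → ι → F := fun q => comp h.isMDec q b with hβ
  have hBc : ∀ q, ∀ v ∈ D q, B v a = B v (α q) ∧ B v b = B v (β q) := fun q v hv =>
    ⟨B_block hQ h.decomp.decomp a hv, B_block hQ h.decomp.decomp b hv⟩
  have hdual : ∀ q u, u ∈ D q → u ≠ 0 → ∃ v ∈ D q, B v u = 1 := by
    intro q u hu hu0
    obtain ⟨-, y, hy, huy⟩ := hnd q u hu hu0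
    exact ⟨(B u y)⁻¹ • y, (D q).smul_mem _ hy, by
      rw [hb.smul_left, B_comm y u, inv_mul_cancel₀ huy]⟩
  have hdep : ∀ q, ∃ μ : F, β q = μ • α q := by
    intro q
    by_cases hm : α q = 0
    · refine ⟨0, ?_⟩
      rw [zero_smul]
      by_contra hb0
      obtain ⟨v, hv, hvb⟩ := hdual q _ (comp_mem h.isMDec q b) hb0
      have hva : B v a = 0 := by rw [(hBc q v hv).1, hm, zero_right hQ]
      have hE : ∀ j, j ≠ q → β j = α j := fun j hj => by
        have h1 := E q v hv j hj
        rw [hva, (hBc q v hv).2, hvb, zero_sub, one_smul, neg_one_smul] at h1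
        exact (eq_neg_of_add_eq_zero_left h1).trans (neg_neg _)
      have hlq : l ≠ q := fun e => hal (e ▸ hm)
      have hmq : m ≠ q := fun e => ham (e ▸ hm)
      obtain ⟨w, hw, hwa⟩ := hdual l _ (comp_mem h.isMDec l a) hal
      have hwb : B w b = 1 := by rw [(hBc l w hw).2, hE l hlq]; exact hwa
      have h1 := E l w hw m (Ne.symm hlm)
      rw [hwb, (hBc l w hw).1, hwa, sub_self, zero_smul, add_zero, one_smul] at h1
      exact ham (by show α m = 0; rw [← hE m hmq]; exact h1)
    by_contra hne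
    push Not at hne
    obtain ⟨v, hv, hv0, hv1⟩ := dual_in hQ (hnd q)
      ((Submodule.span_singleton_le_iff_mem _ _).mpr (comp_mem h.isMDec q a))
      (comp_mem h.isMDec q b) (fun hm' => by
        obtain ⟨μ, hμ⟩ := Submodule.mem_span_singleton.mp hm'
        exact hne μ hμ.symm)
    obtain ⟨w, hw, hw0, hw1⟩ := dual_in hQ (hnd q)
      ((Submodule.span_singleton_le_iff_mem _ _).mpr (comp_mem h.isMDec q b))
      (comp_mem h.isMDec q a) (fun hm' => by
        obtain ⟨μ, hμ⟩ := Submodule.mem_span_singleton.mp hm'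
        rcases eq_or_ne μ 0 with rfl | hμ0
        · exact hm (by rw [hα]; simpa using hμ.symm)
        · exact hne μ⁻¹ (by
            show comp h.isMDec q b = μ⁻¹ • comp h.isMDec q a
            rw [← hμ, smul_smul, inv_mul_cancel₀ hμ0, one_smul]))
    obtain ⟨j, hj, hja⟩ : ∃ j, j ≠ q ∧ α j ≠ 0 := by
      by_cases hlq : l = q
      · exact ⟨m, fun e => hlm (hlq.trans e.symm), ham⟩
      · exact ⟨l, hlq, hal⟩
    have h1 := E q w hw j hj
    rw [(hBc q w hw).1, hw1, (hBc q w hw).2, hw0 _ (Submodule.mem_span_singleton_self _), sub_zero,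
      zero_smul, zero_add, one_smul] at h1
    exact hja h1
  choose μ hμ using hdep
  have hrel : ∀ q j, j ≠ q → α q ≠ 0 → α j ≠ 0 → μ q * μ j + (1 - μ q) = 0 := by
    intro q j hj hq hja
    obtain ⟨v, hv, hva⟩ := hdual q (α q) (comp_mem h.isMDec q a) hq
    have h1 := E q v hv j hj
    rw [(hBc q v hv).1, (hBc q v hv).2, hva, hμ q, hb.smul_right, hva, mul_one,
      show comp h.isMDec j b = μ j • α j from hμ j, smul_smul, ← add_smul] at h1
    exact (smul_eq_zero.mp h1).resolve_right hja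
  have hmul : ∀ q, β q = μ l • α q := by
    intro q
    by_cases hq : α q = 0
    · rw [hμ q, hq, smul_zero, smul_zero]
    · rw [hμ q]
      congr 1
      by_cases hql : q = l
      · rw [hql]
      · linear_combination hrel l q hql hal hq - hrel q l (Ne.symm hql) hq hal
  have hbeq : b = μ l • a := by
    conv_lhs => rw [← sum_comp h.isMDec b]
    conv_rhs => rw [← sum_comp h.isMDec a]
    rw [Finset.smul_sum]
    exact Finset.sum_congr rfl fun q _ => hmul q
  rw [hbeq, hb.smul_right, B_self_zero hQ h2, mul_zero] at hab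
  exact zero_ne_one hab

theorem exists_mixed (h : Ctx Q M D k) (h2 : (2 : F) = 0) (hk : 4 ≤ k)
    {g : GL ι F} (hgM : g ∈ M) (hg : g ∉ Cfsg.Geo.decompositionStabilizer D) :
    ∃ c : F, c ≠ 0 ∧ ∃ a, InL Q M D c a ∧
      ∃ l m, l ≠ m ∧ comp h.isMDec l a ≠ 0 ∧ comp h.isMDec m a ≠ 0 := by
  have hQ := h.form
  have hiso := h.iso hgM
  obtain ⟨i, x, hx, hxQ, hmix⟩ : ∃ i, ∃ x ∈ D i, Q x = 1 ∧
      ∀ a, (g : Matrix ι ι F) *ᵥ x ∉ D a := by
    by_contra hc
    push Not at hc
    exact hg (mem_stab_of_single h h2 (by omega) hgM one_ne_zero hc)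
  have hx0 : x ≠ 0 := fun e => by rw [e, Q_zero hQ] at hxQ; exact zero_ne_one hxQ
  obtain ⟨y, hy, hyQ, hxy⟩ := h.aff i x hx hx0 1 1 one_ne_zero (Or.inl one_ne_zero)
  set a := (g : Matrix ι ι F) *ᵥ x with ha
  set b := (g : Matrix ι ι F) *ᵥ y with hb'
  obtain ⟨R, hR, hRv⟩ := pair_conj hQ hgM hiso
    (h.pair_block hx hy (hxQ.trans hyQ.symm) (hxQ ▸ one_ne_zero))
  rw [← ha, ← hb'] at hRv
  obtain ⟨l, m, hlm, hal, ham⟩ := exists_two_of_mixed h.isMDec hmix
  have haQ : Q a = 1 := by rw [ha, hiso, hxQ]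
  obtain ⟨r, hr⟩ := exists_comp_aniso hQ h.decomp.decomp (a := a) (by rw [haQ]; exact one_ne_zero)
  obtain ⟨τ, hτ, hτQ, hτa, hτb⟩ := exists_aniso_perp hQ h2 (h.decomp.decomp.nondegenerate r)
    (by rw [h.isMDec.finrank_eq r]; omega) (comp_mem h.isMDec r a) (comp_mem h.isMDec r b) hr
  have hRτ : (R : Matrix ι ι F) *ᵥ τ = τ := by
    rw [hRv, rf_of_ortho hQ (show B τ b = 0 by rw [B_block hQ h.decomp.decomp b hτ]; exact hτb),
      rf_of_ortho hQ (show B τ a = 0 by rw [B_block hQ h.decomp.decomp a hτ]; exact hτa)]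
  have hnot := not_mem_stab h h2 (by omega) haQ (by rw [hb', hiso, hyQ])
    (by rw [ha, hb', B_map hiso, hxy]) hRv hlm hal ham
  obtain ⟨j, v, hv, hvQ, hvmix⟩ : ∃ j, ∃ v ∈ D j, Q v = Q τ ∧
      ∀ p, (R : Matrix ι ι F) *ᵥ v ∉ D p := by
    by_contra hc
    push Not at hc
    exact hnot (mem_stab_of_single h h2 (by omega) hR hτQ hc)
  have hτL := h.inL_block hτ hτQ
  exact ⟨Q τ, hτQ, _, h.inL_map hτQ hR hτL (hRτ.symm ▸ hτL) (hvQ ▸ h.inL_block hv (hvQ ▸ hτQ)),
    exists_two_of_mixed h.isMDec hvmix⟩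

section FieldTwo

variable (h : Ctx Q M D k)

/-- Sums of a norm one vector of `D l` and a singular vector of `D m` are equivalent to block
vectors. -/
def OneSing (_h : Ctx Q M D k) (l m : Fin t) : Prop :=
  ∀ x ∈ D l, ∀ s ∈ D m, Q x = 1 → Q s = 0 → s ≠ 0 → InL Q M D 1 (x + s)

omit [Finite F] in
theorem eq_one_of_ne_zero (hq : Nat.card F = 2) {c : F} (hc : c ≠ 0) : c = 1 := by
  classical
  have : Finite F := Nat.finite_of_card_ne_zero (by omega)
  have : Fintype F := Fintype.ofFinite F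
  rw [Nat.card_eq_fintype_card] at hq
  by_contra h1
  have : ({0, 1, c} : Finset F).card = 3 :=
    Finset.card_eq_three.mpr ⟨0, 1, c, zero_ne_one, Ne.symm hc, Ne.symm h1, rfl⟩
  have := Finset.card_le_univ ({0, 1, c} : Finset F)
  omega

include h

/-- Moving the singular component. -/
theorem move_sing (h2 : (2 : F) = 0) (hq : Nat.card F = 2) {l m : Fin t} (hlm : l ≠ m)
    {x s s' : ι → F} (hx : x ∈ D l) (hs : s ∈ D m) (hs' : s' ∈ D m) (hsQ : Q s = 0)
    (hs'Q : Q s' = 0) (hs0 : s ≠ 0) (hs'0 : s' ≠ 0) (hL : InL Q M D 1 (x + s)) :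
    InL Q M D 1 (x + s') := by
  have hQ := h.form
  have hb := hQ.polar_bilinear
  have key : ∀ {u v : ι → F}, u ∈ D m → v ∈ D m → Q u = 0 → Q v = 0 → B u v = 1 →
      InL Q M D 1 (x + u) → InL Q M D 1 (x + v) := by
    intro u v hu hv huQ hvQ huv hxu
    have hdQ : Q (u + v) = 1 := by rw [Q_add (Q := Q), huQ, hvQ, huv, zero_add, zero_add]
    have h1 := h.rf_block hxu one_ne_zero ((D m).add_mem hu hv) (by rw [hdQ]; exact one_ne_zero)
    rwa [rf, hdQ, hb.add_left, h.orthog hlm hx ((D m).add_mem hu hv), hb.add_right,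
      B_self_zero hQ h2, huv, zero_add, zero_add, inv_one, one_mul, one_smul,
      show x + u - (u + v) = x + v + (-2 : F) • v by module, h2, neg_zero, zero_smul,
      add_zero] at h1
  by_cases heq : s = s'
  · exact heq ▸ hL
  by_cases hB : B s s' = 0
  swap
  · exact key hs hs' hsQ hs'Q (eq_one_of_ne_zero hq hB) hL
  obtain ⟨f, hf, hfs, hfx⟩ := dual_in hQ (h.decomp.decomp.nondegenerate m)
    ((Submodule.span_singleton_le_iff_mem _ _).mpr ((D m).sub_mem hs hs')) hs (fun hm => by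
      obtain ⟨μ, hμ⟩ := Submodule.mem_span_singleton.mp hm
      rcases eq_or_ne μ 0 with rfl | hμ0
      · exact hs0 (by simpa using hμ.symm)
      · rw [eq_one_of_ne_zero hq hμ0, one_smul, sub_eq_self] at hμ
        exact hs'0 hμ)
  have hfs' : B f s' = 1 := by
    have := hfs _ (Submodule.mem_span_singleton_self _)
    rw [sub_right hQ, hfx, sub_eq_zero] at this
    exact this.symm
  set w := f + Q f • s with hw
  have hwm : w ∈ D m := (D m).add_mem hf ((D m).smul_mem _ hs)
  have hwQ : Q w = 0 := by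
    rw [hw, Q_add_smul hQ, hsQ, hfx]
    linear_combination Q f * h2
  refine key hwm hs' hwQ hs'Q ?_ (key hs hwm hsQ hwQ ?_ hL)
  · rw [hw, hb.add_left, hb.smul_left, hB, mul_zero, add_zero, hfs']
  · rw [hw, hb.add_right, hb.smul_right, B_self_zero hQ h2, mul_zero, add_zero, B_comm, hfx]

theorem oneSing_of (h2 : (2 : F) = 0) (hq : Nat.card F = 2) {l m : Fin t} (hlm : l ≠ m)
    {x s : ι → F} (hx : x ∈ D l) (hs : s ∈ D m) (hxQ : Q x = 1) (hsQ : Q s = 0) (hs0 : s ≠ 0)
    (hL : InL Q M D 1 (x + s)) : OneSing h l m := fun x' hx' s' hs' hx'Q hs'Q hs'0 =>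
  move_sing h h2 hq hlm hx' hs hs' hsQ hs'Q hs0 hs'0
    (h.move_comp one_ne_zero hlm hx hs (by rw [hxQ]; exact one_ne_zero) hL hx'
      (hx'Q.trans hxQ.symm))

theorem oneSing_of_mixed (h2 : (2 : F) = 0) (hq : Nat.card F = 2) (hk : 4 ≤ k)
    (hex : k = 4 → ∀ i, ¬ Cfsg.Geo.IsPlusTypeOn Q (D i)) {a : ι → F} (ha : InL Q M D 1 a)
    {l m : Fin t} (hlm : l ≠ m) (hal : comp h.isMDec l a ≠ 0) (ham : comp h.isMDec m a ≠ 0)
    (hm : 6 ≤ k ∨ Q (comp h.isMDec m a) ≠ 0) : OneSing h l m := by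
  have hQ := h.form
  have hb := hQ.polar_bilinear
  set am := comp h.isMDec m a with hamdef
  have hamm : am ∈ D m := comp_mem h.isMDec m a
  obtain ⟨x, hx, hxQ, hxB⟩ := h.aff l _ (comp_mem h.isMDec l a) hal 1 1 one_ne_zero
    (Or.inl one_ne_zero)
  obtain ⟨d, hd, hdQ, hdB⟩ := h.aff m am hamm ham 1 1 one_ne_zero (Or.inl one_ne_zero)
  obtain ⟨hC, hCd⟩ := split_pair hQ h2 (h.decomp.decomp.nondegenerate m) hamm hd
    (by rw [hdB]; exact one_ne_zero)
  set C := D m ⊓ perpQ hQ (Submodule.span F {am, d}) with hCdef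
  rw [h.isMDec.finrank_eq m] at hCd
  obtain ⟨s, hsC, hs0, hsQ⟩ : ∃ s ∈ C, s ≠ 0 ∧ Q s = 0 := by
    by_cases hk4 : k = 4
    swap
    · by_cases hk5 : 5 ≤ Module.finrank F ↥C + 2
      · exact exists_singular_in hQ (by omega)
      · omega
    by_contra hns
    push Not at hns
    have hC1 : ∀ v ∈ C, v ≠ 0 → Q v = 1 := fun v hv hv0 => eq_one_of_ne_zero hq (hns v hv hv0)
    obtain ⟨c1, hc1, hc10⟩ := Submodule.exists_mem_ne_zero_of_ne_bot (p := C)
      (fun e => by rw [e, finrank_bot] at hCd; omega)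
    obtain ⟨-, c2, hc2, hc12⟩ := hC c1 hc1 hc10
    have hc20 : c2 ≠ 0 := fun e => hc12 (by rw [e, zero_right hQ])
    have hamQ : Q am = 1 := eq_one_of_ne_zero hq (hm.resolve_left (by omega))
    obtain ⟨h1a, h1d⟩ := mem_perp_pair (hQ := hQ) hc1.2
    obtain ⟨h2a, h2d⟩ := mem_perp_pair (hQ := hQ) hc2.2
    refine hex hk4 m ⟨Submodule.span F {am + c1, d + c2}, ?_, ?_, ?_⟩
    · rw [Submodule.span_le]
      rintro v (rfl | rfl)
      · exact (D m).add_mem hamm hc1.1
      · exact (D m).add_mem hd hc2.1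
    · intro v hv
      obtain ⟨p, r, rfl⟩ := Submodule.mem_span_pair.mp hv
      rw [Q_add (Q := Q), hQ.smul, hQ.smul, Q_add (Q := Q), Q_add (Q := Q), hamQ, hdQ,
        hC1 c1 hc1 hc10, hC1 c2 hc2 hc20, B_comm am c1, h1a, B_comm d c2, h2d, hb.smul_left,
        hb.smul_right, hb.add_left, hb.add_right, hb.add_right, hdB, B_comm am c2, h2a, h1d,
        eq_one_of_ne_zero hq hc12]
      linear_combination (p ^ 2 + r ^ 2 + p * r) * h2
    · rw [h.isMDec.finrank_eq m, hk4]
      have hli : LinearIndependent F ![am + c1, d + c2] := by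
        rw [LinearIndependent.pair_iff]
        intro p r hpr
        have e1 := congrArg (fun v => B v d) hpr
        have e2 := congrArg (fun v => B v am) hpr
        simp only [hb.add_left, hb.smul_left, hdB, h1d, h2d, h1a, h2a, B_self_zero hQ h2,
          B_comm d am, form_zero_left (bil hQ), add_zero, mul_one, mul_zero, zero_add] at e1 e2
        exact ⟨e1, e2⟩
      have := finrank_span_eq_card hli
      rw [Matrix.range_cons, Matrix.range_cons, Matrix.range_empty, Set.union_empty,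
        Set.singleton_union, Fintype.card_fin] at this
      omega
  obtain ⟨hsa, hsd⟩ := mem_perp_pair (hQ := hQ) hsC.2
  have hsm : s ∈ D m := hsC.1
  have hax : B a x = 1 := by rw [h.B_comp a hx, hxB]
  have had : B a d = 1 := by rw [h.B_comp a hd]; exact hdB
  have has : B a s = 0 := by rw [h.B_comp a hsm, B_comm]; exact hsa
  have hxd : B x d = 0 := h.orthog hlm hx hd
  have hxs : B x s = 0 := h.orthog hlm hx hsm
  have hd2 : Q (d + s) = 1 := by
    rw [Q_add (Q := Q), hdQ, hsQ, B_comm d s, hsd, add_zero, add_zero]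
  have h1 := h.rf_block (h.rf_block (h.rf_block ha one_ne_zero hx (hxQ ▸ one_ne_zero))
    one_ne_zero hd (hdQ ▸ one_ne_zero)) one_ne_zero ((D m).add_mem hd hsm) (hd2 ▸ one_ne_zero)
  have e1 : rf Q x a = a + x := by
    rw [rf, hax, hxQ, inv_one, one_mul, one_smul]
    linear_combination (norm := module) (congrArg (fun c : F => c • x) h2).symm
  have e2 : rf Q d (a + x) = a + x + d := by
    rw [rf, hb.add_left, had, hxd, hdQ, inv_one, one_mul, add_zero, one_smul]
    linear_combination (norm := module) (congrArg (fun c : F => c • d) h2).symm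
  have e3 : rf Q (d + s) (a + x + d) = a + x + s := by
    rw [rf, hd2, hb.add_left, hb.add_left, hb.add_right, hb.add_right, hb.add_right, had, has,
      hxd, hxs, B_self_zero hQ h2, B_comm d s, hsd, inv_one, one_mul]
    linear_combination (norm := module) (congrArg (fun c : F => c • s) h2).symm
  rw [e1, e2, e3] at h1
  have h3 := h.rf_inL ha one_ne_zero h1 one_ne_zero
  have e4 : rf Q a (a + x + s) = x + s := by
    rw [rf, ha.1, hb.add_left, hb.add_left, B_self_zero hQ h2, B_comm x a, hax, B_comm s a, has,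
      inv_one, one_mul]
    module
  rw [e4] at h3
  exact oneSing_of h h2 hq hlm hx hsm hxQ hsQ hs0 h3

theorem oneSing_all (h2 : (2 : F) = 0) (hq : Nat.card F = 2) (hk : 4 ≤ k)
    (hex : k = 4 → ∀ i, ¬ Cfsg.Geo.IsPlusTypeOn Q (D i)) (ht : 6 ≤ k ∨ 4 ≤ t) {l₀ m₀ : Fin t}
    (hlm₀ : l₀ ≠ m₀) (h0 : OneSing h l₀ m₀) {l m : Fin t} (hlm : l ≠ m) : OneSing h l m := by
  have hQ := h.form
  have hb := hQ.polar_bilinear
  have hnd := h.decomp.decomp.nondegenerate
  have hone : ∀ i : Fin t, ∃ x ∈ D i, Q x = 1 ∧ x ≠ 0 := fun i => by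
    obtain ⟨x, hx, hxQ⟩ := h.rep i 1 one_ne_zero
    exact ⟨x, hx, hxQ, fun e => by rw [e, Q_zero hQ] at hxQ; exact zero_ne_one hxQ⟩
  have hsing : ∀ i : Fin t, ∃ s ∈ D i, Q s = 0 ∧ s ≠ 0 := fun i => by
    obtain ⟨s, hs, hs0, hsQ⟩ := exists_singular_in hQ (S := D i)
      (by rw [h.isMDec.finrank_eq]; omega)
    exact ⟨s, hs, hsQ, hs0⟩
  have step1 : ∀ {a b c : Fin t}, a ≠ b → c ≠ a → c ≠ b → OneSing h a b → OneSing h c a := by
    intro a b c hab hca hcb hP
    obtain ⟨g, hg, hga, hgb, -, -, -⟩ := h.exists_cycle hab hca hcb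
    obtain ⟨x, hx, hxQ, -⟩ := hone a
    obtain ⟨s, hs, hsQ, hs0⟩ := hsing b
    have hgx : InL Q M D 1 ((g : Matrix ι ι F) *ᵥ x) := by
      have := h.inL_block (hga x hx) (by rw [h.iso hg, hxQ]; exact one_ne_zero)
      rwa [h.iso hg, hxQ] at this
    have h1 := h.inL_map one_ne_zero hg (hxQ ▸ h.inL_block hx (hxQ ▸ one_ne_zero)) hgx
      (hP x hx s hs hxQ hsQ hs0)
    rw [mulVec_add] at h1
    exact oneSing_of h h2 hq hca (hga x hx) (hgb s hs) (by rw [h.iso hg, hxQ])
      (by rw [h.iso hg, hsQ])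
      (fun e => hs0 (gl_mulVec_injective g (by simpa using e))) h1
  have step2 : ∀ {a b c : Fin t}, a ≠ b → c ≠ a → c ≠ b → OneSing h a b → OneSing h b c := by
    intro a b c hab hca hcb hP
    obtain ⟨g, hg, hgb, hga, -, -, -⟩ := h.exists_cycle (l := b) (m := a) (j := c) (Ne.symm hab) hcb
      hca
    obtain ⟨x, hx, hxQ, -⟩ := hone a
    obtain ⟨s, hs, hsQ, hs0⟩ := hsing b
    have hgx : InL Q M D 1 ((g : Matrix ι ι F) *ᵥ x) := by
      have := h.inL_block (hga x hx) (by rw [h.iso hg, hxQ]; exact one_ne_zero)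
      rwa [h.iso hg, hxQ] at this
    have h1 := h.inL_map one_ne_zero hg (hxQ ▸ h.inL_block hx (hxQ ▸ one_ne_zero)) hgx
      (hP x hx s hs hxQ hsQ hs0)
    rw [mulVec_add] at h1
    exact oneSing_of h h2 hq (Ne.symm hcb) (hga x hx) (hgb s hs) (by rw [h.iso hg, hxQ])
      (by rw [h.iso hg, hsQ])
      (fun e => hs0 (gl_mulVec_injective g (by simpa using e))) h1
  have hswap : ∀ {a b : Fin t}, a ≠ b → OneSing h a b → OneSing h b a := by
    intro a b hab hP
    obtain ⟨x, hx, hxQ, hx0⟩ := hone a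
    obtain ⟨s, hs, hsQ, hs0⟩ := hsing b
    by_cases hk6 : 6 ≤ k
    · exact oneSing_of_mixed h h2 hq hk hex (hP x hx s hs hxQ hsQ hs0) (Ne.symm hab)
        (by rw [map_add, comp_other h.isMDec (Ne.symm hab) hx, comp_self h.isMDec hs, zero_add]
            exact hs0)
        (by rw [map_add, comp_other h.isMDec hab hs, comp_self h.isMDec hx, add_zero]
            exact hx0) (Or.inl hk6)
    · have ht4 := ht.resolve_left hk6
      obtain ⟨i, hi⟩ := Finset.exists_mem_notMem_of_card_lt_card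
        (s := ({a, b} : Finset (Fin t))) (t := Finset.univ) (by
          rw [Finset.card_univ, Fintype.card_fin]
          exact lt_of_le_of_lt Finset.card_le_two (by omega))
      obtain ⟨j, hj⟩ := Finset.exists_mem_notMem_of_card_lt_card
        (s := ({a, b, i} : Finset (Fin t))) (t := Finset.univ) (by
          rw [Finset.card_univ, Fintype.card_fin]
          exact lt_of_le_of_lt Finset.card_le_three (by omega))
      simp only [Finset.mem_univ, true_and, Finset.mem_insert, Finset.mem_singleton, not_or]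
        at hi hj
      obtain ⟨hia, hib⟩ := hi
      obtain ⟨hja, hjb, hji⟩ := hj
      exact step2 hib (Ne.symm hia) hab
        (step2 hji (Ne.symm hjb) (Ne.symm hib)
          (step1 hia hji hja (step1 hab hia hib hP)))
  have second : ∀ {a b c : Fin t}, a ≠ b → c ≠ a → OneSing h a b → OneSing h a c := by
    intro a b c hab hca hP
    by_cases hcb : c = b
    · exact hcb ▸ hP
    · exact hswap hca (step1 hab hca hcb hP)
  have first : ∀ {a b c : Fin t}, a ≠ b → c ≠ b → OneSing h a b → OneSing h c b :=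
    fun hab hcb hP => hswap (Ne.symm hcb) (second (Ne.symm hab) hcb (hswap hab hP))
  by_cases hl : l = m₀
  · subst hl
    exact second (Ne.symm hlm₀) (Ne.symm hlm) (hswap hlm₀ h0)
  · exact second hl (Ne.symm hlm) (first hlm₀ hl h0)

theorem inL_all_two (h2 : (2 : F) = 0) (hq : Nat.card F = 2) (hk : 4 ≤ k)
    (hP : ∀ {l m : Fin t}, l ≠ m → OneSing h l m) :
    ∀ (S : Finset (Fin t)) (z : ι → F), (∀ i ∉ S, comp h.isMDec i z = 0) → Q z ≠ 0 →
      InL Q M D (Q z) z := by
  classical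
  have hQ := h.form
  have hb := hQ.polar_bilinear
  intro S
  induction S using Finset.strongInduction with
  | _ S ih =>
    intro z hz hzQ
    obtain ⟨l, hl⟩ := exists_comp_aniso hQ h.decomp.decomp hzQ
    have hlS : l ∈ S := by
      by_contra hc
      exact hl (by rw [hz l hc, Q_zero hQ])
    by_cases hone : ∀ m, m ≠ l → comp h.isMDec m z = 0
    · exact h.inL_block (mem_of_comp_eq_zero h.isMDec hone) hzQ
    push Not at hone
    obtain ⟨m, hml, hm⟩ := hone
    have hmS : m ∈ S := by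
      by_contra hc
      exact hm (hz m hc)
    have hzm := comp_mem h.isMDec m z
    obtain ⟨f, hf, hfQ, hfB⟩ := h.aff m _ hzm hm 1 1 one_ne_zero (Or.inl one_ne_zero)
    obtain ⟨s, hs, hsQ, hsB⟩ : ∃ s ∈ D m, Q s = 0 ∧ B (comp h.isMDec m z) s = 1 := by
      obtain ⟨hC, hCd⟩ := split_pair hQ h2 (h.decomp.decomp.nondegenerate m) hzm hf
        (by rw [hfB]; exact one_ne_zero)
      rw [h.isMDec.finrank_eq m] at hCd
      obtain ⟨c, ⟨hc, hcp⟩, hcQ⟩ := exists_anisotropic_on hQ hC
        (fun e => by rw [e, finrank_bot] at hCd; omega)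
      obtain ⟨hcz, hcf⟩ := mem_perp_pair (hQ := hQ) hcp
      refine ⟨f + c, (D m).add_mem hf hc, ?_, ?_⟩
      · rw [Q_add (Q := Q), hfQ, eq_one_of_ne_zero hq hcQ, B_comm f c, hcf]
        linear_combination h2
      · rw [hb.add_right, hfB, B_comm _ c, hcz, add_zero]
    have hs0 : s ≠ 0 := fun e => by rw [e, zero_right hQ] at hsB; exact zero_ne_one hsB
    set x := comp h.isMDec l z + s with hx
    have hl1 := eq_one_of_ne_zero hq hl
    have hxL := hP (Ne.symm hml) _ (comp_mem h.isMDec l z) s hs hl1 hsQ hs0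
    have hBzx : B z x = 1 := by
      rw [hx, hb.add_right, h.B_comp z (comp_mem h.isMDec l z), B_self_zero hQ h2, h.B_comp z hs,
        hsB, zero_add]
    have hrf : rf Q x z = z - x := by
      rw [rf, hBzx, show Q x = 1 from hxL.1, inv_one, one_mul, one_smul]
    have hQ' : Q (z - x) = Q z := by
      rw [← hrf, rf_isometry hQ (hxL.1 ▸ one_ne_zero)]
    have hsmall := ih (S.erase l) (Finset.erase_ssubset hlS) (z - x) (fun i hi => by
      rw [map_sub, hx, map_add]
      by_cases hil : i = l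
      · subst hil
        rw [comp_self h.isMDec (comp_mem h.isMDec i z), comp_other h.isMDec (Ne.symm hml) hs]
        simp
      · have hiS : i ∉ S := fun e => hi (Finset.mem_erase.mpr ⟨hil, e⟩)
        have him : i ≠ m := fun e => hiS (e ▸ hmS)
        rw [hz i hiS, comp_other h.isMDec hil (comp_mem h.isMDec l z),
          comp_other h.isMDec him hs]
        simp) (hQ' ▸ hzQ)
    rw [hQ'] at hsmall
    have := h.rf_inL hxL one_ne_zero hsmall hzQ
    rwa [← hrf, rf_rf hQ (hxL.1 ▸ one_ne_zero)] at this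

end FieldTwo

theorem omega_le_of_decomp (h : Ctx Q M D k) (h2 : (2 : F) = 0) (hk : 4 ≤ k)
    (hex : Nat.card F = 2 → k = 4 → ∀ i, ¬ Cfsg.Geo.IsPlusTypeOn Q (D i))
    (ht : 6 ≤ k ∨ 4 ≤ t) {g : GL ι F} (hgM : g ∈ M)
    (hg : g ∉ Cfsg.Geo.decompositionStabilizer D) : Cfsg.Geo.omegaGL Q ≤ M := by
  obtain ⟨c, hc, a, ha, l, m, hlm, hal, ham⟩ := exists_mixed h h2 hk hgM hg
  by_cases hq : Nat.card F = 2
  swap
  · exact h.omega_le_of_mixed hq hc ha hlm hal ham
  have hc1 := eq_one_of_ne_zero hq hc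
  subst hc1
  obtain ⟨p, hp⟩ := exists_comp_aniso h.form h.decomp.decomp (a := a)
    (by rw [ha.1]; exact one_ne_zero)
  obtain ⟨r, hrp, hr⟩ : ∃ r, r ≠ p ∧ comp h.isMDec r a ≠ 0 := by
    by_cases hlp : l = p
    · exact ⟨m, fun e => hlm (hlp.trans e.symm), ham⟩
    · exact ⟨l, hlp, hal⟩
  have h1 := oneSing_of_mixed h h2 hq hk (hex hq) ha hrp hr
    (fun e => hp (by rw [e, Q_zero h.form])) (Or.inr hp)
  exact h.omega_le_of_inL fun x hx => inL_all_two h h2 hq hk
    (oneSing_all h h2 hq hk (hex hq) ht hrp h1) Finset.univ x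
    (fun i hi => absurd (Finset.mem_univ i) hi) hx

theorem maximal (hQ : Cfsg.Geo.IsNondegenerateQuadraticForm Q) (h2 : (2 : F) = 0)
    (hn : 13 ≤ Fintype.card ι) (hD : Cfsg.Geo.IsOrthogonalMDecomposition Q k D) (hk : 4 ≤ k)
    (hke : Even k) (hex : Nat.card F = 2 → k = 4 → ∀ i, ¬ Cfsg.Geo.IsPlusTypeOn Q (D i)) :
    Cfsg.Geo.IsMaximalIn (Cfsg.Geo.omegaGL Q)
      (Cfsg.Geo.decompositionStabilizer D ⊓ Cfsg.Geo.omegaGL Q) := by
  have hcard := card_eq hD.decomp.decomp
  refine isMaximalIn_of inf_le_right ?_ fun M hHM hMK g hgM hgH => ?_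
  · obtain ⟨g, hg, hgs⟩ := exists_not_stab hQ (by omega) hD (by omega) (Or.inr (by omega))
    exact ⟨g, hg, fun hmem => hgs hmem.1⟩
  · refine omega_le_of_decomp (ctx_of hQ h2 (by omega) hD hk hex hHM hMK) h2 hk hex ?_ hgM
      fun e => hgH ⟨e, hMK hgM⟩
    by_cases hk6 : 6 ≤ k
    · exact Or.inl hk6
    · refine Or.inr ?_
      obtain ⟨d, rfl⟩ := hke
      have hd : d = 2 := by omega
      subst hd
      omega

end Mixed

end Cfsg.Agent.Lib.Subspaces.OrthDecompEven
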