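import Cfsg.Agent.Lib.Subspaces.OrthDecomp
import Cfsg.Agent.Lib.Subspaces.OrthNondegMax

/-!
Stabilisers in `Ω` of orthogonal decompositions into blocks of dimension at least three, odd
characteristic: the overgroup hypotheses and the mixed vector.
-/

set_option autoImplicit false

namespace Cfsg.Agent.Lib.Subspaces.OrthDecompOdd

open Matrix Cfsg.Agent.Lib.Subspaces.Transvection Cfsg.Agent.Lib.Subspaces.FormVec
  Cfsg.Agent.Lib.Subspaces.OrthForm Cfsg.Agent.Lib.Subspaces.OmegaGL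
  Cfsg.Agent.Lib.Subspaces.OrthNondeg Cfsg.Agent.Lib.Subspaces.OrthNondegMax
  Cfsg.Agent.Lib.Subspaces.Decomposition Cfsg.Agent.Lib.Subspaces.OrthDecomp

variable {ι : Type} [Fintype ι] [DecidableEq ι] {F : Type*} [Field F] [Finite F]
  {Q : (ι → F) → F}

local notation "B" => QuadraticMap.polar Q

theorem card_ne_two (h2 : (2 : F) ≠ 0) : Nat.card F ≠ 2 := fun h => by
  have hF : Fintype F := Fintype.ofFinite F
  rw [Nat.card_eq_fintype_card] at h
  exact h2 (by exact_mod_cast (h ▸ FiniteField.cast_card_eq_zero F : ((2 : ℕ) : F) = 0))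

theorem exists_gamma (hq : Nat.card F ≠ 3) (h2 : (2 : F) ≠ 0) :
    ∃ γ : F, γ ≠ 0 ∧ γ ^ 2 ≠ 1 := by
  classical
  have : Fintype F := Fintype.ofFinite F
  rw [Nat.card_eq_fintype_card] at hq
  by_contra h
  push Not at h
  refine hq (le_antisymm ?_ ?_)
  · calc Fintype.card F ≤ ({0, 1, -1} : Finset F).card := by
          rw [← Finset.card_univ]
          refine Finset.card_le_card fun d _ => ?_
          by_cases hd : d = 0
          · simp [hd]
          · rcases sq_eq_one_iff.mp (h d hd) with h' | h' <;> simp [h']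
      _ ≤ 3 := Finset.card_le_three
  · have h1 := FiniteField.odd_card_of_char_ne_two (F := F) fun hc => h2 (by
      have : CharP F 2 := hc ▸ ringChar.charP F
      exact CharTwo.two_eq_zero)
    have := Fintype.one_lt_card (α := F)
    omega

/-- A non-degenerate subspace of dimension at least two represents every non-zero scalar. -/
theorem represent (hQ : Cfsg.Geo.IsNondegenerateQuadraticForm Q) (h2 : (2 : F) ≠ 0)
    {U : Submodule F (ι → F)} (hU : Cfsg.Geo.IsNondegenerateOn B U)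
    (hd : 2 ≤ Module.finrank F U) {c : F} (hc : c ≠ 0) : ∃ z ∈ U, z ≠ 0 ∧ Q z = c := by
  have hb := hQ.polar_bilinear
  obtain ⟨x, hx, hxQ⟩ := exists_anisotropic_on hQ hU (fun h => by rw [h, finrank_bot] at hd; omega)
  obtain ⟨hR, hRd⟩ := split_vec hQ h2 hU hx hxQ
  obtain ⟨y, ⟨hy, hyx⟩, hyQ⟩ := exists_anisotropic_on hQ hR
    (fun h => by rw [h, finrank_bot] at hRd; omega)
  have : Fintype F := Fintype.ofFinite F
  obtain ⟨a, b, hab⟩ := FiniteField.exists_root_sum_quadratic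
    (f := Polynomial.C (Q x) * Polynomial.X ^ 2 + Polynomial.C (-c))
    (g := Polynomial.C (Q y) * Polynomial.X ^ 2)
    (by
      have h : (Polynomial.C (Q x) * Polynomial.X ^ 2).degree = 2 := by
        rw [Polynomial.degree_C_mul hxQ, Polynomial.degree_X_pow]; rfl
      rw [Polynomial.degree_add_C (by rw [h]; norm_num), h])
    (by rw [Polynomial.degree_C_mul hyQ, Polynomial.degree_X_pow]; rfl)
    (FiniteField.odd_card_of_char_ne_two fun hc => h2 (by
      have : CharP F 2 := hc ▸ ringChar.charP F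
      exact CharTwo.two_eq_zero))
  simp only [Polynomial.eval_pow, Polynomial.eval_X, Polynomial.eval_add, Polynomial.eval_mul,
    Polynomial.eval_C] at hab
  have hxy : B x y = 0 := by rw [B_comm]; exact hyx x (Submodule.mem_span_singleton_self x)
  have hQz : Q (a • x + b • y) = c := by
    rw [Q_add (Q := Q), hQ.smul, hQ.smul, hb.smul_left, hb.smul_right, hxy]
    linear_combination hab
  exact ⟨_, U.add_mem (U.smul_mem _ hx) (U.smul_mem _ hy),
    fun h => hc (by rw [← hQz, h, Q_zero hQ]), hQz⟩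

/-- Removing a hyperbolic pair. -/
theorem split_hyp (hQ : Cfsg.Geo.IsNondegenerateQuadraticForm Q) {U : Submodule F (ι → F)}
    (hU : Cfsg.Geo.IsNondegenerateOn B U) {a f : ι → F} (ha : a ∈ U) (hf : f ∈ U) (haQ : Q a = 0)
    (hfQ : Q f = 0) (haf : B a f = 1) :
    Cfsg.Geo.IsNondegenerateOn B (U ⊓ perpQ hQ (Submodule.span F {a, f}) : Submodule F (ι → F)) ∧
      Module.finrank F U ≤ Module.finrank F ↥(U ⊓ perpQ hQ (Submodule.span F {a, f})) + 2 := by
  have hb := hQ.polar_bilinear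
  refine ⟨?_, ?_⟩
  · rintro u ⟨huU, hup⟩ hu0
    obtain ⟨hua, huf⟩ := mem_perp_pair (hQ := hQ) hup
    obtain ⟨-, y, hy, huy⟩ := hU u huU hu0
    set y' := y + (-B y f) • a + (-B y a) • f with hy'
    have hy'm : y' ∈ U ⊓ perpQ hQ (Submodule.span F {a, f}) := by
      refine ⟨U.add_mem (U.add_mem hy (U.smul_mem _ ha)) (U.smul_mem _ hf), fun w hw => ?_⟩
      obtain ⟨c, d, rfl⟩ := Submodule.mem_span_pair.mp hw
      simp only [hy', hb.add_left, hb.add_right, hb.smul_left, hb.smul_right, B_self hQ, haQ, hfQ,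
        B_comm f a, haf]
      ring
    have h : B u y' ≠ 0 := by
      rwa [hy', hb.add_right, hb.add_right, hb.smul_right, hb.smul_right, hua, huf, mul_zero,
        mul_zero, add_zero, add_zero]
    exact ⟨⟨y', hy'm, by rwa [B_comm]⟩, y', hy'm, h⟩
  · have h1 := inf_perp_ge (hQ := hQ) U (Submodule.span F {a, f})
    have h2 := finrank_pair_le a f
    omega

theorem exists_partner (hQ : Cfsg.Geo.IsNondegenerateQuadraticForm Q) {U : Submodule F (ι → F)}
    (hU : Cfsg.Geo.IsNondegenerateOn B U) {a : ι → F} (ha : a ∈ U) (ha0 : a ≠ 0) (haQ : Q a = 0) :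
    ∃ f ∈ U, Q f = 0 ∧ B a f = 1 := by
  have hb := hQ.polar_bilinear
  obtain ⟨t, ht, -, hta⟩ := dual_in hQ hU (bot_le : (⊥ : Submodule F (ι → F)) ≤ U) ha
    (by simpa using ha0)
  refine ⟨t + (-Q t) • a, U.add_mem ht (U.smul_mem _ ha), by rw [Q_add_smul hQ, haQ, hta]; ring, ?_⟩
  rw [hb.add_right, hb.smul_right, B_self hQ, haQ, B_comm a t, hta]
  ring

variable {t k : ℕ} {D : Fin t → Submodule F (ι → F)}

omit [Finite F] in
theorem B_block (hQ : Cfsg.Geo.IsNondegenerateQuadraticForm Q)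
    (hD : Cfsg.Geo.IsNondegenerateMDecomposition B k D) (x : ι → F) {i : Fin t} {v : ι → F}
    (hv : v ∈ D i) : B v x = B v (comp hD.decomp i x) := by
  classical
  conv_lhs => rw [← sum_comp hD.decomp x]
  rw [B_sum_right hQ, Finset.sum_eq_single i (fun j _ hj =>
    hD.orthogonal i j (Ne.symm hj) v hv _ (comp_mem hD.decomp j x)) (by simp)]

theorem ctx_of (hQ : Cfsg.Geo.IsNondegenerateQuadraticForm Q) (h2 : (2 : F) ≠ 0)
    (hn : 5 ≤ Fintype.card ι) (hD : Cfsg.Geo.IsOrthogonalMDecomposition Q k D) (hk : 3 ≤ k)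
    (hex : ¬ (Nat.card F = 3 ∧ k = 3)) {M : Subgroup (GL ι F)}
    (habove : Cfsg.Geo.decompositionStabilizer D ⊓ Cfsg.Geo.omegaGL Q ≤ M)
    (hbelow : M ≤ Cfsg.Geo.omegaGL Q) : Ctx Q M D k := by
  have hb := hQ.polar_bilinear
  have hd := hD.decomp.decomp
  have hnd := hD.decomp.nondegenerate
  have hfr := hd.finrank_eq
  have h4 : (4 : F) ≠ 0 := by
    rw [show (4 : F) = 2 * 2 by norm_num]; exact mul_ne_zero h2 h2
  -- a point of prescribed norm on an affine hyperplane of an anisotropic vector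
  have haniso : ∀ i, ∀ a ∈ D i, Q a ≠ 0 → ∀ β c : F, ∃ e ∈ D i, B e a = 0 ∧
      (3 < k → e ≠ 0) ∧ Q ((β / (2 * Q a)) • a + e) = c ∧
      B a ((β / (2 * Q a)) • a + e) = β ∧ (c * (4 * Q a) ≠ β ^ 2 → e ≠ 0) := by
    intro i a ha haQ β c
    obtain ⟨hR, hRd⟩ := split_vec hQ h2 (hnd i) ha haQ
    rw [hfr i] at hRd
    obtain ⟨e, ⟨he, hea⟩, heQ, he0, he4⟩ : ∃ e ∈ D i ⊓ perpQ hQ (Submodule.span F {a}),
        Q e = c - β ^ 2 / (4 * Q a) ∧ (c - β ^ 2 / (4 * Q a) ≠ 0 → e ≠ 0) ∧ (3 < k → e ≠ 0) := by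
      by_cases hc : c - β ^ 2 / (4 * Q a) = 0
      · by_cases hk4 : 3 < k
        · obtain ⟨e, he, he0, heQ⟩ := exists_singular_in hQ
            (S := D i ⊓ perpQ hQ (Submodule.span F {a})) (by omega)
          exact ⟨e, he, heQ.trans hc.symm, fun h => absurd hc h, fun _ => he0⟩
        · exact ⟨0, Submodule.zero_mem _, by rw [Q_zero hQ, hc], fun h => absurd hc h,
            fun h => absurd h hk4⟩
      · obtain ⟨e, he, he0, heQ⟩ := represent hQ h2 hR (by omega) hc
        exact ⟨e, he, heQ, fun _ => he0, fun _ => he0⟩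
    have hea' : B e a = 0 := hea a (Submodule.mem_span_singleton_self a)
    refine ⟨e, he, hea', he4, ?_, ?_, fun h => he0 ?_⟩
    · rw [Q_add (Q := Q), hQ.smul, hb.smul_left, B_comm a e, hea', heQ]
      field_simp
      ring
    · rw [hb.add_right, hb.smul_right, B_self hQ, B_comm a e, hea']
      field_simp
      ring
    · intro h0
      exact h (by field_simp at h0; linear_combination h0)
  refine
    { form := hQ, dim := hn, decomp := hD, above := habove, below := hbelow, rep := ?_, perp := ?_,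
      trans := ?_, aff := ?_, indep := ?_, split := ?_ }
  · intro i c hc
    obtain ⟨z, hz, -, hzQ⟩ := represent hQ h2 (hnd i) (by rw [hfr i]; omega) hc
    exact ⟨z, hz, hzQ⟩
  · intro a haQ c hc
    obtain ⟨l, hl⟩ : ∃ l, Q (comp hd l a) ≠ 0 := by
      by_contra hall
      push Not at hall
      have hself : ∀ i, B (comp hd i a) a = 0 := fun i => by
        rw [B_block hQ hD.decomp a (comp_mem hd i a), B_self hQ]
        rw [hall i, mul_zero]
      have : B a a = 0 := by
        conv_lhs => arg 3; rw [← sum_comp hd a]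
        rw [B_sum_right hQ]
        exact Finset.sum_eq_zero fun i _ => by rw [B_comm]; exact hself i
      rw [B_self hQ] at this
      exact mul_ne_zero h2 haQ this
    obtain ⟨hR, hRd⟩ := split_vec hQ h2 (hnd l) (comp_mem hd l a) hl
    rw [hfr l] at hRd
    obtain ⟨z, ⟨hz, hza⟩, -, hzQ⟩ := represent hQ h2 hR (by omega) hc
    exact ⟨l, z, hz, hzQ, by
      rw [B_block hQ hD.decomp a hz]; exact hza _ (Submodule.mem_span_singleton_self _)⟩
  · intro i x hx y hy hxy hxQ
    by_cases h : Q (x - y) = 0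
    swap
    · exact Or.inl h
    refine Or.inr ⟨(-1 : F) • x, (D i).smul_mem _ hx, by rw [hQ.smul]; ring, ?_, ?_⟩
    · rw [show x - (-1 : F) • x = (2 : F) • x by module, hQ.smul]
      exact mul_ne_zero (pow_ne_zero _ h2) hxQ
    · rw [show (-1 : F) • x - y = (-1 : F) • (x + y) by module, hQ.smul, Q_add (Q := Q)]
      intro h'
      rw [sub_eq_add_neg, Q_add (Q := Q), ← neg_one_smul F y, hQ.smul, hb.smul_right] at h
      exact mul_ne_zero h4 hxQ (by linear_combination h + h' + 2 * hxy)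
  · intro i a ha ha0 β c hc hβ
    by_cases haQ : Q a = 0
    swap
    · obtain ⟨e, he, -, -, hQx, hBx, -⟩ := haniso i a ha haQ β c
      exact ⟨_, (D i).add_mem ((D i).smul_mem _ ha) he, hQx, hBx⟩
    obtain ⟨f, hf, hfQ, haf⟩ := exists_partner hQ (hnd i) ha ha0 haQ
    by_cases hβ0 : β = 0
    · have hq3 := hβ.resolve_left (not_not.mpr hβ0)
      obtain ⟨hR, hRd⟩ := split_hyp hQ (hnd i) ha hf haQ hfQ haf
      rw [hfr i] at hRd
      have hk3 : k ≠ 3 := fun h => hex ⟨hq3, h⟩
      obtain ⟨x, ⟨hx, hxp⟩, -, hxQ⟩ := represent hQ h2 hR (by omega) hc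
      exact ⟨x, hx, hxQ, by rw [B_comm, (mem_perp_pair (hQ := hQ) hxp).1, hβ0]⟩
    · refine ⟨β • f + (c / β) • a, (D i).add_mem ((D i).smul_mem _ hf) ((D i).smul_mem _ ha), ?_, ?_⟩
      · rw [Q_add_smul hQ, hQ.smul, hfQ, haQ, hb.smul_left, B_comm f a, haf]
        field_simp
        ring
      · rw [hb.add_right, hb.smul_right, hb.smul_right, haf, B_self hQ, haQ]
        ring
  · intro i a ha ha0 c hc
    by_cases haQ : Q a = 0
    · obtain ⟨f, hf, hfQ, haf⟩ := exists_partner hQ (hnd i) ha ha0 haQ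
      refine ⟨f + c • a, (D i).add_mem hf ((D i).smul_mem _ ha), ?_, ?_, fun hm => ?_⟩
      · rw [Q_add_smul hQ, hfQ, haQ, B_comm f a, haf]; ring
      · rw [hb.add_right, hb.smul_right, haf, B_self hQ, haQ]; simp
      · obtain ⟨μ, hμ⟩ := Submodule.mem_span_singleton.mp hm
        have := congrArg (B a) hμ
        rw [hb.add_right, hb.smul_right, hb.smul_right, haf, B_self hQ, haQ] at this
        simp at this
    obtain ⟨β, hβ, hgood⟩ : ∃ β : F, β ≠ 0 ∧ (3 < k ∨ c * (4 * Q a) ≠ β ^ 2) := by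
      by_cases h1 : c * (4 * Q a) = (1 : F) ^ 2
      · by_cases hk3 : 3 < k
        · exact ⟨1, one_ne_zero, Or.inl hk3⟩
        · obtain ⟨γ, hγ0, hγ⟩ := exists_gamma (fun h => hex ⟨h, by omega⟩) h2
          exact ⟨γ, hγ0, Or.inr fun h => hγ (by rw [← h, h1, one_pow])⟩
      · exact ⟨1, one_ne_zero, Or.inr h1⟩
    obtain ⟨e, he, hea, he4, hQx, hBx, hene⟩ := haniso i a ha haQ β c
    refine ⟨_, (D i).add_mem ((D i).smul_mem _ ha) he, hQx, by rw [hBx]; exact hβ, fun hm => ?_⟩
    have he0 : e ≠ 0 := hgood.elim he4 hene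
    obtain ⟨μ, hμ⟩ := Submodule.mem_span_singleton.mp hm
    have he' : e = (μ - β / (2 * Q a)) • a := by rw [sub_smul, hμ]; abel
    rw [he', hb.smul_left, B_self hQ] at hea
    exact he0 (by
      rw [he', (mul_eq_zero.mp hea).resolve_right (mul_ne_zero h2 haQ), zero_smul])
  · intro _ c hc
    by_cases hq : Nat.card F = 3
    · refine ⟨c, hc, ?_, Or.inr hq⟩
      rw [← two_mul]; exact mul_ne_zero h2 hc
    · obtain ⟨γ, hγ0, hγ⟩ := exists_gamma hq h2
      refine ⟨c * γ, mul_ne_zero hc hγ0, fun h => hγ ?_, Or.inl fun h => hγ ?_⟩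
      · have := (mul_eq_zero.mp (show c * (1 + γ) = 0 by linear_combination h)).resolve_left hc
        linear_combination (γ - 1) * this
      · have := (mul_eq_zero.mp (show c * (γ - 1) = 0 by linear_combination h)).resolve_left hc
        linear_combination (γ + 1) * this

section Mixed

variable {M : Subgroup (GL ι F)}

theorem exists_two_of_mixed (hD : Cfsg.Geo.IsMDecomposition k D) {a : ι → F}
    (h : ∀ l, a ∉ D l) : ∃ l m, l ≠ m ∧ comp hD l a ≠ 0 ∧ comp hD m a ≠ 0 := by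
  obtain ⟨l, hl⟩ : ∃ l, comp hD l a ≠ 0 := by
    by_contra hall
    push Not at hall
    have := hD.two_le
    refine h ⟨0, by omega⟩ ?_
    rw [← sum_comp hD a]
    exact Submodule.sum_mem _ fun i _ => by rw [hall i]; exact Submodule.zero_mem _
  obtain ⟨m, hml, hm⟩ : ∃ m, m ≠ l ∧ comp hD m a ≠ 0 := by
    by_contra hall
    push Not at hall
    exact h l (mem_of_comp_eq_zero hD hall)
  exact ⟨l, m, Ne.symm hml, hl, hm⟩

/-- An element keeping every block vector of norm `c` in a single block stabilises `D`. -/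
theorem mem_stab_of_single (h : Ctx Q M D k) (h2 : (2 : F) ≠ 0) (hk : 3 ≤ k)
    (hex : ¬ (Nat.card F = 3 ∧ k = 3)) {g : GL ι F} (hg : g ∈ M) {c : F} (hc : c ≠ 0)
    (hs : ∀ i, ∀ x ∈ D i, Q x = c → ∃ a, (g : Matrix ι ι F) *ᵥ x ∈ D a) :
    g ∈ Cfsg.Geo.decompositionStabilizer D := by
  have hQ := h.form
  have hb := hQ.polar_bilinear
  have hnd := h.decomp.decomp.nondegenerate
  have hfr := h.isMDec.finrank_eq
  have hiso := h.iso hg
  refine mem_stabilizer_of_mapsTo h.isMDec fun i => ?_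
  obtain ⟨x0, hx0, hx0Q⟩ := h.rep i c hc
  obtain ⟨a, ha⟩ := hs i x0 hx0 hx0Q
  have hall : ∀ x ∈ D i, Q x = c → (g : Matrix ι ι F) *ᵥ x ∈ D a := by
    intro x hx hxQ
    obtain ⟨b, hb'⟩ := hs i x hx hxQ
    by_cases hab : b = a
    · exact hab ▸ hb'
    exfalso
    have horth : B x x0 = 0 := by rw [← B_map hiso]; exact h.orthog hab hb' ha
    obtain ⟨hR0, hR0d⟩ := split_vec hQ h2 (hnd i) hx (hxQ ▸ hc)
    set R0 := D i ⊓ perpQ hQ (Submodule.span F {x}) with hR0def
    have hx0R : x0 ∈ R0 := ⟨hx0, fun w hw => by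
      obtain ⟨r, rfl⟩ := Submodule.mem_span_singleton.mp hw
      rw [hb.smul_right, B_comm, horth, mul_zero]⟩
    obtain ⟨hR1, hR1d⟩ := split_vec hQ h2 hR0 hx0R (hx0Q ▸ hc)
    set R1 := R0 ⊓ perpQ hQ (Submodule.span F {x0})
    rw [hfr i] at hR0d
    obtain ⟨e, he, he', hne⟩ : ∃ e ∈ R1, Q e ≠ 0 ∧ 2 * c + Q e ≠ 0 := by
      by_cases hq : Nat.card F = 3
      · have : 2 ≤ Module.finrank F R1 := by
          have : k ≠ 3 := fun e => hex ⟨hq, e⟩
          omega
        obtain ⟨e, he, -, heQ⟩ := represent hQ h2 hR1 this (neg_ne_zero.mpr hc)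
        exact ⟨e, he, by rw [heQ]; exact neg_ne_zero.mpr hc,
          by rw [heQ, show 2 * c + -c = c by ring]; exact hc⟩
      · obtain ⟨e, he, heQ⟩ := exists_anisotropic_on hQ hR1
          (fun e => by rw [e, finrank_bot] at hR1d; omega)
        by_cases h1 : 2 * c + Q e = 0
        · obtain ⟨γ, hγ0, hγ⟩ := exists_gamma hq h2
          refine ⟨γ • e, R1.smul_mem _ he, by rw [hQ.smul]; exact mul_ne_zero (pow_ne_zero _ hγ0) heQ,
            fun h' => hγ ?_⟩
          rw [hQ.smul] at h'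
          exact mul_right_cancel₀ heQ (by linear_combination h' - h1)
        · exact ⟨e, he, heQ, h1⟩
    have hex0 : B e x = 0 := he.1.2 x (Submodule.mem_span_singleton_self x)
    have hey : B e x0 = 0 := he.2 x0 (Submodule.mem_span_singleton_self x0)
    set d := x + x0 + e with hd
    have hdQ : Q d = 2 * c + Q e := by
      rw [hd, Q_add (Q := Q), Q_add (Q := Q), hb.add_left, hxQ, hx0Q, horth, B_comm x e, hex0,
        B_comm x0 e, hey]
      ring
    have hdm : d ∈ D i := (D i).add_mem ((D i).add_mem hx hx0) he.1.1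
    set u := rf Q d x with hu
    have hum : u ∈ D i := h.rf_mem hdm hx
    have huQ : Q u = c := by rw [hu, rf_isometry hQ (hdQ ▸ hne), hxQ]
    obtain ⟨p, hp⟩ := hs i u hum huQ
    have hxd : B x d = 2 * c := by
      rw [hd, hb.add_right, hb.add_right, B_self hQ, horth, B_comm x e, hex0, hxQ]; ring
    have hdx0 : B d x0 = 2 * c := by
      rw [hd, hb.add_left, hb.add_left, B_self hQ, horth, hey, hx0Q]; ring
    have hux : B u x ≠ 0 := by
      rw [hu, rf, form_sub_left (bil hQ), hb.smul_left, B_self hQ, B_comm d x, hxd, hxQ, hdQ]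
      intro h'
      field_simp at h'
      exact mul_ne_zero (mul_ne_zero h2 hc) he' (by linear_combination h')
    have hux0 : B u x0 ≠ 0 := by
      rw [hu, rf, form_sub_left (bil hQ), hb.smul_left, horth, hxd, hdx0, hdQ, zero_sub, neg_ne_zero]
      exact mul_ne_zero (mul_ne_zero (inv_ne_zero hne) (mul_ne_zero h2 hc)) (mul_ne_zero h2 hc)
    have h1 : p = b := by
      by_contra hpb
      exact hux (by rw [← B_map hiso]; exact h.orthog hpb hp hb')
    have h3 : p = a := by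
      by_contra hpa
      exact hux0 (by rw [← B_map hiso]; exact h.orthog hpa hp ha)
    exact hab (h1.symm.trans h3)
  -- the norm `c` vectors span the block
  set S := D i ⊓ (D a).comap (Matrix.mulVecLin (g : Matrix ι ι F)) with hS
  have hSc : ∀ x ∈ D i, Q x = c → x ∈ S := fun x hx hxQ => ⟨hx, hall x hx hxQ⟩
  have hx0S := hSc x0 hx0 hx0Q
  have hd1 : ∀ d ∈ D i, Q d ≠ 0 → B x0 d ≠ 0 → d ∈ S := by
    intro d hd hdQ hBd
    have h1 := S.sub_mem hx0S (hSc _ (h.rf_mem hd hx0) (by rw [rf_isometry hQ hdQ, hx0Q]))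
    rw [rf, sub_sub_cancel] at h1
    exact (S.smul_mem_iff (mul_ne_zero (inv_ne_zero hdQ) hBd)).mp h1
  have hd2 : ∀ d ∈ D i, Q d ≠ 0 → B x0 d = 0 → Q d ≠ -c → d ∈ S := by
    intro d hd hdQ hBd hne
    have h1 := hd1 (x0 + d) ((D i).add_mem hx0 hd)
      (by rw [Q_add (Q := Q), hx0Q, hBd, add_zero]; exact fun e => hne (by linear_combination e))
      (by rw [hb.add_right, B_self hQ, hBd, add_zero, hx0Q]; exact mul_ne_zero h2 hc)
    simpa using S.sub_mem h1 hx0S
  have hd3 : ∀ d ∈ D i, Q d ≠ 0 → d ∈ S := by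
    intro d hd hdQ
    by_cases hBd : B x0 d = 0
    swap
    · exact hd1 d hd hdQ hBd
    by_cases hne : Q d = -c
    swap
    · exact hd2 d hd hdQ hBd hne
    by_cases hq : Nat.card F = 3
    swap
    · obtain ⟨γ, hγ0, hγ⟩ := exists_gamma hq h2
      have h1 := hd2 (γ • d) ((D i).smul_mem _ hd)
        (by rw [hQ.smul]; exact mul_ne_zero (pow_ne_zero _ hγ0) hdQ)
        (by rw [hb.smul_right, hBd, mul_zero])
        (fun e => hγ (mul_right_cancel₀ (neg_ne_zero.mpr hc) (by
          rw [hQ.smul, hne] at e; linear_combination e)))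
      exact (S.smul_mem_iff hγ0).mp h1
    obtain ⟨hR0, hR0d⟩ := split_vec hQ h2 (hnd i) hx0 (hx0Q ▸ hc)
    have hdR : d ∈ D i ⊓ perpQ hQ (Submodule.span F {x0}) := ⟨hd, fun w hw => by
      obtain ⟨r, rfl⟩ := Submodule.mem_span_singleton.mp hw
      rw [hb.smul_right, B_comm, hBd, mul_zero]⟩
    obtain ⟨hR1, hR1d⟩ := split_vec hQ h2 hR0 hdR hdQ
    rw [hfr i] at hR0d
    have hk3 : k ≠ 3 := fun e => hex ⟨hq, e⟩
    obtain ⟨e, ⟨⟨he, hex0⟩, hed⟩, -, heQ⟩ := represent hQ h2 hR1 (by omega) hc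
    have hex0' : B e x0 = 0 := hex0 x0 (Submodule.mem_span_singleton_self x0)
    have hed' : B e d = 0 := hed d (Submodule.mem_span_singleton_self d)
    have h1 := hSc (x0 + e + d) ((D i).add_mem ((D i).add_mem hx0 he) hd) (by
      rw [Q_add (Q := Q), Q_add (Q := Q), hb.add_left, hx0Q, heQ, hne, B_comm x0 e, hex0', hBd,
        hed']
      ring)
    simpa using S.sub_mem h1 (S.add_mem hx0S (hSc e he heQ))
  refine ⟨a, fun v hv => ?_⟩
  have hv' : v ∈ S := by
    by_cases hvQ : Q v = 0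
    swap
    · exact hd3 v hv hvQ
    by_cases h1 : Q (v + x0) = 0
    · have h3 : Q (v + (-1 : F) • x0) ≠ 0 := fun h3 => by
        rw [Q_add (Q := Q), hvQ, hx0Q] at h1
        rw [Q_add_smul hQ, hvQ, hx0Q] at h3
        exact mul_ne_zero h2 hc (by linear_combination h1 + h3)
      have := S.add_mem (hd3 _ ((D i).add_mem hv ((D i).smul_mem _ hx0)) h3) hx0S
      simpa using this
    · simpa using S.sub_mem (hd3 _ ((D i).add_mem hv hx0) h1) hx0S
  exact hv'.2

/-- A product of two reflections at non-proportional vectors, one of them mixed, moves a block. -/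
theorem not_mem_stab (h : Ctx Q M D k) (h2 : (2 : F) ≠ 0) (hk : 3 ≤ k) {R : GL ι F} {a b : ι → F}
    (haQ : Q a ≠ 0) (hab : Q b = Q a) (hR : ∀ v, (R : Matrix ι ι F) *ᵥ v = rf Q a (rf Q b v))
    {l m : Fin t} (hlm : l ≠ m) (hal : comp h.isMDec l a ≠ 0) (ham : comp h.isMDec m a ≠ 0)
    (hind : b ∉ Submodule.span F {a})
    (hcase : B b a ≠ 0 ∨ ∃ r, r ≠ l ∧ r ≠ m ∧ comp h.isMDec r a ≠ 0) :
    R ∉ Cfsg.Geo.decompositionStabilizer D := by
  intro hmem
  have hQ := h.form
  have hb := hQ.polar_bilinear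
  have hnd := h.decomp.decomp.nondegenerate
  obtain ⟨σ, hσ⟩ := exists_image_of_mem hmem
  have hσid : ∀ q, σ q = q := by
    intro q
    have h1 := inf_perp_ge (hQ := hQ) (D q) (Submodule.span F {a, b})
    have h3 := finrank_pair_le a b
    rw [h.isMDec.finrank_eq q] at h1
    obtain ⟨v, ⟨hv, hvp⟩, hv0⟩ := Submodule.exists_mem_ne_zero_of_ne_bot
      (p := D q ⊓ perpQ hQ (Submodule.span F {a, b})) (fun e => by rw [e, finrank_bot] at h1; omega)
    obtain ⟨hva, hvb⟩ := mem_perp_pair (hQ := hQ) hvp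
    have := hσ q v hv
    rw [hR, rf_of_ortho hQ hvb, rf_of_ortho hQ hva] at this
    by_contra hne
    exact hv0 (by rw [← comp_self h.isMDec hv, comp_other h.isMDec (Ne.symm hne) this])
  set β := (Q a)⁻¹ * B b a with hβ
  set c := b - β • a with hc
  have E : ∀ q, ∀ v ∈ D q, ∀ j, j ≠ q →
      ((Q a)⁻¹ * B v a) • comp h.isMDec j a + ((Q a)⁻¹ * B v b) • comp h.isMDec j c = 0 := by
    intro q v hv j hj
    have h1 := (D q).sub_mem hv (hσid q ▸ hσ q v hv)
    have h3 := comp_other h.isMDec hj h1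
    have h4 : v - (R : Matrix ι ι F) *ᵥ v =
        ((Q a)⁻¹ * B v a) • a + ((Q a)⁻¹ * B v b) • c := by
      rw [hR, rf, rf, form_sub_left (bil hQ), hb.smul_left, hab, hc, hβ]
      module
    rwa [h4, map_add, map_smul, map_smul] at h3
  have hBc : ∀ q, ∀ v ∈ D q, B v b = B v (comp h.isMDec q c) + β * B v a := by
    intro q v hv
    rw [← B_block hQ h.decomp.decomp c hv, hc, sub_right hQ, hb.smul_right]
    ring
  have hsum : ∀ {x : ι → F}, (∀ j, comp h.isMDec j x = 0) → x = 0 := fun {x} hx => by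
    rw [← sum_comp h.isMDec x]; exact Finset.sum_eq_zero fun j _ => hx j
  have hdual : ∀ q, comp h.isMDec q a ≠ 0 → ∃ v ∈ D q, B v a = 1 := by
    intro q hq
    obtain ⟨-, y, hy, hay⟩ := hnd q _ (comp_mem h.isMDec q a) hq
    rw [B_comm, ← B_block hQ h.decomp.decomp a hy] at hay
    exact ⟨(B y a)⁻¹ • y, (D q).smul_mem _ hy, by rw [hb.smul_left, inv_mul_cancel₀ hay]⟩
  have hinv : (Q a)⁻¹ ≠ 0 := inv_ne_zero haQ
  by_cases hcase1 : ∃ q, ∃ v ∈ D q, B v a = 0 ∧ B v b ≠ 0
  · obtain ⟨q, v, hv, hva, hvb⟩ := hcase1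
    have hcj : ∀ j, j ≠ q → comp h.isMDec j c = 0 := by
      intro j hj
      have := E q v hv j hj
      rw [hva, mul_zero, zero_smul, zero_add] at this
      exact (smul_eq_zero.mp this).resolve_left (mul_ne_zero hinv hvb)
    obtain ⟨s, hsq, hs⟩ : ∃ s, s ≠ q ∧ comp h.isMDec s a ≠ 0 := by
      by_cases hlq : l = q
      · exact ⟨m, fun e => hlm (hlq.trans e.symm), ham⟩
      · exact ⟨l, hlq, hal⟩
    obtain ⟨v', hv', hv'a⟩ := hdual s hs
    have hv'b : B v' b = β := by
      rw [hBc s v' hv', hcj s hsq, hv'a, zero_right hQ, zero_add, mul_one]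
    have hzero : ∀ r, r ≠ s → r ≠ q → comp h.isMDec r a = 0 := by
      intro r hrs hrq
      have := E s v' hv' r hrs
      rw [hcj r hrq, smul_zero, add_zero, hv'a, mul_one] at this
      exact (smul_eq_zero.mp this).resolve_left hinv
    rcases hcase with hβ0 | ⟨r, hrl, hrm, hr⟩
    · have hβne : β ≠ 0 := mul_ne_zero hinv hβ0
      have h1 := E s v' hv' q (Ne.symm hsq)
      rw [hv'a, hv'b, mul_one] at h1
      have h3 : B v (comp h.isMDec q c) = 0 := by
        have h4 := congrArg (B v) h1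
        rw [hb.add_right, hb.smul_right, hb.smul_right, zero_right hQ,
          ← B_block hQ h.decomp.decomp a hv, hva, mul_zero, zero_add] at h4
        exact (mul_eq_zero.mp h4).resolve_left (mul_ne_zero hinv hβne)
      exact hvb (by rw [hBc q v hv, h3, hva, mul_zero, add_zero])
    · -- `a` has only the components `s` and `q`
      have hmem : ∀ x, comp h.isMDec x a ≠ 0 → x = s ∨ x = q := fun x hx => by
        by_contra hx'
        push Not at hx'
        exact hx (hzero x hx'.1 hx'.2)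
      rcases hmem l hal with e1 | e1 <;> rcases hmem m ham with e2 | e2 <;>
        rcases hmem r hr with e3 | e3 <;>
        first
          | exact hlm (e1.trans e2.symm)
          | exact hrl (e3.trans e1.symm)
          | exact hrm (e3.trans e2.symm)
  push Not at hcase1
  have hν : ∀ q, ∃ ν : F, comp h.isMDec q b = ν • comp h.isMDec q a := by
    intro q
    have key : ∀ ν : F, (∀ v ∈ D q, B v b = ν * B v a) →
        comp h.isMDec q b = ν • comp h.isMDec q a := by
      intro ν hν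
      by_contra hne
      obtain ⟨-, y, hy, hyne⟩ := hnd q (comp h.isMDec q b - ν • comp h.isMDec q a)
        ((D q).sub_mem (comp_mem h.isMDec q b) ((D q).smul_mem _ (comp_mem h.isMDec q a)))
        (sub_ne_zero.mpr hne)
      refine hyne ?_
      rw [B_comm, sub_right hQ, hb.smul_right, ← B_block hQ h.decomp.decomp a hy,
        ← B_block hQ h.decomp.decomp b hy, hν y hy, sub_self]
    by_cases hq : comp h.isMDec q a = 0
    · refine ⟨0, key 0 fun v hv => ?_⟩
      rw [zero_mul]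
      exact hcase1 q v hv (by rw [B_block hQ h.decomp.decomp a hv, hq, zero_right hQ])
    · obtain ⟨v0, hv0, hv0a⟩ := hdual q hq
      refine ⟨B v0 b, key _ fun v hv => ?_⟩
      have := hcase1 q (v - B v a • v0) ((D q).sub_mem hv ((D q).smul_mem _ hv0))
        (by rw [form_sub_left (bil hQ), hb.smul_left, hv0a, mul_one, sub_self])
      rw [form_sub_left (bil hQ), hb.smul_left, sub_eq_zero] at this
      rw [this]; ring
  choose ν hν using hν
  have hrel : ∀ q j, q ≠ j → comp h.isMDec q a ≠ 0 → comp h.isMDec j a ≠ 0 →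
      1 + ν q * (ν j - β) = 0 := by
    intro q j hqj hq hj
    obtain ⟨v, hv, hva⟩ := hdual q hq
    have hvb : B v b = ν q := by
      rw [B_block hQ h.decomp.decomp b hv, hν q, hb.smul_right, ← B_block hQ h.decomp.decomp a hv,
        hva, mul_one]
    have h1 := E q v hv j (Ne.symm hqj)
    rw [hva, hvb, hc, map_sub, map_smul, hν j, ← sub_smul, smul_smul, ← add_smul] at h1
    have h3 := (smul_eq_zero.mp h1).resolve_right hj
    exact (mul_eq_zero.mp (show (Q a)⁻¹ * (1 + ν q * (ν j - β)) = 0 by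
      linear_combination h3)).resolve_left hinv
  have hsame : ∀ q j, comp h.isMDec q a ≠ 0 → comp h.isMDec j a ≠ 0 → ν q = ν j := by
    intro q j hq hj
    rcases eq_or_ne q j with rfl | hqj
    · rfl
    have h1 := hrel q j hqj hq hj
    have h3 := hrel j q (Ne.symm hqj) hj hq
    by_cases hβ0 : β = 0
    swap
    · exact sub_eq_zero.mp ((mul_eq_zero.mp
        (show β * (ν q - ν j) = 0 by linear_combination h3 - h1)).resolve_left hβ0)
    rcases hcase with hne | ⟨r0, hr0l, hr0m, hr0⟩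
    · exact absurd hβ0 (mul_ne_zero hinv hne)
    obtain ⟨r, hrq, hrj, hr⟩ : ∃ r, r ≠ q ∧ r ≠ j ∧ comp h.isMDec r a ≠ 0 := by
      by_cases e1 : l ≠ q ∧ l ≠ j
      · exact ⟨l, e1.1, e1.2, hal⟩
      by_cases e2 : m ≠ q ∧ m ≠ j
      · exact ⟨m, e2.1, e2.2, ham⟩
      refine ⟨r0, fun e => ?_, fun e => ?_, hr0⟩ <;> subst e <;>
        simp only [ne_eq, not_and_or, not_not] at e1 e2 <;>
        rcases e1 with e1 | e1 <;> rcases e2 with e2 | e2 <;>
        first
          | exact hlm (e1.trans e2.symm)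
          | exact hr0l e1.symm
          | exact hr0m e2.symm
    have h5 := hrel q r (Ne.symm hrq) hq hr
    have h6 := hrel j r (Ne.symm hrj) hj hr
    rw [hβ0, sub_zero] at h5 h6
    have hνr : ν r ≠ 0 := fun e => by rw [e, mul_zero, add_zero] at h5; exact one_ne_zero h5
    exact mul_right_cancel₀ hνr (by linear_combination h5 - h6)
  refine hind (Submodule.mem_span_singleton.mpr ⟨ν l, ?_⟩)
  rw [eq_comm, ← sub_eq_zero]
  refine hsum fun j => ?_
  rw [map_sub, map_smul, hν j]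
  by_cases hj : comp h.isMDec j a = 0
  · rw [hj, smul_zero, smul_zero, sub_zero]
  · rw [hsame j l hj hal, sub_self]

/-- The point `rf (x + e) x`. -/
theorem exists_second (h : Ctx Q M D k) (h2 : (2 : F) ≠ 0) {i : Fin t} {x e w : ι → F}
    (hx : x ∈ D i) (hxQ : Q x ≠ 0) (he : e ∈ D i) (he0 : e ≠ 0) (hex : B x e = 0)
    (hne : Q x + Q e ≠ 0) (hwx : B x w = 0) (hwe : B e w = 0) :
    ∃ y ∈ D i, Q y = Q x ∧ B y w = 0 ∧ y ∉ Submodule.span F {x} ∧
      (Q e ≠ Q x → B y x ≠ 0) := by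
  have hQ := h.form
  have hb := hQ.polar_bilinear
  have hdQ : Q (x + e) = Q x + Q e := by rw [Q_add (Q := Q), hex, add_zero]
  have hxd : B x (x + e) = 2 * Q x := by rw [hb.add_right, B_self hQ, hex, add_zero]
  refine ⟨rf Q (x + e) x, h.rf_mem ((D i).add_mem hx he) hx, rf_isometry hQ (hdQ ▸ hne) x, ?_, ?_,
    fun hQe => ?_⟩
  · rw [rf, form_sub_left (bil hQ), hb.smul_left, hb.add_left, hwx, hwe]; ring
  · intro hm
    obtain ⟨μ, hμ⟩ := Submodule.mem_span_singleton.mp hm
    have h1 := congrArg (fun z => B z e) hμ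
    simp only [rf, hxd, hdQ, hb.smul_left, form_sub_left (bil hQ), hb.add_left, B_self hQ, hex,
      mul_zero, zero_add, zero_sub] at h1
    have h1' : ((Q x + Q e)⁻¹ * (2 * Q x)) * (2 * Q e) = 0 := by linear_combination h1
    have hcoef : (Q x + Q e)⁻¹ * (2 * Q x) ≠ 0 :=
      mul_ne_zero (inv_ne_zero hne) (mul_ne_zero h2 hxQ)
    by_cases hQe : Q e = 0
    · have h3 : (μ - 1 + (Q x + Q e)⁻¹ * (2 * Q x)) • x =
          (-((Q x + Q e)⁻¹ * (2 * Q x))) • e := by
        rw [rf, hxd, hdQ] at hμ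
        linear_combination (norm := module) hμ
      have h4 := congrArg (fun z => B x z) h3
      simp only [hb.smul_right, hex, B_self hQ, mul_zero] at h4
      rw [(mul_eq_zero.mp h4).resolve_right (mul_ne_zero h2 hxQ), zero_smul, eq_comm,
        smul_eq_zero, neg_eq_zero] at h3
      exact he0 (h3.resolve_left hcoef)
    · exact (mul_ne_zero hcoef (mul_ne_zero h2 hQe)) h1'
  · rw [rf, form_sub_left (bil hQ), hb.smul_left, hb.add_left, B_self hQ, hxd, hdQ,
      B_comm e x, hex, add_zero]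
    intro h'
    field_simp at h'
    exact mul_ne_zero (mul_ne_zero h2 hxQ) (sub_ne_zero.mpr hQe)
      (by linear_combination h')

theorem omega_le_of_decomp (h : Ctx Q M D k) (h2 : (2 : F) ≠ 0) (hk : 3 ≤ k)
    (hex : ¬ (Nat.card F = 3 ∧ k = 3)) (ht : 3 ≤ t ∨ 5 ≤ k)
    {g : GL ι F} (hgM : g ∈ M) (hg : g ∉ Cfsg.Geo.decompositionStabilizer D) :
    Cfsg.Geo.omegaGL Q ≤ M := by
  classical
  have hQ := h.form
  have hb := hQ.polar_bilinear
  have hnd := h.decomp.decomp.nondegenerate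
  have hfr := h.isMDec.finrank_eq
  have hiso := h.iso hgM
  obtain ⟨i, x, hx, hxQ, hmix⟩ : ∃ i, ∃ x ∈ D i, Q x = 1 ∧
      ∀ a, (g : Matrix ι ι F) *ᵥ x ∉ D a := by
    by_contra hc
    push Not at hc
    exact hg (mem_stab_of_single h h2 hk hex hgM one_ne_zero hc)
  have hx0 : Q x ≠ 0 := by rw [hxQ]; exact one_ne_zero
  set a := (g : Matrix ι ι F) *ᵥ x with ha
  have haQ : Q a ≠ 0 := by rw [ha, hiso]; exact hx0
  obtain ⟨l, m, hlm, hal, ham⟩ := exists_two_of_mixed h.isMDec hmix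
  -- the finish from a fixed block vector `z` and a second point `y`
  have finish : ∀ (r : Fin t) (z : ι → F), z ∈ D r → Q z ≠ 0 → B z a = 0 → ∀ y ∈ D i, Q y = Q x →
      B y (((g⁻¹ : GL ι F) : Matrix ι ι F) *ᵥ z) = 0 → y ∉ Submodule.span F {x} →
      (B y x ≠ 0 ∨ ∃ r, r ≠ l ∧ r ≠ m ∧ comp h.isMDec r a ≠ 0) →
      Cfsg.Geo.omegaGL Q ≤ M := by
    intro r z hz hzQ hza y hy hyQ hyw hind hcase
    obtain ⟨R, hR, hRv⟩ :=
      pair_conj hQ hgM hiso (h.pair_block hx hy hyQ.symm hx0)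
    have hbz : B z ((g : Matrix ι ι F) *ᵥ y) = 0 := by
      rw [B_comm, ← gl_mulVec_inv g z, B_map hiso]
      exact hyw
    have hRz : (R : Matrix ι ι F) *ᵥ z = z := by
      rw [hRv, rf_of_ortho hQ hbz, rf_of_ortho hQ hza]
    have hnot := not_mem_stab h h2 hk haQ (by rw [ha, hiso, hiso, hyQ]) hRv hlm hal ham
      (fun hm => hind (by
        obtain ⟨μ, hμ⟩ := Submodule.mem_span_singleton.mp hm
        exact Submodule.mem_span_singleton.mpr
          ⟨μ, gl_mulVec_injective g (by simpa [ha, mulVec_smul] using hμ)⟩))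
      (hcase.imp (fun h1 => by rw [ha, B_map hiso]; exact h1) id)
    obtain ⟨j, v, hv, hvQ, hvmix⟩ : ∃ j, ∃ v ∈ D j, Q v = Q z ∧
        ∀ p, (R : Matrix ι ι F) *ᵥ v ∉ D p := by
      by_contra hc
      push Not at hc
      exact hnot (mem_stab_of_single h h2 hk hex hR hzQ hc)
    obtain ⟨l', m', hlm', hl', hm'⟩ := exists_two_of_mixed h.isMDec hvmix
    have hzL := h.inL_block hz hzQ
    exact h.omega_le_of_mixed (card_ne_two h2) hzQ
      (h.inL_map hzQ hR hzL (hRz.symm ▸ hzL) (hvQ ▸ h.inL_block hv (hvQ ▸ hzQ))) hlm' hl' hm'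
  obtain ⟨hS, hSd⟩ := split_vec hQ h2 (hnd i) hx hx0
  rw [hfr i] at hSd
  set S := D i ⊓ perpQ hQ (Submodule.span F {x})
  have hSx : ∀ {e}, e ∈ S → B x e = 0 := fun {e} he => by
    rw [B_comm]; exact he.2 x (Submodule.mem_span_singleton_self x)
  by_cases hthree : (∃ r, r ≠ l ∧ r ≠ m ∧ comp h.isMDec r a ≠ 0) ∨ 5 ≤ k
  · obtain ⟨r, z, hz, hzQ, hza⟩ := h.perp a haQ 1 one_ne_zero
    set w := ((g⁻¹ : GL ι F) : Matrix ι ι F) *ᵥ z with hw
    have hwx : B x w = 0 := by
      rw [← B_map hiso, hw, gl_mulVec_inv, ← ha, B_comm]; exact hza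
    have h1 := inf_perp_ge (hQ := hQ) S (Submodule.span F {w})
    have h3 : Module.finrank F (Submodule.span F {w}) ≤ 1 :=
      (finrank_span_le_card _).trans (by simp)
    obtain ⟨e, heC, he0, hne, hcase⟩ : ∃ e ∈ S ⊓ perpQ hQ (Submodule.span F {w}), e ≠ 0 ∧
        Q x + Q e ≠ 0 ∧ (Q e ≠ Q x ∨ ∃ r, r ≠ l ∧ r ≠ m ∧ comp h.isMDec r a ≠ 0) := by
      by_cases hk5 : 5 ≤ k
      · obtain ⟨e, he, he0, heQ⟩ := exists_singular_in hQ
          (S := S ⊓ perpQ hQ (Submodule.span F {w})) (by omega)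
        exact ⟨e, he, he0, by rwa [heQ, add_zero], Or.inl (by rw [heQ]; exact hx0.symm)⟩
      have hr := hthree.resolve_right hk5
      by_contra hall
      have hval : ∀ e ∈ S ⊓ perpQ hQ (Submodule.span F {w}), e ≠ 0 → Q x + Q e = 0 :=
        fun e he he0 => by_contra fun hne => hall ⟨e, he, he0, hne, Or.inr hr⟩
      obtain ⟨e1, he1, he10⟩ := Submodule.exists_mem_ne_zero_of_ne_bot
        (p := S ⊓ perpQ hQ (Submodule.span F {w})) (fun e => by rw [e, finrank_bot] at h1; omega)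
      by_cases hq : Nat.card F = 3
      swap
      · obtain ⟨γ, hγ0, hγ⟩ := exists_gamma hq h2
        have e1' := hval (γ • e1) (Submodule.smul_mem _ _ he1) (smul_ne_zero hγ0 he10)
        have e1'' := hval e1 he1 he10
        rw [hQ.smul] at e1'
        exact hγ (mul_right_cancel₀ hx0 (by linear_combination γ ^ 2 * e1'' - e1'))
      have hk3 : k ≠ 3 := fun e => hex ⟨hq, e⟩
      obtain ⟨e2, he2, he2n⟩ := SetLike.exists_of_lt (lt_of_le_of_ne
        ((Submodule.span_singleton_le_iff_mem _ _).mpr he1) (fun e => by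
          have := congrArg (fun S : Submodule F (ι → F) => Module.finrank F S) e
          simp only [finrank_span_singleton he10] at this
          omega) : Submodule.span F {e1} < S ⊓ perpQ hQ (Submodule.span F {w}))
      have hne : ∀ γ : F, e2 + γ • e1 ≠ 0 := fun γ e => he2n (by
        rw [eq_neg_of_add_eq_zero_left e]
        exact Submodule.neg_mem _ (Submodule.smul_mem _ _ (Submodule.mem_span_singleton_self _)))
      have v1 := hval e1 he1 he10
      have v2 := hval e2 he2 (by simpa using hne 0)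
      have v3 := hval _ (Submodule.add_mem _ he2 (Submodule.smul_mem _ (1 : F) he1)) (hne 1)
      have v4 := hval _ (Submodule.add_mem _ he2 (Submodule.smul_mem _ (-1 : F) he1)) (hne (-1))
      rw [Q_add_smul hQ] at v3 v4
      exact mul_ne_zero h2 hx0 (by linear_combination 2 * v1 + 2 * v2 - v3 - v4)
    obtain ⟨y, hy, hyQ, hyw, hind, hyx⟩ := exists_second h h2 hx hx0 heC.1.1 he0 (hSx heC.1) hne
      hwx (heC.2 w (Submodule.mem_span_singleton_self w))
    exact finish r z hz (by rw [hzQ]; exact one_ne_zero) hza y hy hyQ hyw hind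
      (hcase.imp hyx id)
  push Not at hthree
  obtain ⟨htwo, hk5⟩ := hthree
  obtain ⟨r, hrl, hrm⟩ : ∃ r : Fin t, r ≠ l ∧ r ≠ m := by
    have hcard : ({l, m} : Finset (Fin t)).card < (Finset.univ : Finset (Fin t)).card := by
      rw [Finset.card_univ, Fintype.card_fin]
      have := Finset.card_le_two (a := l) (b := m)
      omega
    obtain ⟨r, -, hr⟩ := Finset.exists_mem_notMem_of_card_lt_card hcard
    simp only [Finset.mem_insert, Finset.mem_singleton, not_or] at hr
    exact ⟨r, hr⟩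
  obtain ⟨e, heS, he0, hne, hne'⟩ : ∃ e ∈ S, e ≠ 0 ∧ Q x + Q e ≠ 0 ∧ Q e ≠ Q x := by
    by_cases hq : Nat.card F = 3
    · have hk3 : k ≠ 3 := fun e => hex ⟨hq, e⟩
      obtain ⟨e, he, he0, heQ⟩ := exists_singular_in hQ (S := S) (by omega)
      exact ⟨e, he, he0, by rwa [heQ, add_zero], by rw [heQ]; exact hx0.symm⟩
    · obtain ⟨γ, hγ0, hγ⟩ := exists_gamma hq h2
      obtain ⟨e, he, he0, heQ⟩ := represent hQ h2 hS (by omega) (mul_ne_zero hγ0 hx0)
      refine ⟨e, he, he0, fun h' => hγ ?_, fun h' => hγ ?_⟩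
      · rw [heQ] at h'
        have := (mul_eq_zero.mp (show (1 + γ) * Q x = 0 by linear_combination h')).resolve_right hx0
        linear_combination (γ - 1) * this
      · rw [heQ] at h'
        have := (mul_eq_zero.mp (show (γ - 1) * Q x = 0 by linear_combination h')).resolve_right hx0
        linear_combination (γ + 1) * this
  -- an anisotropic vector of `D r` orthogonal to `g e`
  set s := comp h.isMDec r ((g : Matrix ι ι F) *ᵥ e) with hs
  obtain ⟨z, hz, hzQ, hzs⟩ : ∃ z ∈ D r, Q z ≠ 0 ∧ B z s = 0 := by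
    by_cases hs0 : s = 0
    · obtain ⟨z, hz, hzQ⟩ := h.rep r 1 one_ne_zero
      exact ⟨z, hz, by rw [hzQ]; exact one_ne_zero, by rw [hs0, zero_right hQ]⟩
    by_cases hsQ : Q s = 0
    · obtain ⟨f, hf, hfQ, hsf⟩ := exists_partner hQ (hnd r) (comp_mem h.isMDec r _) hs0 hsQ
      obtain ⟨hC, hCd⟩ := split_hyp hQ (hnd r) (comp_mem h.isMDec r _) hf hsQ hfQ hsf
      rw [hfr r] at hCd
      obtain ⟨z, ⟨hz, hzp⟩, hzQ⟩ := exists_anisotropic_on hQ hC
        (fun e => by rw [e, finrank_bot] at hCd; omega)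
      exact ⟨z, hz, hzQ, (mem_perp_pair (hQ := hQ) hzp).1⟩
    · obtain ⟨hC, hCd⟩ := split_vec hQ h2 (hnd r) (comp_mem h.isMDec r _) hsQ
      rw [hfr r] at hCd
      obtain ⟨z, ⟨hz, hzp⟩, hzQ⟩ := exists_anisotropic_on hQ hC
        (fun e => by rw [e, finrank_bot] at hCd; omega)
      exact ⟨z, hz, hzQ, hzp s (Submodule.mem_span_singleton_self s)⟩
  have hza : B z a = 0 := by
    rw [B_block hQ h.decomp.decomp a hz, htwo r hrl hrm, zero_right hQ]
  set w := ((g⁻¹ : GL ι F) : Matrix ι ι F) *ᵥ z with hw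
  have hwx : B x w = 0 := by rw [← B_map hiso, hw, gl_mulVec_inv, ← ha, B_comm]; exact hza
  have hwe : B e w = 0 := by
    rw [← B_map hiso, hw, gl_mulVec_inv, B_comm, B_block hQ h.decomp.decomp _ hz]
    exact hzs
  obtain ⟨y, hy, hyQ, hyw, hind, hyx⟩ :=
    exists_second h h2 hx hx0 heS.1 he0 (hSx heS) hne hwx hwe
  exact finish r z hz hzQ hza y hy hyQ hyw hind (Or.inl (hyx hne'))

theorem maximal_of_three_le (hQ : Cfsg.Geo.IsNondegenerateQuadraticForm Q) (h2 : (2 : F) ≠ 0)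
    (hn : 5 ≤ Fintype.card ι) (hD : Cfsg.Geo.IsOrthogonalMDecomposition Q k D) (hk : 3 ≤ k)
    (hex : ¬ (Nat.card F = 3 ∧ k = 3)) (ht : 3 ≤ t) :
    Cfsg.Geo.IsMaximalIn (Cfsg.Geo.omegaGL Q)
      (Cfsg.Geo.decompositionStabilizer D ⊓ Cfsg.Geo.omegaGL Q) := by
  refine isMaximalIn_of inf_le_right ?_ fun M hHM hMK g hgM hgH => ?_
  · have h := ctx_of hQ h2 hn hD hk hex (M := Cfsg.Geo.omegaGL Q) inf_le_right le_rfl
    have hb := hQ.polar_bilinear
    have hnd := hD.decomp.nondegenerate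
    let i0 : Fin t := ⟨0, by omega⟩
    let i1 : Fin t := ⟨1, by omega⟩
    let i2 : Fin t := ⟨2, by omega⟩
    have h01 : i0 ≠ i1 := by simp [i0, i1]
    have h02 : i0 ≠ i2 := by simp [i0, i2]
    have h12 : i1 ≠ i2 := by simp [i1, i2]
    obtain ⟨x0, hx0, hx0Q⟩ := h.rep i0 1 one_ne_zero
    obtain ⟨x1, hx1, hx1Q⟩ := h.rep i1 1 one_ne_zero
    obtain ⟨x2, hx2, hx2Q⟩ := h.rep i2 (-1) (neg_ne_zero.mpr one_ne_zero)
    obtain ⟨hR, hRd⟩ := split_vec hQ h2 (hnd i0) hx0 (by rw [hx0Q]; exact one_ne_zero)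
    rw [h.isMDec.finrank_eq i0] at hRd
    obtain ⟨b, ⟨hbm, hbx⟩, hb0, hbQ⟩ := represent hQ h2 hR (by omega) (one_ne_zero (α := F))
    set a := x0 + x1 + x2 with ha
    have haQ : Q a = 1 := by
      rw [ha, Q_add (Q := Q), Q_add (Q := Q), hb.add_left, hx0Q, hx1Q, hx2Q, h.orthog h01 hx0 hx1,
        h.orthog h02 hx0 hx2, h.orthog h12 hx1 hx2]
      ring
    have hab : B a b = 0 := by
      rw [ha, hb.add_left, hb.add_left, B_comm x0 b,
        hbx x0 (Submodule.mem_span_singleton_self x0), h.orthog h01.symm hx1 hbm,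
        h.orthog h02.symm hx2 hbm]
      ring
    have haQ0 : Q a ≠ 0 := by rw [haQ]; exact one_ne_zero
    obtain ⟨g, hg, hgz⟩ := exists_refl_pair hQ hn haQ0 (hbQ.trans haQ.symm) hab
    have hx00 : x0 ≠ 0 := fun e => by rw [e, Q_zero hQ] at hx0Q; exact zero_ne_one hx0Q
    have hx10 : x1 ≠ 0 := fun e => by rw [e, Q_zero hQ] at hx1Q; exact zero_ne_one hx1Q
    have hx20 : x2 ≠ 0 := fun e => by
      rw [e, Q_zero hQ] at hx2Q
      exact neg_ne_zero.mpr one_ne_zero hx2Q.symm
    have c0 : comp h.isMDec i0 a = x0 := by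
      rw [ha, map_add, map_add, comp_self h.isMDec hx0, comp_other h.isMDec h01 hx1,
        comp_other h.isMDec h02 hx2, add_zero, add_zero]
    have c1 : comp h.isMDec i1 a = x1 := by
      rw [ha, map_add, map_add, comp_other h.isMDec h01.symm hx0, comp_self h.isMDec hx1,
        comp_other h.isMDec h12 hx2, zero_add, add_zero]
    have c2 : comp h.isMDec i2 a = x2 := by
      rw [ha, map_add, map_add, comp_other h.isMDec h02.symm hx0, comp_other h.isMDec h12.symm hx1,
        comp_self h.isMDec hx2, zero_add, zero_add]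
    refine ⟨g, hg, fun hmem => not_mem_stab h h2 hk haQ0 (hbQ.trans haQ.symm) (fun v => ?_) h01
      (by rw [c0]; exact hx00) (by rw [c1]; exact hx10) (fun hm => ?_)
      (Or.inr ⟨i2, h02.symm, h12.symm, by rw [c2]; exact hx20⟩) hmem.1⟩
    · rw [hgz, rf, rf, form_sub_left (bil hQ), hb.smul_left, B_comm b a, hab, hbQ, haQ]
      module
    · obtain ⟨μ, hμ⟩ := Submodule.mem_span_singleton.mp hm
      have h1 := congrArg (comp h.isMDec i1) hμ
      rw [map_smul, c1, comp_other h.isMDec h01.symm hbm, smul_eq_zero] at h1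
      exact hb0 (by rw [← hμ, h1.resolve_right hx10, zero_smul])
  exact omega_le_of_decomp (ctx_of hQ h2 hn hD hk hex hHM hMK) h2 hk hex (Or.inl ht) hgM
    fun e => hgH ⟨e, hMK hgM⟩

end Mixed

end Cfsg.Agent.Lib.Subspaces.OrthDecompOdd
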