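import Cfsg.Agent.Lib.Subspaces.OrthDecompEven

/-!
Orthogonal decompositions into at least seven non-degenerate planes: geometry of the planes and
Siegel centres with small support.
-/

set_option autoImplicit false

namespace Cfsg.Agent.Lib.Subspaces.OrthPlane

open Matrix Cfsg.Agent.Lib.Subspaces.Transvection Cfsg.Agent.Lib.Subspaces.FormVec
  Cfsg.Agent.Lib.Subspaces.OrthForm Cfsg.Agent.Lib.Subspaces.OrthLines
  Cfsg.Agent.Lib.Subspaces.OrthSingular
  Cfsg.Agent.Lib.Subspaces.OmegaGL Cfsg.Agent.Lib.Subspaces.OrthNondeg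
  Cfsg.Agent.Lib.Subspaces.Decomposition Cfsg.Agent.Lib.Subspaces.OrthDecomp

variable {ι : Type} [Fintype ι] [DecidableEq ι] {F : Type*} [Field F]
  {Q : (ι → F) → F} {M : Subgroup (GL ι F)} {t : ℕ} {D : Fin t → Submodule F (ι → F)}

local notation "B" => QuadraticMap.polar Q

/-- The standing hypotheses for planes. -/
structure Pl (Q : (ι → F) → F) (M : Subgroup (GL ι F))
    (D : Fin t → Submodule F (ι → F)) : Prop extends Base Q M D 2 where
  seven : 7 ≤ t
  good : 7 ≤ Nat.card F ∨ ((∀ i, ∀ v ∈ D i, Q v = 0 → v = 0) ∧ Nat.card F ≠ 3)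

theorem exists_not_mem {α : Type*} [Fintype α] [DecidableEq α] (s : Finset α)
    (h : s.card < Fintype.card α) : ∃ x, x ∉ s := by
  obtain ⟨x, -, hx⟩ := Finset.exists_mem_notMem_of_card_lt_card
    (s := s) (t := Finset.univ) (by rwa [Finset.card_univ])
  exact ⟨x, hx⟩

theorem exists_index (h : 7 ≤ t) (s : Finset (Fin t)) (hs : s.card ≤ 6) : ∃ x, x ∉ s :=
  exists_not_mem s (by rw [Fintype.card_fin]; omega)

namespace Pl

variable [Finite F] (h : Pl Q M D)

include h

omit [Finite F] in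
theorem ne_zero_of_aniso {x : ι → F} (hx : Q x ≠ 0) : x ≠ 0 := fun e =>
  hx (by rw [e, Q_zero h.form])

/-- Vectors of a plane orthogonal to the same non-zero vector are proportional. -/
theorem eq_smul {i : Fin t} {x u v : ι → F} (hx : x ∈ D i) (hx0 : x ≠ 0) (hu : u ∈ D i)
    (hu0 : u ≠ 0) (hv : v ∈ D i) (hux : B u x = 0) (hvx : B v x = 0) : ∃ r : F, r • u = v := by
  have hQ := h.form
  set S := D i ⊓ perpQ hQ (Submodule.span F {x}) with hS
  have hmem : ∀ {w}, w ∈ D i → B w x = 0 → w ∈ S := fun {w} hw hwx => ⟨hw, fun s hs => by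
    obtain ⟨r, rfl⟩ := Submodule.mem_span_singleton.mp hs
    rw [hQ.polar_bilinear.smul_right, hwx, mul_zero]⟩
  have hlt : S < D i := by
    refine lt_of_le_of_ne inf_le_left fun e => ?_
    obtain ⟨-, y, hy, hxy⟩ := h.decomp.decomp.nondegenerate i x hx hx0
    rw [← e] at hy
    exact hxy (by rw [B_comm]; exact hy.2 x (Submodule.mem_span_singleton_self x))
  have h1 := Submodule.finrank_lt_finrank_of_lt hlt
  rw [h.isMDec.finrank_eq i] at h1
  have hle : Submodule.span F {u} ≤ S :=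
    (Submodule.span_singleton_le_iff_mem _ _).mpr (hmem hu hux)
  have heq := Submodule.eq_of_le_of_finrank_le hle (by rw [finrank_span_singleton hu0]; omega)
  exact Submodule.mem_span_singleton.mp (heq ▸ hmem hv hvx)

omit [Finite F] in
/-- Two independent vectors span their plane. -/
theorem mem_pair {i : Fin t} {u p : ι → F} (hu : u ∈ D i) (hu0 : u ≠ 0) (hp : p ∈ D i)
    (hind : p ∉ Submodule.span F {u}) {v : ι → F} (hv : v ∈ D i) :
    ∃ a b : F, a • u + b • p = v := by
  have hle : Submodule.span F {u, p} ≤ D i := by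
    rw [Submodule.span_le]
    rintro w (rfl | rfl) <;> assumption
  have hlt : Submodule.span F {u} < Submodule.span F {u, p} :=
    lt_of_le_of_ne (Submodule.span_mono (by simp)) fun e =>
      hind (e ▸ Submodule.subset_span (by simp))
  have h1 := Submodule.finrank_lt_finrank_of_lt hlt
  rw [finrank_span_singleton hu0] at h1
  have heq := Submodule.eq_of_le_of_finrank_le hle (by rw [h.isMDec.finrank_eq i]; omega)
  exact Submodule.mem_span_pair.mp (heq ▸ hv)

omit [Finite F] in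
theorem eq_zero_of_perp {i : Fin t} {u p v : ι → F} (hu : u ∈ D i) (hu0 : u ≠ 0) (hp : p ∈ D i)
    (hind : p ∉ Submodule.span F {u}) (hv : v ∈ D i) (hvu : B v u = 0) (hvp : B v p = 0) :
    v = 0 := by
  by_contra hv0
  obtain ⟨-, y, hy, hvy⟩ := h.decomp.decomp.nondegenerate i v hv hv0
  obtain ⟨a, b, rfl⟩ := h.mem_pair hu hu0 hp hind hy
  rw [h.form.polar_bilinear.add_right, h.form.polar_bilinear.smul_right,
    h.form.polar_bilinear.smul_right, hvu, hvp, mul_zero, mul_zero, add_zero] at hvy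
  exact hvy rfl

omit [Finite F] in
theorem exists_ortho {i : Fin t} (u : ι → F) : ∃ w ∈ D i, w ≠ 0 ∧ B w u = 0 := by
  have hQ := h.form
  have h1 := inf_perp_ge (hQ := hQ) (D i) (Submodule.span F {u})
  have h2 : Module.finrank F (Submodule.span F {u}) ≤ 1 :=
    (finrank_span_le_card _).trans (by simp)
  rw [h.isMDec.finrank_eq i] at h1
  obtain ⟨w, ⟨hw, hwu⟩, hw0⟩ := Submodule.exists_mem_ne_zero_of_ne_bot
    (p := D i ⊓ perpQ hQ (Submodule.span F {u})) (fun e => by rw [e, finrank_bot] at h1; omega)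
  exact ⟨w, hw, hw0, hwu u (Submodule.mem_span_singleton_self u)⟩

/-- An anisotropic vector orthogonal to a given zero or anisotropic vector. -/
theorem exists_perp {i : Fin t} {u : ι → F} (hu : u ∈ D i) (hu' : u = 0 ∨ Q u ≠ 0) :
    ∃ z ∈ D i, Q z ≠ 0 ∧ B z u = 0 := by
  rcases hu' with rfl | huQ
  · obtain ⟨z, hz, hzQ⟩ := h.rep i 1 one_ne_zero
    exact ⟨z, hz, by rw [hzQ]; exact one_ne_zero, zero_right h.form z⟩
  obtain ⟨w, hw, hw0, hwu⟩ := h.exists_ortho (i := i) u
  refine ⟨w, hw, fun hwQ => ?_, hwu⟩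
  obtain ⟨r, hr⟩ := h.eq_smul hw hw0 hw hw0 hu (by rw [B_self h.form, hwQ, mul_zero])
    (by rw [B_comm]; exact hwu)
  exact huQ (by rw [← hr, h.form.smul, hwQ, mul_zero])

omit [Finite F] in
theorem card_roots [Fintype F] [DecidableEq F] {i : Fin t} {u w : ι → F} (hu : u ∈ D i)
    (hu0 : u ≠ 0) (hw : w ∈ D i) (hind : w ∉ Submodule.span F {u}) :
    (Finset.univ.filter fun s : F => Q (w + s • u) = 0).card ≤
        (if 7 ≤ Nat.card F then 2 else 0) := by
  have hQ := h.form
  have hb := hQ.polar_bilinear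
  split_ifs with hq
  swap
  · rw [Nat.le_zero, Finset.card_eq_zero, Finset.filter_eq_empty_iff]
    intro s _ hs
    have := (h.good.resolve_left hq).1 i _ ((D i).add_mem hw ((D i).smul_mem s hu)) hs
    exact hind (by
      rw [eq_neg_of_add_eq_zero_left this]
      exact Submodule.neg_mem _ (Submodule.smul_mem _ _ (Submodule.mem_span_singleton_self u)))
  by_cases hne : (Finset.univ.filter fun s : F => Q (w + s • u) = 0) = ∅
  · rw [hne, Finset.card_empty]; omega
  obtain ⟨s0, hs0⟩ := Finset.nonempty_iff_ne_empty.mpr hne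
  refine le_trans (Finset.card_le_card (t := {s0, -(B w u) / Q u - s0}) ?_) Finset.card_le_two
  intro s hs
  simp only [Finset.mem_filter, Finset.mem_univ, true_and, Q_add_smul hQ] at hs hs0
  have h1 : (s - s0) * ((s + s0) * Q u + B w u) = 0 := by linear_combination hs - hs0
  rcases mul_eq_zero.mp h1 with h1 | h1
  · simp [sub_eq_zero.mp h1]
  by_cases huQ : Q u = 0
  · exfalso
    rw [huQ, mul_zero, zero_add] at h1
    exact hu0 (h.eq_zero_of_perp hu hu0 hw hind hu (by rw [B_self hQ, huQ, mul_zero])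
      (by rw [B_comm, h1]))
  · have : s = -(B w u) / Q u - s0 := by
      field_simp
      linear_combination h1
    simp [this]

theorem exists_avoid {i : Fin t} {u : ι → F} (hu : u ∈ D i) (hu0 : u ≠ 0) (p1 p2 : ι → F)
    (hp : p1 = p2 ∨ Nat.card F ≠ 2) :
    ∃ x ∈ D i, Q x ≠ 0 ∧ B u x ≠ 0 ∧ x ∉ Submodule.span F {p1} ∧ x ∉ Submodule.span F {p2} := by
  classical
  have : Fintype F := Fintype.ofFinite F
  have hQ := h.form
  have hb := hQ.polar_bilinear
  obtain ⟨-, u2, hu2, huu2⟩ := h.decomp.decomp.nondegenerate i u hu hu0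
  obtain ⟨w, hw, hw0, hwu⟩ := h.exists_ortho (i := i) u
  have hind : u2 ∉ Submodule.span F {w} := fun hm => by
    obtain ⟨r, rfl⟩ := Submodule.mem_span_singleton.mp hm
    rw [hb.smul_right, B_comm, hwu, mul_zero] at huu2
    exact huu2 rfl
  set R0 := Finset.univ.filter fun s : F => Q (u2 + s • w) = 0 with hR0
  have hbad : ∀ p : ι → F,
      (Finset.univ.filter fun s : F => u2 + s • w ∈ Submodule.span F {p}).card ≤ 1 := by
    intro p
    rw [Finset.card_le_one]
    intro s hs s' hs'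
    simp only [Finset.mem_filter, Finset.mem_univ, true_and] at hs hs'
    obtain ⟨a, ha⟩ := Submodule.mem_span_singleton.mp hs
    obtain ⟨b, hb'⟩ := Submodule.mem_span_singleton.mp hs'
    by_contra hne
    have hab : (a - b) • p = (s - s') • w := by
      rw [sub_smul, ha, hb']; module
    have ha0 : a - b ≠ 0 := fun e => by
      rw [e, zero_smul, eq_comm, smul_eq_zero, sub_eq_zero] at hab
      exact hab.elim hne hw0
    refine hind (Submodule.mem_span_singleton.mpr ⟨a * ((a - b)⁻¹ * (s - s')) - s, ?_⟩)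
    have hp' : p = ((a - b)⁻¹ * (s - s')) • w := by
      rw [← smul_smul, ← hab, smul_smul, inv_mul_cancel₀ ha0, one_smul]
    rw [sub_smul, mul_smul, ← hp', ha, add_sub_cancel_right]
  set R1 := Finset.univ.filter fun s : F => u2 + s • w ∈ Submodule.span F {p1} with hR1
  set R2 := Finset.univ.filter fun s : F => u2 + s • w ∈ Submodule.span F {p2} with hR2
  obtain ⟨s, hs⟩ := exists_not_mem (R0 ∪ (R1 ∪ R2)) (by
    have h0 : R0.card ≤ (if 7 ≤ Nat.card F then 2 else 0) := h.card_roots hw hw0 hu2 hind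
    have h1 := Finset.card_union_le R0 (R1 ∪ R2)
    have h2 := Finset.card_union_le R1 R2
    have h1' := hbad p1
    have h2' := hbad p2
    rw [← hR1] at h1'
    rw [← hR2] at h2'
    have hq1 := Fintype.one_lt_card (α := F)
    rw [← Nat.card_eq_fintype_card] at hq1 ⊢
    by_cases hq : 7 ≤ Nat.card F
    · rw [if_pos hq] at h0; omega
    rw [if_neg hq] at h0
    rcases hp with heq | hne2
    · have : R1 ∪ R2 = R1 := by rw [hR1, hR2, heq, Finset.union_self]
      rw [this] at h1 ⊢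
      omega
    · omega)
  simp only [hR0, hR1, hR2, Finset.mem_union, Finset.mem_filter, Finset.mem_univ, true_and,
    not_or] at hs
  refine ⟨_, (D i).add_mem hu2 ((D i).smul_mem s hw), hs.1, ?_, hs.2.1, hs.2.2⟩
  rwa [hb.add_right, hb.smul_right, B_comm u w, hwu, mul_zero, add_zero]

/-- A second point of the same norm, neither orthogonal nor proportional. -/
theorem exists_second {i : Fin t} {x : ι → F} (hx : x ∈ D i) (hxQ : Q x ≠ 0) :
    ∃ y ∈ D i, Q y = Q x ∧ y ∉ Submodule.span F {x} ∧ B x y ≠ 0 := by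
  classical
  have : Fintype F := Fintype.ofFinite F
  have hQ := h.form
  have hb := hQ.polar_bilinear
  have hx0 := h.ne_zero_of_aniso hxQ
  obtain ⟨z, hz, hzQ, hxz, hzx, -⟩ := h.exists_avoid hx hx0 x x (Or.inl rfl)
  set y := rf Q z x with hy
  have hym : y ∈ D i := h.rf_mem hz hx
  have hyQ : Q y = Q x := rf_isometry hQ hzQ x
  have hind : y ∉ Submodule.span F {x} := fun hm => by
    obtain ⟨μ, hμ⟩ := Submodule.mem_span_singleton.mp hm
    have hκ : (Q z)⁻¹ * B x z ≠ 0 := mul_ne_zero (inv_ne_zero hzQ) hxz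
    refine hzx (Submodule.mem_span_singleton.mpr ⟨((Q z)⁻¹ * B x z)⁻¹ * (1 - μ), ?_⟩)
    rw [← smul_smul, sub_smul, one_smul, hμ, hy, rf, sub_sub_cancel, smul_smul,
      inv_mul_cancel₀ hκ, one_smul]
  by_cases hB : B x y = 0
  swap
  · exact ⟨y, hym, hyQ, hind, hB⟩
  have h2 : (2 : F) ≠ 0 := fun h2 => by
    obtain ⟨r, hr⟩ := h.eq_smul hx hx0 hx hx0 hym (by rw [B_self hQ, h2, zero_mul])
      (by rw [B_comm, hB])
    exact hind (Submodule.mem_span_singleton.mpr ⟨r, hr⟩)
  set R := Finset.univ.filter fun s : F => Q (x + s • y) = 0 with hR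
  obtain ⟨s, hs⟩ := exists_not_mem (({0, 1, -1} : Finset F) ∪ R) (by
    have h0 : R.card ≤ (if 7 ≤ Nat.card F then 2 else 0) :=
      h.card_roots hym (h.ne_zero_of_aniso (hyQ ▸ hxQ)) hx fun hm => by
        obtain ⟨r, hr⟩ := Submodule.mem_span_singleton.mp hm
        rw [← hr, hb.smul_left, B_self hQ, mul_eq_zero] at hB
        rcases hB with hr0 | hB
        · exact hx0 (by rw [← hr, hr0, zero_smul])
        · exact mul_ne_zero h2 (hyQ ▸ hxQ) hB
    have h1 := Finset.card_union_le ({0, 1, -1} : Finset F) R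
    have h3 := Finset.card_le_three (a := (0 : F)) (b := 1) (c := -1)
    have h4 := OrthDecompOdd.card_ne_two h2
    rw [← Nat.card_eq_fintype_card]
    by_cases hq : 7 ≤ Nat.card F
    · rw [if_pos hq] at h0; omega
    · rw [if_neg hq] at h0
      have h5 := (h.good.resolve_left hq).2
      have h6 := Fintype.one_lt_card (α := F)
      rw [← Nat.card_eq_fintype_card] at h6
      omega)
  simp only [hR, Finset.mem_union, Finset.mem_insert, Finset.mem_singleton, Finset.mem_filter,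
    Finset.mem_univ, true_and, not_or] at hs
  obtain ⟨⟨hs0, hs1, hs2⟩, hd⟩ := hs
  set d := x + s • y with hd'
  have hdm : d ∈ D i := (D i).add_mem hx ((D i).smul_mem s hym)
  have hdQ : Q d = Q x * (1 + s ^ 2) := by
    rw [hd', Q_add_smul hQ, hB, hyQ]; ring
  have hxd : B x d = 2 * Q x := by
    rw [hd', hb.add_right, hb.smul_right, B_self hQ, hB, mul_zero, add_zero]
  have h1s : (1 : F) + s ^ 2 ≠ 0 := fun e => hd (by rw [hdQ, e, mul_zero])
  set κ := (Q d)⁻¹ * B x d with hκ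
  have hκ' : κ * (1 + s ^ 2) = 2 := by
    rw [hκ, hdQ, hxd]; field_simp
  refine ⟨rf Q d x, h.rf_mem hdm hx, rf_isometry hQ hd x, fun hm => ?_, ?_⟩
  · obtain ⟨μ, hμ⟩ := Submodule.mem_span_singleton.mp hm
    have hκs : κ * s ≠ 0 := mul_ne_zero (fun e => h2 (by rw [← hκ', e, zero_mul])) hs0
    refine hind (Submodule.mem_span_singleton.mpr ⟨(κ * s)⁻¹ * (1 - μ - κ), ?_⟩)
    have h7 : (1 - μ - κ) • x = (κ * s) • y := by
      rw [rf, ← hκ, hd'] at hμ
      linear_combination (norm := module) -hμ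
    rw [← smul_smul, h7, smul_smul, inv_mul_cancel₀ hκs, one_smul]
  · rw [rf, sub_right hQ, ← hκ, hb.smul_right, hxd, B_self hQ, ← one_sub_mul]
    refine mul_ne_zero (fun e => ?_) (mul_ne_zero h2 hxQ)
    have h7 : (s - 1) * (s + 1) = 0 := by
      linear_combination hκ' + (1 + s ^ 2) * e
    rcases mul_eq_zero.mp h7 with h7 | h7
    · exact hs1 (sub_eq_zero.mp h7)
    · exact hs2 (eq_neg_of_add_eq_zero_left h7)

/-- Two of three non-zero scalars differ by a square. -/
theorem exists_ratio {a b c : F} (ha : a ≠ 0) (hb : b ≠ 0) (hc : c ≠ 0) :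
    ∃ r : F, r ≠ 0 ∧ (r ^ 2 * a = b ∨ r ^ 2 * a = c ∨ r ^ 2 * b = c) := by
  classical
  have : Fintype F := Fintype.ofFinite F
  have hsq : ∀ {u v : F}, u ≠ 0 → v ≠ 0 → IsSquare (v / u) → ∃ r : F, r ≠ 0 ∧ r ^ 2 * u = v := by
    rintro u v hu hv ⟨r, hr⟩
    have hvu : v / u ≠ 0 := div_ne_zero hv hu
    refine ⟨r, fun e => hvu (by rw [hr, e, mul_zero]), ?_⟩
    rw [pow_two, ← hr, div_mul_cancel₀ _ hu]
  by_cases h1 : IsSquare (b / a)
  · obtain ⟨r, hr, hr'⟩ := hsq ha hb h1; exact ⟨r, hr, Or.inl hr'⟩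
  by_cases h2 : IsSquare (c / b)
  · obtain ⟨r, hr, hr'⟩ := hsq hb hc h2; exact ⟨r, hr, Or.inr (Or.inr hr')⟩
  have h3 : IsSquare (c / a) := by
    have e1 := quadraticChar_neg_one_iff_not_isSquare.mpr h1
    have e2 := quadraticChar_neg_one_iff_not_isSquare.mpr h2
    refine (quadraticChar_one_iff_isSquare (div_ne_zero hc ha)).mp ?_
    rw [show c / a = (b / a) * (c / b) by field_simp, map_mul, e1, e2]
    norm_num
  obtain ⟨r, hr, hr'⟩ := hsq ha hc h3
  exact ⟨r, hr, Or.inr (Or.inl hr')⟩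

/-- The torus of a hyperbolic pair of a block. -/
theorem exists_torus {i : Fin t} {s f : ι → F} (hs : s ∈ D i) (hf : f ∈ D i) (hsQ : Q s = 0)
    (hfQ : Q f = 0) (hsf : B s f = 1) {ν : F} (hν : ν ≠ 0) :
    ∃ g ∈ M, ∀ x, (g : Matrix ι ι F) *ᵥ x =
      x + ((ν ^ 2 - 1) * B x f) • s + ((ν⁻¹ ^ 2 - 1) * B x s) • f := by
  have hQ := h.form
  have hb := hQ.polar_bilinear
  set y := s + f with hy
  set y' := ν⁻¹ • s + ν • f with hy'
  have hyQ : Q y = 1 := by rw [hy, Q_add (Q := Q), hsQ, hfQ, hsf, zero_add, zero_add]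
  have hy'Q : Q y' = 1 := by
    rw [hy', Q_add (Q := Q), hQ.smul, hQ.smul, hsQ, hfQ, hb.smul_left, hb.smul_right, hsf,
      mul_one, inv_mul_cancel₀ hν]
    ring
  obtain ⟨g, hg, hgx⟩ := h.pair_block ((D i).add_mem hs hf)
    ((D i).add_mem ((D i).smul_mem ν⁻¹ hs) ((D i).smul_mem ν hf)) (hyQ.trans hy'Q.symm)
    (by rw [hyQ]; exact one_ne_zero)
  refine ⟨g, hg, fun x => ?_⟩
  rw [hgx, rf, rf, hyQ, hy'Q, inv_one, one_mul, one_mul, form_sub_left (bil hQ), hb.smul_left]
  simp only [hb.add_left, hb.add_right, hb.smul_left, hb.smul_right, B_self hQ, hsQ, hfQ,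
    B_comm f s, hsf]
  match_scalars <;> field_simp <;> ring

/-- An element of `M` fixing every block keeps the class of block vectors. -/
theorem inL_stab {c : F} (hc : c ≠ 0) {g : GL ι F} (hg : g ∈ M)
    (hD : ∀ l, ∀ v ∈ D l, (g : Matrix ι ι F) *ᵥ v ∈ D l) {a : ι → F} (ha : InL Q M D c a) :
    InL Q M D c ((g : Matrix ι ι F) *ᵥ a) := by
  have h0 : 0 < t := by have := h.seven; omega
  obtain ⟨w, hw, hwQ⟩ := h.rep ⟨0, h0⟩ c hc
  refine h.inL_map hc hg (hwQ ▸ h.inL_block hw (hwQ ▸ hc)) ?_ ha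
  have := h.inL_block (hD _ w hw) (by rw [h.iso hg, hwQ]; exact hc)
  rwa [h.iso hg, hwQ] at this

/-- A compensated reflection. -/
theorem exists_refl {i j : Fin t} (hij : i ≠ j) {z : ι → F} (hz : z ∈ D j) (hzQ : Q z ≠ 0) :
    ∃ g ∈ M, (∀ l, ∀ v ∈ D l, (g : Matrix ι ι F) *ᵥ v ∈ D l) ∧
      ∀ a, comp h.isMDec i a = 0 → (g : Matrix ι ι F) *ᵥ a = rf Q z a := by
  obtain ⟨z', hz', hz'Q⟩ := h.rep i (Q z) hzQ
  obtain ⟨g, hg, hgx⟩ := h.pair_block hz hz' hz'Q.symm hzQ
  refine ⟨g, hg, fun l v hv => by rw [hgx]; exact h.rf_mem hz (h.rf_mem hz' hv), fun a ha => ?_⟩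
  rw [hgx, rf_of_ortho h.form (show B a z' = 0 by
    rw [h.B_comp a hz', ha]; exact form_zero_left (bil h.form) z')]

end Pl

/-- Two reflection products at `a`, `a + d` give a Siegel element. -/
theorem sieg_of_pair (hQ : Cfsg.Geo.IsNondegenerateQuadraticForm Q) {a d : ι → F}
    (hd : Q d = 0) (had : B a d = 0) (ha : Q a ≠ 0) (h : Pair Q M a (a + d)) :
    sieg Q d ((Q a)⁻¹ • a) ∈ M := by
  have hb := hQ.polar_bilinear
  obtain ⟨g, hg, hgx⟩ := h
  have hQ' : Q (a + d) = Q a := by rw [Q_add (Q := Q), hd, had, add_zero, add_zero]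
  have : g = sieg Q d ((Q a)⁻¹ • a) := gl_ext fun x => by
    rw [hgx, sieg_mulVec hQ hd (by rw [hb.smul_left, had, mul_zero]), rf, rf, hQ',
      form_sub_left (bil hQ), hb.smul_left, hb.add_left, hb.add_right, hb.smul_right, hQ.smul,
      B_self hQ, B_comm d a, had]
    match_scalars <;> field_simp <;> ring
  exact this ▸ hg

/-- The vectors `w` with `sieg d w` in `M`. -/
noncomputable def cent (hQ : Cfsg.Geo.IsNondegenerateQuadraticForm Q) (M : Subgroup (GL ι F))
    (d : ι → F) (hd : Q d = 0) : AddSubgroup (ι → F) :=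
  AddSubgroup.ofSub {w | B w d = 0 ∧ sieg Q d w ∈ M}
    ⟨0, by
      have h0 : B (0 : ι → F) d = 0 := form_zero_left (bil hQ) d
      refine ⟨h0, ?_⟩
      have : sieg Q d 0 = 1 := gl_ext fun x => by
        rw [sieg_mulVec hQ hd h0, zero_right hQ, Q_zero hQ, Units.val_one, one_mulVec]
        simp
      rw [this]
      exact M.one_mem⟩
    fun x hx y hy => by
      have hxy : B (x - y) d = 0 := by rw [form_sub_left (bil hQ), hx.1, hy.1, sub_zero]
      refine ⟨by rwa [← sub_eq_add_neg], ?_⟩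
      have e : sieg Q d x = sieg Q d (x - y) * sieg Q d y := by
        rw [← sieg_add_right hQ hd hxy hy.1, sub_add_cancel]
      have := M.mul_mem hx.2 (M.inv_mem hy.2)
      rwa [e, mul_inv_cancel_right, sub_eq_add_neg] at this

theorem mem_cent {hQ : Cfsg.Geo.IsNondegenerateQuadraticForm Q} {d w : ι → F} {hd : Q d = 0} :
    w ∈ cent hQ M d hd ↔ B w d = 0 ∧ sieg Q d w ∈ M := Iff.rfl

theorem cent_conj (hQ : Cfsg.Geo.IsNondegenerateQuadraticForm Q) {d w : ι → F} (hd : Q d = 0)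
    {g : GL ι F} (hgM : g ∈ M) (hg : ∀ x, Q ((g : Matrix ι ι F) *ᵥ x) = Q x)
    (hw : w ∈ cent hQ M d hd) :
    (g : Matrix ι ι F) *ᵥ w ∈ cent hQ M ((g : Matrix ι ι F) *ᵥ d) (by rw [hg]; exact hd) :=
  ⟨by rw [B_map hg]; exact hw.1,
    by rw [← conj_sieg hQ hg hd hw.1]; exact M.mul_mem (M.mul_mem hgM hw.2) (M.inv_mem hgM)⟩

theorem cent_fix (hQ : Cfsg.Geo.IsNondegenerateQuadraticForm Q) {d w : ι → F} {hd : Q d = 0}
    {g : GL ι F} (hgM : g ∈ M) (hg : ∀ x, Q ((g : Matrix ι ι F) *ᵥ x) = Q x)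
    (hgd : (g : Matrix ι ι F) *ᵥ d = d) (hw : w ∈ cent hQ M d hd) :
    (g : Matrix ι ι F) *ᵥ w ∈ cent hQ M d hd := by
  have := cent_conj hQ hd hgM hg hw
  simpa only [mem_cent, hgd] using this

namespace Pl

variable [Finite F] (h : Pl Q M D)

include h

/-- Isolating one block. -/
theorem exists_cent_block {d w : ι → F} (hd : Q d = 0) (hw : w ∈ cent h.form M d hd) {j : Fin t}
    (hdj : comp h.isMDec j d = 0) (hwj : comp h.isMDec j w ≠ 0) :
    ∃ v ∈ D j, v ≠ 0 ∧ v ∈ cent h.form M d hd := by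
  have hQ := h.form
  have hb := hQ.polar_bilinear
  obtain ⟨x, hx, hxQ⟩ := h.rep j 1 one_ne_zero
  have hx1 : Q x ≠ 0 := by rw [hxQ]; exact one_ne_zero
  obtain ⟨y, hy, hyQ, hyx, -⟩ := h.exists_second hx hx1
  obtain ⟨g, hg, hgx⟩ := h.pair_block hx hy hyQ.symm hx1
  have hperp : ∀ z ∈ D j, B d z = 0 := fun z hz => by
    rw [h.B_comp d hz, hdj]; exact form_zero_left (bil hQ) z
  have hgd : (g : Matrix ι ι F) *ᵥ d = d := by
    rw [hgx, rf_of_ortho hQ (hperp y hy), rf_of_ortho hQ (hperp x hx)]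
  have h1 := (cent hQ M d hd).sub_mem (cent_fix hQ hg (h.iso hg) hgd hw) hw
  set u := comp h.isMDec j w with hu
  have e : (g : Matrix ι ι F) *ᵥ w - w = (g : Matrix ι ι F) *ᵥ u - u := by
    have e1 : ∀ z ∈ D j, B u z = B w z := fun z hz => (h.B_comp w hz).symm
    rw [hgx, hgx, rf, rf, rf, rf, form_sub_left (bil hQ), form_sub_left (bil hQ), hb.smul_left,
      hb.smul_left, e1 x hx, e1 y hy]
    module
  rw [e] at h1
  have hum : u ∈ D j := comp_mem h.isMDec j w
  refine ⟨_, (D j).sub_mem (by rw [hgx]; exact h.rf_mem hx (h.rf_mem hy hum)) hum, fun e0 => ?_,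
    h1⟩
  rw [sub_eq_zero, hgx] at e0
  have e2 : rf Q y u = rf Q x u := by
    rw [← rf_rf hQ hx1 (rf Q y u), e0]
  rw [rf, rf, sub_right_inj, hyQ, hxQ, inv_one, one_mul, one_mul] at e2
  have hy0 : B u y = 0 := by
    by_contra hne
    refine hyx (Submodule.mem_span_singleton.mpr ⟨(B u y)⁻¹ * B u x, ?_⟩)
    rw [← smul_smul, ← e2, smul_smul, inv_mul_cancel₀ hne, one_smul]
  rw [hy0, zero_smul, eq_comm, smul_eq_zero] at e2
  exact hwj (h.eq_zero_of_perp hx (h.ne_zero_of_aniso hx1) hy hyx hum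
    (e2.resolve_right (h.ne_zero_of_aniso hx1)) hy0)

/-- A non-zero vector of a block spreads over the block. -/
theorem block_le_cent {d v : ι → F} (hd : Q d = 0) {i j : Fin t} (hij : i ≠ j)
    (hdi : comp h.isMDec i d = 0) (hdj : comp h.isMDec j d = 0) (hv : v ∈ D j) (hv0 : v ≠ 0)
    (hvA : v ∈ cent h.form M d hd) : ∀ x ∈ D j, x ∈ cent h.form M d hd := by
  classical
  have : Fintype F := Fintype.ofFinite F
  have hQ := h.form
  have hb := hQ.polar_bilinear
  set A := cent hQ M d hd with hA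
  have hrefl : ∀ z ∈ D j, Q z ≠ 0 → ∀ u ∈ D j, u ∈ A → ((Q z)⁻¹ * B u z) • z ∈ A := by
    intro z hz hzQ u hu huA
    obtain ⟨g, hg, -, hgf⟩ := h.exists_refl hij hz hzQ
    have hzd : B d z = 0 := by rw [h.B_comp d hz, hdj]; exact form_zero_left (bil hQ) z
    have hgd : (g : Matrix ι ι F) *ᵥ d = d := by rw [hgf d hdi, rf_of_ortho hQ hzd]
    have h1 := A.sub_mem huA (cent_fix hQ hg (h.iso hg) hgd huA)
    rwa [hgf u (comp_other h.isMDec hij hu), rf, sub_sub_cancel] at h1
  obtain ⟨z, hz, hzQ, hvz, -, -⟩ := h.exists_avoid hv hv0 v v (Or.inl rfl)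
  have hz0 := h.ne_zero_of_aniso hzQ
  obtain ⟨z2, hz2, hz2Q, hzz2, hz2n, -⟩ := h.exists_avoid hz hz0 z z (Or.inl rfl)
  set c0 := (Q z)⁻¹ * B v z with hc0
  have hc00 : c0 ≠ 0 := mul_ne_zero (inv_ne_zero hzQ) hvz
  have hc0A : c0 • z ∈ A := hrefl z hz hzQ v hv hvA
  let K : Finset F := Finset.univ.filter fun ν => ∀ c : F, c • z ∈ A → (ν * c) • z ∈ A
  have hK : ∀ {ν : F}, ν ∈ K ↔ ∀ c : F, c • z ∈ A → (ν * c) • z ∈ A := fun {ν} => by simp [K]
  have hK0 : (0 : F) ∈ K := hK.mpr fun c _ => by rw [zero_mul, zero_smul]; exact A.zero_mem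
  have hK1 : (1 : F) ∈ K := hK.mpr fun c hc => by rwa [one_mul]
  have hKadd : ∀ {a b}, a ∈ K → b ∈ K → a + b ∈ K := fun {a b} ha hb => hK.mpr fun c hc => by
    rw [add_mul, add_smul]; exact A.add_mem (hK.mp ha c hc) (hK.mp hb c hc)
  have hKsub : ∀ {a b}, a ∈ K → b ∈ K → a - b ∈ K := fun {a b} ha hb => hK.mpr fun c hc => by
    rw [sub_mul, sub_smul]; exact A.sub_mem (hK.mp ha c hc) (hK.mp hb c hc)
  have hKmul : ∀ {a b}, a ∈ K → b ∈ K → a * b ∈ K := fun {a b} ha hb => hK.mpr fun c hc => by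
    rw [mul_assoc]; exact hK.mp ha _ (hK.mp hb c hc)
  have hKinv : ∀ {a}, a ∈ K → a ≠ 0 → a⁻¹ ∈ K := fun {a} ha ha0 => by
    have hpow : ∀ m : ℕ, a ^ m ∈ K := fun m => by
      induction m with
      | zero => rwa [pow_zero]
      | succ m ih => rw [pow_succ]; exact hKmul ih ha
    have h1 : a⁻¹ = a ^ (Fintype.card F - 2) := by
      refine (eq_inv_of_mul_eq_one_left ?_).symm
      rw [← pow_succ, show Fintype.card F - 2 + 1 = Fintype.card F - 1 by
        have := Fintype.one_lt_card (α := F); omega]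
      exact FiniteField.pow_card_sub_one_eq_one a ha0
    rw [h1]; exact hpow _
  -- the multipliers
  let f : F → F := fun s => B z (z2 + s • z) ^ 2 / (Q z * Q (z2 + s • z))
  let G : Finset F := Finset.univ.filter fun s => Q (z2 + s • z) ≠ 0
  have hN : ∀ s ∈ G, f s ∈ K := fun s hs => hK.mpr fun c hc => by
    simp only [G, Finset.mem_filter, Finset.mem_univ, true_and] at hs
    have hm := (D j).add_mem hz2 ((D j).smul_mem s hz)
    have h1 := hrefl _ hm hs _ ((D j).smul_mem c hz) hc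
    have h2 := hrefl z hz hzQ _ ((D j).smul_mem _ hm) h1
    rw [hb.smul_left, hb.smul_left, B_comm (z2 + s • z) z] at h2
    convert h2 using 2
    simp only [f]
    field_simp
  set B0 := B z z2 with hB0
  have hval : ∀ s : F, B z (z2 + s • z) = B0 + 2 * s * Q z := fun s => by
    rw [hb.add_right, hb.smul_right, B_self hQ, ← hB0]; ring
  have hQval : ∀ s : F, Q (z2 + s • z) = Q z2 + s ^ 2 * Q z + s * B0 := fun s => by
    rw [Q_add_smul hQ, B_comm z2 z, ← hB0]
  have h4not : ∀ s ∈ G, f s ≠ 4 := by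
    intro s hs e
    simp only [G, Finset.mem_filter, Finset.mem_univ, true_and] at hs
    simp only [f, hval, hQval] at e
    rw [hQval] at hs
    rw [div_eq_iff (mul_ne_zero hzQ hs)] at e
    have hdisc : B0 ^ 2 - 4 * Q z * Q z2 = 0 := by linear_combination e
    set y := B0 • z + (-(2 * Q z)) • z2 with hy
    have hy0 : y = 0 := h.eq_zero_of_perp hz hz0 hz2 hz2n
      ((D j).add_mem ((D j).smul_mem _ hz) ((D j).smul_mem _ hz2))
      (by rw [hy, hb.add_left, hb.smul_left, hb.smul_left, B_self hQ, B_comm z2 z, ← hB0]; ring)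
      (by rw [hy, hb.add_left, hb.smul_left, hb.smul_left, B_self hQ z2, ← hB0]
          linear_combination hdisc)
    by_cases h2 : (2 : F) * Q z = 0
    · rw [hy, h2, neg_zero, zero_smul, add_zero, smul_eq_zero] at hy0
      exact hy0.elim hzz2 hz0
    · refine hz2n (Submodule.mem_span_singleton.mpr ⟨(2 * Q z)⁻¹ * B0, ?_⟩)
      rw [hy, neg_smul, ← sub_eq_add_neg, sub_eq_zero] at hy0
      rw [← smul_smul, hy0, smul_smul, inv_mul_cancel₀ h2, one_smul]
  have hfib : ∀ ν ∈ G.image f, (G.filter fun s => f s = ν).card ≤ 2 := by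
    intro ν hν
    obtain ⟨s0, hs0, rfl⟩ := Finset.mem_image.mp hν
    refine le_trans (Finset.card_le_card (t := {s0, -B0 / Q z - s0}) ?_) Finset.card_le_two
    intro s hs
    obtain ⟨hsG, hs⟩ := Finset.mem_filter.mp hs
    set ν := f s0 with hνdef
    have hν4 : (4 : F) - ν ≠ 0 := sub_ne_zero.mpr (Ne.symm (h4not s0 hs0))
    have key : ∀ r ∈ G, f r = ν →
        (B0 + 2 * r * Q z) ^ 2 = ν * (Q z * (Q z2 + r ^ 2 * Q z + r * B0)) := fun r hr e => by
      simp only [G, Finset.mem_filter, Finset.mem_univ, true_and] at hr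
      simp only [f, hval, hQval] at e
      rw [hQval] at hr
      rw [← e, div_mul_cancel₀ _ (mul_ne_zero hzQ hr)]
    have h1 : (4 - ν) * Q z * ((s - s0) * ((s + s0) * Q z + B0)) = 0 := by
      linear_combination key s hsG hs - key s0 hs0 rfl
    rcases mul_eq_zero.mp ((mul_eq_zero.mp h1).resolve_left (mul_ne_zero hν4 hzQ)) with h2 | h2
    · simp [sub_eq_zero.mp h2]
    · have : s = -B0 / Q z - s0 := by
        field_simp
        linear_combination h2
      simp [this]
  have hcard1 := Finset.card_le_mul_card_image G 2 hfib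
  have h4K : (4 : F) ∈ K := by
    have h2K := hKadd hK1 hK1
    have := hKadd h2K h2K
    norm_num at this
    exact this
  have hcard2 : (G.image f).card + 1 ≤ K.card := by
    rw [← Finset.card_insert_of_notMem (a := (4 : F)) (fun hm => by
      obtain ⟨s, hs, e⟩ := Finset.mem_image.mp hm
      exact h4not s hs e)]
    refine Finset.card_le_card fun x hx => ?_
    rcases Finset.mem_insert.mp hx with rfl | hx
    · exact h4K
    · obtain ⟨s, hs, rfl⟩ := Finset.mem_image.mp hx
      exact hN s hs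
  have hKuniv : ∀ x : F, x ∈ K := by
    by_contra hne
    push Not at hne
    obtain ⟨y, hy⟩ := hne
    have hinj : (K ×ˢ K).card ≤ Fintype.card F := by
      rw [← Finset.card_univ]
      refine Finset.card_le_card_of_injOn (fun p => p.1 + p.2 * y) (by simp) ?_
      rintro ⟨a, b⟩ hab ⟨a', b'⟩ hab' e
      simp only [Finset.coe_product, Set.mem_prod, Finset.mem_coe] at hab hab'
      simp only at e
      by_cases hbb : b = b'
      · subst hbb; simp [add_right_cancel e]
      · refine absurd ?_ hy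
        have : y = (a' - a) * (b - b')⁻¹ := by
          field_simp [sub_ne_zero.mpr hbb]
          linear_combination e
        rw [this]
        exact hKmul (hKsub hab'.1 hab.1) (hKinv (hKsub hab.2 hab'.2) (sub_ne_zero.mpr hbb))
    rw [Finset.card_product] at hinj
    have hGc : G.card + (Finset.univ.filter fun s : F => Q (z2 + s • z) = 0).card =
        Fintype.card F := by
      rw [← Finset.card_univ (α := F), ← Finset.card_filter_add_card_filter_not
        (s := (Finset.univ : Finset F)) (fun s => Q (z2 + s • z) = 0), add_comm]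
    have hr := h.card_roots hz hz0 hz2 hz2n
    have hG0 : 2 ≤ K.card := by
      have : ({0, 1} : Finset F).card = 2 := Finset.card_pair zero_ne_one
      rw [← this]
      refine Finset.card_le_card fun x hx => ?_
      simp only [Finset.mem_insert, Finset.mem_singleton] at hx
      rcases hx with rfl | rfl <;> assumption
    have hq1 := Fintype.one_lt_card (α := F)
    rw [Nat.card_eq_fintype_card] at hr
    by_cases hq : 7 ≤ Fintype.card F
    · rw [if_pos hq] at hr
      nlinarith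
    · rw [if_neg hq] at hr
      nlinarith
  have hline : ∀ e : F, e • z ∈ A := fun e => by
    have := hK.mp (hKuniv (e * c0⁻¹)) c0 hc0A
    rwa [mul_assoc, inv_mul_cancel₀ hc00, mul_one] at this
  have hline2 : ∀ e : F, e • z2 ∈ A := fun e => by
    have h1 := hrefl z2 hz2 hz2Q _ ((D j).smul_mem (e * Q z2 / B0) hz) (hline _)
    rw [hb.smul_left, ← hB0, div_mul_cancel₀ _ hzz2, mul_comm e, ← mul_assoc,
      inv_mul_cancel₀ hz2Q, one_mul] at h1
    exact h1
  intro x hx
  obtain ⟨a, b, rfl⟩ := h.mem_pair hz hz0 hz2 hz2n hx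
  exact A.add_mem (hline a) (hline2 b)

omit [Finite F] in
theorem fix_of_supp {g : GL ι F} {d : ι → F} {l m : Fin t}
    (hd : ∀ r, r ≠ l → r ≠ m → comp h.isMDec r d = 0)
    (hl : ∀ x ∈ D l, (g : Matrix ι ι F) *ᵥ x = x) (hm : ∀ x ∈ D m, (g : Matrix ι ι F) *ᵥ x = x) :
    (g : Matrix ι ι F) *ᵥ d = d := by
  classical
  conv_lhs => rw [← sum_comp h.isMDec d]
  conv_rhs => rw [← sum_comp h.isMDec d]
  rw [mulVec_sum]
  refine Finset.sum_congr rfl fun r _ => ?_
  by_cases h1 : r = l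
  · exact h1 ▸ hl _ (h1 ▸ comp_mem h.isMDec r d)
  by_cases h2 : r = m
  · exact h2 ▸ hm _ (h2 ▸ comp_mem h.isMDec r d)
  rw [hd r h1 h2, mulVec_zero]

/-- All blocks outside the support lie in the centre's set. -/
theorem outside {d w : ι → F} (hd : Q d = 0) {l m : Fin t}
    (hdo : ∀ r, r ≠ l → r ≠ m → comp h.isMDec r d = 0) (hw : w ∈ cent h.form M d hd) {j : Fin t}
    (hjl : j ≠ l) (hjm : j ≠ m) (hwj : comp h.isMDec j w ≠ 0) :
    ∀ r, r ≠ l → r ≠ m → ∀ x ∈ D r, x ∈ cent h.form M d hd := by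
  obtain ⟨i, hi⟩ := exists_index h.seven {l, m, j}
    (le_trans Finset.card_le_three (by omega))
  simp only [Finset.mem_insert, Finset.mem_singleton, not_or] at hi
  obtain ⟨hil, him, hij⟩ := hi
  obtain ⟨v, hv, hv0, hvA⟩ := h.exists_cent_block hd hw (hdo j hjl hjm) hwj
  have hjA := h.block_le_cent hd hij (hdo i hil him) (hdo j hjl hjm) hv hv0 hvA
  intro r hrl hrm x hx
  by_cases hrj : r = j
  · exact hjA x (hrj ▸ hx)
  obtain ⟨i', hi'⟩ := exists_index h.seven {l, m, j, r}
    (le_trans Finset.card_le_four (by omega))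
  simp only [Finset.mem_insert, Finset.mem_singleton, not_or] at hi'
  obtain ⟨hi'l, hi'm, hi'j, hi'r⟩ := hi'
  obtain ⟨g, hg, hgj, -, hgs, -, hgf⟩ :=
    h.exists_cycle (l := j) (m := i') (j := r) (Ne.symm hi'j) hrj (Ne.symm hi'r)
  have hgd : (g : Matrix ι ι F) *ᵥ d = d :=
    h.fix_of_supp hdo (hgf l (Ne.symm hjl) (Ne.symm hi'l) (Ne.symm hrl))
      (hgf m (Ne.symm hjm) (Ne.symm hi'm) (Ne.symm hrm))
  obtain ⟨y, hy, rfl⟩ := hgs x hx
  exact cent_fix h.form hg (h.iso hg) hgd (hjA y hy)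

/-- A centre with small support and a component outside gives everything. -/
theorem omega_le_of_centre {d w : ι → F} (hd : Q d = 0) {l m : Fin t} (hlm : l ≠ m)
    (hdo : ∀ r, r ≠ l → r ≠ m → comp h.isMDec r d = 0) (hdl : comp h.isMDec l d ≠ 0)
    (hw : w ∈ cent h.form M d hd) {j0 : Fin t} (hjl : j0 ≠ l) (hjm : j0 ≠ m)
    (hwj : comp h.isMDec j0 w ≠ 0) : Cfsg.Geo.omegaGL Q ≤ M := by
  classical
  have hQ := h.form
  have hb := hQ.polar_bilinear
  have hout := h.outside hd hdo hw hjl hjm hwj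
  obtain ⟨j, hj⟩ := exists_index h.seven {l, m} (le_trans Finset.card_le_two (by omega))
  simp only [Finset.mem_insert, Finset.mem_singleton, not_or] at hj
  obtain ⟨r, hr⟩ := exists_index h.seven {l, m, j} (le_trans Finset.card_le_three (by omega))
  simp only [Finset.mem_insert, Finset.mem_singleton, not_or] at hr
  obtain ⟨i, hi⟩ := exists_index h.seven {l, m, j, r} (le_trans Finset.card_le_four (by omega))
  simp only [Finset.mem_insert, Finset.mem_singleton, not_or] at hi
  obtain ⟨p, hp⟩ := exists_index h.seven {l, m, j, r, i} (le_trans Finset.card_le_five (by omega))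
  simp only [Finset.mem_insert, Finset.mem_singleton, not_or] at hp
  obtain ⟨hjl', hjm'⟩ := hj
  obtain ⟨hrl, hrm, hrj⟩ := hr
  obtain ⟨hil, him, hij, hir⟩ := hi
  obtain ⟨hpl, hpm, hpj, hpr, hpi⟩ := hp
  obtain ⟨g1, hg1, hg1l, -, -, -, hg1f⟩ :=
    h.exists_cycle (l := l) (m := i) (j := j) (Ne.symm hil) hjl' (Ne.symm hij)
  obtain ⟨g2, hg2, hg2m, -, -, -, hg2f⟩ :=
    h.exists_cycle (l := m) (m := i) (j := r) (Ne.symm him) hrm (Ne.symm hir)
  set g := g2 * g1 with hg
  have hgM : g ∈ M := M.mul_mem hg2 hg1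
  have hgl : ∀ x ∈ D l, (g : Matrix ι ι F) *ᵥ x ∈ D j := fun x hx => by
    rw [hg, gl_mul_mulVec, hg2f j hjm' (Ne.symm hij) (Ne.symm hrj) _ (hg1l x hx)]
    exact hg1l x hx
  have hgm : ∀ x ∈ D m, (g : Matrix ι ι F) *ᵥ x ∈ D r := fun x hx => by
    rw [hg, gl_mul_mulVec, hg1f m (Ne.symm hlm) (Ne.symm him) (Ne.symm hjm') x hx]
    exact hg2m x hx
  have hgp : ∀ x ∈ D p, (g : Matrix ι ι F) *ᵥ x = x := fun x hx => by
    rw [hg, gl_mul_mulVec, hg1f p hpl hpi hpj x hx, hg2f p hpm hpi hpr x hx]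
  set v := (g : Matrix ι ι F) *ᵥ d with hv
  have hvQ : Q v = 0 := by rw [hv, h.iso hgM, hd]
  have hdeq : d = comp h.isMDec l d + comp h.isMDec m d := by
    conv_lhs => rw [← sum_comp h.isMDec d]
    refine Finset.sum_eq_add l m hlm (fun c _ hc => hdo c hc.1 hc.2) (by simp) (by simp)
  have hveq : v = (g : Matrix ι ι F) *ᵥ comp h.isMDec l d +
      (g : Matrix ι ι F) *ᵥ comp h.isMDec m d := by
    rw [hv, ← mulVec_add, ← hdeq]
  have hvj : (g : Matrix ι ι F) *ᵥ comp h.isMDec l d ∈ D j := hgl _ (comp_mem h.isMDec l d)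
  have hvr : (g : Matrix ι ι F) *ᵥ comp h.isMDec m d ∈ D r := hgm _ (comp_mem h.isMDec m d)
  have hvo : ∀ c, c ≠ j → c ≠ r → comp h.isMDec c v = 0 := fun c hcj hcr => by
    rw [hveq, map_add, comp_other h.isMDec hcj hvj, comp_other h.isMDec hcr hvr, add_zero]
  have hvj0 : comp h.isMDec j v ≠ 0 := by
    rw [hveq, map_add, comp_self h.isMDec hvj, comp_other h.isMDec (Ne.symm hrj) hvr, add_zero]
    exact fun e => hdl (gl_mulVec_injective g (by simpa using e))
  obtain ⟨w2, hw2, hw20⟩ := Submodule.exists_mem_ne_zero_of_ne_bot (block_ne_bot h.isMDec p)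
  have hvout : ∀ c, c ≠ j → c ≠ r → ∀ x ∈ D c, x ∈ cent hQ M v hvQ := by
    have h1 := cent_conj hQ hd hgM (h.iso hgM) (hout p hpl hpm w2 hw2)
    simp only [← hv, hgp w2 hw2] at h1
    exact h.outside hvQ hvo h1 hpj hpr (by rw [comp_self h.isMDec hw2]; exact hw20)
  have hBdv : B d v = 0 := by
    rw [hdeq, hveq, hb.add_left, hb.add_right, hb.add_right,
      h.orthog (Ne.symm hjl') (comp_mem h.isMDec l d) hvj,
      h.orthog (Ne.symm hrl) (comp_mem h.isMDec l d) hvr,
      h.orthog (Ne.symm hjm') (comp_mem h.isMDec m d) hvj,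
      h.orthog (Ne.symm hrm) (comp_mem h.isMDec m d) hvr]
    simp
  obtain ⟨-, w1, hw1, hw1v⟩ :=
    h.decomp.decomp.nondegenerate j _ (comp_mem h.isMDec j v) hvj0
  rw [← h.B_comp v hw1, B_comm] at hw1v
  set κ := B w1 v with hκ
  have hmid : ∀ a ∈ D l, ∀ b ∈ D m, B (a + b) d = 0 → a + b ∈ cent hQ M d hd := by
    intro a ha b hb' hab
    set s := κ⁻¹ • (a + b) with hs
    have hsd : B s d = 0 := by rw [hs, hb.smul_left, hab, mul_zero]
    have hsA : s ∈ cent hQ M v hvQ := by
      rw [hs, smul_add]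
      exact (cent hQ M v hvQ).add_mem
        (hvout l (Ne.symm hjl') (Ne.symm hrl) _ ((D l).smul_mem _ ha))
        (hvout m (Ne.symm hjm') (Ne.symm hrm) _ ((D m).smul_mem _ hb'))
    obtain ⟨hsv, hsM⟩ := hsA
    have hiso := sieg_isometry hQ hvQ hsv
    have hfix : (sieg Q v s : Matrix ι ι F) *ᵥ d = d := by
      rw [sieg_mulVec hQ hvQ hsv, hBdv, B_comm d s, hsd]
      simp
    have h1 := cent_fix hQ hsM hiso hfix (hout j hjl' hjm' w1 hw1)
    have hw1s : B w1 s = 0 := by
      rw [hs, hb.smul_right, hb.add_right, h.orthog hjl' hw1 ha, h.orthog hjm' hw1 hb']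
      simp
    have hvmem : ∀ e : F, e • v ∈ cent hQ M d hd := fun e => by
      rw [hveq, smul_add]
      exact (cent hQ M d hd).add_mem (hout j hjl' hjm' _ ((D j).smul_mem _ hvj))
        (hout r hrl hrm _ ((D r).smul_mem _ hvr))
    rw [sieg_mulVec hQ hvQ hsv, hw1s, neg_zero, zero_sub, ← hκ] at h1
    have h2 := (cent hQ M d hd).sub_mem ((cent hQ M d hd).sub_mem h1
      (hout j hjl' hjm' w1 hw1)) (hvmem (-(Q s * κ)))
    rwa [show w1 + κ • s + -(Q s * κ) • v - w1 - -(Q s * κ) • v = κ • s by module, hs, smul_smul,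
      mul_inv_cancel₀ hw1v, one_smul] at h2
  have hfull : Full Q M d := by
    refine ⟨hd, fun u hu => ?_⟩
    set a := comp h.isMDec l u with ha
    set b := comp h.isMDec m u with hb'
    have hrest : u - (a + b) ∈ cent hQ M d hd := by
      have hsum : u - (a + b) = ∑ c ∈ (Finset.univ \ {l, m}), comp h.isMDec c u := by
        rw [eq_sub_iff_add_eq.mpr (Finset.sum_sdiff (Finset.subset_univ ({l, m} : Finset (Fin t)))
          (f := fun c => comp h.isMDec c u)), sum_comp, Finset.sum_pair hlm]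
      rw [hsum]
      refine (cent hQ M d hd).sum_mem fun c hc => ?_
      simp only [Finset.mem_sdiff, Finset.mem_insert, Finset.mem_singleton, not_or] at hc
      exact hout c hc.2.1 hc.2.2 _ (comp_mem h.isMDec c u)
    have hab : B (a + b) d = 0 := by
      have := hrest.1
      rw [form_sub_left (bil hQ), hu, zero_sub, neg_eq_zero] at this
      exact this
    have := (cent hQ M d hd).add_mem hrest
      (hmid a (comp_mem h.isMDec l u) b (comp_mem h.isMDec m u) hab)
    rw [sub_add_cancel] at this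
    exact this.2
  -- full vectors are orthogonal to nothing
  have hsep : ∀ y, y ≠ 0 → ∃ a, Full Q M a ∧ B y a ≠ 0 := by
    intro y hy
    obtain ⟨c, hyc⟩ : ∃ c, comp h.isMDec c y ≠ 0 := by
      by_contra hc
      push Not at hc
      exact hy (by rw [← sum_comp h.isMDec y]; exact Finset.sum_eq_zero fun c _ => hc c)
    obtain ⟨a, haF, hac, i', hi'c, hai⟩ : ∃ a, Full Q M a ∧ comp h.isMDec c a ≠ 0 ∧
        ∃ i', i' ≠ c ∧ comp h.isMDec i' a = 0 := by
      by_cases hdc : comp h.isMDec c d = 0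
      swap
      · obtain ⟨i', hi'⟩ := exists_index h.seven {l, m, c}
          (le_trans Finset.card_le_three (by omega))
        simp only [Finset.mem_insert, Finset.mem_singleton, not_or] at hi'
        exact ⟨d, hfull, hdc, i', hi'.2.2, hdo i' hi'.1 hi'.2.1⟩
      have hcl : c ≠ l := fun e => hdl (e ▸ hdc)
      obtain ⟨i', hi'⟩ := exists_index h.seven {l, m, c}
        (le_trans Finset.card_le_three (by omega))
      simp only [Finset.mem_insert, Finset.mem_singleton, not_or] at hi'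
      obtain ⟨hi'l, hi'm, hi'c⟩ := hi'
      obtain ⟨g', hg', hg'l, hg'i, -, -, hg'f⟩ :=
        h.exists_cycle (l := l) (m := i') (j := c) (Ne.symm hi'l) hcl (Ne.symm hi'c)
      have hm' : ∃ x ∈ D m, (g' : Matrix ι ι F) *ᵥ comp h.isMDec m d = x ∧
          (m = c → x = 0) := by
        by_cases hmc : m = c
        · subst hmc
          exact ⟨0, Submodule.zero_mem _, by rw [hdc, mulVec_zero], fun _ => rfl⟩
        · exact ⟨_, comp_mem h.isMDec m d, hg'f m (Ne.symm hlm) (Ne.symm hi'm) hmc _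
            (comp_mem h.isMDec m d), fun e => absurd e hmc⟩
      obtain ⟨x, hx, hxe, hx0⟩ := hm'
      have he : (g' : Matrix ι ι F) *ᵥ d = (g' : Matrix ι ι F) *ᵥ comp h.isMDec l d + x := by
        rw [← hxe, ← mulVec_add, ← hdeq]
      refine ⟨_, full_conj hQ hfull hg' (h.iso hg'), ?_, i', hi'c, ?_⟩
      · rw [he, map_add, comp_self h.isMDec (hg'l _ (comp_mem h.isMDec l d))]
        have : comp h.isMDec c x = 0 := by
          by_cases hmc : m = c
          · rw [hx0 hmc, map_zero]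
          · exact comp_other h.isMDec (Ne.symm hmc) hx
        rw [this, add_zero]
        exact fun e => hdl (gl_mulVec_injective g' (by simpa using e))
      · rw [he, map_add, comp_other h.isMDec hi'c (hg'l _ (comp_mem h.isMDec l d)),
          comp_other h.isMDec hi'm hx, add_zero]
    by_cases hya : B y a = 0
    swap
    · exact ⟨a, haF, hya⟩
    obtain ⟨u, hu, hu0, huy⟩ := h.exists_ortho (i := c) (comp h.isMDec c y)
    obtain ⟨x, hx, hxQ, hax, hxu, -⟩ := h.exists_avoid (comp_mem h.isMDec c a) hac u u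
      (Or.inl rfl)
    have hyx : B y x ≠ 0 := by
      rw [h.B_comp y hx, B_comm]
      intro e
      exact hxu (Submodule.mem_span_singleton.mpr
        (h.eq_smul (comp_mem h.isMDec c y) hyc hu hu0 hx huy e))
    obtain ⟨g', hg', -, hg'a⟩ := h.exists_refl hi'c hx hxQ
    refine ⟨_, full_conj hQ haF hg' (h.iso hg'), ?_⟩
    rw [hg'a a hai, rf, sub_right hQ, hb.smul_right, hya, zero_sub, neg_ne_zero]
    rw [← h.B_comp a hx] at hax
    exact mul_ne_zero (mul_ne_zero (inv_ne_zero hxQ) hax) hyx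
  refine omega_le_of_full hQ h.dim fun z hz => ?_
  by_cases hz0 : z = 0
  · subst hz0
    have := full_smul hQ hfull (0 : F)
    rwa [zero_smul] at this
  obtain ⟨a, haF, hza⟩ := hsep z hz0
  have ha0 : a ≠ 0 := fun e => hza (by rw [e, zero_right hQ])
  obtain ⟨x, hxF, hax⟩ := hsep a ha0
  refine full_move hQ (full_smul hQ haF (B z a)⁻¹) (full_smul hQ hxF (B z a / B a x)) hz ?_ ?_
  · rw [hb.smul_left, hb.smul_right, B_comm x a]; field_simp
  · rw [hb.smul_right, inv_mul_cancel₀ hza]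

/-- A block vector class containing a vector with a singular component gives everything. -/
theorem omega_le_of_torus {a b : ι → F} (hab : Pair Q M a b) (haQ : Q a ≠ 0)
    (hbQ : Q b = Q a) {j : Fin t} (hbj : comp h.isMDec j b = 0)
    (haj : comp h.isMDec j a ≠ 0) (hajQ : Q (comp h.isMDec j a) = 0) :
    Cfsg.Geo.omegaGL Q ≤ M := by
  classical
  have : Fintype F := Fintype.ofFinite F
  have hQ := h.form
  have hb := hQ.polar_bilinear
  set s := comp h.isMDec j a with hs
  have hsm : s ∈ D j := comp_mem h.isMDec j a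
  obtain ⟨f, hf, hfQ, hsf⟩ :=
    OrthDecompOdd.exists_partner hQ (h.decomp.decomp.nondegenerate j) hsm haj hajQ
  have hq : 7 ≤ Nat.card F :=
    h.good.resolve_right fun h' => haj (h'.1 j s hsm hajQ)
  obtain ⟨ν, hν⟩ := exists_not_mem ({0, 1, -1} : Finset F)
    (lt_of_le_of_lt Finset.card_le_three (by rw [← Nat.card_eq_fintype_card]; omega))
  simp only [Finset.mem_insert, Finset.mem_singleton, not_or] at hν
  obtain ⟨hν0, hν1, hν2⟩ := hν
  have hν' : ν ^ 2 - 1 ≠ 0 := fun e => by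
    rcases sq_eq_one_iff.mp (sub_eq_zero.mp e) with e | e <;> contradiction
  obtain ⟨g, hg, hgx⟩ := h.exists_torus hsm hf hajQ hfQ hsf hν0
  have has : B a s = 0 := by rw [h.B_comp a hsm, ← hs, B_self hQ, hajQ, mul_zero]
  have haf : B a f = 1 := by rw [h.B_comp a hf, ← hs, hsf]
  have hga : (g : Matrix ι ι F) *ᵥ a = a + (ν ^ 2 - 1) • s := by
    rw [hgx, has, haf]; module
  have hgb : (g : Matrix ι ι F) *ᵥ b = b := by
    rw [hgx, h.B_comp b hf, h.B_comp b hsm, hbj, form_zero_left (bil hQ),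
      form_zero_left (bil hQ)]
    simp
  have h1 := pair_conj hQ hg (h.iso hg) hab
  rw [hga, hgb] at h1
  have hQ' : Q (a + (ν ^ 2 - 1) • s) = Q a := by rw [← hga, h.iso hg]
  have h2 := pair_trans hQ (hbQ ▸ haQ) hab (pair_symm hQ (by rw [hQ']; exact haQ) (hbQ ▸ haQ) h1)
  set d := (ν ^ 2 - 1) • s with hd
  have hdQ : Q d = 0 := by rw [hd, hQ.smul, hajQ, mul_zero]
  have had : B a d = 0 := by rw [hd, hb.smul_right, has, mul_zero]
  have h3 := sieg_of_pair hQ hdQ had haQ h2
  have hdo : ∀ c, c ≠ j → comp h.isMDec c d = 0 := fun c hc => by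
    rw [hd, map_smul, comp_other h.isMDec hc hsm, smul_zero]
  obtain ⟨r, hrj, hr⟩ : ∃ r, r ≠ j ∧ comp h.isMDec r a ≠ 0 := by
    by_contra hc
    push Not at hc
    have := mem_of_comp_eq_zero h.isMDec hc
    rw [hs, comp_self h.isMDec this] at hajQ
    exact haQ hajQ
  obtain ⟨m, hm⟩ := exists_index h.seven {j, r} (le_trans Finset.card_le_two (by omega))
  simp only [Finset.mem_insert, Finset.mem_singleton, not_or] at hm
  refine h.omega_le_of_centre hdQ (Ne.symm hm.1) (fun c hcj _ => hdo c hcj) ?_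
    (mem_cent.mpr ⟨by rw [hb.smul_left, had, mul_zero], h3⟩) hrj (Ne.symm hm.2) ?_
  · rw [hd, map_smul, comp_self h.isMDec hsm]
    exact smul_ne_zero hν' haj
  · rw [map_smul]
    exact smul_ne_zero (inv_ne_zero haQ) hr

end Pl

end Cfsg.Agent.Lib.Subspaces.OrthPlane
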