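import Cfsg.Agent.Lib.Subspaces.OrthPlane

/-!
The stabiliser in `Ω` of a decomposition into at least seven non-degenerate planes is maximal.
-/

set_option autoImplicit false

namespace Cfsg.Agent.Lib.Subspaces.OrthPlaneMax

open Matrix Cfsg.Agent.Lib.Subspaces.Transvection Cfsg.Agent.Lib.Subspaces.FormVec
  Cfsg.Agent.Lib.Subspaces.OrthForm Cfsg.Agent.Lib.Subspaces.OrthLines
  Cfsg.Agent.Lib.Subspaces.OmegaGL Cfsg.Agent.Lib.Subspaces.OrthNondeg
  Cfsg.Agent.Lib.Subspaces.Decomposition Cfsg.Agent.Lib.Subspaces.OrthDecomp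
  Cfsg.Agent.Lib.Subspaces.OrthPlane

variable {ι : Type} [Fintype ι] [DecidableEq ι] {F : Type*} [Field F]
  {Q : (ι → F) → F} {M : Subgroup (GL ι F)} {t : ℕ} {D : Fin t → Submodule F (ι → F)}

local notation "B" => QuadraticMap.polar Q

variable [Finite F] (h : Pl Q M D)

include h

omit [Finite F] in
theorem mem_two {p q : Fin t} (hpq : p ≠ q) {a : ι → F}
    (ha : ∀ r, r ≠ p → r ≠ q → comp h.isMDec r a = 0) : a ∈ D p ⊔ D q := by
  classical
  rw [← sum_comp h.isMDec a,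
    Finset.sum_eq_add p q hpq (fun c _ hc => ha c hc.1 hc.2) (by simp) (by simp)]
  exact Submodule.add_mem_sup (comp_mem h.isMDec p a) (comp_mem h.isMDec q a)

omit [Finite F] in
theorem comp_two {p q r : Fin t} (hrp : r ≠ p) (hrq : r ≠ q) {a : ι → F} (ha : a ∈ D p ⊔ D q) :
    comp h.isMDec r a = 0 := by
  obtain ⟨x, hx, y, hy, rfl⟩ := Submodule.mem_sup.mp ha
  rw [map_add, comp_other h.isMDec hrp hx, comp_other h.isMDec hrq hy, add_zero]

/-- A product of reflections at independent vectors spread over three blocks moves a block. -/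
theorem not_stab {R : GL ι F} {a b : ι → F} (haQ : Q a ≠ 0) (hbQ : Q b = Q a)
    (hind : b ∉ Submodule.span F {a})
    (hR : ∀ v, (R : Matrix ι ι F) *ᵥ v = rf Q a (rf Q b v)) {i j l : Fin t} (hij : i ≠ j)
    (hil : i ≠ l) (hjl : j ≠ l) (hi : comp h.isMDec i a ≠ 0 ∨ comp h.isMDec i b ≠ 0)
    (hj : comp h.isMDec j a ≠ 0 ∨ comp h.isMDec j b ≠ 0)
    (hl : comp h.isMDec l a ≠ 0 ∨ comp h.isMDec l b ≠ 0) :
    R ∉ Cfsg.Geo.decompositionStabilizer D := by
  classical
  intro hmem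
  have hQ := h.form
  have hb := hQ.polar_bilinear
  obtain ⟨σ, hσ⟩ := exists_image_of_mem hmem
  set T := Matrix.mulVecLin (1 - (R : Matrix ι ι F)) with hT
  have hTv : ∀ v, T v = v - (R : Matrix ι ι F) *ᵥ v := fun v => by
    rw [hT, Matrix.mulVecLin_apply, sub_mulVec, one_mulVec]
  have hTf : ∀ v, T v = ((Q a)⁻¹ * B v b) • b + ((Q a)⁻¹ * B (rf Q b v) a) • a := fun v => by
    rw [hTv, hR, rf, rf, hbQ]
    module
  set P := Submodule.span F {a, b} with hP
  have hrange : ∀ v, T v ∈ P := fun v => by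
    rw [hTf]
    exact P.add_mem (P.smul_mem _ (Submodule.subset_span (by simp)))
      (P.smul_mem _ (Submodule.subset_span (by simp)))
  have ha0 : a ≠ 0 := h.ne_zero_of_aniso haQ
  have haim : ∃ v, T v = a := by
    obtain ⟨v, hv, hv1⟩ := dual hQ (S := Submodule.span F {b}) (z := a) fun hm => by
      obtain ⟨r, hr⟩ := Submodule.mem_span_singleton.mp hm
      have hr0 : r ≠ 0 := fun e => ha0 (by rw [← hr, e, zero_smul])
      exact hind (Submodule.mem_span_singleton.mpr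
        ⟨r⁻¹, by rw [← hr, smul_smul, inv_mul_cancel₀ hr0, one_smul]⟩)
    have hvb : B v b = 0 := hv b (Submodule.mem_span_singleton_self b)
    refine ⟨Q a • v, ?_⟩
    rw [map_smul, hTf, rf_of_ortho hQ hvb, hvb, hv1]
    simp [smul_smul, mul_inv_cancel₀ haQ]
  have hbim : ∃ v, T v = b := by
    obtain ⟨v, hv, hv1⟩ := dual hQ (S := Submodule.span F {a}) (z := b) hind
    have hva : B v a = 0 := hv a (Submodule.mem_span_singleton_self a)
    obtain ⟨u, hu⟩ := haim
    refine ⟨Q a • v + ((Q a)⁻¹ * B b a) • u, ?_⟩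
    rw [map_add, map_smul, map_smul, hu, hTf, rf, hbQ, form_sub_left (bil hQ), hb.smul_left, hva,
      hv1]
    match_scalars <;> field_simp <;> ring
  -- three blocks contradict support in two
  have key : ∀ p q : Fin t, (∀ r, r ≠ p → r ≠ q →
      comp h.isMDec r a = 0 ∧ comp h.isMDec r b = 0) → False := by
    intro p q hz
    have hcl : ∀ {r}, comp h.isMDec r a ≠ 0 ∨ comp h.isMDec r b ≠ 0 → r = p ∨ r = q := by
      intro r hr
      by_contra hc
      push Not at hc
      exact hr.elim (fun e => e (hz r hc.1 hc.2).1) (fun e => e (hz r hc.1 hc.2).2)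
    rcases hcl hi with e1 | e1 <;> rcases hcl hj with e2 | e2 <;> rcases hcl hl with e3 | e3 <;>
      subst e1 <;> subst e2 <;> first | exact hij rfl | exact hil e3.symm | exact hjl e3.symm
  by_cases hfix : ∃ p, σ p ≠ p
  · obtain ⟨p, hp⟩ := hfix
    have hinj : Function.Injective (T ∘ₗ (D p).subtype) := by
      rw [← LinearMap.ker_eq_bot, eq_bot_iff]
      intro v hv
      rw [LinearMap.mem_ker, LinearMap.comp_apply, Submodule.subtype_apply, hTv, sub_eq_zero] at hv
      have h1 := hσ p _ v.2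
      rw [← hv] at h1
      have h2 := comp_other h.isMDec (Ne.symm hp) h1
      rw [comp_self h.isMDec v.2] at h2
      exact (Submodule.mem_bot F).mpr (Subtype.ext h2)
    have hle : LinearMap.range (T ∘ₗ (D p).subtype) ≤ P := by
      rintro _ ⟨v, rfl⟩
      exact hrange _
    have heq := Submodule.eq_of_le_of_finrank_le hle (by
      rw [LinearMap.finrank_range_of_inj hinj, h.isMDec.finrank_eq p]
      exact finrank_pair_le a b)
    have hsupp : ∀ u ∈ P, ∀ r, r ≠ p → r ≠ σ p → comp h.isMDec r u = 0 := by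
      intro u hu r h1 h2
      obtain ⟨v, rfl⟩ := heq.ge hu
      rw [LinearMap.comp_apply, Submodule.subtype_apply, hTv, map_sub,
        comp_other h.isMDec h1 v.2, comp_other h.isMDec h2 (hσ p _ v.2), sub_zero]
    exact key p (σ p) fun r h1 h2 => ⟨hsupp a (Submodule.subset_span (by simp)) r h1 h2,
      hsupp b (Submodule.subset_span (by simp)) r h1 h2⟩
  push Not at hfix
  have hblock : ∀ p, ∀ v ∈ D p, T v ∈ D p := fun p v hv => by
    rw [hTv]; exact (D p).sub_mem hv (hfix p ▸ hσ p v hv)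
  have hcomp : ∀ v r, comp h.isMDec r (T v) = T (comp h.isMDec r v) := by
    intro v r
    conv_lhs => rw [← sum_comp h.isMDec v, map_sum, map_sum]
    rw [Finset.sum_eq_single r (fun c _ hc =>
      comp_other h.isMDec (Ne.symm hc) (hblock c _ (comp_mem h.isMDec c v))) (by simp),
      comp_self h.isMDec (hblock r _ (comp_mem h.isMDec r v))]
  -- each spread block gives a vector of the plane
  have hget : ∀ {r}, comp h.isMDec r a ≠ 0 ∨ comp h.isMDec r b ≠ 0 →
      ∃ d ∈ P, d ∈ D r ∧ d ≠ 0 := by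
    intro r hr
    rcases hr with hr | hr
    · obtain ⟨v, hv⟩ := haim
      exact ⟨_, (hv ▸ hcomp v r).symm ▸ hrange _, comp_mem h.isMDec r a, hr⟩
    · obtain ⟨v, hv⟩ := hbim
      exact ⟨_, (hv ▸ hcomp v r).symm ▸ hrange _, comp_mem h.isMDec r b, hr⟩
  obtain ⟨di, hdiP, hdi, hdi0⟩ := hget hi
  obtain ⟨dj, hdjP, hdj, hdj0⟩ := hget hj
  obtain ⟨dl, hdlP, hdl, hdl0⟩ := hget hl
  have hli : LinearIndependent F ![di, dj, dl] := by
    rw [Fintype.linearIndependent_iff]
    intro c hc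
    rw [Fin.sum_univ_three] at hc
    simp only [Matrix.cons_val_zero, Matrix.cons_val_one, Matrix.cons_val_two, Matrix.head_cons,
      Matrix.tail_cons] at hc
    have e1 := congrArg (comp h.isMDec i) hc
    have e2 := congrArg (comp h.isMDec j) hc
    have e3 := congrArg (comp h.isMDec l) hc
    simp only [map_add, map_smul, map_zero, comp_self h.isMDec hdi, comp_self h.isMDec hdj,
      comp_self h.isMDec hdl, comp_other h.isMDec hij hdj, comp_other h.isMDec hil hdl,
      comp_other h.isMDec (Ne.symm hij) hdi, comp_other h.isMDec hjl hdl,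
      comp_other h.isMDec (Ne.symm hil) hdi, comp_other h.isMDec (Ne.symm hjl) hdj, smul_zero,
      add_zero, zero_add, smul_eq_zero, hdi0, hdj0, hdl0, or_false] at e1 e2 e3
    intro k
    fin_cases k <;> assumption
  have h1 := finrank_span_eq_card hli
  have h2 : Submodule.span F (Set.range ![di, dj, dl]) ≤ P := by
    rw [Submodule.span_le]
    rintro _ ⟨k, rfl⟩
    fin_cases k <;> assumption
  have h3 := (Submodule.finrank_mono h2).trans (finrank_pair_le a b)
  rw [h1, Fintype.card_fin] at h3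
  omega

/-- An element keeping every block vector of norm `c` in one block stabilises `D`. -/
theorem mem_stab {g : GL ι F} (hg : g ∈ M) {c : F} (hc : c ≠ 0)
    (hs : ∀ i, ∀ x ∈ D i, Q x = c → ∃ a, (g : Matrix ι ι F) *ᵥ x ∈ D a) :
    g ∈ Cfsg.Geo.decompositionStabilizer D := by
  have hiso := h.iso hg
  refine mem_stabilizer_of_mapsTo h.isMDec fun i => ?_
  obtain ⟨x, hx, hxQ⟩ := h.rep i c hc
  obtain ⟨a, ha⟩ := hs i x hx hxQ
  obtain ⟨y, hy, hyQ, hyx, hxy⟩ := h.exists_second hx (hxQ ▸ hc)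
  obtain ⟨b, hb⟩ := hs i y hy (hyQ.trans hxQ)
  have hab : a = b := by
    by_contra hne
    exact hxy (by rw [← B_map hiso]; exact h.orthog hne ha hb)
  subst hab
  refine ⟨a, fun v hv => ?_⟩
  obtain ⟨r, s, rfl⟩ := h.mem_pair hx (h.ne_zero_of_aniso (hxQ ▸ hc)) hy hyx hv
  rw [mulVec_add, mulVec_smul, mulVec_smul]
  exact (D a).add_mem ((D a).smul_mem _ ha) ((D a).smul_mem _ hb)

/-- An element outside the stabiliser fixing a block vector gives a mixed vector. -/
theorem mixed_of_fix {R : GL ι F} (hR : R ∈ M) (hnot : R ∉ Cfsg.Geo.decompositionStabilizer D)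
    {r : Fin t} {z : ι → F} (hz : z ∈ D r) (hzQ : Q z ≠ 0)
    (hRz : (R : Matrix ι ι F) *ᵥ z = z) :
    ∃ i, ∃ v ∈ D i, InL Q M D (Q z) ((R : Matrix ι ι F) *ᵥ v) ∧
      ∀ l, (R : Matrix ι ι F) *ᵥ v ∉ D l := by
  obtain ⟨i, v, hv, hvQ, hmix⟩ : ∃ i, ∃ v ∈ D i, Q v = Q z ∧
      ∀ l, (R : Matrix ι ι F) *ᵥ v ∉ D l := by
    by_contra hc
    push Not at hc
    exact hnot (mem_stab h hR hzQ hc)
  have hzL := h.inL_block hz hzQ
  exact ⟨i, v, hv,
    h.inL_map hzQ hR hzL (hRz.symm ▸ hzL) (hvQ ▸ h.inL_block hv (hvQ ▸ hzQ)), hmix⟩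

/-- Singular shifts on two anisotropic components. -/
theorem exists_shift {l m : Fin t} (hlm : l ≠ m) {al am : ι → F} (hal : al ∈ D l) (ham : am ∈ D m)
    (halQ : Q al ≠ 0) (hamQ : Q am ≠ 0) :
    ∃ dl ∈ D l, ∃ dm ∈ D m, Q dl ≠ 0 ∧ Q dm ≠ 0 ∧ Q dl + Q dm = 0 ∧
      B al dl = -Q dl ∧ B am dm = -Q dm := by
  classical
  have : Fintype F := Fintype.ofFinite F
  have hQ := h.form
  have hb := hQ.polar_bilinear
  have hal0 := h.ne_zero_of_aniso halQ
  have ham0 := h.ne_zero_of_aniso hamQ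
  -- scaling a pair of vectors
  have fin : ∀ v ∈ D l, ∀ w ∈ D m, Q v ≠ 0 → Q v + Q w = 0 → B al v ≠ 0 →
      B al v + B am w = 0 → ∃ dl ∈ D l, ∃ dm ∈ D m, Q dl ≠ 0 ∧ Q dm ≠ 0 ∧ Q dl + Q dm = 0 ∧
      B al dl = -Q dl ∧ B am dm = -Q dm := by
    intro v hv w hw hvQ hsum hBv hB
    set r := -(B al v) / Q v with hr
    have hr0 : r ≠ 0 := div_ne_zero (neg_ne_zero.mpr hBv) hvQ
    have hwQ : Q w = -Q v := by linear_combination hsum
    have hrQ : r * Q v = -(B al v) := by rw [hr, div_mul_cancel₀ _ hvQ]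
    refine ⟨r • v, (D l).smul_mem _ hv, r • w, (D m).smul_mem _ hw, ?_, ?_, ?_, ?_, ?_⟩
    · rw [hQ.smul]; exact mul_ne_zero (pow_ne_zero _ hr0) hvQ
    · rw [hQ.smul, hwQ]; exact mul_ne_zero (pow_ne_zero _ hr0) (neg_ne_zero.mpr hvQ)
    · rw [hQ.smul, hQ.smul, hwQ]; ring
    · rw [hb.smul_right, hQ.smul]; linear_combination r * hrQ
    · rw [hb.smul_right, hQ.smul, hwQ]; linear_combination r * hB - r * hrQ
  by_cases hiso : ∃ i, ∃ v ∈ D i, Q v = 0 ∧ v ≠ 0
  · -- hyperbolic coordinates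
    have hq : 7 ≤ Fintype.card F := by
      rw [← Nat.card_eq_fintype_card]
      refine h.good.resolve_right fun h' => ?_
      obtain ⟨i, v, hv, hvQ, hv0⟩ := hiso
      exact hv0 (h'.1 i v hv hvQ)
    have hcoord : ∀ i, ∀ a ∈ D i, Q a ≠ 0 →
        ∃ e ∈ D i, ∃ f ∈ D i, Q e = 0 ∧ Q f = 0 ∧ B e f = 1 ∧ a = e + Q a • f := by
      intro i a ha haQ
      obtain ⟨i0, v, hv, hvQ, hv0⟩ := hiso
      obtain ⟨φ, hφ⟩ := h.decomp.isometric i0 i
      set e0 : ι → F := (φ ⟨v, hv⟩ : ι → F) with he0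
      have he : e0 ∈ D i := (φ ⟨v, hv⟩).2
      have heQ : Q e0 = 0 := by rw [he0, hφ]; exact hvQ
      have he00 : e0 ≠ 0 := fun e => hv0 (by
        have h1 : φ ⟨v, hv⟩ = 0 := Subtype.ext e
        exact congrArg Subtype.val (φ.map_eq_zero_iff.mp h1))
      obtain ⟨f0, hf, hfQ, hef⟩ :=
        OrthDecompOdd.exists_partner hQ (h.decomp.decomp.nondegenerate i) he he00 heQ
      have hind : f0 ∉ Submodule.span F {e0} := fun hm => by
        obtain ⟨r, hr⟩ := Submodule.mem_span_singleton.mp hm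
        rw [← hr, hb.smul_right, B_self hQ, heQ, mul_zero, mul_zero] at hef
        exact zero_ne_one hef
      obtain ⟨x, y, hxy⟩ := h.mem_pair he he00 hf hind ha
      have hQa : Q a = x * y := by
        rw [← hxy, Q_add (Q := Q), hQ.smul, hQ.smul, heQ, hfQ, hb.smul_left, hb.smul_right, hef]
        ring
      have hx0 : x ≠ 0 := fun e => haQ (by rw [hQa, e, zero_mul])
      refine ⟨x • e0, (D i).smul_mem _ he, x⁻¹ • f0, (D i).smul_mem _ hf,
        by rw [hQ.smul, heQ, mul_zero], by rw [hQ.smul, hfQ, mul_zero],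
        by rw [hb.smul_left, hb.smul_right, hef, mul_one, mul_inv_cancel₀ hx0], ?_⟩
      rw [smul_smul, hQa, mul_comm x y, mul_assoc, mul_inv_cancel₀ hx0, mul_one, hxy]
    obtain ⟨e, he, f, hf, heQ, hfQ, hef, hale⟩ := hcoord l al hal halQ
    obtain ⟨e', he', f', hf', he'Q, hf'Q, he'f', hame⟩ := hcoord m am ham hamQ
    set α := Q al with hα
    set β := Q am with hβ
    let R : Finset F := Finset.univ.filter fun x => α + β * x ^ 2 = 0
    have hR : R.card ≤ 2 := by
      by_cases hne : R = ∅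
      · rw [hne, Finset.card_empty]; omega
      obtain ⟨x0, hx0⟩ := Finset.nonempty_iff_ne_empty.mpr hne
      refine le_trans (Finset.card_le_card (t := {x0, -x0}) fun x hx => ?_) Finset.card_le_two
      simp only [R, Finset.mem_filter, Finset.mem_univ, true_and] at hx hx0
      have h1 : β * ((x - x0) * (x + x0)) = 0 := by linear_combination hx - hx0
      rcases mul_eq_zero.mp ((mul_eq_zero.mp h1).resolve_left hamQ) with h1 | h1
      · simp [sub_eq_zero.mp h1]
      · simp [eq_neg_of_add_eq_zero_left h1]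
    obtain ⟨μ, hμ⟩ := exists_not_mem (({0, 1, -α / β} : Finset F) ∪ R) (by
      have := Finset.card_union_le ({0, 1, -α / β} : Finset F) R
      have := Finset.card_le_three (a := (0 : F)) (b := 1) (c := -α / β)
      omega)
    simp only [R, Finset.mem_union, Finset.mem_insert, Finset.mem_singleton, Finset.mem_filter,
      Finset.mem_univ, true_and, not_or] at hμ
    obtain ⟨⟨hμ0, hμ1, hμ2⟩, hμ3⟩ := hμ
    set x := (1 - μ) / (α + β * μ ^ 2) with hx
    have hxe : x * (α + β * μ ^ 2) = 1 - μ := div_mul_cancel₀ _ hμ3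
    have hBv : ∀ x : F, B (e + α • f) (x • e + (1 - α * x) • f) = 1 := fun x => by
      simp only [hb.add_left, hb.add_right, hb.smul_left, hb.smul_right, B_self hQ, heQ, hfQ,
        B_comm f e, hef]
      ring
    have hBw : ∀ x : F, B (e' + β • f') (x • e' + (-1 - β * x) • f') = -1 := fun x => by
      simp only [hb.add_left, hb.add_right, hb.smul_left, hb.smul_right, B_self hQ, he'Q, hf'Q,
        B_comm f' e', he'f']
      ring
    refine fin (x • e + (1 - α * x) • f) ((D l).add_mem ((D l).smul_mem _ he) ((D l).smul_mem _ hf))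
      ((μ * x) • e' + (-1 - β * (μ * x)) • f')
      ((D m).add_mem ((D m).smul_mem _ he') ((D m).smul_mem _ hf')) ?_ ?_
      (by rw [hale, hBv]; exact one_ne_zero) (by rw [hale, hame, hBv, hBw]; ring)
    · rw [Q_add (Q := Q), hQ.smul, hQ.smul, heQ, hfQ, hb.smul_left, hb.smul_right, hef, mul_zero,
        mul_zero, zero_add, zero_add, mul_one]
      refine mul_ne_zero (div_ne_zero (sub_ne_zero.mpr (Ne.symm hμ1)) hμ3) fun e0 => ?_
      have h1 : μ * (α + β * μ) = 0 := by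
        linear_combination (α + β * μ ^ 2) * e0 + α * hxe
      exact hμ2 (by
        field_simp
        linear_combination (mul_eq_zero.mp h1).resolve_left hμ0)
    · rw [Q_add (Q := Q), Q_add (Q := Q), hQ.smul, hQ.smul, hQ.smul, hQ.smul, heQ, hfQ, he'Q,
        hf'Q, hb.smul_left, hb.smul_right, hef, hb.smul_left, hb.smul_right, he'f']
      linear_combination -x * hxe
  push Not at hiso
  have hns : ∀ i, ∀ v ∈ D i, v ≠ 0 → Q v ≠ 0 := fun i v hv hv0 e => hv0 (hiso i v hv e)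
  by_cases h2 : (2 : F) = 0
  · by_cases hαβ : Q al = Q am
    · -- an isometry carrying one component to the other
      obtain ⟨φ, hφ⟩ := h.decomp.isometric l m
      have hφB : ∀ u v : D l, B (φ u : ι → F) (φ v : ι → F) = B (u : ι → F) v := fun u v => by
        rw [QuadraticMap.polar, QuadraticMap.polar, ← Submodule.coe_add, ← map_add, hφ, hφ, hφ,
          Submodule.coe_add]
      obtain ⟨-, v, hv, hBv⟩ := h.decomp.decomp.nondegenerate l al hal hal0
      have hv0 : v ≠ 0 := fun e => hBv (by rw [e, zero_right hQ])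
      set u := (φ ⟨al, hal⟩ : ι → F) with hu
      have hum : u ∈ D m := (φ ⟨al, hal⟩).2
      have huQ : Q u = Q am := by rw [hu, hφ]; exact hαβ
      set w0 := (φ ⟨v, hv⟩ : ι → F) with hw0
      have hw0m : w0 ∈ D m := (φ ⟨v, hv⟩).2
      have hw0Q : Q w0 = Q v := hφ _
      have huw : B u w0 = B al v := hφB _ _
      have hneg : ∀ x : F, -x = x := fun x => by linear_combination -x * h2
      have hvQ := hns l v hv hv0
      by_cases huam : B u am = 0
      · obtain ⟨r, hr⟩ := h.eq_smul hum (h.ne_zero_of_aniso (huQ ▸ hamQ)) hum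
          (h.ne_zero_of_aniso (huQ ▸ hamQ)) ham (by rw [B_self hQ, h2, zero_mul])
          (by rw [B_comm, huam])
        have hr1 : r = 1 := by
          have h1 : r ^ 2 = 1 := mul_right_cancel₀ hamQ (by
            rw [one_mul]; conv_rhs => rw [← hr, hQ.smul, huQ])
          have h2' : (r - 1) ^ 2 = 0 := by linear_combination h1 + (1 - r) * h2
          exact sub_eq_zero.mp ((pow_eq_zero_iff two_ne_zero).mp h2')
        rw [hr1, one_smul] at hr
        refine fin v hv w0 hw0m hvQ ?_ hBv ?_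
        · rw [hw0Q]; linear_combination Q v * h2
        · rw [← hr, huw]; linear_combination B al v * h2
      · set z := u + am with hz
        have hzQ : Q z = B u am := by
          rw [hz, Q_add (Q := Q), huQ]; linear_combination Q am * h2
        have hzm : z ∈ D m := (D m).add_mem hum ham
        have hmap : rf Q z u = am := by
          rw [rf, hzQ, hz, hb.add_right, B_self hQ, h2, zero_mul, zero_add,
            inv_mul_cancel₀ huam, one_smul, sub_add_cancel_left, ← neg_one_smul F, hneg, one_smul]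
        refine fin v hv (rf Q z w0) (h.rf_mem hzm hw0m) hvQ ?_ hBv ?_
        · rw [rf_isometry hQ (hzQ ▸ huam), hw0Q]; linear_combination Q v * h2
        · rw [← hmap]
          have : B (rf Q z u) (rf Q z w0) = B u w0 := by
            rw [QuadraticMap.polar, QuadraticMap.polar, rf_isometry hQ (hzQ ▸ huam),
              rf_isometry hQ (hzQ ▸ huam), ← rf_isometry hQ (hzQ ▸ huam) (u + w0)]
            congr 3
            rw [rf, rf, rf, hb.add_left]
            module
          rw [this, huw]; linear_combination B al v * h2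
    · -- a singular vector orthogonal to the sum
      obtain ⟨d, ⟨hdP, hda⟩, hd0, hdQ⟩ := exists_singular_in hQ
        (S := (D l ⊔ D m) ⊓ perpQ hQ (Submodule.span F {al + am})) (by
          have h1 := inf_perp_ge (hQ := hQ) (D l ⊔ D m) (Submodule.span F {al + am})
          have h3 : Module.finrank F (Submodule.span F {al + am}) ≤ 1 :=
            (finrank_span_le_card _).trans (by simp)
          have hinf : D l ⊓ D m = ⊥ := by
            rw [Submodule.eq_bot_iff]
            rintro x ⟨hx1, hx2⟩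
            rw [← comp_self h.isMDec hx1, comp_other h.isMDec hlm hx2]
          have h4 := Submodule.finrank_sup_add_finrank_inf_eq (D l) (D m)
          rw [hinf, finrank_bot, h.isMDec.finrank_eq, h.isMDec.finrank_eq] at h4
          omega)
      obtain ⟨v, hv, w, hw, rfl⟩ := Submodule.mem_sup.mp hdP
      have hsum : Q v + Q w = 0 := by
        rwa [Q_add (Q := Q), h.orthog hlm hv hw, add_zero] at hdQ
      have hB : B al v + B am w = 0 := by
        have := hda _ (Submodule.mem_span_singleton_self _)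
        rwa [B_comm, hb.add_left, hb.add_right, hb.add_right, h.orthog hlm hal hw,
          h.orthog (Ne.symm hlm) ham hv, add_zero, zero_add] at this
      have hv0 : v ≠ 0 := by
        intro e
        rw [e, Q_zero hQ, zero_add] at hsum
        by_cases hw0 : w = 0
        · exact hd0 (by rw [e, hw0, add_zero])
        · exact hns m w hw hw0 hsum
      by_cases hBv : B al v = 0
      swap
      · exact fin v hv w hw (hns l v hv hv0) hsum hBv hB
      rw [hBv, zero_add] at hB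
      obtain ⟨r, hr⟩ := h.eq_smul hal hal0 hal hal0 hv (by rw [B_self hQ, h2, zero_mul])
        (by rw [B_comm, hBv])
      obtain ⟨s, hs⟩ := h.eq_smul ham ham0 ham ham0 hw (by rw [B_self hQ, h2, zero_mul])
        (by rw [B_comm, hB])
      have hr0 : r ≠ 0 := fun e => hv0 (by rw [← hr, e, zero_smul])
      -- perturb along the sum
      obtain ⟨-, v1, hv1, hBv1⟩ := h.decomp.decomp.nondegenerate l al hal hal0
      obtain ⟨-, w1, hw1, hBw1⟩ := h.decomp.decomp.nondegenerate m am ham ham0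
      set w2 := (-(B al v1) / B am w1) • w1 with hw2
      have hw2B : B am w2 = -(B al v1) := by
        rw [hw2, hb.smul_right, div_mul_cancel₀ _ hBw1]
      -- v1 + w2 + T (v + w)
      have hne : r * B al v1 + s * B am w2 ≠ 0 := by
        rw [hw2B]
        intro e
        have hrs : r = s := mul_right_cancel₀ hBv1 (by linear_combination e)
        rw [← hr, ← hs, hQ.smul, hQ.smul, ← hrs] at hsum
        have h3 : r ^ 2 * (Q al + Q am) = 0 := by linear_combination hsum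
        exact hαβ (by
          linear_combination (mul_eq_zero.mp h3).resolve_left (pow_ne_zero _ hr0) - Q am * h2)
      obtain ⟨T, hT⟩ : ∃ T : F, Q v1 + Q w2 + T * (r * B al v1 + s * B am w2) = 0 :=
        ⟨-(Q v1 + Q w2) / (r * B al v1 + s * B am w2), by field_simp; ring⟩
      have hv2 : v1 + (T * r) • al ≠ 0 := fun e => by
        rw [eq_neg_of_add_eq_zero_left e, ← neg_smul, hb.smul_right, B_self hQ, h2, zero_mul,
          mul_zero] at hBv1
        exact hBv1 rfl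
      have hvm : v1 + (T * r) • al ∈ D l := (D l).add_mem hv1 ((D l).smul_mem _ hal)
      refine fin _ hvm (w2 + (T * s) • am) ((D m).add_mem ((D m).smul_mem _ hw1)
        ((D m).smul_mem _ ham)) (hns l _ hvm hv2) ?_ ?_ ?_
      · rw [Q_add_smul hQ, Q_add_smul hQ, B_comm v1 al, B_comm w2 am]
        rw [← hr, ← hs, hQ.smul, hQ.smul] at hsum
        linear_combination hT + T ^ 2 * hsum
      · rw [hb.add_right, hb.smul_right, B_self hQ, h2, zero_mul, mul_zero, add_zero]
        exact hBv1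
      · rw [hb.add_right, hb.add_right, hw2B, hb.smul_right, hb.smul_right, B_self hQ, B_self hQ,
          h2]
        ring
  · -- odd characteristic: a conic
    obtain ⟨p, hp, hpQ, hpa⟩ := h.exists_perp hal (Or.inr halQ)
    obtain ⟨p', hp', hp'Q, hp'a⟩ := h.exists_perp ham (Or.inr hamQ)
    obtain ⟨T, S, hTS⟩ := FiniteField.exists_root_sum_quadratic
      (f := Polynomial.C (Q p) * Polynomial.X ^ 2 +
        Polynomial.C ((4 * Q al)⁻¹ + (4 * Q am)⁻¹))
      (g := Polynomial.C (Q p') * Polynomial.X ^ 2)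
      (by
        have h' : (Polynomial.C (Q p) * Polynomial.X ^ 2).degree = 2 := by
          rw [Polynomial.degree_C_mul hpQ, Polynomial.degree_X_pow]; rfl
        rw [Polynomial.degree_add_C (by rw [h']; norm_num), h'])
      (by rw [Polynomial.degree_C_mul hp'Q, Polynomial.degree_X_pow]; rfl)
      (FiniteField.odd_card_of_char_ne_two fun hc => h2 (by
        have : CharP F 2 := hc ▸ ringChar.charP F
        exact CharTwo.two_eq_zero))
    simp only [Polynomial.eval_pow, Polynomial.eval_X, Polynomial.eval_add, Polynomial.eval_mul,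
      Polynomial.eval_C] at hTS
    set v := (2 * Q al)⁻¹ • al + T • p with hv
    set w := (-(2 * Q am)⁻¹) • am + S • p' with hw
    have hBv : B al v = 1 := by
      rw [hv, hb.add_right, hb.smul_right, hb.smul_right, B_self hQ, B_comm al p, hpa, mul_zero,
        add_zero, inv_mul_cancel₀ (mul_ne_zero h2 halQ)]
    have hBw : B am w = -1 := by
      rw [hw, hb.add_right, hb.smul_right, hb.smul_right, B_self hQ, B_comm am p', hp'a, mul_zero,
        add_zero, neg_mul, inv_mul_cancel₀ (mul_ne_zero h2 hamQ)]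
    have hvm : v ∈ D l := (D l).add_mem ((D l).smul_mem _ hal) ((D l).smul_mem _ hp)
    refine fin v hvm w ((D m).add_mem ((D m).smul_mem _ ham) ((D m).smul_mem _ hp'))
      (hns l v hvm fun e => by rw [e, zero_right hQ] at hBv; exact zero_ne_one hBv) ?_
      (by rw [hBv]; exact one_ne_zero) (by rw [hBv, hBw]; ring)
    rw [hv, hw, Q_add (Q := Q), Q_add (Q := Q), hQ.smul, hQ.smul, hQ.smul, hQ.smul, hb.smul_left,
      hb.smul_right, B_comm al p, hpa, hb.smul_left, hb.smul_right, B_comm am p', hp'a]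
    have e4 : ∀ {x : F}, x ≠ 0 → (2 * x)⁻¹ ^ 2 * x = (4 * x)⁻¹ := fun {x} hx => by
      have h4 : (4 : F) ≠ 0 := by
        rw [show (4 : F) = 2 * 2 by norm_num]; exact mul_ne_zero h2 h2
      field_simp
      ring
    linear_combination hTS + e4 halQ + e4 hamQ

/-- An element with a block vector class having a singular component. -/
theorem omega_le_of_singular {c : F} (hc : c ≠ 0) {a : ι → F} (ha : InL Q M D c a) {j : Fin t}
    (hj : comp h.isMDec j a ≠ 0) (hjQ : Q (comp h.isMDec j a) = 0) :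
    Cfsg.Geo.omegaGL Q ≤ M := by
  obtain ⟨i, hij⟩ := h.exists_ne j
  obtain ⟨z, hz, hzQ⟩ := h.rep i c hc
  exact h.omega_le_of_torus (h.inL_pair hc ha (hzQ ▸ h.inL_block hz (hzQ ▸ hc))) (ha.1 ▸ hc)
    (hzQ.trans ha.1.symm) (comp_other h.isMDec (Ne.symm hij) hz) hj hjQ

/-- Three non-zero components and a zero one. -/
theorem omega_le_of_three {c : F} (hc : c ≠ 0) {a : ι → F} (ha : InL Q M D c a) {l m j r : Fin t}
    (hlm : l ≠ m) (hjl : j ≠ l) (hjm : j ≠ m) (hl : comp h.isMDec l a ≠ 0)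
    (hm : comp h.isMDec m a ≠ 0) (hj : comp h.isMDec j a ≠ 0) (hr : comp h.isMDec r a = 0) :
    Cfsg.Geo.omegaGL Q ≤ M := by
  have hQ := h.form
  have hb := hQ.polar_bilinear
  by_cases hlQ : Q (comp h.isMDec l a) = 0
  · exact omega_le_of_singular h hc ha hl hlQ
  by_cases hmQ : Q (comp h.isMDec m a) = 0
  · exact omega_le_of_singular h hc ha hm hmQ
  have hrl : r ≠ l := fun e => hl (e ▸ hr)
  have hrm : r ≠ m := fun e => hm (e ▸ hr)
  obtain ⟨dl, hdl, dm, hdm, hdlQ, hdmQ, hsum, hBl, hBm⟩ :=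
    exists_shift h hlm (comp_mem h.isMDec l a) (comp_mem h.isMDec m a) hlQ hmQ
  obtain ⟨g1, hg1, hg1s, hg1f⟩ := h.exists_refl hrl hdl hdlQ
  obtain ⟨g2, hg2, hg2s, hg2f⟩ := h.exists_refl hrm hdm hdmQ
  have e1 : (g1 : Matrix ι ι F) *ᵥ a = a + dl := by
    rw [hg1f a hr, rf, h.B_comp a hdl, hBl, mul_neg, inv_mul_cancel₀ hdlQ, neg_one_smul,
      sub_neg_eq_add]
  have hr1 : comp h.isMDec r (a + dl) = 0 := by
    rw [map_add, hr, comp_other h.isMDec hrl hdl, add_zero]
  have e2 : (g2 : Matrix ι ι F) *ᵥ (a + dl) = a + (dl + dm) := by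
    rw [hg2f _ hr1, rf, hb.add_left, h.B_comp a hdm, hBm, h.orthog hlm hdl hdm, add_zero, mul_neg,
      inv_mul_cancel₀ hdmQ, neg_one_smul, sub_neg_eq_add, add_assoc]
  have h1 := h.inL_stab hc hg1 hg1s ha
  rw [e1] at h1
  have h2 := h.inL_stab hc hg2 hg2s h1
  rw [e2] at h2
  have hdQ : Q (dl + dm) = 0 := by rw [Q_add (Q := Q), h.orthog hlm hdl hdm, add_zero, hsum]
  have had : B a (dl + dm) = 0 := by
    rw [hb.add_right, h.B_comp a hdl, h.B_comp a hdm, hBl, hBm]; linear_combination -hsum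
  have h3 := sieg_of_pair hQ hdQ had (ha.1 ▸ hc) (h.inL_pair hc ha h2)
  refine h.omega_le_of_centre hdQ hlm
    (fun s hsl hsm => by
      rw [map_add, comp_other h.isMDec hsl hdl, comp_other h.isMDec hsm hdm, add_zero]) ?_
    (mem_cent.mpr ⟨by rw [hb.smul_left, had, mul_zero], h3⟩) hjl hjm ?_
  · rw [map_add, comp_self h.isMDec hdl, comp_other h.isMDec hlm hdm, add_zero]
    exact h.ne_zero_of_aniso hdlQ
  · rw [map_smul]; exact smul_ne_zero (inv_ne_zero (ha.1 ▸ hc)) hj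

/-- A mixed vector with a zero component. -/
theorem omega_le_of_zero {c : F} (hc : c ≠ 0) {a : ι → F} (ha : InL Q M D c a)
    (hmix : ∀ l, a ∉ D l) {r : Fin t} (hr : comp h.isMDec r a = 0) :
    Cfsg.Geo.omegaGL Q ≤ M := by
  classical
  have hQ := h.form
  have hb := hQ.polar_bilinear
  obtain ⟨p, q, hpq, hp, hq⟩ := OrthDecompOdd.exists_two_of_mixed h.isMDec hmix
  by_cases hthree : ∃ j, j ≠ p ∧ j ≠ q ∧ comp h.isMDec j a ≠ 0
  · obtain ⟨j, hjp, hjq, hj⟩ := hthree
    exact omega_le_of_three h hc ha hpq hjp hjq hp hq hj hr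
  push Not at hthree
  by_cases hpQ : Q (comp h.isMDec p a) = 0
  · exact omega_le_of_singular h hc ha hp hpQ
  by_cases hqQ : Q (comp h.isMDec q a) = 0
  · exact omega_le_of_singular h hc ha hq hqQ
  have hrp : r ≠ p := fun e => hp (e ▸ hr)
  have hrq : r ≠ q := fun e => hq (e ▸ hr)
  obtain ⟨r2, hr2⟩ := exists_index h.seven {p, q, r} (le_trans Finset.card_le_three (by omega))
  simp only [Finset.mem_insert, Finset.mem_singleton, not_or] at hr2
  obtain ⟨hr2p, hr2q, hr2r⟩ := hr2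
  obtain ⟨r3, hr3⟩ := exists_index h.seven {p, q, r, r2} (le_trans Finset.card_le_four (by omega))
  simp only [Finset.mem_insert, Finset.mem_singleton, not_or] at hr3
  obtain ⟨hr3p, hr3q, hr3r, hr3r2⟩ := hr3
  -- the shifted vector
  obtain ⟨g, hg, hgp, hgq, -, -, -⟩ := h.exists_cycle (l := p) (m := q) (j := r2) hpq hr2p hr2q
  have haeq : a = comp h.isMDec p a + comp h.isMDec q a := by
    conv_lhs => rw [← sum_comp h.isMDec a]
    exact Finset.sum_eq_add p q hpq (fun s _ hs => hthree s hs.1 hs.2) (by simp) (by simp)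
  set X := (g : Matrix ι ι F) *ᵥ comp h.isMDec p a with hX
  set v := (g : Matrix ι ι F) *ᵥ comp h.isMDec q a with hv
  have hXm : X ∈ D r2 := hgp _ (comp_mem h.isMDec p a)
  have hvm : v ∈ D p := hgq _ (comp_mem h.isMDec q a)
  have hX0 : X ≠ 0 := fun e => hp (gl_mulVec_injective g (by simpa [hX] using e))
  have hvQ : Q v ≠ 0 := by rw [hv, h.iso hg]; exact hqQ
  have hga : InL Q M D c (X + v) := by
    obtain ⟨w, hw, hwQ⟩ := h.rep p c hc
    have hgw := h.inL_block (hgp w hw) (by rw [h.iso hg, hwQ]; exact hc)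
    rw [h.iso hg, hwQ] at hgw
    have := h.inL_map hc hg (hwQ ▸ h.inL_block hw (hwQ ▸ hc)) hgw ha
    rwa [haeq, mulVec_add] at this
  set u := comp h.isMDec p a with hu
  have hum : u ∈ D p := comp_mem h.isMDec p a
  obtain ⟨v', hv'm, hBv', hv'ind, hv'L⟩ : ∃ v' ∈ D p, B u v' ≠ 0 ∧
      v' ∉ Submodule.span F {u} ∧ InL Q M D c (X + v') := by
    by_cases hgood : B u v ≠ 0 ∧ v ∉ Submodule.span F {u}
    · exact ⟨v, hvm, hgood.1, hgood.2, hga⟩
    obtain ⟨y, hy, hyQ, hyv, hvy⟩ := h.exists_second hvm hvQ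
    have hy1 : B u y ≠ 0 ∧ y ∉ Submodule.span F {u} := by
      rw [not_and_or, not_not, not_not] at hgood
      rcases hgood with hg0 | hg0
      · refine ⟨fun e => ?_, fun hm => ?_⟩
        · exact hyv (Submodule.mem_span_singleton.mpr (h.eq_smul hum hp hvm
            (h.ne_zero_of_aniso hvQ) hy (by rw [B_comm]; exact hg0) (by rw [B_comm]; exact e)))
        · obtain ⟨μ, hμ⟩ := Submodule.mem_span_singleton.mp hm
          exact hvy (by rw [← hμ, hb.smul_right, B_comm, hg0, mul_zero])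
      · obtain ⟨μ, hμ⟩ := Submodule.mem_span_singleton.mp hg0
        have hμ0 : μ ≠ 0 := fun e => h.ne_zero_of_aniso hvQ (by rw [← hμ, e, zero_smul])
        refine ⟨fun e => hvy (by rw [← hμ, hb.smul_left, e, mul_zero]), fun hm => hyv ?_⟩
        obtain ⟨ν, hν⟩ := Submodule.mem_span_singleton.mp hm
        exact Submodule.mem_span_singleton.mpr ⟨ν * μ⁻¹, by
          rw [← hμ, smul_smul, mul_assoc, inv_mul_cancel₀ hμ0, mul_one, hν]⟩
    have hmove : ∀ s : F, (s = 1 ∨ s = -1) → Q (v + (-s) • y) ≠ 0 → InL Q M D c (X + s • y) := by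
      intro s hs hne
      have hzm : v + (-s) • y ∈ D p := (D p).add_mem hvm ((D p).smul_mem _ hy)
      obtain ⟨g', hg', hg's, hg'f⟩ := h.exists_refl hrp hzm hne
      have h1 := h.inL_stab hc hg' hg's hga
      have hr0 : comp h.isMDec r (X + v) = 0 := by
        rw [map_add, comp_other h.isMDec (Ne.symm hr2r) hXm, comp_other h.isMDec hrp hvm, add_zero]
      have hB : B (X + v) (v + (-s) • y) = Q (v + (-s) • y) := by
        rw [hb.add_left, h.orthog hr2p hXm hzm, zero_add, hb.add_right, hb.smul_right,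
          B_self hQ, Q_add_smul hQ, hyQ]
        rcases hs with rfl | rfl <;> ring
      rw [hg'f _ hr0, rf, hB, inv_mul_cancel₀ hne, one_smul] at h1
      rwa [show X + v - (v + (-s) • y) = X + s • y by module] at h1
    by_cases hz : Q (v + (-(1 : F)) • y) = 0
    · have hz2 : Q (v + (-(-1 : F)) • y) ≠ 0 := fun hz2 => by
        rw [Q_add_smul hQ, hyQ] at hz hz2
        have h4 : (2 : F) * (2 * Q v) = 0 := by linear_combination hz + hz2
        rcases mul_eq_zero.mp h4 with h2 | h2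
        · exact hvy (by linear_combination (Q v) * h2 - hz)
        · rcases mul_eq_zero.mp h2 with h2 | h2
          · exact hvy (by linear_combination (Q v) * h2 - hz)
          · exact hvQ h2
      refine ⟨(-1 : F) • y, (D p).smul_mem _ hy, ?_, fun hm => hy1.2 ?_,
        hmove _ (Or.inr rfl) hz2⟩
      · rw [hb.smul_right]; exact mul_ne_zero (neg_ne_zero.mpr one_ne_zero) hy1.1
      · simpa using Submodule.neg_mem _ hm
    · exact ⟨y, hy, hy1.1, hy1.2, by simpa using hmove 1 (Or.inl rfl) hz⟩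
  obtain ⟨z, hz, hzQ⟩ := h.rep r3 c hc
  obtain ⟨R, hR, hRx⟩ := h.inL_pair hc ha (hzQ ▸ h.inL_block hz (hzQ ▸ hc))
  obtain ⟨w, hw, hwQ⟩ := h.rep r c hc
  have hBz : ∀ x, comp h.isMDec r3 x = 0 → B x z = 0 := fun x hx => by
    rw [h.B_comp x hz, hx]; exact form_zero_left (bil hQ) z
  have hRw : (R : Matrix ι ι F) *ᵥ w = w := by
    rw [hRx, rf_of_ortho hQ (hBz w (comp_other h.isMDec hr3r hw)),
      rf_of_ortho hQ (by rw [B_comm, h.B_comp a hw, hr]; exact form_zero_left (bil hQ) w)]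
  have hwL : InL Q M D c w := hwQ ▸ h.inL_block hw (hwQ ▸ hc)
  have he := h.inL_map hc hR hwL (hRw.symm ▸ hwL) hv'L
  rw [hRx, rf_of_ortho hQ (hBz _ (by
    rw [map_add, comp_other h.isMDec hr3r2 hXm, comp_other h.isMDec hr3p hv'm, add_zero]))] at he
  set κ := (Q a)⁻¹ * B (X + v') a with hκ
  have hκ0 : κ ≠ 0 := by
    refine mul_ne_zero (inv_ne_zero (ha.1 ▸ hc)) ?_
    rw [hb.add_left, B_comm X a, h.B_comp a hXm, hthree r2 hr2p hr2q, form_zero_left (bil hQ),
      zero_add, B_comm v' a, h.B_comp a hv'm]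
    exact hBv'
  rw [rf, ← hκ] at he
  refine omega_le_of_three h hc he (l := r2) (m := q) (j := p) (r := r) hr2q (Ne.symm hr2p) hpq
    ?_ ?_ ?_ ?_ <;> rw [map_sub, map_add, map_smul]
  · rw [comp_self h.isMDec hXm, comp_other h.isMDec hr2p hv'm, hthree r2 hr2p hr2q, smul_zero,
      add_zero, sub_zero]
    exact hX0
  · rw [comp_other h.isMDec (Ne.symm hr2q) hXm, comp_other h.isMDec (Ne.symm hpq) hv'm, add_zero,
      zero_sub, neg_ne_zero]
    exact smul_ne_zero hκ0 hq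
  · rw [comp_other h.isMDec (Ne.symm hr2p) hXm, comp_self h.isMDec hv'm, zero_add, sub_ne_zero]
    exact fun e => hv'ind (Submodule.mem_span_singleton.mpr ⟨κ, e.symm⟩)
  · rw [comp_other h.isMDec (Ne.symm hr2r) hXm, comp_other h.isMDec hrp hv'm, hr, smul_zero,
      add_zero, sub_zero]

omit [Finite F] in
theorem rf_rf_apply {a b : ι → F} (x : ι → F) :
    rf Q a (rf Q b x) = x - ((Q b)⁻¹ * B x b) • b - ((Q a)⁻¹ * B (rf Q b x) a) • a := by
  rw [rf, rf]

/-- A mixed vector gives everything. -/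
theorem omega_le_of_mixed {c : F} (hc : c ≠ 0) {a : ι → F} (ha : InL Q M D c a)
    (hmix : ∀ l, a ∉ D l) : Cfsg.Geo.omegaGL Q ≤ M := by
  classical
  have hQ := h.form
  have hb := hQ.polar_bilinear
  by_cases hzero : ∃ r, comp h.isMDec r a = 0
  · obtain ⟨r, hr⟩ := hzero
    exact omega_le_of_zero h hc ha hmix hr
  push Not at hzero
  by_cases hsing : ∃ j, Q (comp h.isMDec j a) = 0
  · obtain ⟨j, hj⟩ := hsing
    exact omega_le_of_singular h hc ha (hzero j) hj
  push Not at hsing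
  -- rotate one component
  have hrot : ∀ (i : Fin t) (b : ι → F), InL Q M D c b → comp h.isMDec i b = comp h.isMDec i a →
      ∃ b', InL Q M D c b' ∧ (∀ l, l ≠ i → comp h.isMDec l b' = comp h.isMDec l b) ∧
        comp h.isMDec i b' ∉ Submodule.span F {comp h.isMDec i a} := by
    intro i b hbL hbi
    set u := comp h.isMDec i a with hu
    have hum : u ∈ D i := comp_mem h.isMDec i a
    obtain ⟨y, hy, hyQ, hyu, huy⟩ := h.exists_second hum (hsing i)
    obtain ⟨g, hg, hgx⟩ := h.pair_block hum hy hyQ.symm (hsing i)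
    refine ⟨_, h.inL_stab hc hg (fun l v hv => by rw [hgx]; exact h.rf_mem hum (h.rf_mem hy hv))
      hbL, fun l hl => ?_, ?_⟩
    · rw [hgx, rf_rf_apply h, map_sub, map_sub, map_smul, map_smul,
        comp_other h.isMDec hl hy, comp_other h.isMDec hl hum, smul_zero, smul_zero, sub_zero,
        sub_zero]
    · rw [hgx, rf_rf_apply h, map_sub, map_sub, map_smul, map_smul, comp_self h.isMDec hy,
        comp_self h.isMDec hum, hbi, h.B_comp b hy, hbi, hyQ]
      intro hm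
      obtain ⟨μ, hμ⟩ := Submodule.mem_span_singleton.mp hm
      set k1 := (Q u)⁻¹ * B u y
      set k2 := (Q u)⁻¹ * B (rf Q y b) u
      have hk : k1 ≠ 0 := mul_ne_zero (inv_ne_zero (hsing i)) huy
      refine hyu (Submodule.mem_span_singleton.mpr ⟨k1⁻¹ * (1 - k2 - μ), ?_⟩)
      have h7 : (1 - k2 - μ) • u = k1 • y := by linear_combination (norm := module) -hμ
      rw [← smul_smul, h7, smul_smul, inv_mul_cancel₀ hk, one_smul]
  obtain ⟨p1, hp1⟩ := exists_index h.seven (∅ : Finset (Fin t)) (by simp)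
  obtain ⟨p2, hp2⟩ := exists_index h.seven {p1} (by simp)
  obtain ⟨p3, hp3⟩ := exists_index h.seven {p1, p2} (le_trans Finset.card_le_two (by omega))
  obtain ⟨l0, hl0⟩ := exists_index h.seven {p1, p2, p3} (le_trans Finset.card_le_three (by omega))
  simp only [Finset.mem_insert, Finset.mem_singleton, not_or] at hp2 hp3 hl0
  obtain ⟨hp31, hp32⟩ := hp3
  obtain ⟨hl01, hl02, hl03⟩ := hl0
  obtain ⟨b1, hb1, hb1e, hb1i⟩ := hrot p1 a ha rfl
  obtain ⟨b2, hb2, hb2e, hb2i⟩ := hrot p2 b1 hb1 (hb1e p2 hp2)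
  obtain ⟨b3, hb3, hb3e, hb3i⟩ :=
    hrot p3 b2 hb2 ((hb2e p3 hp32).trans (hb1e p3 hp31))
  let S : Finset (Fin t) := {p1, p2, p3}
  have hS : ∀ i ∈ S, comp h.isMDec i b3 ∉ Submodule.span F {comp h.isMDec i a} := by
    intro i hi
    simp only [S, Finset.mem_insert, Finset.mem_singleton] at hi
    rcases hi with rfl | rfl | rfl
    · rw [hb3e _ (Ne.symm hp31), hb2e _ (Ne.symm hp2)]; exact hb1i
    · rw [hb3e _ (Ne.symm hp32)]; exact hb2i
    · exact hb3i
  have hl0e : comp h.isMDec l0 b3 = comp h.isMDec l0 a := by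
    rw [hb3e _ hl03, hb2e _ hl02, hb1e _ hl01]
  obtain ⟨R, hR, hRv⟩ := h.inL_pair hc ha hb3
  obtain ⟨z0, hz0, hz0Q, hz0a⟩ := h.exists_perp (comp_mem h.isMDec l0 a) (Or.inr (hsing l0))
  have hza : B z0 a = 0 := by rw [B_comm, h.B_comp a hz0, B_comm]; exact hz0a
  have hzb : B z0 b3 = 0 := by rw [B_comm, h.B_comp b3 hz0, hl0e, B_comm]; exact hz0a
  have hRz0 : (R : Matrix ι ι F) *ᵥ z0 = z0 := by
    rw [hRv, rf_of_ortho hQ hzb, rf_of_ortho hQ hza]
  obtain ⟨z1, hz1, hz1Q, hz1ind, -⟩ := h.exists_second hz0 hz0Q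
  set w := ((R⁻¹ : GL ι F) : Matrix ι ι F) *ᵥ z1 with hw
  have hisoR := h.iso (M.inv_mem hR)
  have hwp := pair_conj hQ (M.inv_mem hR) hisoR
    (h.pair_block hz1 hz0 hz1Q (hz1Q ▸ hz0Q))
  have hRz0' : ((R⁻¹ : GL ι F) : Matrix ι ι F) *ᵥ z0 = z0 := by
    conv_lhs => rw [← hRz0, gl_inv_mulVec]
  rw [hRz0', ← hw] at hwp
  have hwQ : Q w = Q z0 := by rw [hw, hisoR, hz1Q]
  -- an anisotropic vector of each rotated block orthogonal to `w`
  have hline : (∀ i ∈ S, ∃ x ∈ D i, Q x ≠ 0 ∧ B x w = 0) ∨ Cfsg.Geo.omegaGL Q ≤ M := by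
    by_cases hs : ∃ i ∈ S, comp h.isMDec i w ≠ 0 ∧ Q (comp h.isMDec i w) = 0
    · obtain ⟨i, hi, hi0, hiQ⟩ := hs
      have hil : i ≠ l0 := fun e => by
        subst e
        simp only [S, Finset.mem_insert, Finset.mem_singleton, hl01, hl02, hl03, or_self] at hi
      exact Or.inr (h.omega_le_of_torus hwp (hwQ ▸ hz0Q) hwQ.symm
        (comp_other h.isMDec hil hz0) hi0 hiQ)
    push Not at hs
    refine Or.inl fun i hi => ?_
    obtain ⟨x, hx, hxQ, hxw⟩ := h.exists_perp (comp_mem h.isMDec i w)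
      (Classical.or_iff_not_imp_left.mpr (hs i hi))
    exact ⟨x, hx, hxQ, by rw [B_comm, h.B_comp w hx, B_comm]; exact hxw⟩
  rcases hline with hline | hdone
  swap
  · exact hdone
  -- two of them of the same norm
  obtain ⟨i, hiS, j, hjS, k, hkS, hij, hik, hjk, x, hx, y, hy, hxQ, hxy, hxw, hyw⟩ :
      ∃ i ∈ S, ∃ j ∈ S, ∃ k ∈ S, i ≠ j ∧ i ≠ k ∧ j ≠ k ∧ ∃ x ∈ D i, ∃ y ∈ D j,
        Q x ≠ 0 ∧ Q y = Q x ∧ B x w = 0 ∧ B y w = 0 := by
    have m1 : p1 ∈ S := by simp [S]
    have m2 : p2 ∈ S := by simp [S]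
    have m3 : p3 ∈ S := by simp [S]
    obtain ⟨x1, hx1, hx1Q, hx1w⟩ := hline p1 m1
    obtain ⟨x2, hx2, hx2Q, hx2w⟩ := hline p2 m2
    obtain ⟨x3, hx3, hx3Q, hx3w⟩ := hline p3 m3
    obtain ⟨r, hr, e | e | e⟩ := h.exists_ratio hx1Q hx2Q hx3Q
    · exact ⟨p1, m1, p2, m2, p3, m3, Ne.symm hp2, Ne.symm hp31, Ne.symm hp32, r • x1,
        (D p1).smul_mem _ hx1, x2, hx2, by rw [hQ.smul, e]; exact hx2Q, by rw [hQ.smul, e],
        by rw [hb.smul_left, hx1w, mul_zero], hx2w⟩
    · exact ⟨p1, m1, p3, m3, p2, m2, Ne.symm hp31, Ne.symm hp2, hp32, r • x1,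
        (D p1).smul_mem _ hx1, x3, hx3, by rw [hQ.smul, e]; exact hx3Q, by rw [hQ.smul, e],
        by rw [hb.smul_left, hx1w, mul_zero], hx3w⟩
    · exact ⟨p2, m2, p3, m3, p1, m1, Ne.symm hp32, hp2, hp31, r • x2,
        (D p2).smul_mem _ hx2, x3, hx3, by rw [hQ.smul, e]; exact hx3Q, by rw [hQ.smul, e],
        by rw [hb.smul_left, hx2w, mul_zero], hx3w⟩
  have hSl : ∀ i ∈ S, i ≠ l0 := fun i hi e => by
    subst e
    simp only [S, Finset.mem_insert, Finset.mem_singleton, hl01, hl02, hl03, or_self] at hi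
  set d := b3 - a with hd
  -- the images
  have himg : ∀ i ∈ S, ∀ x ∈ D i, Q x ≠ 0 → B x w = 0 → comp h.isMDec l0 ((R : Matrix ι ι F) *ᵥ x) = 0 ∧
      ∀ k ∈ S, k ≠ i → comp h.isMDec k ((R : Matrix ι ι F) *ᵥ x) ≠ 0 := by
    intro i hi x hx hxQ hxw
    have hxz0 : B ((R : Matrix ι ι F) *ᵥ x) z0 = 0 := by
      conv_lhs => arg 3; rw [← hRz0]
      rw [B_map (h.iso hR)]
      exact h.orthog (hSl i hi) hx hz0
    have hxz1 : B ((R : Matrix ι ι F) *ᵥ x) z1 = 0 := by
      rw [← gl_mulVec_inv R z1, B_map (h.iso hR)]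
      exact hxw
    have hl0z : comp h.isMDec l0 ((R : Matrix ι ι F) *ᵥ x) = 0 :=
      h.eq_zero_of_perp hz0 (h.ne_zero_of_aniso hz0Q) hz1 hz1ind (comp_mem h.isMDec l0 _)
        (by rw [← h.B_comp _ hz0]; exact hxz0) (by rw [← h.B_comp _ hz1]; exact hxz1)
    refine ⟨hl0z, fun k hk hki => ?_⟩
    set β := (Q b3)⁻¹ * B x b3 with hβ
    set γ := (Q a)⁻¹ * B (rf Q b3 x) a with hγ
    have hform : (R : Matrix ι ι F) *ᵥ x = x - β • b3 - γ • a := by
      rw [hRv, rf_rf_apply h]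
    have hγβ : γ = -β := by
      have := hl0z
      rw [hform, map_sub, map_sub, map_smul, map_smul, comp_other h.isMDec (Ne.symm (hSl i hi)) hx,
        hl0e, zero_sub, ← neg_smul, ← sub_smul, smul_eq_zero] at this
      linear_combination -(this.resolve_right (hzero l0))
    have hβ0 : β ≠ 0 := by
      intro hβ0
      rw [hγβ, hβ0, neg_zero] at hγ
      have hxb : B x b3 = 0 := by
        rw [hβ] at hβ0
        exact (mul_eq_zero.mp hβ0).resolve_left (inv_ne_zero (hb3.1 ▸ hc))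
      have hxa : B x a = 0 := by
        rw [rf_of_ortho hQ hxb] at hγ
        exact (mul_eq_zero.mp hγ.symm).resolve_left (inv_ne_zero (ha.1 ▸ hc))
      exact h.ne_zero_of_aniso hxQ (h.eq_zero_of_perp (comp_mem h.isMDec i a) (hzero i)
        (comp_mem h.isMDec i b3) (hS i hi) hx
        (by rw [B_comm, ← h.B_comp a hx, B_comm]; exact hxa)
        (by rw [B_comm, ← h.B_comp b3 hx, B_comm]; exact hxb))
    rw [hform, hγβ, map_sub, map_sub, map_smul, map_smul, comp_other h.isMDec hki hx]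
    intro e
    refine hS k hk (Submodule.mem_span_singleton.mpr ⟨1, ?_⟩)
    have h7 : β • (comp h.isMDec k a - comp h.isMDec k b3) = 0 := by
      linear_combination (norm := module) e
    rw [one_smul, sub_eq_zero.mp ((smul_eq_zero.mp h7).resolve_left hβ0)]
  obtain ⟨hxl, hxS⟩ := himg i hiS x hx hxQ hxw
  obtain ⟨hyl, hyS⟩ := himg j hjS y hy (hxy ▸ hxQ) hyw
  obtain ⟨R2, hR2, hR2v⟩ := pair_conj hQ hR (h.iso hR) (h.pair_block hx hy hxy.symm hxQ)
  have hnot := not_stab h (by rw [h.iso hR]; exact hxQ) (by rw [h.iso hR, h.iso hR, hxy])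
    (fun hm => by
      obtain ⟨μ, hμ⟩ := Submodule.mem_span_singleton.mp hm
      rw [← mulVec_smul] at hμ
      have h8 := congrArg (comp h.isMDec j) (gl_mulVec_injective R hμ)
      rw [map_smul, comp_other h.isMDec (Ne.symm hij) hx, smul_zero, comp_self h.isMDec hy] at h8
      exact h.ne_zero_of_aniso (hxy ▸ hxQ) h8.symm)
    hR2v hij hik hjk (Or.inr (hyS i hiS hij)) (Or.inl (hxS j hjS (Ne.symm hij)))
    (Or.inl (hxS k hkS (Ne.symm hik)))
  have hfix : ∀ v ∈ D l0, (R2 : Matrix ι ι F) *ᵥ v = v := fun v hv => by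
    rw [hR2v, rf_of_ortho hQ (show B v ((R : Matrix ι ι F) *ᵥ y) = 0 by
        rw [B_comm, h.B_comp _ hv, hyl]; exact form_zero_left (bil hQ) v),
      rf_of_ortho hQ (show B v ((R : Matrix ι ι F) *ᵥ x) = 0 by
        rw [B_comm, h.B_comp _ hv, hxl]; exact form_zero_left (bil hQ) v)]
  obtain ⟨i2, v, hv, hvL, hvmix⟩ := mixed_of_fix h hR2 hnot hz0 hz0Q (hfix z0 hz0)
  have hi2 : i2 ≠ l0 := fun e => by
    subst e
    exact hvmix i2 (by rw [hfix v hv]; exact hv)
  refine omega_le_of_zero h hz0Q hvL hvmix (r := l0) (by_contra fun hne => ?_)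
  obtain ⟨-, u, hu, hBu⟩ :=
    h.decomp.decomp.nondegenerate l0 _ (comp_mem h.isMDec l0 _) hne
  apply hBu
  rw [← h.B_comp _ hu, ← hfix u hu, B_map (h.iso hR2)]
  exact h.orthog hi2 hv hu

/-- A commutator of conjugated tori. -/
theorem omega_le_of_rank_one {g : GL ι F} (hg : g ∈ M) {r l : Fin t} {e f : ι → F} (he : e ∈ D r)
    (hf : f ∈ D r) (heQ : Q e = 0) (hfQ : Q f = 0) (hef : B e f = 1)
    (hel : comp h.isMDec l ((g : Matrix ι ι F) *ᵥ e) = 0)
    (hfl : comp h.isMDec l ((g : Matrix ι ι F) *ᵥ f) ≠ 0)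
    (hflQ : Q (comp h.isMDec l ((g : Matrix ι ι F) *ᵥ f)) = 0) :
    Cfsg.Geo.omegaGL Q ≤ M := by
  classical
  have : Fintype F := Fintype.ofFinite F
  have hQ := h.form
  have hb := hQ.polar_bilinear
  have hiso := h.iso hg
  set e' := (g : Matrix ι ι F) *ᵥ e with he'
  set f' := (g : Matrix ι ι F) *ᵥ f with hf'
  set s := comp h.isMDec l f' with hs
  have hsm : s ∈ D l := comp_mem h.isMDec l f'
  obtain ⟨f2, hf2, hf2Q, hsf2⟩ :=
    OrthDecompOdd.exists_partner hQ (h.decomp.decomp.nondegenerate l) hsm hfl hflQ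
  have hq : 7 ≤ Nat.card F := h.good.resolve_right fun h' => hfl (h'.1 l s hsm hflQ)
  obtain ⟨ν, hν⟩ := exists_not_mem ({0, 1, -1} : Finset F)
    (lt_of_le_of_lt Finset.card_le_three (by rw [← Nat.card_eq_fintype_card]; omega))
  simp only [Finset.mem_insert, Finset.mem_singleton, not_or] at hν
  obtain ⟨hν0, hν1, hν2⟩ := hν
  have hν' : ν ^ 2 - 1 ≠ 0 := fun e => by
    rcases sq_eq_one_iff.mp (sub_eq_zero.mp e) with e | e <;> contradiction
  obtain ⟨τ, hτ, hτx⟩ := h.exists_torus he hf heQ hfQ hef hν0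
  obtain ⟨τ', hτ', hτ'x⟩ := h.exists_torus he hf heQ hfQ hef (inv_ne_zero hν0)
  rw [inv_inv] at hτ'x
  obtain ⟨k, hk, hkx⟩ := h.exists_torus hsm hf2 hflQ hf2Q hsf2 hν0
  have hisok := h.iso hk
  have hke : (k : Matrix ι ι F) *ᵥ e' = e' := by
    rw [hkx, h.B_comp e' hf2, h.B_comp e' hsm, hel, form_zero_left (bil hQ),
      form_zero_left (bil hQ)]
    simp
  have hkf : (k : Matrix ι ι F) *ᵥ f' = f' + (ν ^ 2 - 1) • s := by
    rw [hkx, h.B_comp f' hf2, h.B_comp f' hsm, ← hs, hsf2, B_self hQ, hflQ]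
    simp
  have hflip : ∀ (u : GL ι F) (x y : ι → F), (∀ v, Q ((u : Matrix ι ι F) *ᵥ v) = Q v) →
      B (((u⁻¹ : GL ι F) : Matrix ι ι F) *ᵥ x) y = B x ((u : Matrix ι ι F) *ᵥ y) :=
    fun u x y hu => by conv_rhs => rw [← gl_mulVec_inv u x, B_map hu]
  set R1 := g * τ * g⁻¹ with hR1
  set R2 := k * (g * τ' * g⁻¹) * k⁻¹ with hR2
  have hR1x : ∀ x, (R1 : Matrix ι ι F) *ᵥ x =
      x + ((ν ^ 2 - 1) * B x f') • e' + ((ν⁻¹ ^ 2 - 1) * B x e') • f' := fun x => by
    rw [hR1, gl_mul_mulVec, gl_mul_mulVec, hτx, mulVec_add, mulVec_add, mulVec_smul, mulVec_smul,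
      gl_mulVec_inv, hflip g x f hiso, hflip g x e hiso]
  have hR2x : ∀ x, (R2 : Matrix ι ι F) *ᵥ x =
      x + ((ν⁻¹ ^ 2 - 1) * B x (f' + (ν ^ 2 - 1) • s)) • e' +
        ((ν ^ 2 - 1) * B x e') • (f' + (ν ^ 2 - 1) • s) := fun x => by
    rw [hR2, gl_mul_mulVec, gl_mul_mulVec, gl_mul_mulVec, gl_mul_mulVec, hτ'x]
    simp only [mulVec_add, mulVec_smul, gl_mulVec_inv]
    rw [hflip g _ f hiso, hflip g _ e hiso, hflip k x _ hisok,
      hflip k x _ hisok, ← he', ← hf', hke, hkf]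
  set d := ((ν ^ 2 - 1) * (ν ^ 2 - 1)) • s with hd
  have hdQ : Q d = 0 := by rw [hd, hQ.smul, hflQ, mul_zero]
  have hes : B e' s = 0 := by rw [h.B_comp e' hsm, hel]; exact form_zero_left (bil hQ) s
  have hed : B (-e') d = 0 := by
    rw [← neg_one_smul F e', hb.smul_left, hd, hb.smul_right, hes, mul_zero, mul_zero]
  have hfs : B f' s = 0 := by rw [h.B_comp f' hsm, ← hs, B_self hQ, hflQ, mul_zero]
  have hee : Q e' = 0 := by rw [he', hiso, heQ]
  have hff : Q f' = 0 := by rw [hf', hiso, hfQ]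
  have hef' : B e' f' = 1 := by rw [he', hf', B_map hiso, hef]
  have hprod : R1 * R2 = sieg Q d (-e') := gl_ext fun x => by
    rw [gl_mul_mulVec, hR2x, hR1x, sieg_mulVec hQ hdQ hed, hd, ← neg_one_smul F e', hQ.smul, hee]
    simp only [hb.add_left, hb.add_right, hb.smul_left, hb.smul_right, B_self hQ, hee, hff,
      B_comm f' e', hef', B_comm s e', hes, B_comm s f', hfs]
    match_scalars <;> field_simp <;> ring
  have hw : -e' ∈ cent hQ M d hdQ := mem_cent.mpr ⟨hed, hprod ▸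
    M.mul_mem (M.mul_mem (M.mul_mem hg hτ) (M.inv_mem hg))
      (M.mul_mem (M.mul_mem hk (M.mul_mem (M.mul_mem hg hτ') (M.inv_mem hg))) (M.inv_mem hk))⟩
  obtain ⟨i, hil, hi⟩ : ∃ i, i ≠ l ∧ comp h.isMDec i e' ≠ 0 := by
    by_contra hc
    push Not at hc
    have he0 : e' = 0 := by
      rw [← sum_comp h.isMDec e']
      exact Finset.sum_eq_zero fun i _ => by
        by_cases hi : i = l
        · rw [hi]; exact hel
        · exact hc i hi
    rw [he0, form_zero_left (bil hQ)] at hef'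
    exact zero_ne_one hef'
  obtain ⟨m, hm⟩ := exists_index h.seven {l, i} (le_trans Finset.card_le_two (by omega))
  simp only [Finset.mem_insert, Finset.mem_singleton, not_or] at hm
  refine h.omega_le_of_centre hdQ (Ne.symm hm.1)
    (fun c hcl _ => by rw [hd, map_smul, comp_other h.isMDec hcl hsm, smul_zero]) ?_ hw hil
    (Ne.symm hm.2) (by rw [map_neg, neg_ne_zero]; exact hi)
  rw [hd, map_smul, comp_self h.isMDec hsm]
  exact smul_ne_zero (mul_ne_zero hν' hν') hfl

/-- An element outside the stabiliser gives everything. -/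
theorem omega_le {g : GL ι F} (hgM : g ∈ M) (hg : g ∉ Cfsg.Geo.decompositionStabilizer D) :
    Cfsg.Geo.omegaGL Q ≤ M := by
  classical
  have hQ := h.form
  have hb := hQ.polar_bilinear
  have hiso := h.iso hgM
  have hmixed : ∀ {c : F} {a : ι → F}, c ≠ 0 → InL Q M D c a → (∀ l, a ∉ D l) →
      Cfsg.Geo.omegaGL Q ≤ M := fun hc ha hm => omega_le_of_mixed h hc ha hm
  by_cases hpure : ∃ i, ∃ y ∈ D i, Q y ≠ 0 ∧ ∃ a, (g : Matrix ι ι F) *ᵥ y ∈ D a
  · obtain ⟨i, y, hy, hyQ, a, ha⟩ := hpure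
    obtain ⟨j, x, hx, hxQ, hmix⟩ : ∃ j, ∃ x ∈ D j, Q x = Q y ∧
        ∀ l, (g : Matrix ι ι F) *ᵥ x ∉ D l := by
      by_contra hc
      push Not at hc
      exact hg (mem_stab h hgM hyQ hc)
    refine hmixed hyQ ⟨by rw [hiso, hxQ], a, _, ha, hiso y, ?_⟩ hmix
    exact pair_conj hQ hgM hiso (h.pair_block hx hy hxQ (hxQ ▸ hyQ))
  push Not at hpure
  by_cases hsmall : ∃ i, ∃ x ∈ D i, Q x ≠ 0 ∧ ∃ p q, p ≠ q ∧ (g : Matrix ι ι F) *ᵥ x ∈ D p ⊔ D q
  · obtain ⟨i, x, hx, hxQ, p, q, hpq, hsup⟩ := hsmall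
    obtain ⟨r, hr⟩ := exists_index h.seven {p, q} (le_trans Finset.card_le_two (by omega))
    simp only [Finset.mem_insert, Finset.mem_singleton, not_or] at hr
    obtain ⟨j, y, hy, hyQ, hyn⟩ : ∃ j, ∃ y ∈ D j, Q y = Q x ∧
        (g : Matrix ι ι F) *ᵥ y ∉ D p ⊔ D q := by
      by_contra hc
      push Not at hc
      have hall : ∀ v, (g : Matrix ι ι F) *ᵥ v ∈ D p ⊔ D q := fun v => by
        rw [← sum_comp h.isMDec v, mulVec_sum]
        refine Submodule.sum_mem _ fun k _ => ?_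
        obtain ⟨x0, hx0, hx0Q⟩ := h.rep k (Q x) hxQ
        obtain ⟨x1, hx1, hx1Q, hx1n, -⟩ := h.exists_second hx0 (hx0Q ▸ hxQ)
        obtain ⟨a, b, hab⟩ := h.mem_pair hx0 (h.ne_zero_of_aniso (hx0Q ▸ hxQ)) hx1 hx1n
          (comp_mem h.isMDec k v)
        rw [← hab, mulVec_add, mulVec_smul, mulVec_smul]
        exact Submodule.add_mem _ (Submodule.smul_mem _ _ (hc k x0 hx0 hx0Q))
          (Submodule.smul_mem _ _ (hc k x1 hx1 (hx1Q.trans hx0Q)))
      obtain ⟨u, hu, hu0⟩ := Submodule.exists_mem_ne_zero_of_ne_bot (block_ne_bot h.isMDec r)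
      have := comp_two h hr.1 hr.2 (hall (((g⁻¹ : GL ι F) : Matrix ι ι F) *ᵥ u))
      rw [gl_mulVec_inv, comp_self h.isMDec hu] at this
      exact hu0 this
    set a := (g : Matrix ι ι F) *ᵥ x with ha
    set b := (g : Matrix ι ι F) *ᵥ y with hb'
    obtain ⟨l, hlp, hlq, hl⟩ : ∃ l, l ≠ p ∧ l ≠ q ∧ comp h.isMDec l b ≠ 0 := by
      by_contra hc
      push Not at hc
      exact hyn (mem_two h hpq hc)
    have hal : comp h.isMDec l a = 0 := comp_two h hlp hlq hsup
    have haQ : Q a ≠ 0 := by rw [ha, hiso]; exact hxQ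
    have hbQ : Q b = Q a := by rw [ha, hb', hiso, hiso, hyQ]
    have hp := pair_conj hQ hgM hiso (h.pair_block hx hy hyQ.symm hxQ)
    rw [← ha, ← hb'] at hp
    by_cases hlQ : Q (comp h.isMDec l b) = 0
    · exact h.omega_le_of_torus (pair_symm hQ haQ (hbQ ▸ haQ) hp) (hbQ ▸ haQ) hbQ.symm hal hl hlQ
    obtain ⟨R, hR, hRv⟩ := hp
    obtain ⟨z, hz, hzQ, hzb⟩ := h.exists_perp (comp_mem h.isMDec l b) (Or.inr hlQ)
    have hRz : (R : Matrix ι ι F) *ᵥ z = z := by
      rw [hRv, rf_of_ortho hQ (show B z b = 0 by rw [B_comm, h.B_comp b hz, B_comm]; exact hzb),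
        rf_of_ortho hQ (show B z a = 0 by
          rw [B_comm, h.B_comp a hz, hal]; exact form_zero_left (bil hQ) z)]
    obtain ⟨p', q', hpq', hp', hq'⟩ :=
      OrthDecompOdd.exists_two_of_mixed h.isMDec (a := a) (hpure i x hx hxQ)
    have hlp' : p' ≠ l := fun e => hp' (e ▸ hal)
    have hlq' : q' ≠ l := fun e => hq' (e ▸ hal)
    have hnot := not_stab h haQ hbQ (fun hm => by
        obtain ⟨μ, hμ⟩ := Submodule.mem_span_singleton.mp hm
        rw [← hμ, map_smul, hal, smul_zero] at hl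
        exact hl rfl)
      hRv hpq' hlp' hlq' (Or.inl hp') (Or.inl hq') (Or.inr hl)
    obtain ⟨-, v, hv, hvL, hvmix⟩ := mixed_of_fix h hR hnot hz hzQ hRz
    exact hmixed hzQ hvL hvmix
  push Not at hsmall
  -- two block vectors orthogonal to a pulled back block vector
  have finish : ∀ {r : Fin t} {z : ι → F}, z ∈ D r → Q z ≠ 0 → ∀ {i j : Fin t} {x y : ι → F},
      x ∈ D i → y ∈ D j → Q x ≠ 0 → Q y = Q x → y ∉ Submodule.span F {x} →
      B x (((g⁻¹ : GL ι F) : Matrix ι ι F) *ᵥ z) = 0 →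
      B y (((g⁻¹ : GL ι F) : Matrix ι ι F) *ᵥ z) = 0 → Cfsg.Geo.omegaGL Q ≤ M := by
    intro r z hz hzQ i j x y hx hy hxQ hyQ hind hxw hyw
    set a := (g : Matrix ι ι F) *ᵥ x with ha
    have hza : B z a = 0 := by
      rw [B_comm, ← gl_mulVec_inv g z, ha, B_map hiso]; exact hxw
    have hzb : B z ((g : Matrix ι ι F) *ᵥ y) = 0 := by
      rw [B_comm, ← gl_mulVec_inv g z, B_map hiso]; exact hyw
    obtain ⟨R, hR, hRv⟩ := pair_conj hQ hgM hiso (h.pair_block hx hy hyQ.symm hxQ)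
    have hRz : (R : Matrix ι ι F) *ᵥ z = z := by
      rw [hRv, rf_of_ortho hQ hzb, rf_of_ortho hQ hza]
    obtain ⟨p, q, hpq, hp, hq⟩ :=
      OrthDecompOdd.exists_two_of_mixed h.isMDec (hpure i x hx hxQ)
    obtain ⟨l, hlp, hlq, hl⟩ : ∃ l, l ≠ p ∧ l ≠ q ∧ comp h.isMDec l a ≠ 0 := by
      by_contra hc
      push Not at hc
      exact hsmall i x hx hxQ p q hpq (mem_two h hpq hc)
    have hnot := not_stab h (by rw [hiso]; exact hxQ) (by rw [hiso, hiso, hyQ]) (fun hm => hind (by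
        obtain ⟨μ, hμ⟩ := Submodule.mem_span_singleton.mp hm
        exact Submodule.mem_span_singleton.mpr
          ⟨μ, gl_mulVec_injective g (by simpa [mulVec_smul] using hμ)⟩))
      hRv hpq (Ne.symm hlp) (Ne.symm hlq) (Or.inl hp) (Or.inl hq) (Or.inl hl)
    obtain ⟨-, v, hv, hvL, hvmix⟩ := mixed_of_fix h hR hnot hz hzQ hRz
    exact hmixed hzQ hvL hvmix
  -- the useful components
  let φ : Fin t → (ι → F) →ₗ[F] (ι → F) := fun i =>
    comp h.isMDec i ∘ₗ Matrix.mulVecLin ((g⁻¹ : GL ι F) : Matrix ι ι F)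
  have hφ : ∀ i v, φ i v = comp h.isMDec i (((g⁻¹ : GL ι F) : Matrix ι ι F) *ᵥ v) :=
    fun i v => rfl
  have zero_case : ∀ {r : Fin t} {z : ι → F}, z ∈ D r → Q z ≠ 0 → ∀ i, φ i z = 0 →
      Cfsg.Geo.omegaGL Q ≤ M := by
    intro r z hz hzQ i hi
    obtain ⟨x, hx, hxQ⟩ := h.rep i 1 one_ne_zero
    have hx1 : Q x ≠ 0 := by rw [hxQ]; exact one_ne_zero
    obtain ⟨y, hy, hyQ, hyx, -⟩ := h.exists_second hx hx1
    have hperp : ∀ u ∈ D i, B u (((g⁻¹ : GL ι F) : Matrix ι ι F) *ᵥ z) = 0 := fun u hu => by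
      rw [B_comm, h.B_comp _ hu, ← hφ, hi]; exact form_zero_left (bil hQ) u
    exact finish hz hzQ hx hy hx1 hyQ hyx (hperp x hx) (hperp y hy)
  have three_case : ∀ {r : Fin t} {z : ι → F}, z ∈ D r → Q z ≠ 0 →
      2 < (Finset.univ.filter fun i => Q (φ i z) ≠ 0).card → Cfsg.Geo.omegaGL Q ≤ M := by
    intro r z hz hzQ hcard
    obtain ⟨i1, i2, i3, h1, h2, h3, h12, h13, h23⟩ := Finset.two_lt_card_iff.mp hcard
    simp only [Finset.mem_filter, Finset.mem_univ, true_and] at h1 h2 h3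
    have hget : ∀ i, Q (φ i z) ≠ 0 →
        ∃ x ∈ D i, Q x ≠ 0 ∧ B x (((g⁻¹ : GL ι F) : Matrix ι ι F) *ᵥ z) = 0 := fun i hi => by
      obtain ⟨x, hx, hxQ, hxw⟩ := h.exists_perp (comp_mem h.isMDec i _) (Or.inr hi)
      exact ⟨x, hx, hxQ, by rw [B_comm, h.B_comp _ hx, B_comm]; exact hxw⟩
    obtain ⟨x1, hx1, hx1Q, hx1w⟩ := hget i1 h1
    obtain ⟨x2, hx2, hx2Q, hx2w⟩ := hget i2 h2
    obtain ⟨x3, hx3, hx3Q, hx3w⟩ := hget i3 h3
    have hne : ∀ {i j : Fin t} {x y : ι → F}, i ≠ j → x ∈ D i → y ∈ D j → Q y ≠ 0 →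
        y ∉ Submodule.span F {x} := fun hij hx hy hyQ hm => by
      obtain ⟨μ, rfl⟩ := Submodule.mem_span_singleton.mp hm
      have h9 : μ • _ = (0 : ι → F) := (comp_self h.isMDec hy).symm.trans
        (by rw [map_smul, comp_other h.isMDec (Ne.symm hij) hx, smul_zero])
      exact h.ne_zero_of_aniso hyQ h9
    obtain ⟨s, hs, e | e | e⟩ := h.exists_ratio hx1Q hx2Q hx3Q
    · exact finish hz hzQ ((D i1).smul_mem s hx1) hx2 (by rw [hQ.smul, e]; exact hx2Q)
        (by rw [hQ.smul, e]) (hne h12 ((D i1).smul_mem s hx1) hx2 hx2Q)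
        (by rw [hb.smul_left, hx1w, mul_zero]) hx2w
    · exact finish hz hzQ ((D i1).smul_mem s hx1) hx3 (by rw [hQ.smul, e]; exact hx3Q)
        (by rw [hQ.smul, e]) (hne h13 ((D i1).smul_mem s hx1) hx3 hx3Q)
        (by rw [hb.smul_left, hx1w, mul_zero]) hx3w
    · exact finish hz hzQ ((D i2).smul_mem s hx2) hx3 (by rw [hQ.smul, e]; exact hx3Q)
        (by rw [hQ.smul, e]) (hne h23 ((D i2).smul_mem s hx2) hx3 hx3Q)
        (by rw [hb.smul_left, hx2w, mul_zero]) hx3w
  -- mostly singular components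
  obtain ⟨r, -⟩ := exists_index h.seven (∅ : Finset (Fin t)) (by simp)
  obtain ⟨z1, hz1, hz1Q⟩ := h.rep r 1 one_ne_zero
  have hz1' : Q z1 ≠ 0 := by rw [hz1Q]; exact one_ne_zero
  have hz10 := h.ne_zero_of_aniso hz1'
  by_cases hcase : (∃ i, φ i z1 = 0) ∨
      2 < (Finset.univ.filter fun i => Q (φ i z1) ≠ 0).card
  · rcases hcase with ⟨i, hi⟩ | hc
    · exact zero_case hz1 hz1' i hi
    · exact three_case hz1 hz1' hc
  push Not at hcase
  -- a singular component forces large fields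
  obtain ⟨l0, hl0⟩ := exists_index h.seven (Finset.univ.filter fun i => Q (φ i z1) ≠ 0)
    (by omega)
  simp only [Finset.mem_filter, Finset.mem_univ, true_and, not_not] at hl0
  have hq : 7 ≤ Nat.card F :=
    h.good.resolve_right fun h' => hcase.1 l0 (h'.1 l0 _ (comp_mem h.isMDec l0 _) hl0)
  obtain ⟨z2, hz2, hz2Q, -, hz21, -⟩ := h.exists_avoid hz1 hz10 z1 z1 (Or.inl rfl)
  obtain ⟨z3, hz3, hz3Q, -, hz31, hz32⟩ :=
    h.exists_avoid hz1 hz10 z1 z2 (Or.inr (by omega))
  set G := fun z : ι → F => (Finset.univ.filter fun i => Q (φ i z) ≠ 0) with hG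
  by_cases hbad : 2 < (G z2).card ∨ 2 < (G z3).card
  · rcases hbad with hc | hc
    · exact three_case hz2 hz2Q hc
    · exact three_case hz3 hz3Q hc
  push Not at hbad
  obtain ⟨l, hl⟩ := exists_index h.seven (G z1 ∪ (G z2 ∪ G z3)) (by
    have h1 := Finset.card_union_le (G z1) (G z2 ∪ G z3)
    have h2 := Finset.card_union_le (G z2) (G z3)
    have h3 : (G z1).card ≤ 2 := hcase.2
    omega)
  simp only [hG, Finset.mem_union, Finset.mem_filter, Finset.mem_univ, true_and, not_or,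
    not_not] at hl
  obtain ⟨hl1, hl2, hl3⟩ := hl
  obtain ⟨α, β, hαβ⟩ := h.mem_pair hz1 hz10 hz2 hz21 hz3
  have hα : α ≠ 0 := fun e => hz32 (Submodule.mem_span_singleton.mpr ⟨β, by
    rw [← hαβ, e, zero_smul, zero_add]⟩)
  have hβ : β ≠ 0 := fun e => hz31 (Submodule.mem_span_singleton.mpr ⟨α, by
    rw [← hαβ, e, zero_smul, add_zero]⟩)
  set s1 := φ l z1 with hs1
  set s2 := φ l z2 with hs2
  have hs10 : s1 ≠ 0 := hcase.1 l
  have hs1m : s1 ∈ D l := comp_mem h.isMDec l _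
  rw [← hαβ, map_add, map_smul, map_smul, ← hs1, ← hs2, Q_add (Q := Q), hQ.smul, hQ.smul, hl1,
    hl2, hb.smul_left, hb.smul_right, mul_zero, mul_zero, zero_add, zero_add, ← mul_assoc] at hl3
  have hB12 : B s2 s1 = 0 := by
    rw [B_comm]; exact (mul_eq_zero.mp hl3).resolve_left (mul_ne_zero hα hβ)
  obtain ⟨μ, hμ⟩ := h.eq_smul hs1m hs10 hs1m hs10 (comp_mem h.isMDec l _)
    (by rw [B_self hQ, hl1, mul_zero]) hB12
  set k := z2 + (-μ) • z1 with hk
  have hkm : k ∈ D r := (D r).add_mem hz2 ((D r).smul_mem _ hz1)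
  have hkl : φ l k = 0 := by
    rw [hk, map_add, map_smul, ← hs1]
    change φ l z2 + _ = 0
    rw [show φ l z2 = μ • s1 from hμ.symm]
    module
  have hk0 : k ≠ 0 := fun e => hz21 (Submodule.mem_span_singleton.mpr ⟨μ, by
    rw [hk, neg_smul, ← sub_eq_add_neg, sub_eq_zero] at e
    exact e.symm⟩)
  by_cases hkQ : Q k = 0
  swap
  · exact zero_case hkm hkQ l hkl
  obtain ⟨f, hf, hfQ, hkf⟩ :=
    OrthDecompOdd.exists_partner hQ (h.decomp.decomp.nondegenerate r) hkm hk0 hkQ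
  have hzk : z1 ∉ Submodule.span F {k} := fun hm => by
    obtain ⟨c, hc⟩ := Submodule.mem_span_singleton.mp hm
    exact hz1' (by rw [← hc, hQ.smul, hkQ, mul_zero])
  obtain ⟨a, b, hab⟩ := h.mem_pair hkm hk0 hz1 hzk hf
  have hb0 : b ≠ 0 := fun e => by
    rw [← hab, e, zero_smul, add_zero, hb.smul_right, B_self hQ, hkQ, mul_zero, mul_zero] at hkf
    exact zero_ne_one hkf
  have hfl : φ l f = b • s1 := by
    rw [← hab, map_add, map_smul, map_smul, hkl, smul_zero, zero_add]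
  exact omega_le_of_rank_one h (M.inv_mem hgM) hkm hf hkQ hfQ hkf hkl
    (by rw [← hφ, hfl]; exact smul_ne_zero hb0 hs10)
    (by rw [← hφ, hfl, hQ.smul, hl1, mul_zero])

omit h

theorem maximal {D : Fin t → Submodule F (ι → F)} (hQ : Cfsg.Geo.IsNondegenerateQuadraticForm Q)
    (hn : 13 ≤ Fintype.card ι) (hD : Cfsg.Geo.IsOrthogonalMDecomposition Q 2 D)
    (hgood : 7 ≤ Nat.card F ∨ ((∀ i, ∀ v ∈ D i, Q v = 0 → v = 0) ∧ Nat.card F ≠ 3)) :
    Cfsg.Geo.IsMaximalIn (Cfsg.Geo.omegaGL Q)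
      (Cfsg.Geo.decompositionStabilizer D ⊓ Cfsg.Geo.omegaGL Q) := by
  have hcard := card_eq hD.decomp.decomp
  have ht : 7 ≤ t := by omega
  refine isMaximalIn_of inf_le_right ?_ fun M hHM hMK g hgM hgH => ?_
  · obtain ⟨g, hg, hgs⟩ := exists_not_stab hQ (by omega) hD le_rfl (Or.inl (by omega))
    exact ⟨g, hg, fun hmem => hgs hmem.1⟩
  · refine omega_le ⟨⟨hQ, by omega, hD, hHM, hMK, fun i c hc => ?_⟩, ht, hgood⟩ hgM
      fun e => hgH ⟨e, hMK hgM⟩
    by_cases h2 : (2 : F) = 0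
    · obtain ⟨v, hv, hvQ⟩ := OrthNondegMax.exists_anisotropic_on hQ (hD.decomp.nondegenerate i)
        (block_ne_bot hD.decomp.decomp i)
      obtain ⟨r, hr⟩ := OrthDecompEven.exists_scale hQ h2 hvQ c
      exact ⟨_, (D i).smul_mem r hv, hr⟩
    · obtain ⟨z, hz, -, hzQ⟩ := OrthDecompOdd.represent hQ h2 (hD.decomp.nondegenerate i)
        (by rw [hD.decomp.decomp.finrank_eq i]) hc
      exact ⟨z, hz, hzQ⟩

end Cfsg.Agent.Lib.Subspaces.OrthPlaneMax
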