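import Cfsg.Agent.Lib.Subspaces.SympCenters

/-!
The isometries `x ↦ x + f(x,a) b + f(x,b) a` of a symplectic form and their commutator rules.
-/

set_option autoImplicit false

namespace Cfsg.Agent.Lib.Subspaces.SympEichler

open Matrix Cfsg.Agent.Lib.Subspaces.Transvection Cfsg.Agent.Lib.Subspaces.FormVec
  Cfsg.Agent.Lib.Subspaces.SympGen Cfsg.Agent.Lib.Subspaces.SympCenters

variable {ι : Type} [Fintype ι] [DecidableEq ι] {F : Type*} [Field F]
  {f : (ι → F) → (ι → F) → F}

/-- `x ↦ x + f(x,a) b + f(x,b) a`, for `f a b = 0`. -/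
noncomputable def eich (f : (ι → F) → (ι → F) → F) (a b : ι → F) : GL ι F :=
  tv (a + b) ((1 : F) • formVec f (a + b)) * tv a ((-1 : F) • formVec f a) *
    tv b ((-1 : F) • formVec f b)

theorem eich_mulVec (hf : Cfsg.Geo.IsSymplecticForm f) {a b : ι → F} (hab : f a b = 0)
    (x : ι → F) : (eich f a b : Matrix ι ι F) *ᵥ x = x + f x a • b + f x b • a := by
  rw [eich, gl_mul_mulVec, gl_mul_mulVec, stv_mulVec hf, stv_mulVec hf, stv_mulVec hf]
  simp only [hf.bilinear.add_left, hf.bilinear.add_right, hf.bilinear.smul_left, hab,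
    swap_eq_zero hf hab, hf.alternating]
  module

theorem eich_isometry (hf : Cfsg.Geo.IsSymplecticForm f) (a b : ι → F) (x y : ι → F) :
    f ((eich f a b : Matrix ι ι F) *ᵥ x) ((eich f a b : Matrix ι ι F) *ᵥ y) = f x y := by
  rw [eich, gl_mul_mulVec, gl_mul_mulVec, gl_mul_mulVec, gl_mul_mulVec, stv_isometry hf,
    stv_isometry hf, stv_isometry hf]

theorem conj_eich (hf : Cfsg.Geo.IsSymplecticForm f) {g : GL ι F}
    (hg : ∀ x y, f ((g : Matrix ι ι F) *ᵥ x) ((g : Matrix ι ι F) *ᵥ y) = f x y) (a b : ι → F) :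
    g * eich f a b * g⁻¹ =
      eich f ((g : Matrix ι ι F) *ᵥ a) ((g : Matrix ι ι F) *ᵥ b) := by
  rw [eich, eich, ← mulVec_add, ← conj_stv hf hg, ← conj_stv hf hg, ← conj_stv hf hg]
  group

theorem eich_swap_scalar (hf : Cfsg.Geo.IsSymplecticForm f) {a b : ι → F} (hab : f a b = 0)
    (t : F) : eich f (t • a) b = eich f a (t • b) := by
  refine gl_ext fun x => ?_
  rw [eich_mulVec hf (by rw [hf.bilinear.smul_left, hab, mul_zero]),
    eich_mulVec hf (by rw [hf.bilinear.smul_right, hab, mul_zero]), hf.bilinear.smul_right,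
    hf.bilinear.smul_right]
  module

theorem eich_symm (hf : Cfsg.Geo.IsSymplecticForm f) {a b : ι → F} (hab : f a b = 0) :
    eich f a b = eich f b a := by
  refine gl_ext fun x => ?_
  rw [eich_mulVec hf hab, eich_mulVec hf (swap_eq_zero hf hab), add_right_comm]

theorem eich_mul (hf : Cfsg.Geo.IsSymplecticForm f) {u₁ u₂ d : ι → F} (h1 : f u₁ d = 0)
    (h2 : f u₂ d = 0) :
    eich f u₁ d * eich f u₂ d =
      eich f (u₁ + u₂) d * tv d ((f u₂ u₁) • formVec f d) := by
  refine gl_ext fun x => ?_
  rw [gl_mul_mulVec, gl_mul_mulVec, eich_mulVec hf h2, eich_mulVec hf h1, stv_mulVec hf,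
    eich_mulVec hf (by rw [hf.bilinear.add_left, h1, h2, add_zero])]
  simp only [hf.bilinear.add_left, hf.bilinear.add_right, hf.bilinear.smul_left,
    swap_eq_zero hf h1, swap_eq_zero hf h2, h2, hf.alternating]
  module

/-- Two planes through the common point `a` give transvections with centre `a`. -/
theorem tv_of_common_point (hf : Cfsg.Geo.IsSymplecticForm f) {M : Subgroup (GL ι F)}
    {a b c : ι → F} (hab : f a b = 0) (hac : f a c = 0) (hb : eich f a b ∈ M)
    (hc : eich f a c ∈ M) : tv a ((2 * f c b) • formVec f a) ∈ M := by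
  have h1 : eich f a (c + f c b • a) ∈ M := by
    have hm := M.mul_mem (M.mul_mem hb hc) (M.inv_mem hb)
    rwa [conj_eich hf (eich_isometry hf a b), eich_mulVec hf hab, eich_mulVec hf hab,
      hf.alternating, hab, zero_smul, zero_smul, add_zero, add_zero, swap_eq_zero hf hac,
      zero_smul, add_zero] at hm
  have h2 : eich f a (c + f c b • a) = eich f a c * tv a ((2 * f c b) • formVec f a) := by
    refine gl_ext fun x => ?_
    rw [gl_mul_mulVec, stv_mulVec hf, eich_mulVec hf hac, eich_mulVec hf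
      (by rw [hf.bilinear.add_right, hac, hf.bilinear.smul_right, hf.alternating, mul_zero,
        add_zero])]
    simp only [hf.bilinear.add_left, hf.bilinear.add_right, hf.bilinear.smul_left,
      hf.bilinear.smul_right, hac, hf.alternating]
    module
  rw [h2] at h1
  simpa using M.mul_mem (M.inv_mem hc) h1

/-- The cross rule: planes `(a, b)` and `(c, d)` with a single non-zero product `f b c = 1` give the
plane `(a, d)`. -/
theorem eich_cross (hf : Cfsg.Geo.IsSymplecticForm f) {M : Subgroup (GL ι F)}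
    {a b c d : ι → F} (hab : f a b = 0) (hcd : f c d = 0) (hac : f a c = 0) (had : f a d = 0)
    (hbd : f b d = 0) (hbc : f b c = 1) (hb : eich f a b ∈ M) (hd : eich f c d ∈ M) :
    eich f (-a) d ∈ M := by
  have h1 : eich f (c + -a) d ∈ M := by
    have hm := M.mul_mem (M.mul_mem hb hd) (M.inv_mem hb)
    have hcb : f c b = -1 := by rw [hf.skew, hbc]
    rwa [conj_eich hf (eich_isometry hf a b), eich_mulVec hf hab, eich_mulVec hf hab,
      swap_eq_zero hf hac, swap_eq_zero hf had, swap_eq_zero hf hbd, hcb, zero_smul, zero_smul,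
      add_zero, add_zero, add_zero, neg_one_smul] at hm
  have had' : f (-a) d = 0 := by rw [← neg_one_smul F a, hf.bilinear.smul_left, had, mul_zero]
  have hac' : f (-a) c = 0 := by rw [← neg_one_smul F a, hf.bilinear.smul_left, hac, mul_zero]
  have h2 := eich_mul hf hcd had'
  rw [hac', zero_smul, tv_zero_right, mul_one] at h2
  rw [← h2] at h1
  simpa using M.mul_mem (M.inv_mem hd) h1

end Cfsg.Agent.Lib.Subspaces.SympEichler
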