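import Cfsg.Agent.Lib.Subspaces.SympCenters

/-!
Subspaces of a symplectic space given by a function form: orthogonals and spreading of centres.
-/

set_option autoImplicit false

namespace Cfsg.Agent.Lib.Subspaces.SympSub

open Matrix Cfsg.Agent.Lib.Subspaces.Transvection Cfsg.Agent.Lib.Subspaces.FormVec
  Cfsg.Agent.Lib.Subspaces.SympGen Cfsg.Agent.Lib.Subspaces.SympCenters

variable {ι : Type} [Fintype ι] [DecidableEq ι] {F : Type*} [Field F]
  {f : (ι → F) → (ι → F) → F}

/-- The orthogonal of a subspace: all `x` with `f x w = 0` on `W`. -/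
def orthTo (hf : Cfsg.Geo.IsSymplecticForm f) (W : Submodule F (ι → F)) : Submodule F (ι → F) where
  carrier := {x | ∀ w ∈ W, f x w = 0}
  add_mem' := fun {a b} ha hb w hw => by rw [hf.bilinear.add_left, ha w hw, hb w hw, add_zero]
  zero_mem' := fun w _ => form_zero_left (isLinearLeft_of_bilinear hf.bilinear) w
  smul_mem' := fun c a ha w hw => by rw [hf.bilinear.smul_left, ha w hw, mul_zero]

theorem mem_orthTo {hf : Cfsg.Geo.IsSymplecticForm f} {W : Submodule F (ι → F)} {x : ι → F} :
    x ∈ orthTo hf W ↔ ∀ w ∈ W, f x w = 0 := Iff.rfl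

theorem dual_left [Finite F] (hf : Cfsg.Geo.IsSymplecticForm f) {W : Submodule F (ι → F)}
    {z : ι → F} (hz : z ∉ W) : ∃ t, (∀ w ∈ W, f t w = 0) ∧ f t z = 1 := by
  have hl := isLinearLeft_of_bilinear hf.bilinear
  obtain ⟨φ, hφ, hφz⟩ := exists_functional hz
  obtain ⟨t, rfl⟩ := formVec_surjective hl hf.bilinear.add_right hf.nondegenerate φ
  refine ⟨-t, fun w hw => ?_, ?_⟩
  · have := hφ w hw
    rw [formVec_dot hl] at this
    rw [hf.skew, ← neg_one_smul F t, hf.bilinear.smul_right, this, mul_zero, neg_zero]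
  · rw [formVec_dot hl] at hφz
    rw [hf.skew, ← neg_one_smul F t, hf.bilinear.smul_right, hφz, mul_one, neg_neg]

theorem mem_of_orth_orthTo [Finite F] (hf : Cfsg.Geo.IsSymplecticForm f)
    {W : Submodule F (ι → F)} {z : ι → F} (h : ∀ t ∈ orthTo hf W, f t z = 0) : z ∈ W := by
  by_contra hz
  obtain ⟨t, ht, htz⟩ := dual_left hf hz
  exact one_ne_zero (htz.symm.trans (h t ht))

theorem finrank_orthTo_ge (hf : Cfsg.Geo.IsSymplecticForm f) (W : Submodule F (ι → F)) :
    Fintype.card ι ≤ Module.finrank F W + Module.finrank F (orthTo hf W) := by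
  obtain ⟨b⟩ : Nonempty (Module.Basis (Fin (Module.finrank F W)) F W) :=
    ⟨Module.finBasis F W⟩
  by_contra hlt
  obtain ⟨z, hz, hzb⟩ := exists_common_zero_not_mem (orthTo hf W)
    (fun i => formVec f (b i : ι → F)) (by omega)
  apply hz
  intro w hw
  have hl := isLinearLeft_of_bilinear hf.bilinear
  have key : ∀ y : W, f z (y : ι → F) = 0 := by
    intro y
    rw [← b.sum_repr y]
    simp only [Submodule.coe_sum, Submodule.coe_smul]
    let L : (ι → F) →ₗ[F] F :=
      { toFun := fun u => f z u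
        map_add' := hf.bilinear.add_right z
        map_smul' := fun c u => by simpa using hf.bilinear.smul_right c z u }
    show L _ = 0
    rw [map_sum]
    refine Finset.sum_eq_zero fun i _ => ?_
    rw [map_smul]
    show _ • f z (b i : ι → F) = 0
    have := hzb i
    rw [formVec_dot hl] at this
    rw [this, smul_zero]
  exact key ⟨w, hw⟩

/-- For a non-degenerate subspace, every vector splits. -/
theorem exists_split (hf : Cfsg.Geo.IsSymplecticForm f) {W : Submodule F (ι → F)}
    (hW : Cfsg.Geo.IsNondegenerateOn f W) (x : ι → F) :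
    ∃ w ∈ W, x - w ∈ orthTo hf W := by
  have hbot : W ⊓ orthTo hf W = ⊥ := by
    rw [eq_bot_iff]
    rintro y ⟨hy, hy'⟩
    rw [Submodule.mem_bot]
    by_contra hy0
    obtain ⟨-, z, hz, hyz⟩ := hW y hy hy0
    exact hyz (hy' z hz)
  have htop : W ⊔ orthTo hf W = ⊤ := by
    apply Submodule.eq_top_of_finrank_eq
    have h1 := Submodule.finrank_sup_add_finrank_inf_eq W (orthTo hf W)
    rw [hbot, finrank_bot, add_zero] at h1
    refine le_antisymm (Submodule.finrank_le _) ?_
    rw [h1, Module.finrank_fintype_fun_eq_card]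
    exact finrank_orthTo_ge hf W
  obtain ⟨w, hw, r, hr, rfl⟩ := Submodule.mem_sup.mp (htop ▸ Submodule.mem_top (x := x))
  exact ⟨w, hw, by rwa [add_sub_cancel_left]⟩

theorem exists_nonorth_both_in {U : Submodule F (ι → F)} (hf : Cfsg.Geo.IsSymplecticForm f)
    (hU : Cfsg.Geo.IsNondegenerateOn f U) {v w : ι → F} (hv : v ∈ U) (hv0 : v ≠ 0)
    (hw : w ∈ U) (hw0 : w ≠ 0) : ∃ z ∈ U, f z v ≠ 0 ∧ f z w ≠ 0 := by
  obtain ⟨⟨x, hx, hxv⟩, -⟩ := hU v hv hv0
  obtain ⟨⟨y, hy, hyw⟩, -⟩ := hU w hw hw0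
  by_cases h1 : f x w ≠ 0
  · exact ⟨x, hx, hxv, h1⟩
  by_cases h2 : f y v ≠ 0
  · exact ⟨y, hy, h2, hyw⟩
  push Not at h1 h2
  exact ⟨x + y, U.add_mem hx hy, by rw [hf.bilinear.add_left, h2, add_zero]; exact hxv,
    by rw [hf.bilinear.add_left, h1, zero_add]; exact hyw⟩

/-- A centre with a non-zero component in a non-degenerate space of centres: that component can be
replaced by any non-zero vector of the space. -/
theorem sympCenter_change (hf : Cfsg.Geo.IsSymplecticForm f) {M : Subgroup (GL ι F)}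
    {U : Submodule F (ι → F)} (hU : Cfsg.Geo.IsNondegenerateOn f U)
    (hSC : ∀ u ∈ U, SympCenter f M u) {u r : ι → F} (hu : u ∈ U) (hu0 : u ≠ 0)
    (hr : r ∈ orthTo hf U) (h : SympCenter f M (u + r)) {w : ι → F} (hw : w ∈ U) (hw0 : w ≠ 0) :
    SympCenter f M (w + r) := by
  have step : ∀ a ∈ U, ∀ b ∈ U, f a b ≠ 0 → SympCenter f M (a + r) → SympCenter f M (b + r) := by
    intro a ha b hb hab hC
    have hfne : f (a + r) (b - a) ≠ 0 := by
      rw [hf.bilinear.add_left, mem_orthTo.mp hr _ (U.sub_mem hb ha), add_zero]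
      have : f a (b - a) = f a b := by
        have h1 := hf.bilinear.add_right a (b - a) a
        rw [sub_add_cancel, hf.alternating, add_zero] at h1
        exact h1.symm
      rwa [this]
    have := sympCenter_add_smul hf (hSC _ (U.sub_mem hb ha)) hC hfne 1
    rwa [one_smul, show a + r + (b - a) = b + r by abel] at this
  obtain ⟨z, hz, hzu, hzw⟩ := exists_nonorth_both_in hf hU hu hu0 hw hw0
  exact step z hz w hw hzw (step u hu z hz (fun e => hzu (swap_eq_zero hf e)) h)

/-- A transvection centred in `W` or in its orthogonal fixes `W`. -/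
theorem stv_mem_stabilizer (hf : Cfsg.Geo.IsSymplecticForm f) {W : Submodule F (ι → F)}
    {v : ι → F} (hv : v ∈ W ∨ v ∈ orthTo hf W) (a : F) :
    tv v (a • formVec f v) ∈ Cfsg.Geo.subspaceStabilizer W := by
  rw [mem_subspaceStabilizer_iff]
  intro w hw
  rw [stv_mulVec hf]
  rcases hv with h | h
  · exact W.add_mem hw (W.smul_mem _ h)
  · rw [swap_eq_zero hf (h w hw), mul_zero, zero_smul, add_zero]; exact hw

end Cfsg.Agent.Lib.Subspaces.SympSub
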