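import Cfsg.Agent.Lib.Subspaces.SympEichler

/-!
The elements `x ↦ x + f(x,a) w + (f(x,w) + l f(x,a)) a` of a symplectic group in characteristic two
(the unipotent radical of the stabiliser of `a`), and the points `a` at which a subgroup contains
exactly one of them for each `w ⊥ a`.
-/

set_option autoImplicit false

namespace Cfsg.Agent.Lib.Subspaces.SympTA

open Matrix Cfsg.Agent.Lib.Subspaces.Transvection Cfsg.Agent.Lib.Subspaces.FormVec
  Cfsg.Agent.Lib.Subspaces.SympGen Cfsg.Agent.Lib.Subspaces.SympCenters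
  Cfsg.Agent.Lib.Subspaces.SympEichler

variable {ι : Type} [Fintype ι] [DecidableEq ι] {F : Type*} [Field F]

/-- `x ↦ x + f(x,a) w + (f(x,w) + l f(x,a)) a`, for `f a w = 0`. -/
noncomputable def tA (f : (ι → F) → (ι → F) → F) (a w : ι → F) (l : F) : GL ι F :=
  eich f a w * tv a (l • formVec f a)

/-- The setting: a symplectic form in characteristic two and a group `L` of isometries. -/
structure Ctx (f : (ι → F) → (ι → F) → F) (L : Subgroup (GL ι F)) : Prop where
  form : Cfsg.Geo.IsSymplecticForm f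
  two : (2 : F) = 0
  iso : ∀ g ∈ L, ∀ x y, f ((g : Matrix ι ι F) *ᵥ x) ((g : Matrix ι ι F) *ᵥ y) = f x y

/-- For every `w ⊥ c` exactly one `tA f c w l` lies in `L`. -/
def Good (f : (ι → F) → (ι → F) → F) (L : Subgroup (GL ι F)) (c : ι → F) : Prop :=
  c ≠ 0 ∧ (∀ w, f c w = 0 → ∃ l, tA f c w l ∈ L) ∧ ∀ l, tA f c 0 l ∈ L → l = 0

/-- The scalar `l` with `tA f c w l ∈ L`. -/
noncomputable def phi (f : (ι → F) → (ι → F) → F) (L : Subgroup (GL ι F)) (c w : ι → F) : F :=
  Classical.epsilon fun l => tA f c w l ∈ L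

/-- The component orthogonal to `a` and `b`, when `f a b = 1`. -/
def proj (f : (ι → F) → (ι → F) → F) (a b x : ι → F) : ι → F := x + f x b • a + f x a • b

variable {f : (ι → F) → (ι → F) → F} {L : Subgroup (GL ι F)} (h : Ctx f L)
include h

theorem Ctx.add_self (x : F) : x + x = 0 := by linear_combination x * h.two

theorem Ctx.eq_of_add {x y : F} (e : x + y = 0) : x = y := by linear_combination e - y * h.two

theorem Ctx.vec_add_self (x : ι → F) : x + x = 0 := funext fun i => h.add_self (x i)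

theorem Ctx.comm (x y : ι → F) : f x y = f y x := by
  rw [h.form.skew]; linear_combination (-(f y x)) * h.two

theorem Ctx.self (x : ι → F) : f x x = 0 := h.form.alternating x

theorem Ctx.zero_r (x : ι → F) : f x 0 = 0 := SympGen.zero_right h.form x

theorem Ctx.zero_l (x : ι → F) : f 0 x = 0 :=
  form_zero_left (isLinearLeft_of_bilinear h.form.bilinear) x

/-! ### The elements `tA` -/

theorem tA_mulVec {a w : ι → F} (hw : f a w = 0) (l : F) (x : ι → F) :
    (tA f a w l : Matrix ι ι F) *ᵥ x = x + f x a • w + (f x w + l * f x a) • a := by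
  rw [tA, gl_mul_mulVec, stv_mulVec h.form, eich_mulVec h.form hw]
  simp only [h.form.bilinear.add_left, h.form.bilinear.smul_left, h.self, hw]
  module

theorem tA_isometry (a w : ι → F) (l : F) (x y : ι → F) :
    f ((tA f a w l : Matrix ι ι F) *ᵥ x) ((tA f a w l : Matrix ι ι F) *ᵥ y) = f x y := by
  rw [tA, gl_mul_mulVec, gl_mul_mulVec, eich_isometry h.form, stv_isometry h.form]

theorem tA_mul {a w w' : ι → F} (hw : f a w = 0) (hw' : f a w' = 0) (l l' : F) :
    tA f a w l * tA f a w' l' = tA f a (w + w') (l + l' + f w' w) := by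
  refine gl_ext fun x => ?_
  rw [gl_mul_mulVec, tA_mulVec h hw', tA_mulVec h hw, tA_mulVec h
    (by rw [h.form.bilinear.add_right, hw, hw', add_zero])]
  simp only [h.form.bilinear.add_left, h.form.bilinear.smul_left, h.form.bilinear.add_right,
    h.self, hw, h.comm w' a, hw']
  module

theorem tA_zero_zero (a : ι → F) : tA f a 0 0 = 1 :=
  gl_ext fun x => by
    rw [tA_mulVec h (h.zero_r a), h.zero_r, Units.val_one, one_mulVec]
    simp

theorem tA_zero_left (w : ι → F) (l : F) : tA f 0 w l = 1 :=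
  gl_ext fun x => by
    rw [tA_mulVec h (h.zero_l w), h.zero_r, Units.val_one, one_mulVec]
    simp

theorem tA_shift {a w : ι → F} (hw : f a w = 0) (t l : F) :
    tA f a (w + t • a) l = tA f a w l := by
  refine gl_ext fun x => ?_
  rw [tA_mulVec h (by rw [h.form.bilinear.add_right, h.form.bilinear.smul_right, h.self, hw,
    mul_zero, add_zero]), tA_mulVec h hw]
  ext i
  simp only [h.form.bilinear.add_right, h.form.bilinear.smul_right, Pi.add_apply, Pi.smul_apply,
    smul_eq_mul]
  linear_combination (f x a * t * a i) * h.two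

theorem tA_smul {a w : ι → F} (hw : f a w = 0) (r l : F) :
    tA f (r • a) w l = tA f a (r • w) (r * r * l) := by
  refine gl_ext fun x => ?_
  rw [tA_mulVec h (by rw [h.form.bilinear.smul_left, hw, mul_zero]), tA_mulVec h
    (by rw [h.form.bilinear.smul_right, hw, mul_zero]), h.form.bilinear.smul_right,
    h.form.bilinear.smul_right]
  module

theorem tA_conj {g : GL ι F}
    (hg : ∀ x y, f ((g : Matrix ι ι F) *ᵥ x) ((g : Matrix ι ι F) *ᵥ y) = f x y) {a w : ι → F}
    (hw : f a w = 0) (l : F) :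
    g * tA f a w l * g⁻¹ =
      tA f ((g : Matrix ι ι F) *ᵥ a) ((g : Matrix ι ι F) *ᵥ w) l := by
  refine gl_ext fun x => ?_
  rw [gl_mul_mulVec, gl_mul_mulVec, tA_mulVec h hw, tA_mulVec h (by rw [hg, hw]), mulVec_add,
    mulVec_add, mulVec_smul, mulVec_smul, gl_mulVec_inv, isometry_inv hg x a,
    isometry_inv hg x w]

theorem tA_sq {a w : ι → F} (hw : f a w = 0) (l : F) : tA f a w l * tA f a w l = 1 := by
  rw [tA_mul h hw hw, h.vec_add_self, h.self, h.add_self, add_zero, tA_zero_zero h]

theorem tA_inv {a w : ι → F} (hw : f a w = 0) (l : F) : (tA f a w l)⁻¹ = tA f a w l :=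
  inv_eq_of_mul_eq_one_right (tA_sq h hw l)

theorem tA_zero_eq_tv (a : ι → F) (l : F) : tA f a 0 l = tv a (l • formVec f a) := by
  refine gl_ext fun x => ?_
  rw [tA_mulVec h (h.zero_r a), stv_mulVec h.form, h.zero_r]
  simp

theorem tA_zero_mulVec (a x : ι → F) (l : F) :
    (tA f a 0 l : Matrix ι ι F) *ᵥ x = x + (l * f x a) • a := by
  rw [tA_mulVec h (h.zero_r a), h.zero_r]
  simp

theorem tA_zero_fix {a x : ι → F} (hx : f x a = 0) (l : F) :
    (tA f a 0 l : Matrix ι ι F) *ᵥ x = x := by
  rw [tA_zero_mulVec h, hx, mul_zero, zero_smul, add_zero]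

theorem tA_sum_mem {a w : ι → F} (hw : f a w = 0) {l l' : F} (h1 : tA f a w l ∈ L)
    (h2 : tA f a w l' ∈ L) : tA f a 0 (l + l') ∈ L := by
  have e := L.mul_mem h1 h2
  rwa [tA_mul h hw hw, h.vec_add_self, h.self, add_zero] at e

theorem tA_conj_mem {a w : ι → F} (hw : f a w = 0) {l : F} (hl : tA f a w l ∈ L) {g : GL ι F}
    (hg : g ∈ L) : tA f ((g : Matrix ι ι F) *ᵥ a) ((g : Matrix ι ι F) *ᵥ w) l ∈ L := by
  rw [← tA_conj h (h.iso g hg) hw]
  exact L.mul_mem (L.mul_mem hg hl) (L.inv_mem hg)

/-! ### Good points and their scalars -/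

theorem phi_spec {c w : ι → F} (hc : Good f L c) (hw : f c w = 0) :
    tA f c w (phi f L c w) ∈ L :=
  Classical.epsilon_spec (hc.2.1 w hw)

theorem phi_eq {c w : ι → F} (hc : Good f L c) (hw : f c w = 0) {l : F}
    (hl : tA f c w l ∈ L) : phi f L c w = l :=
  h.eq_of_add (hc.2.2 _ (tA_sum_mem h hw (phi_spec h hc hw) hl))

theorem phi_add {c w w' : ι → F} (hc : Good f L c) (hw : f c w = 0) (hw' : f c w' = 0) :
    phi f L c (w + w') = phi f L c w + phi f L c w' + f w w' := by
  refine phi_eq h hc (by rw [h.form.bilinear.add_right, hw, hw', add_zero]) ?_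
  rw [h.comm w w', ← tA_mul h hw hw']
  exact L.mul_mem (phi_spec h hc hw) (phi_spec h hc hw')

theorem phi_zero {c : ι → F} (hc : Good f L c) : phi f L c 0 = 0 :=
  phi_eq h hc (h.zero_r c) (by rw [tA_zero_zero h]; exact L.one_mem)

theorem phi_shift {c w : ι → F} (hc : Good f L c) (hw : f c w = 0) (t : F) :
    phi f L c (w + t • c) = phi f L c w := by
  refine phi_eq h hc
    (by rw [h.form.bilinear.add_right, h.form.bilinear.smul_right, h.self, hw, mul_zero, add_zero])
    ?_
  rw [tA_shift h hw]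
  exact phi_spec h hc hw

theorem phi_shift' {c w : ι → F} (hc : Good f L c) (hw : f c w = 0) (t : F) :
    phi f L c (t • c + w) = phi f L c w := by
  rw [add_comm, phi_shift h hc hw]

theorem good_map {c : ι → F} (hc : Good f L c) {g : GL ι F} (hg : g ∈ L) :
    Good f L ((g : Matrix ι ι F) *ᵥ c) := by
  have hi := h.iso g hg
  refine ⟨fun e => hc.1 (gl_mulVec_injective g (e.trans (mulVec_zero _).symm)),
    fun w hw => ?_, fun l hl => ?_⟩
  · have hw' : f c (((g⁻¹ : GL ι F) : Matrix ι ι F) *ᵥ w) = 0 := by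
      rw [← hi c, gl_mulVec_inv, hw]
    obtain ⟨l, hl⟩ := hc.2.1 _ hw'
    refine ⟨l, ?_⟩
    have := tA_conj_mem h hw' hl hg
    rwa [gl_mulVec_inv] at this
  · refine hc.2.2 l ?_
    have := tA_conj_mem h (h.zero_r _) hl (L.inv_mem hg)
    rwa [gl_inv_mulVec, mulVec_zero] at this

theorem phi_map {c w : ι → F} (hc : Good f L c) (hw : f c w = 0) {g : GL ι F} (hg : g ∈ L) :
    phi f L ((g : Matrix ι ι F) *ᵥ c) ((g : Matrix ι ι F) *ᵥ w) = phi f L c w :=
  phi_eq h (good_map h hc hg) (by rw [h.iso g hg, hw]) (tA_conj_mem h hw (phi_spec h hc hw) hg)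

theorem phi_stab {c w : ι → F} (hc : Good f L c) (hw : f c w = 0) {g : GL ι F} (hg : g ∈ L)
    (hgc : (g : Matrix ι ι F) *ᵥ c = c) :
    phi f L c ((g : Matrix ι ι F) *ᵥ w) = phi f L c w := by
  have := phi_map h hc hw hg
  rwa [hgc] at this

theorem good_smul {c : ι → F} (hc : Good f L c) {r : F} (hr : r ≠ 0) : Good f L (r • c) := by
  refine ⟨smul_ne_zero hr hc.1, fun w hw => ?_, fun l hl => ?_⟩
  · have hw' : f c w = 0 := by
      rw [h.form.bilinear.smul_left] at hw
      exact (mul_eq_zero.mp hw).resolve_left hr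
    obtain ⟨l, hl⟩ := hc.2.1 (r • w) (by rw [h.form.bilinear.smul_right, hw', mul_zero])
    refine ⟨l / (r * r), ?_⟩
    rwa [tA_smul h hw', mul_div_cancel₀ _ (mul_ne_zero hr hr)]
  · rw [tA_smul h (h.zero_r c), smul_zero] at hl
    exact (mul_eq_zero.mp (hc.2.2 _ hl)).resolve_left (mul_ne_zero hr hr)

theorem good_tA {c d w : ι → F} (hc : Good f L c) (hd : Good f L d) (hw : f c w = 0) :
    Good f L (d + f d c • w + (f d w + phi f L c w * f d c) • c) := by
  rw [← tA_mulVec h hw]
  exact good_map h hd (phi_spec h hc hw)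

/-! ### The complement of a hyperbolic pair -/

theorem exists_pair_one {a : ι → F} (ha : a ≠ 0) : ∃ b, f a b = 1 := by
  obtain ⟨-, y, hy⟩ := h.form.nondegenerate a ha
  exact ⟨(f a y)⁻¹ • y, by rw [h.form.bilinear.smul_right, inv_mul_cancel₀ hy]⟩

variable {a b : ι → F} (hab : f a b = 1)
include hab

theorem proj_perp_a (x : ι → F) : f a (proj f a b x) = 0 := by
  simp only [proj, h.form.bilinear.add_right, h.form.bilinear.smul_right, h.self, hab,
    h.comm a x, mul_zero, add_zero, mul_one]
  exact h.add_self _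

theorem proj_perp_b (x : ι → F) : f b (proj f a b x) = 0 := by
  simp only [proj, h.form.bilinear.add_right, h.form.bilinear.smul_right, h.self, h.comm b a, hab,
    h.comm b x, mul_zero, add_zero, mul_one]
  exact h.add_self _

omit hab in
theorem proj_dot {w : ι → F} (hwa : f a w = 0) (hwb : f b w = 0) (x : ι → F) :
    f (proj f a b x) w = f x w := by
  simp only [proj, h.form.bilinear.add_left, h.form.bilinear.smul_left, hwa, hwb, mul_zero,
    add_zero]

omit hab in
theorem proj_self {w : ι → F} (hwa : f a w = 0) (hwb : f b w = 0) : proj f a b w = w := by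
  simp [proj, h.comm w a, h.comm w b, hwa, hwb]

omit hab in
theorem eq_proj_add (x : ι → F) : x = f x b • a + f x a • b + proj f a b x := by
  rw [proj]
  ext i
  simp only [Pi.add_apply, Pi.smul_apply, smul_eq_mul]
  linear_combination (-(f x b * a i) - f x a * b i) * h.two

/-- A vector of the complement with prescribed products with two independent vectors. -/
theorem exists_perp_val {c d : ι → F} (hc : c ≠ 0) (hd : ∀ t : F, d ≠ t • c)
    (hca : f a c = 0) (hcb : f b c = 0) (hda : f a d = 0) (hdb : f b d = 0) (β : F) :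
    ∃ z, f a z = 0 ∧ f b z = 0 ∧ f z c = 0 ∧ f z d = β := by
  obtain ⟨x, hx1, hx2⟩ := (toBilin_isSymp h.form).exists_perp_ne_zero hc hd
  change f c x = 0 at hx1
  change f d x ≠ 0 at hx2
  refine ⟨(β / f d x) • proj f a b x, ?_, ?_, ?_, ?_⟩
  · rw [h.form.bilinear.smul_right, proj_perp_a h hab, mul_zero]
  · rw [h.form.bilinear.smul_right, proj_perp_b h hab, mul_zero]
  · rw [h.form.bilinear.smul_left, proj_dot h hca hcb, h.comm x c, hx1, mul_zero]
  · rw [h.form.bilinear.smul_left, proj_dot h hda hdb, h.comm x, div_mul_cancel₀ _ hx2]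

theorem exists_perp_one {c : ι → F} (hc : c ≠ 0) (hca : f a c = 0) (hcb : f b c = 0) (β : F) :
    ∃ z, f a z = 0 ∧ f b z = 0 ∧ f z c = β := by
  obtain ⟨x, hx⟩ := exists_pair_one h hc
  refine ⟨β • proj f a b x, ?_, ?_, ?_⟩
  · rw [h.form.bilinear.smul_right, proj_perp_a h hab, mul_zero]
  · rw [h.form.bilinear.smul_right, proj_perp_b h hab, mul_zero]
  · rw [h.form.bilinear.smul_left, proj_dot h hca hcb, h.comm x c, hx, mul_one]

theorem exists_perp_ne (hn : 3 ≤ Fintype.card ι) : ∃ w, w ≠ 0 ∧ f a w = 0 ∧ f b w = 0 := by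
  classical
  obtain ⟨z, hz, -⟩ := exists_common_zero_not_mem
    (Submodule.span F (Set.range ![a, b])) (Fin.elim0 : Fin 0 → ι → F)
    (by have h1 := finrank_range_le_card (R := F) ![a, b]
        rw [Fintype.card_fin] at h1
        unfold Set.finrank at h1
        omega)
  refine ⟨proj f a b z, fun e => hz ?_, proj_perp_a h hab z, proj_perp_b h hab z⟩
  rw [eq_proj_add h (a := a) (b := b) z, e, add_zero]
  exact Submodule.add_mem _
    (Submodule.smul_mem _ _ (Submodule.subset_span ⟨0, rfl⟩))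
    (Submodule.smul_mem _ _ (Submodule.subset_span ⟨1, rfl⟩))

/-- A function with the addition rule of `phi` takes every value on the complement. -/
theorem exists_level [Finite F] (hn : 3 ≤ Fintype.card ι) {φ : (ι → F) → F}
    (hadd : ∀ w w', f a w = 0 → f a w' = 0 → φ (w + w') = φ w + φ w' + f w w') (μ : F) :
    ∃ w, f a w = 0 ∧ f b w = 0 ∧ φ w = μ := by
  classical
  have := Fintype.ofFinite F
  obtain ⟨x, hx0, hxa, hxb⟩ := exists_perp_ne h hab hn
  obtain ⟨u, hua, hub, hux⟩ := exists_perp_one h hab hx0 hxa hxb 1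
  have hmul : ∀ (s : F) {z : ι → F}, f a z = 0 → f a (s • z) = 0 := fun s z hz => by
    rw [h.form.bilinear.smul_right, hz, mul_zero]
  obtain ⟨β, hβ⟩ : ∃ β : F, ∀ s : F, s ≠ 0 → φ (s • x) / s ≠ β := by
    obtain ⟨β, -, hβ⟩ := Finset.exists_mem_notMem_of_card_lt_card
      (s := (Finset.univ.filter fun s : F => s ≠ 0).image fun s => φ (s • x) / s)
      (t := Finset.univ) (Finset.card_image_le.trans_lt (Finset.card_lt_card
        (Finset.filter_ssubset.mpr ⟨0, Finset.mem_univ _, by simp⟩)))
    refine ⟨β, fun s hs e => hβ (Finset.mem_image.mpr ⟨s, ?_, e⟩)⟩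
    simp [hs]
  let T : F → F := fun s => φ (s • x) + β * s
  have hT : ∀ s s', T (s + s') = T s + T s' := fun s s' => by
    show φ _ + _ = _
    rw [add_smul, hadd _ _ (hmul _ hxa) (hmul _ hxa), h.form.bilinear.smul_left,
      h.form.bilinear.smul_right, h.self]
    ring
  have hinj : Function.Injective T := fun s s' e => by
    by_contra hne
    refine hβ (s + s') (fun z => hne (h.eq_of_add z)) ?_
    have h0 : φ ((s + s') • x) + β * (s + s') = 0 := (hT s s').trans (by rw [e, h.add_self])
    rw [div_eq_iff fun z => hne (h.eq_of_add z)]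
    exact h.eq_of_add h0
  obtain ⟨s, hs⟩ := (Finite.injective_iff_surjective.mp hinj) (μ + φ (β • u))
  refine ⟨s • x + β • u, ?_, ?_, ?_⟩
  · rw [h.form.bilinear.add_right, hmul s hxa, hmul β hua, add_zero]
  · rw [h.form.bilinear.add_right, h.form.bilinear.smul_right, h.form.bilinear.smul_right, hxb,
      hub, mul_zero, mul_zero, add_zero]
  · rw [hadd _ _ (hmul s hxa) (hmul β hua), h.form.bilinear.smul_left,
      h.form.bilinear.smul_right, h.comm x u, hux]
    have hs' : φ (s • x) + β * s = μ + φ (β • u) := hs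
    linear_combination hs' + φ (β • u) * h.two

/-- An isometry fixing `a` and trivial on `a^⊥ / a` is a `tA`. -/
theorem eq_tA_of_unipotent {g : GL ι F}
    (hg : ∀ x y, f ((g : Matrix ι ι F) *ᵥ x) ((g : Matrix ι ι F) *ᵥ y) = f x y)
    (hga : (g : Matrix ι ι F) *ᵥ a = a)
    (hgw : ∀ v, f a v = 0 → ∃ t : F, (g : Matrix ι ι F) *ᵥ v = v + t • a) :
    g = tA f a (proj f a b ((g : Matrix ι ι F) *ᵥ b)) (f ((g : Matrix ι ι F) *ᵥ b) b) := by
  set b' := (g : Matrix ι ι F) *ᵥ b with hb'
  set w0 := proj f a b b' with hw0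
  have hb'a : f b' a = 1 := by rw [hb', ← hga, hg, h.comm, hab]
  have hw0a : f a w0 = 0 := proj_perp_a h hab b'
  have hw0b : f b w0 = 0 := proj_perp_b h hab b'
  have hb'e : b' = f b' b • a + b + w0 := by
    have := eq_proj_add h (a := a) (b := b) b'
    rwa [hb'a, one_smul] at this
  refine gl_ext fun x => ?_
  have hxa := proj_perp_a h hab x
  have hxb := proj_perp_b h hab x
  set w := proj f a b x with hw
  obtain ⟨t, ht⟩ := hgw w hxa
  have hμ : t = f w w0 := by
    have e := hg w b
    rw [ht, ← hb', h.comm w b, hxb, hb'e] at e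
    simp only [h.form.bilinear.add_left, h.form.bilinear.add_right, h.form.bilinear.smul_left,
      h.form.bilinear.smul_right, h.self, h.comm w a, hxa, h.comm w b, hxb, hab, hw0a] at e
    exact h.eq_of_add (by linear_combination e)
  have hxw : f x w0 = f w w0 := by
    rw [hw, proj_dot h hw0a hw0b]
  have hx := eq_proj_add h (a := a) (b := b) x
  rw [← hw] at hx
  rw [tA_mulVec h hw0a, hxw]
  conv_lhs => rw [hx, mulVec_add, mulVec_add, mulVec_smul, mulVec_smul, hga, ← hb', ht, hμ]
  conv_rhs => arg 1; arg 1; rw [hx]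
  conv_lhs => arg 1; arg 2; rw [hb'e]
  module

/-- In dimension four a vector orthogonal to two orthogonal hyperbolic pairs is zero. -/
theorem eq_zero_of_four (hcard : Fintype.card ι = 4) {u z : ι → F} (hua : f a u = 0)
    (hub : f b u = 0) (hza : f a z = 0) (hzb : f b z = 0) (hzu : f z u = 1) {x : ι → F}
    (h1 : f x a = 0) (h2 : f x b = 0) (h3 : f x u = 0) (h4 : f x z = 0) : x = 0 := by
  have hd := isLinearLeft_of_bilinear h.form.bilinear
  have hba : f b a = 1 := by rw [h.comm, hab]
  have huz : f u z = 1 := by rw [h.comm, hzu]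
  let T : (ι → F) →ₗ[F] (Fin 4 → F) :=
    { toFun := fun y => ![f y a, f y b, f y u, f y z]
      map_add' := fun y y' => by ext i; fin_cases i <;> simp [hd.add_left]
      map_smul' := fun t y => by ext i; fin_cases i <;> simp [hd.smul_left] }
  have hsurj : Function.Surjective T := fun v => by
    refine ⟨v 0 • b + v 1 • a + v 2 • z + v 3 • u, ?_⟩
    ext i
    fin_cases i <;>
      simp [T, hd.add_left, hd.smul_left, h.self, hab, hba, hzu, huz, h.comm z a, h.comm z b, hza,
        hzb, h.comm u a, h.comm u b, hua, hub]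
  have hTinj : Function.Injective T :=
    (LinearMap.injective_iff_surjective_of_finrank_eq_finrank (by
      rw [Module.finrank_fintype_fun_eq_card, Module.finrank_fin_fun, hcard])).mpr hsurj
  refine hTinj ?_
  rw [map_zero]
  ext i
  fin_cases i <;> simp [T, h1, h2, h3, h4]

end Cfsg.Agent.Lib.Subspaces.SympTA
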