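import Cfsg.Agent.Lib.Subspaces.SympTA

/-!
A group of isometries containing one `tA f a w (φ w)` for each `w ⊥ a` together with a transvection
centred at `a`, and moving `a` off its perpendicular, contains every transvection.
-/

set_option autoImplicit false

namespace Cfsg.Agent.Lib.Subspaces.SympTAFull

open Matrix Cfsg.Agent.Lib.Subspaces.Transvection Cfsg.Agent.Lib.Subspaces.FormVec
  Cfsg.Agent.Lib.Subspaces.SympGen Cfsg.Agent.Lib.Subspaces.SympCenters
  Cfsg.Agent.Lib.Subspaces.SympTA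

variable {ι : Type} [Fintype ι] [DecidableEq ι] {F : Type*} [Field F] [Fintype F]
  {f : (ι → F) → (ι → F) → F} {L : Subgroup (GL ι F)} (h : Ctx f L)

/-- The transvection `x ↦ x + f(x,c) c` lies in `L`. -/
def InC (f : (ι → F) → (ι → F) → F) (L : Subgroup (GL ι F)) (c : ι → F) : Prop :=
  tA f c 0 1 ∈ L

include h

theorem exists_sqrt (x : F) : ∃ r, r * r = x := by
  have : CharP F 2 := CharTwo.of_one_ne_zero_of_two_eq_zero one_ne_zero h.two
  obtain ⟨r, hr⟩ := (Finite.injective_iff_surjective.mp (frobenius_inj F 2)) x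
  refine ⟨r, ?_⟩
  rwa [frobenius_def, pow_two] at hr

theorem inC_smul_iff (c : ι → F) (r : F) : InC f L (r • c) ↔ tA f c 0 (r * r) ∈ L := by
  rw [InC, tA_smul h (h.zero_r c), smul_zero, mul_one]

theorem inC_map {c : ι → F} (hc : InC f L c) {g : GL ι F} (hg : g ∈ L) :
    InC f L ((g : Matrix ι ι F) *ᵥ c) := by
  have := tA_conj_mem h (h.zero_r c) hc hg
  rwa [mulVec_zero] at this

theorem inC_step {c d : ι → F} (hc : InC f L c) (hd : InC f L d) :
    InC f L (d + f d c • c) := by
  have := inC_map h hd hc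
  rwa [tA_zero_mulVec h, one_mul] at this

variable {a : ι → F} (ha : a ≠ 0) (hn : 3 ≤ Fintype.card ι) {φ : (ι → F) → F}
  (hadd : ∀ w w', f a w = 0 → f a w' = 0 → φ (w + w') = φ w + φ w' + f w w')
  (hX : ∀ w, f a w = 0 → tA f a w (φ w) ∈ L)
  {κ : F} (hκ : κ ≠ 0) (hκL : tA f a 0 κ ∈ L)
  (hmove : ∃ g ∈ L, f a ((g : Matrix ι ι F) *ᵥ a) ≠ 0)

include hn hadd hX hκ hκL hmove in
/-- Every non-zero product with `a` is taken by a centre. -/
theorem exists_centre {r : F} (hr : r ≠ 0) : ∃ b, f a b = 1 ∧ InC f L (r • b) := by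
  obtain ⟨ρ, hρ⟩ := exists_sqrt h κ
  have hρ0 : ρ ≠ 0 := fun e => hκ (by rw [← hρ, e, mul_zero])
  have haC : InC f L (ρ • a) := by rwa [inC_smul_iff h, hρ]
  obtain ⟨g, hg, hga⟩ := hmove
  have hgC := inC_map h haC hg
  rw [mulVec_smul] at hgC
  set c := ρ • ((g : Matrix ι ι F) *ᵥ a) with hc
  set r₀ := f a c with hr₀
  have hr0 : r₀ ≠ 0 := by
    rw [hr₀, hc, h.form.bilinear.smul_right]
    exact mul_ne_zero hρ0 hga
  set b₀ := r₀⁻¹ • c with hb₀
  have hab : f a b₀ = 1 := by
    rw [hb₀, h.form.bilinear.smul_right, ← hr₀, inv_mul_cancel₀ hr0]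
  have hcb : c = r₀ • b₀ := by rw [hb₀, smul_smul, mul_inv_cancel₀ hr0, one_smul]
  obtain ⟨w, hwa, hwb, hwμ⟩ := exists_level h hab hn hadd ((r / r₀ + 1) / (r₀ * r₀))
  have hc' := inC_map h hgC (hX w hwa)
  rw [tA_mulVec h hwa, hwμ, hcb] at hc'
  rw [hcb] at hgC
  have hd := inC_step h hgC hc'
  refine ⟨r⁻¹ • _, ?_, by rw [smul_smul, mul_inv_cancel₀ hr, one_smul]; exact hd⟩
  have h1 : f b₀ w = 0 := hwb
  have h2 : f b₀ a = 1 := by rw [h.comm, hab]
  have h3 : f w b₀ = 0 := by rw [h.comm, hwb]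
  rw [h.form.bilinear.smul_right]
  simp only [h.form.bilinear.add_left, h.form.bilinear.add_right, h.form.bilinear.smul_left,
    h.form.bilinear.smul_right, h.self, h1, h2, h3, hab, hwa]
  field_simp
  linear_combination r₀ ^ 3 * h.two

include hn hadd hX hκ hκL hmove in
/-- A centre in `a^⊥` above every `r • w` with `r² l = 1`. -/
theorem exists_centre_perp {r : F} (hr : r ≠ 0) {w : ι → F} (hw : f a w = 0) {l : F}
    (hl : tA f a w l ∈ L) (hrl : r * r * l = 1) : ∃ t : F, InC f L (r • w + t • a) := by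
  obtain ⟨b, hab, hbC⟩ := exists_centre h hn hadd hX hκ hκL hmove hr
  have hc' := inC_map h hbC hl
  rw [tA_mulVec h hw] at hc'
  have hd := inC_step h hbC hc'
  refine ⟨r * f b w + r * l, ?_⟩
  convert hd using 1
  have h2 : f b a = 1 := by rw [h.comm, hab]
  simp only [h.form.bilinear.add_left, h.form.bilinear.smul_left, h.form.bilinear.smul_right,
    h.self, h2, hab, h.comm w b]
  ext i
  simp only [Pi.add_apply, Pi.smul_apply, smul_eq_mul]
  linear_combination (-(r * r * f b w * r * b i)) * h.two - (r * b i) * hrl - (r * b i) * h.two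

include hn hadd hX hκ hκL hmove in
theorem exists_centre_above {w : ι → F} (hw : f a w = 0) : ∃ t : F, InC f L (w + t • a) := by
  classical
  have hmul : ∀ (s : F), f a (s • w) = 0 := fun s => by
    rw [h.form.bilinear.smul_right, hw, mul_zero]
  have hφ0 : φ 0 = 0 := by
    have := hadd 0 0 (h.zero_r a) (h.zero_r a)
    rw [add_zero, h.zero_r, add_zero] at this
    linear_combination -this
  let K : AddSubgroup F :=
    { carrier := {l | tA f a 0 l ∈ L}
      zero_mem' := by show tA f a 0 0 ∈ L; rw [tA_zero_zero h]; exact L.one_mem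
      add_mem' := fun {x y} hx hy => by
        show tA f a 0 (x + y) ∈ L
        have := L.mul_mem hx hy
        rwa [tA_mul h (h.zero_r a) (h.zero_r a), add_zero, h.zero_r, add_zero] at this
      neg_mem' := fun {x} hx => by
        show tA f a 0 (-x) ∈ L
        rwa [show -x = x from (h.eq_of_add (by rw [neg_add_cancel]))] }
  let T : F × K → F := fun p => φ (p.1 • w) + p.1 * p.1 + p.2
  obtain ⟨p, p', hne, he⟩ := Fintype.exists_ne_map_eq_of_card_lt T (by
    rw [Fintype.card_prod]
    have : 1 < Fintype.card K :=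
      Fintype.one_lt_card_iff.mpr ⟨⟨κ, hκL⟩, 0, fun e => hκ (congrArg Subtype.val e)⟩
    exact lt_mul_of_one_lt_right Fintype.card_pos this)
  set s := p.1 + p'.1 with hs
  set k : K := p.2 + p'.2 with hk
  have hadd' := hadd (p.1 • w) (p'.1 • w) (hmul _) (hmul _)
  rw [← add_smul, h.form.bilinear.smul_left, h.form.bilinear.smul_right, h.self, mul_zero,
    mul_zero, add_zero, ← hs] at hadd'
  have hsum : φ (s • w) + s * s + (k : F) = 0 := by
    have he' : φ (p.1 • w) + p.1 * p.1 + (p.2 : F) = φ (p'.1 • w) + p'.1 * p'.1 + (p'.2 : F) := he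
    rw [hadd', hk, AddSubgroup.coe_add]
    linear_combination he' + (φ (p'.1 • w) + p'.1 * p'.1 + (p'.2 : F) + p.1 * p'.1) * h.two
  have hs0 : s ≠ 0 := fun e => hne (by
    rw [e, zero_smul, hφ0, zero_add, mul_zero, zero_add] at hsum
    refine Prod.ext (h.eq_of_add (hs ▸ e)) (Subtype.ext (h.eq_of_add ?_))
    rw [← AddSubgroup.coe_add, ← hk, hsum])
  have hl : tA f a (s • w) (φ (s • w) + k) ∈ L := by
    have hkL : tA f a 0 (k : F) ∈ L := k.2
    have := L.mul_mem (hX _ (hmul s)) hkL
    rwa [tA_mul h (hmul s) (h.zero_r a), add_zero, h.zero_l, add_zero] at this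
  obtain ⟨t, ht⟩ := exists_centre_perp h hn hadd hX hκ hκL hmove (inv_ne_zero hs0) (hmul s) hl (by
    field_simp
    linear_combination hsum - s * s * h.two)
  exact ⟨t, by rwa [smul_smul, inv_mul_cancel₀ hs0, one_smul] at ht⟩

include ha hn hadd hX hκ hκL hmove in
theorem center_a : SympCenter f L a := by
  classical
  obtain ⟨b, hab⟩ := exists_pair_one h ha
  obtain ⟨w0, hw0, hwa, hwb⟩ := exists_perp_ne h hab hn
  have hmul : ∀ (s : F) {z : ι → F}, f a z = 0 → f a (s • z) = 0 := fun s z hz => by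
    rw [h.form.bilinear.smul_right, hz, mul_zero]
  have key : ∀ (w₁ : ι → F), w₁ ≠ 0 → f a w₁ = 0 → f b w₁ = 0 → ∀ s : F,
      tA f a 0 (φ (s • w₁) + s * s) ∈ L := by
    intro w₁ h0 h1a h1b s
    obtain ⟨t, ht⟩ := exists_centre_above h hn hadd hX hκ hκL hmove h1a
    obtain ⟨w, hwa', -, hws⟩ := exists_perp_one h hab h0 h1a h1b s
    have hda : f (w₁ + t • a) a = 0 := by
      rw [h.form.bilinear.add_left, h.form.bilinear.smul_left, h.self, h.comm w₁ a, h1a, mul_zero,
        add_zero]
    have hfix : (tA f (w₁ + t • a) 0 1 : Matrix ι ι F) *ᵥ a = a :=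
      tA_zero_fix h (by rw [h.comm, hda]) 1
    have hcalc : (tA f (w₁ + t • a) 0 1 : Matrix ι ι F) *ᵥ w = (w + s • w₁) + (s * t) • a := by
      rw [tA_zero_mulVec h, h.form.bilinear.add_right, h.form.bilinear.smul_right, hws,
        h.comm w a, hwa']
      module
    have hm := tA_conj_mem h hwa' (hX w hwa') ht
    have hsum : f a (w + s • w₁) = 0 := by
      rw [h.form.bilinear.add_right, hwa', hmul s h1a, add_zero]
    rw [hfix, hcalc, tA_shift h hsum] at hm
    have := tA_sum_mem h hsum (hX _ hsum) hm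
    rwa [hadd _ _ hwa' (hmul s h1a), h.form.bilinear.smul_right, hws,
      show φ w + φ (s • w₁) + s * s + φ w = φ (s • w₁) + s * s by
        linear_combination φ w * h.two] at this
  intro l
  rw [← tA_zero_eq_tv h]
  by_cases hν : ∃ ν : F, ν ≠ 0 ∧ ν ≠ 1
  · obtain ⟨ν, hν0, hν1⟩ := hν
    have hν2 : ν * ν + 1 ≠ 0 := fun e => hν1 (by
      have : (ν + 1) * (ν + 1) = 0 := by linear_combination e + ν * h.two
      exact h.eq_of_add (mul_self_eq_zero.mp this))
    obtain ⟨s, hs⟩ := exists_sqrt h (l / (ν * ν + 1))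
    have h1 := key w0 hw0 hwa hwb (s * ν)
    have h2 := key (ν • w0) (smul_ne_zero hν0 hw0) (hmul ν hwa)
      (by rw [h.form.bilinear.smul_right, hwb, mul_zero]) s
    rw [smul_smul] at h2
    have := L.mul_mem h1 h2
    rw [tA_mul h (h.zero_r a) (h.zero_r a), add_zero, h.zero_r, add_zero] at this
    rwa [show φ ((s * ν) • w0) + s * ν * (s * ν) + (φ ((s * ν) • w0) + s * s)
        = s * s * (ν * ν + 1) by linear_combination φ ((s * ν) • w0) * h.two,
      hs, div_mul_cancel₀ _ hν2] at this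
  · push Not at hν
    rcases eq_or_ne l 0 with rfl | hl
    · rw [tA_zero_zero h]; exact L.one_mem
    · rwa [hν l hl, ← hν κ hκ]

include ha hn hadd hX hκ hκL hmove in
/-- All transvections lie in `L`. -/
theorem center_all (v : ι → F) : SympCenter f L v := by
  have hA := center_a h ha hn hadd hX hκ hκL hmove
  obtain ⟨g, hg, hga⟩ := hmove
  have hG := sympCenter_conj h.form hA hg (h.iso g hg)
  set b := (f a ((g : Matrix ι ι F) *ᵥ a))⁻¹ • ((g : Matrix ι ι F) *ᵥ a) with hb
  have hab : f a b = 1 := by rw [hb, h.form.bilinear.smul_right, inv_mul_cancel₀ hga]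
  have hB : SympCenter f L b := sympCenter_smul h.form hG _
  have off : ∀ x, f a x ≠ 0 → SympCenter f L x := by
    intro x hx
    set y := (f a x)⁻¹ • x with hy
    have hay : f a y = 1 := by rw [hy, h.form.bilinear.smul_right, inv_mul_cancel₀ hx]
    have hw := proj_perp_a h hab y
    have h1 := sympCenter_conj h.form hB (hX _ hw) (tA_isometry h a _ _)
    have h2 : f ((tA f a (proj f a b y) (φ (proj f a b y)) : Matrix ι ι F) *ᵥ b) a ≠ 0 := by
      have e1 : f b a = 1 := by rw [h.comm, hab]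
      have e2 : f (proj f a b y) a = 0 := by rw [h.comm, hw]
      simp only [tA_mulVec h hw, h.form.bilinear.add_left, h.form.bilinear.smul_left, h.self, e1,
        e2, mul_zero, add_zero]
      exact one_ne_zero
    have h3 := sympCenter_add_smul h.form hA h1 h2 (f y b + φ (proj f a b y))
    have h4 : (tA f a (proj f a b y) (φ (proj f a b y)) : Matrix ι ι F) *ᵥ b
        + (f y b + φ (proj f a b y)) • a = y := by
      rw [tA_mulVec h hw, h.comm b a, hab, proj_perp_b h hab y]
      conv_rhs => rw [eq_proj_add h (a := a) (b := b) y, h.comm y a, hay]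
      ext i
      simp only [Pi.add_apply, Pi.smul_apply, smul_eq_mul]
      linear_combination φ (proj f a b y) * a i * h.two
    rw [h4] at h3
    have h5 := sympCenter_smul h.form h3 (f a x)
    rwa [hy, smul_smul, mul_inv_cancel₀ hx, one_smul] at h5
  by_cases hv : f a v = 0
  · rcases eq_or_ne v 0 with rfl | hv0
    · exact sympCenter_zero L
    obtain ⟨z, hza, hzv⟩ := exists_nonorth_both h.form ha hv0
    rw [h.comm] at hza
    have h1 : SympCenter f L (v + z) :=
      off _ (by rwa [h.form.bilinear.add_right, hv, zero_add])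
    have h2 := sympCenter_add_smul h.form (off z hza) h1 (by
      rw [h.form.bilinear.add_left, h.self, add_zero, h.comm]; exact hzv) 1
    rwa [one_smul, add_assoc, h.vec_add_self, add_zero] at h2
  · exact off v hv

end Cfsg.Agent.Lib.Subspaces.SympTAFull
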