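import Cfsg.Agent.Lib.Subspaces.SympTA

/-!
When every good point carries exactly one class of good partners, the scalars `phi` are the values
of a quadratic form polarising to `f`, preserved by the group.
-/

set_option autoImplicit false

namespace Cfsg.Agent.Lib.Subspaces.SympTAQuad

open Matrix Cfsg.Agent.Lib.Subspaces.Transvection Cfsg.Agent.Lib.Subspaces.FormVec
  Cfsg.Agent.Lib.Subspaces.SympGen Cfsg.Agent.Lib.Subspaces.SympCenters
  Cfsg.Agent.Lib.Subspaces.SympTA

/-- The only additive bijections intertwined by inversion are the squares up to a scalar. -/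
theorem quad_of_inversion {F : Type*} [Field F] [Finite F] (h2 : (2 : F) = 0) {A B : F → F}
    (hA : ∀ s t, A (s + t) = A s + A t) (hB : ∀ s t, B (s + t) = B s + B t)
    (hA0 : ∀ s, A s = 0 → s = 0) (hB0 : ∀ s, B s = 0 → s = 0)
    (hAB : ∀ t, t ≠ 0 → A (t / B t) = 1 / B t) (r : F) : A r = r * r * A 1 := by
  have heq : ∀ {x y : F}, x + y = 0 → x = y := fun {x y} e => by linear_combination e - y * h2
  have hz : ∀ x : F, x + x = 0 := fun x => by linear_combination x * h2
  have inj : ∀ (C : F → F), (∀ s t, C (s + t) = C s + C t) → (∀ s, C s = 0 → s = 0) →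
      Function.Injective C := fun C hC hC0 s t e => heq (hC0 _ (by rw [hC, e, hz]))
  have hAi := inj A hA hA0
  have hBi := inj B hB hB0
  have hA00 : A 0 = 0 := by
    have := hA 0 0
    rw [add_zero] at this
    linear_combination -this
  have hB00 : B 0 = 0 := by
    have := hB 0 0
    rw [add_zero] at this
    linear_combination -this
  choose g hg using Finite.injective_iff_surjective.mp hAi
  choose k hk using Finite.injective_iff_surjective.mp hBi
  have hgadd : ∀ s t, g (s + t) = g s + g t := fun s t => hAi (by rw [hA, hg, hg, hg])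
  have hkadd : ∀ s t, k (s + t) = k s + k t := fun s t => hBi (by rw [hB, hk, hk, hk])
  have hkey : ∀ x, x ≠ 0 → k x = x * g (1 / x) := fun x hx => by
    have ht : k x ≠ 0 := fun e => hx (by rw [← hk x, e, hB00])
    have h1 := hAB _ ht
    rw [hk] at h1
    have h3 : g (1 / x) = k x / x := hAi (by rw [hg, h1])
    rw [h3, mul_div_cancel₀ _ hx]
  have hgsq : ∀ u, g (u * u) = u * g 1 := fun u => by
    rcases eq_or_ne u 0 with rfl | hu
    · rw [mul_zero, zero_mul]
      exact hAi (by rw [hg, hA00])
    rcases eq_or_ne u 1 with rfl | hu1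
    · rw [mul_one, one_mul]
    have hu2 : 1 + u ≠ 0 := fun e => hu1 (heq (by rw [add_comm, e]))
    have hs : 1 / u + 1 / (1 + u) = 1 / (u * (1 + u)) := by
      field_simp
      linear_combination u * h2
    have e := hkadd (1 / u) (1 / (1 + u))
    rw [hs, hkey _ (one_div_ne_zero (mul_ne_zero hu hu2)), hkey _ (one_div_ne_zero hu),
      hkey _ (one_div_ne_zero hu2), one_div_one_div, one_div_one_div, one_div_one_div, mul_add,
      mul_one, hgadd, hgadd] at e
    field_simp at e
    rw [pow_two] at e
    linear_combination e + (g u * u) * h2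
  have hA1 : ∀ u, A (u * g 1) = u * u := fun u => by rw [← hgsq, hg]
  have hc : g 1 ≠ 0 := fun e => one_ne_zero ((hg 1).symm.trans (by rw [e, hA00]))
  have e1 := hA1 (1 / g 1)
  have er := hA1 (r / g 1)
  rw [div_mul_cancel₀ _ hc] at e1 er
  rw [er, e1]
  field_simp

variable {ι : Type} [Fintype ι] [DecidableEq ι] {F : Type*} [Field F]
  {f : (ι → F) → (ι → F) → F} {L : Subgroup (GL ι F)} (h : Ctx f L)

/-- Good points orthogonal to a good point `a` have `phi` value zero at `a`. -/
def Perp (f : (ι → F) → (ι → F) → F) (L : Subgroup (GL ι F)) : Prop :=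
  ∀ a c, Good f L a → Good f L c → f a c = 0 → ∀ t : F, phi f L a (t • c) = 0

/-- No two good partners of a good point differ by a multiple of it. -/
def Single (f : (ι → F) → (ι → F) → F) (L : Subgroup (GL ι F)) : Prop :=
  ∀ a b, Good f L a → Good f L b → f a b = 1 → ∀ μ : F, μ ≠ 0 → ¬ Good f L (b + μ • a)

/-- `phi` is quadratic on each perpendicular. -/
def Quad (f : (ι → F) → (ι → F) → F) (L : Subgroup (GL ι F)) : Prop :=
  ∀ a, Good f L a → ∀ w, f a w = 0 → ∀ r : F, phi f L a (r • w) = r * r * phi f L a w

include h

theorem partner (hspan : Submodule.span F {x | Good f L x} = ⊤) {a : ι → F} (ha : Good f L a) :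
    ∃ b, Good f L b ∧ f a b = 1 := by
  by_contra hne
  push Not at hne
  obtain ⟨z, hz⟩ := exists_pair_one h ha.1
  have hall : ∀ x, f a x = 0 := fun x => by
    have hx : x ∈ Submodule.span F {x | Good f L x} := hspan ▸ Submodule.mem_top
    induction hx using Submodule.span_induction with
    | mem y hy =>
      by_contra hy0
      exact hne _ (good_smul h hy (inv_ne_zero hy0))
        (by rw [h.form.bilinear.smul_right, inv_mul_cancel₀ hy0])
    | zero => exact h.zero_r a
    | add y z _ _ e1 e2 => rw [h.form.bilinear.add_right, e1, e2, add_zero]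
    | smul t y _ e => rw [h.form.bilinear.smul_right, e, mul_zero]
  exact one_ne_zero (hz.symm.trans (hall z))

theorem phi_smul_self {a : ι → F} (ha : Good f L a) (t : F) : phi f L a (t • a) = 0 := by
  rw [← zero_add (t • a), phi_shift h ha (h.zero_r a), phi_zero h ha]

theorem phi_add_center {c w : ι → F} (hc : Good f L c) (hw : f c w = 0) :
    phi f L c (c + w) = phi f L c w := by
  simpa using phi_shift' h hc hw 1

/-- In rank at least three the orthogonal good points are singular. -/
theorem perp_of_six_le (hn : 6 ≤ Fintype.card ι) : Perp f L := by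
  intro a c ha hc hac t
  by_cases hl : ∃ t' : F, c = t' • a
  · obtain ⟨t', rfl⟩ := hl
    rw [smul_smul]
    exact phi_smul_self h ha _
  push Not at hl
  obtain ⟨b, hab⟩ := exists_pair_one h ha.1
  set c' := proj f a b c with hc'
  have hca : f a c' = 0 := proj_perp_a h hab c
  have hcb : f b c' = 0 := proj_perp_b h hab c
  have hcc : c = f c b • a + c' := by
    have := eq_proj_add h (a := a) (b := b) c
    rwa [h.comm c a, hac, zero_smul, add_zero] at this
  have hc0 : c' ≠ 0 := fun e => hl (f c b) (by rwa [e, add_zero] at hcc)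
  obtain ⟨z, hz, hzc⟩ := exists_common_zero_not_mem
    (Submodule.span F (Set.range ![a, b, c'])) ![formVec f c'] (by
      have h1 := finrank_range_le_card (R := F) ![a, b, c']
      rw [Fintype.card_fin] at h1
      unfold Set.finrank at h1
      omega)
  set u := proj f a b z with hu
  have hua : f a u = 0 := proj_perp_a h hab z
  have hub : f b u = 0 := proj_perp_b h hab z
  have hzc' : f z c' = 0 := by
    have := hzc 0
    rwa [Matrix.cons_val_fin_one, formVec_dot (isLinearLeft_of_bilinear h.form.bilinear)] at this
  have hune : ∀ t' : F, u ≠ t' • c' := fun t' e => hz (by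
    rw [eq_proj_add h (a := a) (b := b) z, ← hu, e]
    exact Submodule.add_mem _ (Submodule.add_mem _
      (Submodule.smul_mem _ _ (Submodule.subset_span ⟨0, rfl⟩))
      (Submodule.smul_mem _ _ (Submodule.subset_span ⟨1, rfl⟩)))
      (Submodule.smul_mem _ _ (Submodule.subset_span ⟨2, rfl⟩)))
  obtain ⟨w, hwa, -, hwc, hwu⟩ := exists_perp_val h hab hc0 hune hca hcb hua hub t
  have hwc' : f w c = 0 := by
    rw [hcc, h.form.bilinear.add_right, h.form.bilinear.smul_right, hwc, h.comm w a, hwa,
      mul_zero, add_zero]
  have huc : f c u = 0 := by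
    rw [hcc, h.form.bilinear.add_left, h.form.bilinear.smul_left, hua, mul_zero, zero_add,
      h.comm, hu, proj_dot h hca hcb, hzc']
  have hy := phi_spec h hc huc
  have hya : (tA f c u (phi f L c u) : Matrix ι ι F) *ᵥ a = a := by
    rw [tA_mulVec h huc, hac, hua]
    simp
  have hyw : (tA f c u (phi f L c u) : Matrix ι ι F) *ᵥ w = w + t • c := by
    rw [tA_mulVec h huc, hwc', hwu]
    simp
  have e := phi_stab h ha hwa hy hya
  rw [hyw, phi_add h ha hwa (by rw [h.form.bilinear.smul_right, hac, mul_zero]),
    h.form.bilinear.smul_right, hwc', mul_zero, add_zero] at e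
  linear_combination e

theorem phi_cross {a c : ι → F} (ha : Good f L a) (hc : Good f L c) (hac : f a c = 0)
    (hl : ∀ t : F, c ≠ t • a) (s t : F) (hB : phi f L c (s • a) ≠ 0) :
    phi f L a (t • c) * phi f L c (s • a) = t * t := by
  obtain ⟨x, hx1, hx2⟩ := (toBilin_isSymp h.form).exists_perp_ne_zero ha.1 hl
  change f a x = 0 at hx1
  change f c x ≠ 0 at hx2
  set B := phi f L c (s • a) with hBdef
  set κ := t / B with hκ
  set w := (κ / f c x) • x with hw
  have hwa : f a w = 0 := by rw [hw, h.form.bilinear.smul_right, hx1, mul_zero]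
  have hwc : f w c = κ := by
    rw [hw, h.form.bilinear.smul_left, h.comm x c, div_mul_cancel₀ _ hx2]
  have hsa : f c (s • a) = 0 := by rw [h.form.bilinear.smul_right, h.comm c a, hac, mul_zero]
  have hy := phi_spec h hc hsa
  rw [← hBdef] at hy
  have hya : (tA f c (s • a) B : Matrix ι ι F) *ᵥ a = a := by
    rw [tA_mulVec h hsa, hac, h.form.bilinear.smul_right, h.self]
    simp
  have hyw : (tA f c (s • a) B : Matrix ι ι F) *ᵥ w = (w + t • c) + (κ * s) • a := by
    rw [tA_mulVec h hsa, hwc, h.form.bilinear.smul_right, h.comm w a, hwa, mul_zero, zero_add,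
      mul_comm B, hκ, div_mul_cancel₀ _ hB]
    module
  have e := phi_stab h ha hwa hy hya
  have htc : f a (t • c) = 0 := by rw [h.form.bilinear.smul_right, hac, mul_zero]
  rw [hyw, phi_shift h ha (by rw [h.form.bilinear.add_right, hwa, htc, add_zero]),
    phi_add h ha hwa htc, h.form.bilinear.smul_right, hwc] at e
  have e' : phi f L a (t • c) = t * κ := h.eq_of_add (by linear_combination e)
  rw [e', mul_assoc, hκ, div_mul_cancel₀ _ hB]

/-- Over a field with more than two elements the orthogonal good points are singular. -/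
theorem perp_of_four_le (hν : ∃ ν : F, ν ≠ 0 ∧ ν ≠ 1) : Perp f L := by
  intro a c ha hc hac t
  by_cases hl : ∃ t' : F, c = t' • a
  · obtain ⟨t', rfl⟩ := hl
    rw [smul_smul]
    exact phi_smul_self h ha _
  push Not at hl
  have hl' : ∀ t' : F, a ≠ t' • c := fun t' e => by
    rcases eq_or_ne t' 0 with h0 | h0
    · exact ha.1 (by rw [e, h0, zero_smul])
    · exact hl t'⁻¹ (by rw [e, smul_smul, inv_mul_cancel₀ h0, one_smul])
  by_contra hA
  have hsw : ∀ s : F, phi f L c (s • a) * phi f L a (t • c) = s * s := fun s =>
    phi_cross h hc ha (by rw [h.comm, hac]) hl' t s hA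
  have hts : ∀ s : F, s ≠ 0 → t * t = s * s := fun s hs => by
    have hB : phi f L c (s • a) ≠ 0 := fun e => hs (mul_self_eq_zero.mp (by
      rw [← hsw s, e, zero_mul]))
    rw [← phi_cross h ha hc hac hl s t hB, mul_comm, hsw]
  obtain ⟨ν, hν0, hν1⟩ := hν
  refine hν1 (h.eq_of_add (mul_self_eq_zero.mp ?_))
  linear_combination (hts 1 one_ne_zero) - (hts ν hν0) + (ν + 1) * h.two

theorem single_of_perp (hn : 3 ≤ Fintype.card ι) [Finite F] (hP : Perp f L) : Single f L := by
  intro a b ha hb hab μ hμ hb'
  obtain ⟨w, hwa, hwb, hwμ⟩ := exists_level h hab hn (φ := phi f L a)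
    (fun w w' hw hw' => phi_add h ha hw hw') μ
  have hwb' : f (b + μ • a) w = 0 := by
    rw [h.form.bilinear.add_left, h.form.bilinear.smul_left, hwb, hwa, mul_zero, add_zero]
  have hba : f b a = 1 := by rw [h.comm, hab]
  have hd := good_tA h ha hb hwa
  rw [hba, hwb, hwμ, one_smul, mul_one, zero_add,
    show b + w + μ • a = (b + μ • a) + w by abel] at hd
  have hbd : f (b + μ • a) ((b + μ • a) + w) = 0 := by
    rw [h.form.bilinear.add_right, h.self, hwb', add_zero]
  have h0 := hP _ _ hb' hd hbd 1
  rw [one_smul, phi_add_center h hb' hwb'] at h0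
  have hx := good_tA h hb' ha hwb'
  rw [h.form.bilinear.add_right, hab, h.form.bilinear.smul_right, h.self, mul_zero, add_zero,
    hwa, h0, zero_add, zero_mul, zero_smul, add_zero, one_smul] at hx
  have h1 := hP _ _ ha hx (by rw [h.form.bilinear.add_right, h.self, hwa, add_zero]) 1
  rw [one_smul, phi_add_center h ha hwa, hwμ] at h1
  exact hμ h1

section pair

variable {a b : ι → F} (ha : Good f L a) (hb : Good f L b) (hab : f a b = 1)
  (hS : Single f L)
include ha hb hab

theorem good_shift_zero {u : ι → F} (hub : f b u = 0) (hua : f a u = 0)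
    (hψ : phi f L b u = 0) : Good f L (a + u) := by
  have := good_tA h hb ha hub
  rwa [hab, hua, hψ, one_smul, zero_add, zero_mul, zero_smul, add_zero] at this

theorem phi_zero_of_perp (hP : Perp f L) {u : ι → F} (hub : f b u = 0) (hua : f a u = 0)
    (hψ : phi f L b u = 0) (r : F) : phi f L a (r • u) = 0 := by
  have h1 := hP a _ ha (good_shift_zero h ha hb hab hub hua hψ)
    (by rw [h.form.bilinear.add_right, h.self, hua, add_zero]) r
  rwa [smul_add, phi_shift' h ha (by rw [h.form.bilinear.smul_right, hua, mul_zero])] at h1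

include hS in
/-- The good partners of `a` lie in the class of `b`. -/
theorem single_coord {x : ι → F} (hx : Good f L x) (hax : f a x = 1) :
    f x b + phi f L a (proj f a b x) = 0 := by
  have hwa := proj_perp_a h hab x
  have hwb := proj_perp_b h hab x
  set w := proj f a b x with hw
  have hxw : f x w = 0 := by
    rw [← proj_dot h hwa hwb (a := a) (b := b) x, ← hw, h.self]
  have hy := good_tA h ha hx hwa
  rw [h.comm x a, hax, hxw, one_smul, zero_add, mul_one] at hy
  have he : x + w + phi f L a w • a = b + (f x b + phi f L a w) • a := by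
    conv_lhs => arg 1; arg 1; rw [eq_proj_add h (a := a) (b := b) x, ← hw, h.comm x a, hax]
    ext i
    simp only [Pi.add_apply, Pi.smul_apply, smul_eq_mul]
    linear_combination w i * h.two
  rw [he] at hy
  by_contra hne
  exact hS a b ha hb hab _ hne hy

include hS in
theorem identity {u : ι → F} (hua : f a u = 0) (hub : f b u = 0) (hψ : phi f L b u ≠ 0) :
    phi f L a ((phi f L b u)⁻¹ • u) = (phi f L b u)⁻¹ := by
  have hba : f b a = 1 := by rw [h.comm, hab]
  have hub' : f u b = 0 := by rw [h.comm, hub]
  have hy := good_smul h (good_tA h hb ha hub) (inv_ne_zero hψ)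
  rw [hab, hua, one_smul, zero_add, mul_one] at hy
  set ψ := phi f L b u with hψd
  set x := ψ⁻¹ • (a + u + ψ • b) with hx
  have hax : f a x = 1 := by
    rw [hx, h.form.bilinear.smul_right, h.form.bilinear.add_right, h.form.bilinear.add_right,
      h.form.bilinear.smul_right, h.self, hua, hab, zero_add, zero_add, mul_one,
      inv_mul_cancel₀ hψ]
  have hxb : f x b = ψ⁻¹ := by
    rw [hx, h.form.bilinear.smul_left, h.form.bilinear.add_left, h.form.bilinear.add_left,
      h.form.bilinear.smul_left, hab, hub', h.self, mul_zero, add_zero, add_zero, mul_one]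
  have hpr : proj f a b x = ψ⁻¹ • u := by
    rw [proj, hxb, h.comm x a, hax, one_smul, hx]
    ext i
    simp only [Pi.add_apply, Pi.smul_apply, smul_eq_mul]
    linear_combination (b i) * inv_mul_cancel₀ hψ + (ψ⁻¹ * a i + b i) * h.two
  have e := single_coord h ha hb hab hS hy hax
  rw [hxb, hpr] at e
  exact (h.eq_of_add e).symm

end pair

/-- `phi` is quadratic when the orthogonal good points are singular. -/
theorem quad_of_perp [Finite F] (hn : 3 ≤ Fintype.card ι) (hP : Perp f L)
    (hspan : Submodule.span F {x | Good f L x} = ⊤) : Quad f L := by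
  intro a ha w hw r
  obtain ⟨b, hb, hab⟩ := partner h hspan ha
  have hba : f b a = 1 := by rw [h.comm, hab]
  have hS := single_of_perp h hn hP
  set w' := proj f a b w with hw'
  have hwa : f a w' = 0 := proj_perp_a h hab w
  have hwb : f b w' = 0 := proj_perp_b h hab w
  have hm : ∀ (s : F) {c : ι → F}, f c w' = 0 → f c (s • w') = 0 := fun s c e => by
    rw [h.form.bilinear.smul_right, e, mul_zero]
  have hshift : ∀ s : F, phi f L a (s • w) = phi f L a (s • w') := fun s => by
    conv_lhs => rw [eq_proj_add h (a := a) (b := b) w, h.comm w a, hw, zero_smul, add_zero,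
      smul_add, smul_smul, ← hw']
    exact phi_shift' h ha (hm s hwa) _
  rw [hshift r, show phi f L a w = phi f L a w' by simpa using hshift 1]
  by_cases hz : phi f L a w' = 0
  · have h1 : ∀ s : F, phi f L b (s • w') = 0 := fun s =>
      phi_zero_of_perp h hb ha hba hP hwa hwb hz s
    have h2 := phi_zero_of_perp h ha hb hab hP (hm r hwb) (hm r hwa) (h1 r) 1
    rw [one_smul] at h2
    rw [h2, hz, mul_zero]
  · have hne : ∀ s : F, s ≠ 0 → phi f L b (s • w') ≠ 0 ∧ phi f L a (s • w') ≠ 0 := by
      intro s hs
      have hB : phi f L b (s • w') ≠ 0 := fun e => hz (by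
        have := phi_zero_of_perp h ha hb hab hP (hm s hwb) (hm s hwa) e s⁻¹
        rwa [smul_smul, inv_mul_cancel₀ hs, one_smul] at this)
      refine ⟨hB, fun e => hB ?_⟩
      have := phi_zero_of_perp h hb ha hba hP (hm s hwa) (hm s hwb) e 1
      rwa [one_smul] at this
    have hadd : ∀ {c : ι → F}, Good f L c → f c w' = 0 → ∀ s t : F,
        phi f L c ((s + t) • w') = phi f L c (s • w') + phi f L c (t • w') := fun {c} hc e s t => by
      rw [add_smul, phi_add h hc (hm s e) (hm t e), h.form.bilinear.smul_left,
        h.form.bilinear.smul_right, h.self, mul_zero, mul_zero, add_zero]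
    have := quad_of_inversion h.two (A := fun s => phi f L a (s • w'))
      (B := fun s => phi f L b (s • w')) (hadd ha hwa) (hadd hb hwb)
      (fun s e => by_contra fun hs => (hne s hs).2 e)
      (fun s e => by_contra fun hs => (hne s hs).1 e) (fun t ht => by
        have := identity h ha hb hab hS (hm t hwa) (hm t hwb) (hne t ht).1
        rw [smul_smul, inv_mul_eq_div] at this
        rw [one_div]
        exact this) r
    simpa using this

variable [Finite F]

/-- The quadratic form attached to the good points. -/
theorem exists_form (hS : Single f L) (hQ : Quad f L)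
    (hspan : Submodule.span F {x | Good f L x} = ⊤) {a : ι → F} (ha : Good f L a) :
    ∃ Q : QuadraticForm F (ι → F), (∀ x y, QuadraticMap.polar (⇑Q) x y = f x y) ∧
      (∀ g ∈ L, ∀ x, Q ((g : Matrix ι ι F) *ᵥ x) = Q x) ∧
      (∀ c, Good f L c → Q c = 0) ∧
      (∀ c, Good f L c → ∀ w, f c w = 0 → phi f L c w = Q w) := by
  obtain ⟨b, hb, hab⟩ := partner h hspan ha
  have hba : f b a = 1 := by rw [h.comm, hab]
  let q : (ι → F) → F := fun x => f x b * f x a + phi f L a (proj f a b x)
  have hpa : ∀ x y, proj f a b (x + y) = proj f a b x + proj f a b y := fun x y => by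
    simp only [proj, h.form.bilinear.add_left, add_smul]
    abel
  have hps : ∀ (r : F) x, proj f a b (r • x) = r • proj f a b x := fun r x => by
    simp only [proj, h.form.bilinear.smul_left]
    module
  have hsmul : ∀ (r : F) x, q (r • x) = r * r * q x := fun r x => by
    simp only [q, hps, h.form.bilinear.smul_left, hQ a ha _ (proj_perp_a h hab x)]
    ring
  have hpol : ∀ x y, QuadraticMap.polar q x y = f x y := fun x y => by
    simp only [QuadraticMap.polar, q, hpa, h.form.bilinear.add_left,
      phi_add h ha (proj_perp_a h hab x) (proj_perp_a h hab y),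
      proj_dot h (proj_perp_a h hab y) (proj_perp_b h hab y) x]
    have hxy : f x (proj f a b y) = f x y + f y b * f x a + f y a * f x b := by
      simp only [proj, h.form.bilinear.add_right, h.form.bilinear.smul_right]
    rw [hxy]
    linear_combination (f x a * f y b + f x b * f y a) * h.two
  let Q : QuadraticForm F (ι → F) := QuadraticMap.ofPolar q
    (fun r x => by rw [hsmul, smul_eq_mul])
    (fun x x' y => by simp only [hpol, h.form.bilinear.add_left])
    (fun r x y => by simp only [hpol, h.form.bilinear.smul_left, smul_eq_mul])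
  have hQadd : ∀ x y, Q (x + y) = Q x + Q y + f x y := fun x y => by
    rw [QuadraticMap.map_add (⇑Q), ← hpol]
    rfl
  have hQq : ∀ x, Q x = f x b * f x a + phi f L a (proj f a b x) := fun x => rfl
  -- the two scalars agree
  have hswap : proj f b a = proj f a b := funext fun x => by simp only [proj]; abel
  have heqφ : ∀ u, f a u = 0 → f b u = 0 → phi f L b u = phi f L a u := fun u hua hub => by
    by_cases hψ : phi f L b u = 0
    · by_contra hne
      rw [hψ] at hne
      have e := identity h hb ha hba hS hub hua (Ne.symm hne)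
      rw [hQ b hb _ hub, hψ, mul_zero] at e
      exact inv_ne_zero (Ne.symm hne) e.symm
    · have e := identity h ha hb hab hS hua hub hψ
      rw [hQ a ha _ hua] at e
      field_simp at e
      linear_combination -e
  have hnear : ∀ {x}, Good f L x → (f x a ≠ 0 ∨ f x b ≠ 0) → Q x = 0 := by
    intro x hx hor
    rcases hor with hr | hr
    · have e := single_coord h ha hb hab hS (good_smul h hx (inv_ne_zero hr))
        (by rw [h.form.bilinear.smul_right, h.comm a x, inv_mul_cancel₀ hr])
      rw [h.form.bilinear.smul_left, hps, hQ a ha _ (proj_perp_a h hab x)] at e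
      rw [hQq]
      field_simp at e
      linear_combination e
    · have e := single_coord h hb ha hba hS (good_smul h hx (inv_ne_zero hr))
        (by rw [h.form.bilinear.smul_right, h.comm b x, inv_mul_cancel₀ hr])
      rw [h.form.bilinear.smul_left, hswap, hps, hQ b hb _ (proj_perp_b h hab x),
        heqφ _ (proj_perp_a h hab x) (proj_perp_b h hab x)] at e
      rw [hQq]
      field_simp at e
      linear_combination e
  have hsing : ∀ c, Good f L c → Q c = 0 := by
    intro c hc
    by_cases hcab : f c a ≠ 0 ∨ f c b ≠ 0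
    · exact hnear hc hcab
    push Not at hcab
    obtain ⟨hca, hcb⟩ := hcab
    obtain ⟨w, hwa, hwb, hwc⟩ := exists_perp_one h hab hc.1 (by rw [h.comm, hca])
      (by rw [h.comm, hcb]) 1
    have hy := good_tA h ha hc hwa
    rw [hca, h.comm c w, hwc, zero_smul, mul_zero, add_zero, add_zero, one_smul] at hy
    have h0 := hnear hy (Or.inr (by
      rw [h.form.bilinear.add_left, hcb, hab, zero_add]; exact one_ne_zero))
    rw [hQadd, hca, add_zero,
      show Q a = 0 from hnear ha (Or.inr (by rw [hab]; exact one_ne_zero)), add_zero] at h0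
    exact h0
  have hinv : ∀ g ∈ L, ∀ x, Q ((g : Matrix ι ι F) *ᵥ x) = Q x := fun g hg x => by
    have hx : x ∈ Submodule.span F {x | Good f L x} := hspan ▸ Submodule.mem_top
    induction hx using Submodule.span_induction with
    | mem y hy => rw [hsing _ (good_map h hy hg), hsing _ hy]
    | zero => rw [mulVec_zero]
    | add y z _ _ e1 e2 =>
      rw [mulVec_add, hQadd, hQadd, e1, e2, h.iso g hg]
    | smul t y _ e => rw [mulVec_smul, QuadraticMap.map_smul, QuadraticMap.map_smul, e]
  refine ⟨Q, hpol, hinv, hsing, fun c hc w hw => ?_⟩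
  obtain ⟨x, hx⟩ := exists_pair_one h hc.1
  have e := hinv _ (phi_spec h hc hw) x
  rw [tA_mulVec h hw, h.comm x c, hx, one_smul, mul_one, hQadd, hQadd, QuadraticMap.map_smul,
    hsing c hc,
    h.form.bilinear.add_left, h.form.bilinear.smul_right, h.form.bilinear.smul_right,
    h.comm x c, hx, h.comm w c, hw, smul_zero] at e
  linear_combination e - (f x w + Q w) * h.two

end Cfsg.Agent.Lib.Subspaces.SympTAQuad
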