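import Cfsg.Agent.Lib.Subspaces.SympTAQuad
import Cfsg.Agent.Lib.Subspaces.RankParity

/-!
In characteristic two the elements `tA f c w (Q w)` (`c` singular, `w ⊥ c`) of a quadratic form `Q`
with polar `f` generate a subgroup containing every product of two reflections; its index in the
orthogonal group is two, by the parity of `rank (g - 1)`.
-/

set_option autoImplicit false

namespace Cfsg.Agent.Lib.Subspaces.SympTAReflect

open Matrix Cfsg.Agent.Lib.Subspaces.Transvection Cfsg.Agent.Lib.Subspaces.FormVec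
  Cfsg.Agent.Lib.Subspaces.SympGen Cfsg.Agent.Lib.Subspaces.SympCenters
  Cfsg.Agent.Lib.Subspaces.SympTA Cfsg.Agent.Lib.Subspaces.RankParity

variable {ι : Type} [Fintype ι] [DecidableEq ι] {F : Type*} [Field F]
  {f : (ι → F) → (ι → F) → F} {L : Subgroup (GL ι F)} (h : Ctx f L)
  {Q : QuadraticForm F (ι → F)} (hpol : ∀ x y, QuadraticMap.polar (⇑Q) x y = f x y)

/-- The Siegel transformations of `Q`. -/
def siegSet (f : (ι → F) → (ι → F) → F) (Q : QuadraticForm F (ι → F)) : Set (GL ι F) :=
  {g | ∃ c w, Q c = 0 ∧ f c w = 0 ∧ g = tA f c w (Q w)}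

/-- The group they generate. -/
def E0 (f : (ι → F) → (ι → F) → F) (Q : QuadraticForm F (ι → F)) : Subgroup (GL ι F) :=
  Subgroup.closure (siegSet f Q)

/-- The reflection at an anisotropic vector. -/
noncomputable def Rf (f : (ι → F) → (ι → F) → F) (Q : QuadraticForm F (ι → F)) (v : ι → F) :
    GL ι F := tA f v 0 (Q v)⁻¹

/-- Two reflections differ by an element of `E0`. -/
def Eqv (f : (ι → F) → (ι → F) → F) (Q : QuadraticForm F (ι → F)) (v w : ι → F) : Prop :=
  Rf f Q v * Rf f Q w ∈ E0 f Q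

include hpol in
theorem Q_add (x y : ι → F) : Q (x + y) = Q x + Q y + f x y := by
  rw [← hpol]
  exact QuadraticMap.map_add (⇑Q) x y

theorem Q_smul (r : F) (x : ι → F) : Q (r • x) = r * r * Q x := by
  rw [QuadraticMap.map_smul, smul_eq_mul]

include h

theorem siegel_isometry (hpol : ∀ x y, QuadraticMap.polar (⇑Q) x y = f x y) {c w : ι → F}
    (hc : Q c = 0) (hw : f c w = 0) (x : ι → F) :
    Q ((tA f c w (Q w) : Matrix ι ι F) *ᵥ x) = Q x := by
  rw [tA_mulVec h hw, Q_add hpol, Q_add hpol, Q_smul, Q_smul, hc]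
  simp only [h.form.bilinear.add_left, h.form.bilinear.smul_left, h.form.bilinear.smul_right,
    h.comm w c, hw]
  linear_combination (f x c * f x c * Q w + f x c * f x w) * h.two

include hpol

theorem E0_isometry {g : GL ι F} (hg : g ∈ E0 f Q) (x : ι → F) :
    Q ((g : Matrix ι ι F) *ᵥ x) = Q x := by
  induction hg using Subgroup.closure_induction generalizing x with
  | mem g hg =>
    obtain ⟨c, w, hc, hw, rfl⟩ := hg
    exact siegel_isometry h hpol hc hw x
  | one => rw [Units.val_one, one_mulVec]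
  | mul g k _ _ e1 e2 => rw [gl_mul_mulVec, e1, e2]
  | inv g _ e => rw [← e, gl_mulVec_inv]

theorem Rf_isometry {v : ι → F} (hv : Q v ≠ 0) (x : ι → F) :
    Q ((Rf f Q v : Matrix ι ι F) *ᵥ x) = Q x := by
  rw [Rf, tA_zero_mulVec h, Q_add hpol, Q_smul, h.form.bilinear.smul_right]
  field_simp
  linear_combination (f x v * f x v) * h.two

omit hpol in
theorem Rf_sq (v : ι → F) : Rf f Q v * Rf f Q v = 1 := tA_sq h (h.zero_r v) _

omit hpol in
theorem Rf_inv (v : ι → F) : (Rf f Q v)⁻¹ = Rf f Q v := tA_inv h (h.zero_r v) _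

omit hpol in
theorem Rf_smul {v : ι → F} (hv : Q v ≠ 0) {s : F} (hs : s ≠ 0) :
    Rf f Q (s • v) = Rf f Q v := by
  rw [Rf, Rf, tA_smul h (h.zero_r v), smul_zero, Q_smul]
  congr 1
  field_simp

omit hpol in
theorem conj_Rf {g : GL ι F}
    (hg : ∀ x y, f ((g : Matrix ι ι F) *ᵥ x) ((g : Matrix ι ι F) *ᵥ y) = f x y)
    (hgQ : ∀ x, Q ((g : Matrix ι ι F) *ᵥ x) = Q x) (v : ι → F) :
    g * Rf f Q v * g⁻¹ = Rf f Q ((g : Matrix ι ι F) *ᵥ v) := by
  rw [Rf, Rf, tA_conj h hg (h.zero_r v), mulVec_zero, hgQ]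

omit hpol in
theorem siegel_mem {c w : ι → F} (hc : Q c = 0) (hw : f c w = 0) :
    tA f c w (Q w) ∈ E0 f Q := Subgroup.subset_closure ⟨c, w, hc, hw, rfl⟩

omit hpol in
theorem Eqv.symm {v w : ι → F} (e : Eqv f Q v w) : Eqv f Q w v := by
  have := (E0 f Q).inv_mem e
  rwa [_root_.mul_inv_rev, Rf_inv h, Rf_inv h] at this

omit hpol in
theorem Eqv.trans {u v w : ι → F} (e1 : Eqv f Q u v) (e2 : Eqv f Q v w) : Eqv f Q u w := by
  have := (E0 f Q).mul_mem e1 e2
  rwa [mul_assoc, ← mul_assoc (Rf f Q v), Rf_sq h, one_mul] at this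

theorem eqv_shift {v c : ι → F} (hv : Q v ≠ 0) (hc : Q c = 0) (hcv : f c v = 0) :
    Eqv f Q v (v + Q v • c) := by
  have hvc : f v c = 0 := by rw [h.comm, hcv]
  have hv' : Q (v + Q v • c) = Q v := by
    rw [Q_add hpol, Q_smul, hc, h.form.bilinear.smul_right, hvc]
    ring
  have e : Rf f Q v * Rf f Q (v + Q v • c) = tA f c v (Q v) := by
    refine gl_ext fun x => ?_
    rw [gl_mul_mulVec, Rf, Rf, tA_zero_mulVec h, tA_zero_mulVec h, tA_mulVec h hcv, hv']
    simp only [h.form.bilinear.add_left, h.form.bilinear.add_right, h.form.bilinear.smul_left,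
      h.form.bilinear.smul_right, h.self, hcv, mul_zero, add_zero]
    ext i
    simp only [Pi.add_apply, Pi.smul_apply, smul_eq_mul]
    field_simp
    linear_combination (f x v * v i) * h.two
  rw [Eqv, e]
  exact siegel_mem h hc hcv

theorem eqv_move {v c w : ι → F} (hv : Q v ≠ 0) (hc : Q c = 0) (hw : f c w = 0) :
    Eqv f Q ((tA f c w (Q w) : Matrix ι ι F) *ᵥ v) v := by
  have hiso := tA_isometry h c w (Q w)
  have hr : ∀ x y, f ((Rf f Q v : Matrix ι ι F) *ᵥ x) ((Rf f Q v : Matrix ι ι F) *ᵥ y) = f x y :=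
    tA_isometry h v 0 (Q v)⁻¹
  have hm : tA f ((Rf f Q v : Matrix ι ι F) *ᵥ c) ((Rf f Q v : Matrix ι ι F) *ᵥ w) (Q w)
      ∈ E0 f Q := by
    rw [← Rf_isometry h hpol hv w]
    exact siegel_mem h (by rw [Rf_isometry h hpol hv, hc]) (by rw [hr, hw])
  rw [← tA_conj h hr hw, Rf_inv h] at hm
  rw [Eqv, ← conj_Rf h hiso (siegel_isometry h hpol hc hw), tA_inv h hw, mul_assoc, mul_assoc]
  rw [mul_assoc] at hm
  exact (E0 f Q).mul_mem (siegel_mem h hc hw) hm

variable {a b : ι → F} (hQa : Q a = 0) (hQb : Q b = 0) (hab : f a b = 1)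
include hQa hQb hab

theorem eqv_diag {μ : F} (hμ : μ ≠ 0) {w : ι → F} (hwa : f a w = 0) (hwb : f b w = 0)
    (hwμ : Q w = μ) : Eqv f Q (b + μ • a) w := by
  have h1 : f b a = 1 := by rw [h.comm, hab]
  have hv : Q (b + μ • a) = μ := by
    rw [Q_add hpol, Q_smul, hQa, hQb, h.form.bilinear.smul_right, h1]
    ring
  have h2 : f w a = 0 := by rw [h.comm, hwa]
  have h3 : f w b = 0 := by rw [h.comm, hwb]
  have := eqv_shift h hpol (v := b + μ • a) (c := μ⁻¹ • (μ • a + b + w)) (by rwa [hv])
    (by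
      rw [Q_smul, Q_add hpol, Q_add hpol, Q_smul, hQa, hQb, h.form.bilinear.smul_left, hab,
        h.form.bilinear.add_left, h.form.bilinear.smul_left, hwa, hwb, hwμ]
      linear_combination μ⁻¹ * μ⁻¹ * μ * h.two)
    (by
      simp only [h.form.bilinear.smul_left, h.form.bilinear.add_left, h.form.bilinear.add_right,
        h.form.bilinear.smul_right, h.self, hab, h1, h2, h3]
      linear_combination (μ⁻¹ * μ) * h.two)
  rwa [hv, smul_smul, mul_inv_cancel₀ hμ, one_smul,
    show b + μ • a + (μ • a + b + w) = (μ • a + μ • a) + (b + b) + w by abel, h.vec_add_self,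
    h.vec_add_self, zero_add, zero_add] at this

variable [Finite F] (hn : 3 ≤ Fintype.card ι)
include hn

omit hQa hQb in
theorem exists_Q_level (μ : F) : ∃ w, f a w = 0 ∧ f b w = 0 ∧ Q w = μ :=
  exists_level h hab hn (φ := ⇑Q) (fun x y _ _ => Q_add hpol x y) μ

theorem eqv_core {v : ι → F} (hv : Q v ≠ 0) (hva : f v a ≠ 0) :
    ∃ w, f a w = 0 ∧ f b w = 0 ∧ Q w ≠ 0 ∧ Eqv f Q v w := by
  set x := (f v a)⁻¹ • v with hx
  have hxQ : Q x ≠ 0 := by
    rw [hx, Q_smul]
    exact mul_ne_zero (mul_ne_zero (inv_ne_zero hva) (inv_ne_zero hva)) hv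
  have hax : f a x = 1 := by
    rw [hx, h.form.bilinear.smul_right, h.comm a v, inv_mul_cancel₀ hva]
  have hwa := proj_perp_a h hab x
  have hwb := proj_perp_b h hab x
  set u := proj f a b x with hu
  have hxu : f x u = 0 := by
    rw [← proj_dot h hwa hwb (a := a) (b := b) x, ← hu, h.self]
  have he : (tA f a u (Q u) : Matrix ι ι F) *ᵥ x = b + (f x b + Q u) • a := by
    rw [tA_mulVec h hwa, h.comm x a, hax, hxu, one_smul, zero_add, mul_one]
    conv_lhs => arg 1; arg 1; rw [eq_proj_add h (a := a) (b := b) x, ← hu, h.comm x a, hax]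
    ext i
    simp only [Pi.add_apply, Pi.smul_apply, smul_eq_mul]
    linear_combination u i * h.two
  have hμ : f x b + Q u ≠ 0 := by
    intro e
    apply hxQ
    rw [← siegel_isometry h hpol hQa hwa x, he, e, zero_smul, add_zero, hQb]
  obtain ⟨w, h1, h2, h3⟩ := exists_Q_level h hpol hab hn (f x b + Q u)
  refine ⟨w, h1, h2, by rwa [h3], ?_⟩
  have hm := eqv_move h hpol hxQ hQa hwa
  rw [he] at hm
  have := Eqv.trans h (Eqv.symm h hm) (eqv_diag h hpol hQa hQb hab hμ h1 h2 h3)
  rwa [Eqv, hx, Rf_smul h hv (inv_ne_zero hva)] at this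

/-- Products of two reflections lie in `E0`. -/
theorem eqv_all {v v' : ι → F} (hv : Q v ≠ 0) (hv' : Q v' ≠ 0) : Eqv f Q v v' := by
  have hba : f b a = 1 := by rw [h.comm, hab]
  have red : ∀ {x}, Q x ≠ 0 → ∃ w, f a w = 0 ∧ f b w = 0 ∧ Q w ≠ 0 ∧ Eqv f Q x w := by
    intro x hx
    by_cases hxa : f x a = 0
    · by_cases hxb : f x b = 0
      · refine ⟨x, by rw [h.comm, hxa], by rw [h.comm, hxb], hx, ?_⟩
        rw [Eqv, Rf_sq h]
        exact one_mem _
      · obtain ⟨w, h1, h2, h3, h4⟩ := eqv_core h hpol hQb hQa hba hn hx hxb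
        exact ⟨w, h2, h1, h3, h4⟩
    · exact eqv_core h hpol hQa hQb hab hn hx hxa
  obtain ⟨w, ha1, hb1, hw1, e1⟩ := red hv
  obtain ⟨w', ha2, hb2, hw2, e2⟩ := red hv'
  have : CharP F 2 := CharTwo.of_one_ne_zero_of_two_eq_zero one_ne_zero h.two
  obtain ⟨s, hs⟩ := (Finite.injective_iff_surjective.mp (frobenius_inj F 2)) (Q w / Q w')
  rw [frobenius_def, pow_two] at hs
  have hs0 : s ≠ 0 := fun e => by
    rw [e, mul_zero, eq_comm, div_eq_zero_iff] at hs
    exact hs.elim hw1 hw2
  have hsw : Q (s • w') = Q w := by rw [Q_smul, hs, div_mul_cancel₀ _ hw2]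
  have d1 := eqv_diag h hpol hQa hQb hab hw1 ha1 hb1 rfl
  have d2 := eqv_diag h hpol hQa hQb hab hw1 (w := s • w')
    (by rw [h.form.bilinear.smul_right, ha2, mul_zero])
    (by rw [h.form.bilinear.smul_right, hb2, mul_zero]) hsw
  have e3 : Eqv f Q w w' := by
    have := Eqv.trans h (Eqv.symm h d1) d2
    rwa [Eqv, Rf_smul h hw2 hs0] at this
  exact Eqv.trans h (Eqv.trans h e1 e3) (Eqv.symm h e2)

/-! ### Generation by reflections -/

/-- Every isometry lies in `E0` or in its coset of a reflection. -/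
def Split (f : (ι → F) → (ι → F) → F) (Q : QuadraticForm F (ι → F)) (v₀ : ι → F) : Prop :=
  ∀ g : GL ι F, (∀ x, Q ((g : Matrix ι ι F) *ᵥ x) = Q x) →
    g ∈ E0 f Q ∨ g * Rf f Q v₀ ∈ E0 f Q

theorem step {v₀ v : ι → F} (hv₀ : Q v₀ ≠ 0) (hv : Q v ≠ 0) {g : GL ι F}
    (hg : g ∈ E0 f Q ∨ g * Rf f Q v₀ ∈ E0 f Q) :
    g * Rf f Q v ∈ E0 f Q ∨ g * Rf f Q v * Rf f Q v₀ ∈ E0 f Q := by
  rcases hg with hg | hg
  · right
    rw [mul_assoc]
    exact (E0 f Q).mul_mem hg (eqv_all h hpol hQa hQb hab hn hv hv₀)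
  · left
    have := (E0 f Q).mul_mem hg (eqv_all h hpol hQa hQb hab hn hv₀ hv)
    rwa [mul_assoc, ← mul_assoc (Rf f Q v₀), Rf_sq h, one_mul] at this

theorem split_of_reflections (hN : Cfsg.Agent.Lib.Forms.Nondeg Q)
    (hex : (∃ t : F, t ≠ 0 ∧ t ≠ 1) ∨ Module.finrank F (ι → F) ≠ 4) {v₀ : ι → F}
    (hv₀ : Q v₀ ≠ 0) : Split f Q v₀ := by
  intro g hg
  let g' : Cfsg.Agent.Lib.Forms.orth Q :=
    ⟨Cfsg.Agent.Lib.Forms.glEquiv g, fun x => by rw [Cfsg.Agent.Lib.Forms.glEquiv_apply]; exact hg x⟩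
  suffices hs : ∀ k : Cfsg.Agent.Lib.Forms.orth Q, ∀ u : GL ι F,
      (∀ x, (u : Matrix ι ι F) *ᵥ x = k.1 x) → u ∈ E0 f Q ∨ u * Rf f Q v₀ ∈ E0 f Q from
    hs g' g fun x => rfl
  intro k
  have hk : k ∈ Subgroup.closure (Cfsg.Agent.Lib.Forms.reflSet Q) := by
    rw [Cfsg.Agent.Lib.Forms.closure_reflSet hN hex]; trivial
  have hR : ∀ (v x : ι → F), (Rf f Q v : Matrix ι ι F) *ᵥ x =
      (Cfsg.Agent.Lib.Forms.orefl Q v).1 x := fun v x => by
    show _ = Cfsg.Agent.Lib.Forms.refl Q v x
    rw [Rf, tA_zero_mulVec h, Cfsg.Agent.Lib.Forms.refl_apply, hpol, h.comm v x, sub_eq_add_neg,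
      ← neg_smul]
    congr 2
    linear_combination ((Q v)⁻¹ * f x v) * h.two
  induction hk using Subgroup.closure_induction_right with
  | one =>
    intro u hu
    left
    rw [show u = 1 from gl_ext fun x => by rw [hu, Units.val_one, one_mulVec]; rfl]
    exact one_mem _
  | mul_right x hx y hy ih =>
    obtain ⟨v, hv, rfl⟩ := hy
    intro u hu
    have h1 : ∀ z, ((u * Rf f Q v : GL ι F) : Matrix ι ι F) *ᵥ z = x.1 z := fun z => by
      rw [gl_mul_mulVec, hu, hR]
      show x.1 ((Cfsg.Agent.Lib.Forms.refl Q v * Cfsg.Agent.Lib.Forms.refl Q v) z) = x.1 z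
      rw [Cfsg.Agent.Lib.Forms.refl_mul_self]
      rfl
    have := step h hpol hQa hQb hab hn hv₀ hv (ih _ h1)
    rwa [mul_assoc u, Rf_sq h, mul_one] at this
  | mul_inv_cancel x hx y hy ih =>
    obtain ⟨v, hv, rfl⟩ := hy
    intro u hu
    have h1 : ∀ z, ((u * Rf f Q v : GL ι F) : Matrix ι ι F) *ᵥ z = x.1 z := fun z => by
      rw [gl_mul_mulVec, hu, hR]
      show x.1 (((Cfsg.Agent.Lib.Forms.refl Q v)⁻¹ * Cfsg.Agent.Lib.Forms.refl Q v) z) = x.1 z
      rw [inv_mul_cancel]
      rfl
    have := step h hpol hQa hQb hab hn hv₀ hv (ih _ h1)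
    rwa [mul_assoc u, Rf_sq h, mul_one] at this

theorem split_of_two (hF : ∀ x : F, x = 0 ∨ x = 1) (hcard : Fintype.card ι = 4) {v₀ : ι → F}
    (hv₀ : Q v₀ ≠ 0) : Split f Q v₀ := by
  classical
  have hba : f b a = 1 := by rw [h.comm, hab]
  have one_of : ∀ {t : F}, t ≠ 0 → t = 1 := fun {t} ht => (hF t).resolve_left ht
  obtain ⟨u, hua, hub, hu1⟩ := exists_Q_level h hpol hab hn 1
  have hu0 : u ≠ 0 := fun e => by
    rw [e, QuadraticMap.map_zero] at hu1
    exact zero_ne_one hu1
  obtain ⟨z, hza, hzb, hzu⟩ := exists_perp_one h hab hu0 hua hub 1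
  -- coordinates on the space
  have hinj : ∀ x, f x a = 0 → f x b = 0 → f x u = 0 → f x z = 0 → x = 0 := by
    have hd := isLinearLeft_of_bilinear h.form.bilinear
    let T : (ι → F) →ₗ[F] (Fin 4 → F) :=
      { toFun := fun x => ![f x a, f x b, f x u, f x z]
        map_add' := fun x y => by ext i; fin_cases i <;> simp [hd.add_left]
        map_smul' := fun t x => by ext i; fin_cases i <;> simp [hd.smul_left] }
    have hsurj : Function.Surjective T := fun v => by
      refine ⟨v 0 • b + v 1 • a + v 2 • z + v 3 • u, ?_⟩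
      ext i
      fin_cases i <;>
        simp [T, hd.add_left, hd.smul_left, h.self, hab, hba, hzu, h.comm z a, h.comm z b, hza,
          hzb, h.comm u a, h.comm u b, hua, hub, h.comm a u, h.comm b u, h.comm a z, h.comm b z,
          h.comm u z]
    have hTinj : Function.Injective T :=
      (LinearMap.injective_iff_surjective_of_finrank_eq_finrank (by
        rw [Module.finrank_fintype_fun_eq_card, Module.finrank_fin_fun, hcard])).mpr hsurj
    intro x h1 h2 h3 h4
    refine hTinj ?_
    rw [map_zero]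
    ext i
    fin_cases i <;> simp [T, h1, h2, h3, h4]
  have hext : ∀ {g k : GL ι F}, (∀ x y, f ((g : Matrix ι ι F) *ᵥ x) ((g : Matrix ι ι F) *ᵥ y) =
      f x y) → (g : Matrix ι ι F) *ᵥ a = (k : Matrix ι ι F) *ᵥ a →
      (g : Matrix ι ι F) *ᵥ b = (k : Matrix ι ι F) *ᵥ b →
      (g : Matrix ι ι F) *ᵥ u = (k : Matrix ι ι F) *ᵥ u →
      (g : Matrix ι ι F) *ᵥ z = (k : Matrix ι ι F) *ᵥ z →
      (∀ x y, f ((k : Matrix ι ι F) *ᵥ x) ((k : Matrix ι ι F) *ᵥ y) = f x y) → g = k := by
    intro g k hg e1 e2 e3 e4 hk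
    refine gl_ext fun x => ?_
    set d := ((k⁻¹ * g : GL ι F) : Matrix ι ι F) *ᵥ x with hd
    have hkd : (k : Matrix ι ι F) *ᵥ d = (g : Matrix ι ι F) *ᵥ x := by
      rw [hd, ← gl_mul_mulVec, mul_inv_cancel_left]
    have key : ∀ p, (g : Matrix ι ι F) *ᵥ p = (k : Matrix ι ι F) *ᵥ p → f (d + x) p = 0 := by
      intro p hp
      rw [h.form.bilinear.add_left, ← hk d p, hkd, ← hp, hg, h.add_self]
    have hz := hinj (d + x) (key a e1) (key b e2) (key u e3) (key z e4)
    have hdx : d = x := funext fun i => h.eq_of_add (congrFun hz i)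
    rw [← hkd, hdx]
  -- a subgroup moving every singular point to `a`
  have orbit : ∀ x, x ≠ 0 → Q x = 0 → ∃ e ∈ E0 f Q, (e : Matrix ι ι F) *ᵥ x = a := by
    have toA : ∀ x, Q x = 0 → f b x = 1 → ∃ e ∈ E0 f Q, (e : Matrix ι ι F) *ᵥ x = a := by
      intro x hx hbx
      have hwb := proj_perp_a h hba x
      set w := proj f b a x with hw
      have hxw : f x w = 0 := by
        rw [← proj_dot h hwb (proj_perp_b h hba x) (a := b) (b := a) x, ← hw, h.self]
      refine ⟨_, siegel_mem h hQb hwb, ?_⟩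
      have hk := siegel_isometry h hpol hQb hwb x
      rw [tA_mulVec h hwb, h.comm x b, hbx, hxw, one_smul, zero_add, mul_one] at hk ⊢
      have he : x + w + Q w • b = a + (f x a + Q w) • b := by
        conv_lhs => arg 1; arg 1; rw [eq_proj_add h (a := b) (b := a) x, ← hw, h.comm x b, hbx]
        ext i
        simp only [Pi.add_apply, Pi.smul_apply, smul_eq_mul]
        linear_combination w i * h.two
      rw [he] at hk ⊢
      rw [hx, Q_add hpol, Q_smul, hQa, hQb, h.form.bilinear.smul_right, hab, mul_zero, add_zero,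
        zero_add, mul_one] at hk
      rw [hk, zero_smul, add_zero]
    have hb' : ∃ e ∈ E0 f Q, (e : Matrix ι ι F) *ᵥ b = a := by
      have hm := siegel_mem h hQa hua
      have h1 : (tA f a u (Q u) : Matrix ι ι F) *ᵥ b = b + u + a := by
        rw [tA_mulVec h hua, hba, hub, hu1]
        simp
      obtain ⟨e, he, hea⟩ := toA (b + u + a)
        (by rw [← h1, siegel_isometry h hpol hQa hua, hQb])
        (by rw [h.form.bilinear.add_right, h.form.bilinear.add_right, h.self, hub, hba]; simp)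
      exact ⟨e * tA f a u (Q u), (E0 f Q).mul_mem he hm, by rw [gl_mul_mulVec, h1, hea]⟩
    intro x hx0 hx
    by_cases hbx : f b x = 0
    · by_cases hax : f a x = 0
      · obtain ⟨w, hwa, hwb, hwx⟩ := exists_perp_one h hab hx0 hax hbx 1
        have hm := siegel_mem h hQa hwa
        have h1 : (tA f a w (Q w) : Matrix ι ι F) *ᵥ x = x + a := by
          rw [tA_mulVec h hwa, h.comm x a, hax, h.comm x w, hwx]
          simp
        obtain ⟨e, he, hea⟩ := toA (x + a)
          (by rw [← h1, siegel_isometry h hpol hQa hwa, hx])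
          (by rw [h.form.bilinear.add_right, hbx, hba, zero_add])
        exact ⟨e * tA f a w (Q w), (E0 f Q).mul_mem he hm, by rw [gl_mul_mulVec, h1, hea]⟩
      · -- `x` is the image of `b`
        obtain ⟨e, he, hea⟩ := hb'
        have hax' := one_of hax
        have hwa := proj_perp_a h hab x
        set w := proj f a b x with hw
        have hxw : f x w = 0 := by
          rw [← proj_dot h hwa (proj_perp_b h hab x) (a := a) (b := b) x, ← hw, h.self]
        refine ⟨e * tA f a w (Q w), (E0 f Q).mul_mem he (siegel_mem h hQa hwa), ?_⟩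
        have hk := siegel_isometry h hpol hQa hwa x
        rw [gl_mul_mulVec]
        rw [tA_mulVec h hwa, h.comm x a, hax', hxw, one_smul, zero_add, mul_one] at hk ⊢
        have he' : x + w + Q w • a = b + (f x b + Q w) • a := by
          conv_lhs => arg 1; arg 1; rw [eq_proj_add h (a := a) (b := b) x, ← hw, h.comm x a, hax']
          ext i
          simp only [Pi.add_apply, Pi.smul_apply, smul_eq_mul]
          linear_combination w i * h.two
        rw [he'] at hk ⊢
        rw [hx, Q_add hpol, Q_smul, hQa, hQb, h.form.bilinear.smul_right, hba, mul_zero, zero_add,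
          zero_add, mul_one] at hk
        rw [hk, zero_smul, add_zero, hea]
    · exact toA x hx (one_of hbx)
  intro g hg
  have hgf : ∀ x y, f ((g : Matrix ι ι F) *ᵥ x) ((g : Matrix ι ι F) *ᵥ y) = f x y := fun x y => by
    have h1 := hg (x + y)
    rw [mulVec_add, Q_add hpol, Q_add hpol, hg, hg] at h1
    linear_combination h1
  obtain ⟨e, he, hea⟩ := orbit _ (fun e0 => by
    have : a = 0 := gl_mulVec_injective g (e0.trans (mulVec_zero _).symm)
    rw [this, h.zero_l] at hab
    exact zero_ne_one hab) (by rw [hg, hQa] : Q ((g : Matrix ι ι F) *ᵥ a) = 0)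
  have hef : ∀ k ∈ E0 f Q, ∀ x y,
      f ((k : Matrix ι ι F) *ᵥ x) ((k : Matrix ι ι F) *ᵥ y) = f x y := fun k hk x y => by
    have h1 := E0_isometry h hpol hk (x + y)
    rw [mulVec_add, Q_add hpol, Q_add hpol, E0_isometry h hpol hk, E0_isometry h hpol hk] at h1
    linear_combination h1
  -- now fix `b` as well
  set g1 := e * g with hg1
  have hg1a : (g1 : Matrix ι ι F) *ᵥ a = a := by rw [hg1, gl_mul_mulVec, hea]
  have hg1Q : ∀ x, Q ((g1 : Matrix ι ι F) *ᵥ x) = Q x := fun x => by
    rw [hg1, gl_mul_mulVec, E0_isometry h hpol he, hg]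
  have hg1f : ∀ x y, f ((g1 : Matrix ι ι F) *ᵥ x) ((g1 : Matrix ι ι F) *ᵥ y) = f x y :=
    fun x y => by rw [hg1, gl_mul_mulVec, gl_mul_mulVec, hef e he, hgf]
  set b' := (g1 : Matrix ι ι F) *ᵥ b with hb'
  have hab' : f a b' = 1 := by rw [hb', ← hg1a, hg1f, hab]
  have hwa := proj_perp_a h hab b'
  set w := proj f a b b' with hw
  have hbw : f b' w = 0 := by
    rw [← proj_dot h hwa (proj_perp_b h hab b') (a := a) (b := b) b', ← hw, h.self]
  have htm := siegel_mem h hQa hwa
  have htb : (tA f a w (Q w) : Matrix ι ι F) *ᵥ b' = b := by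
    have hk := siegel_isometry h hpol hQa hwa b'
    rw [tA_mulVec h hwa, h.comm b' a, hab', hbw, one_smul, zero_add, mul_one] at hk ⊢
    have he' : b' + w + Q w • a = b + (f b' b + Q w) • a := by
      conv_lhs => arg 1; arg 1; rw [eq_proj_add h (a := a) (b := b) b', ← hw, h.comm b' a, hab']
      ext i
      simp only [Pi.add_apply, Pi.smul_apply, smul_eq_mul]
      linear_combination w i * h.two
    rw [he'] at hk ⊢
    rw [hb', hg1Q, Q_add hpol, Q_smul, hQa, hQb, h.form.bilinear.smul_right, hba, mul_zero,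
      zero_add, zero_add, mul_one] at hk
    rw [hb', hk, zero_smul, add_zero]
  set g2 := tA f a w (Q w) * g1 with hg2
  have h2a : (g2 : Matrix ι ι F) *ᵥ a = a := by
    rw [hg2, gl_mul_mulVec, hg1a, tA_mulVec h hwa, h.self, hwa]
    simp
  have h2b : (g2 : Matrix ι ι F) *ᵥ b = b := by rw [hg2, gl_mul_mulVec, ← hb', htb]
  have h2Q : ∀ x, Q ((g2 : Matrix ι ι F) *ᵥ x) = Q x := fun x => by
    rw [hg2, gl_mul_mulVec, siegel_isometry h hpol hQa hwa, hg1Q]
  have h2f : ∀ x y, f ((g2 : Matrix ι ι F) *ᵥ x) ((g2 : Matrix ι ι F) *ᵥ y) = f x y :=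
    fun x y => by
      rw [hg2, gl_mul_mulVec (tA f a w (Q w)) g1 x, gl_mul_mulVec (tA f a w (Q w)) g1 y,
        tA_isometry h, hg1f]
  suffices hs : g2 ∈ E0 f Q ∨ g2 * Rf f Q v₀ ∈ E0 f Q by
    have hge : g = e⁻¹ * (tA f a w (Q w) * g2) := by
      rw [hg2, ← mul_assoc (tA f a w (Q w)), tA_sq h hwa, one_mul, hg1, inv_mul_cancel_left]
    rcases hs with hs | hs
    · left; rw [hge]; exact mul_mem (inv_mem he) (mul_mem htm hs)
    · right; rw [hge, mul_assoc, mul_assoc]; exact mul_mem (inv_mem he) (mul_mem htm hs)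
  -- the stabiliser of `a` and `b`
  have fixing : ∀ k : GL ι F, (∀ x, Q ((k : Matrix ι ι F) *ᵥ x) = Q x) →
      (∀ x y, f ((k : Matrix ι ι F) *ᵥ x) ((k : Matrix ι ι F) *ᵥ y) = f x y) →
      (k : Matrix ι ι F) *ᵥ a = a → (k : Matrix ι ι F) *ᵥ b = b →
      (k : Matrix ι ι F) *ᵥ u = u → k = 1 ∨ k = Rf f Q u := by
    intro k kQ kf ka kb ku
    set d := (k : Matrix ι ι F) *ᵥ z + z with hd
    have hzQ : (k : Matrix ι ι F) *ᵥ z = z + d := by
      rw [hd, add_comm ((k : Matrix ι ι F) *ᵥ z) z, ← add_assoc, h.vec_add_self, zero_add]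
    have p1 : ∀ p, (k : Matrix ι ι F) *ᵥ p = p → f d p = 0 := fun p hp => by
      rw [hd, h.form.bilinear.add_left]
      conv_lhs => arg 1; arg 2; rw [← hp]
      rw [kf, h.add_self]
    have hmult : d = f d z • u := by
      have := hinj (d + f d z • u)
        (by rw [h.form.bilinear.add_left, h.form.bilinear.smul_left, p1 a ka, h.comm u a, hua,
          mul_zero, add_zero])
        (by rw [h.form.bilinear.add_left, h.form.bilinear.smul_left, p1 b kb, h.comm u b, hub,
          mul_zero, add_zero])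
        (by rw [h.form.bilinear.add_left, h.form.bilinear.smul_left, p1 u ku, h.self, mul_zero,
          add_zero])
        (by rw [h.form.bilinear.add_left, h.form.bilinear.smul_left, h.comm u z, hzu, mul_one,
          h.add_self])
      funext i
      exact h.eq_of_add (congrFun this i)
    rcases hF (f d z) with ht | ht
    · left
      refine hext kf ?_ ?_ ?_ ?_ (fun x y => by rw [Units.val_one, one_mulVec, one_mulVec])
      · rw [ka, Units.val_one, one_mulVec]
      · rw [kb, Units.val_one, one_mulVec]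
      · rw [ku, Units.val_one, one_mulVec]
      · rw [hzQ, hmult, ht, zero_smul, add_zero, Units.val_one, one_mulVec]
    · right
      refine hext kf ?_ ?_ ?_ ?_ (tA_isometry h _ _ _)
      · rw [ka, Rf, tA_zero_fix h hua]
      · rw [kb, Rf, tA_zero_fix h hub]
      · rw [ku, Rf, tA_zero_fix h (h.self u)]
      · rw [hzQ, hmult, ht, Rf, tA_zero_mulVec h, hu1, hzu]
        simp
  have step' := fun {k : GL ι F} {v : ι → F} (hv : Q v ≠ 0)
      (hk : k ∈ E0 f Q ∨ k * Rf f Q v₀ ∈ E0 f Q) => step h hpol hQa hQb hab hn hv₀ hv hk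
  have base : ∀ k : GL ι F, (k = 1 ∨ k = Rf f Q u) → k ∈ E0 f Q ∨ k * Rf f Q v₀ ∈ E0 f Q := by
    rintro k (rfl | rfl)
    · exact Or.inl (one_mem _)
    · have := step' (k := 1) (v := u) (by rw [hu1]; exact one_ne_zero) (Or.inl (one_mem _))
      rwa [one_mul] at this
  set u' := (g2 : Matrix ι ι F) *ᵥ u with hu'
  by_cases hne : u' = u
  · exact base g2 (fixing g2 h2Q h2f h2a h2b hne)
  · have hu'a : f u' a = 0 := by rw [hu', ← h2a, h2f, h.comm, hua]
    have hu'b : f u' b = 0 := by rw [hu', ← h2b, h2f, h.comm, hub]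
    have hu'Q : Q u' = 1 := by rw [hu', h2Q, hu1]
    have huu' : f u' u = 1 := by
      refine one_of fun e0 => ?_
      have hd' := hinj (u' + f u' z • u)
        (by rw [h.form.bilinear.add_left, h.form.bilinear.smul_left, hu'a, h.comm u a, hua,
          mul_zero, add_zero])
        (by rw [h.form.bilinear.add_left, h.form.bilinear.smul_left, hu'b, h.comm u b, hub,
          mul_zero, add_zero])
        (by rw [h.form.bilinear.add_left, h.form.bilinear.smul_left, e0, h.self, mul_zero,
          add_zero])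
        (by rw [h.form.bilinear.add_left, h.form.bilinear.smul_left, h.comm u z, hzu, mul_one,
          h.add_self])
      have hu'eq : u' = f u' z • u := funext fun i => h.eq_of_add (congrFun hd' i)
      rcases hF (f u' z) with ht | ht
      · rw [ht, zero_smul] at hu'eq
        rw [hu'eq, QuadraticMap.map_zero] at hu'Q
        exact zero_ne_one hu'Q
      · rw [ht, one_smul] at hu'eq
        exact hne hu'eq
    have hvQ : Q (u + u') = 1 := by
      rw [Q_add hpol, hu1, hu'Q, h.comm, huu']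
      linear_combination h.two
    have hv0 : Q (u + u') ≠ 0 := by rw [hvQ]; exact one_ne_zero
    have hRu : (Rf f Q (u + u') : Matrix ι ι F) *ᵥ u' = u := by
      rw [Rf, tA_zero_mulVec h, hvQ, h.form.bilinear.add_right, huu', h.self, add_zero, inv_one,
        one_mul, one_smul, add_comm u u', ← add_assoc, h.vec_add_self, zero_add]
    have hfx : ∀ p, f a p = 1 ∨ f b p = 1 → f p u = 0 → f p u' = 0 →
        (Rf f Q (u + u') : Matrix ι ι F) *ᵥ p = p := fun p _ e1 e2 =>
      tA_zero_fix h (by rw [h.form.bilinear.add_right, e1, e2, add_zero]) _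
    have hk := fixing (Rf f Q (u + u') * g2)
      (fun x => by rw [gl_mul_mulVec, Rf_isometry h hpol hv0, h2Q])
      (fun x y => by rw [gl_mul_mulVec _ g2 x, gl_mul_mulVec _ g2 y, Rf, tA_isometry h, h2f])
      (by rw [gl_mul_mulVec, h2a, hfx a (Or.inr hba) hua (by rw [h.comm, hu'a])])
      (by rw [gl_mul_mulVec, h2b, hfx b (Or.inl hab) hub (by rw [h.comm, hu'b])])
      (by rw [gl_mul_mulVec, ← hu', hRu])
    have hR : Rf f Q (u + u') * (Rf f Q (u + u') * g2) = g2 := by
      rw [← mul_assoc, Rf_sq h, one_mul]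
    rcases hk with hk | hk <;> rw [hk] at hR
    · rw [← hR, mul_one]
      have := step' hv0 (k := 1) (Or.inl (one_mem _))
      rwa [one_mul] at this
    · rw [← hR]
      left
      exact eqv_all h hpol hQa hQb hab hn hv0 (by rw [hu1]; exact one_ne_zero)

/-- A group between `E0` and the orthogonal group is one of the two. -/
theorem dichotomy (hN : Cfsg.Agent.Lib.Forms.Nondeg Q) {v₀ : ι → F} (hv₀ : Q v₀ ≠ 0)
    (hsplit : Split f Q v₀) {M : Subgroup (GL ι F)}
    (hEM : E0 f Q ≤ M) (hMO : ∀ g ∈ M, ∀ x, Q ((g : Matrix ι ι F) *ᵥ x) = Q x) :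
    (∀ g : GL ι F, g ∈ M ↔ ∀ x, Q ((g : Matrix ι ι F) *ᵥ x) = Q x) ∨
    (∀ g : GL ι F, g ∈ M ↔ (∀ x, Q ((g : Matrix ι ι F) *ᵥ x) = Q x) ∧
      Even ((g : Matrix ι ι F) - 1).rank) := by
  classical
  have hd : Fintype.card ι ≠ 2 := by omega
  by_cases hR : Rf f Q v₀ ∈ M
  · left
    refine fun g => ⟨hMO g, fun hg => ?_⟩
    rcases hsplit g hg with h1 | h1
    · exact hEM h1
    · have := M.mul_mem (hEM h1) hR
      rwa [mul_assoc, Rf_sq h, mul_one] at this
  right
  have par1 : parity (1 : GL ι F) = 0 := by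
    simp [parity]
  have parR : ∀ {v : ι → F}, Q v ≠ 0 → parity (Rf f Q v) = 1 := by
    intro v hv
    have hv' : v ≠ 0 := fun e => hv (by rw [e, QuadraticMap.map_zero])
    suffices ((Rf f Q v : Matrix ι ι F) - 1).rank = 1 by rw [parity, this, Nat.cast_one]
    rw [rank_sub_one]
    have e : LinearMap.range (Cfsg.Agent.Lib.Forms.dev (Cfsg.Agent.Lib.Forms.glEquiv (Rf f Q v))) =
        F ∙ v := by
      refine le_antisymm ?_ ?_
      · rintro _ ⟨x, rfl⟩
        rw [Cfsg.Agent.Lib.Forms.dev_apply, Cfsg.Agent.Lib.Forms.glEquiv_apply, Rf,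
          tA_zero_mulVec h, add_sub_cancel_left]
        exact Submodule.smul_mem _ _ (Submodule.mem_span_singleton_self v)
      · rw [Submodule.span_singleton_le_iff_mem]
        obtain ⟨x, hx⟩ := exists_pair_one h hv'
        refine ⟨Q v • x, ?_⟩
        rw [Cfsg.Agent.Lib.Forms.dev_apply, Cfsg.Agent.Lib.Forms.glEquiv_apply, Rf,
          tA_zero_mulVec h, add_sub_cancel_left, h.form.bilinear.smul_left, h.comm x v, hx,
          mul_one, inv_mul_cancel₀ hv, one_smul]
    rw [e, finrank_span_singleton hv']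
  have parS : ∀ g ∈ E0 f Q, parity g = 0 := by
    intro g hg
    induction hg using Subgroup.closure_induction with
    | mem g hg =>
      obtain ⟨c, w, hc, hw, rfl⟩ := hg
      by_cases hQw : Q w = 0
      · by_cases hl : ∃ t : F, w = t • c
        · obtain ⟨t, rfl⟩ := hl
          rw [hQw, show t • c = 0 + t • c from (zero_add _).symm, tA_shift h (h.zero_r c),
            tA_zero_zero h]
          exact par1
        push Not at hl
        by_cases hc0 : c = 0
        · rw [hc0, tA_zero_left h]; exact par1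
        suffices ((tA f c w (Q w) : Matrix ι ι F) - 1).rank = 2 by
          rw [parity, this]; rfl
        rw [rank_sub_one]
        have e : LinearMap.range (Cfsg.Agent.Lib.Forms.dev
            (Cfsg.Agent.Lib.Forms.glEquiv (tA f c w (Q w)))) = Submodule.span F {w, c} := by
          refine le_antisymm ?_ ?_
          · rintro _ ⟨x, rfl⟩
            rw [Cfsg.Agent.Lib.Forms.dev_apply, Cfsg.Agent.Lib.Forms.glEquiv_apply,
              tA_mulVec h hw, add_assoc, add_sub_cancel_left]
            exact Submodule.mem_span_pair.mpr ⟨_, _, rfl⟩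
          · rw [Submodule.span_le]
            have hl' : ∀ t : F, c ≠ t • w := fun t e0 => by
              rcases eq_or_ne t 0 with rfl | ht
              · exact hc0 (by rw [e0, zero_smul])
              · exact hl t⁻¹ (by rw [e0, smul_smul, inv_mul_cancel₀ ht, one_smul])
            have hw0 : w ≠ 0 := fun e0 => hl 0 (by rw [e0, zero_smul])
            obtain ⟨x, hx1, hx2⟩ := (toBilin_isSymp h.form).exists_perp_ne_zero hw0 hl'
            change f w x = 0 at hx1
            change f c x ≠ 0 at hx2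
            obtain ⟨y, hy1, hy2⟩ := (toBilin_isSymp h.form).exists_perp_ne_zero hc0 hl
            change f c y = 0 at hy1
            change f w y ≠ 0 at hy2
            rintro p (rfl | rfl)
            · refine ⟨(f c x)⁻¹ • x, ?_⟩
              rw [Cfsg.Agent.Lib.Forms.dev_apply, Cfsg.Agent.Lib.Forms.glEquiv_apply,
                tA_mulVec h hw, hQw, zero_mul, h.form.bilinear.smul_left,
                h.form.bilinear.smul_left, h.comm x c, inv_mul_cancel₀ hx2, h.comm x p, hx1]
              simp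
            · refine ⟨(f w y)⁻¹ • y, ?_⟩
              rw [Cfsg.Agent.Lib.Forms.dev_apply, Cfsg.Agent.Lib.Forms.glEquiv_apply,
                tA_mulVec h hw, hQw, zero_mul, h.form.bilinear.smul_left,
                h.form.bilinear.smul_left, h.comm y p, hy1, h.comm y w, inv_mul_cancel₀ hy2]
              simp
        rw [e]
        have hli : LinearIndependent F ![w, c] := by
          rw [LinearIndependent.pair_iff]
          intro s t hst
          rcases eq_or_ne s 0 with rfl | hs
          · rw [zero_smul, zero_add] at hst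
            exact ⟨rfl, (smul_eq_zero.mp hst).resolve_right hc0⟩
          · refine absurd ?_ (hl (-(t / s)))
            have : s⁻¹ • (s • w + t • c) = 0 := by rw [hst, smul_zero]
            rw [smul_add, smul_smul, smul_smul, inv_mul_cancel₀ hs, one_smul] at this
            rw [neg_smul, div_eq_inv_mul]
            exact eq_neg_of_add_eq_zero_left this
        have h2 := finrank_span_eq_card hli
        rw [Fintype.card_fin, show Set.range ![w, c] = {w, c} by
          rw [Matrix.range_cons, Matrix.range_cons, Matrix.range_empty]; simp [Set.pair_comm]] at h2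
        exact h2
      · have hv' : Q (w + Q w • c) = Q w := by
          rw [Q_add hpol, Q_smul, hc, h.form.bilinear.smul_right, h.comm w c, hw]; ring
        have e : tA f c w (Q w) = Rf f Q w * Rf f Q (w + Q w • c) := by
          refine (gl_ext fun x => ?_).symm
          rw [gl_mul_mulVec, Rf, Rf, tA_zero_mulVec h, tA_zero_mulVec h, tA_mulVec h hw, hv']
          simp only [h.form.bilinear.add_left, h.form.bilinear.add_right,
            h.form.bilinear.smul_left, h.form.bilinear.smul_right, h.self, hw, mul_zero, add_zero]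
          ext i
          simp only [Pi.add_apply, Pi.smul_apply, smul_eq_mul]
          field_simp
          linear_combination (f x w * w i) * h.two
        rw [e, parity_mul hN hd (Rf_isometry h hpol hQw)
          (Rf_isometry h hpol (by rwa [hv'])), parR hQw, parR (by rwa [hv'])]
        rfl
    | one => exact par1
    | mul g k hg hk e1 e2 =>
      rw [parity_mul hN hd (E0_isometry h hpol hg) (E0_isometry h hpol hk), e1, e2, add_zero]
    | inv g hg e =>
      have := parity_mul hN hd (E0_isometry h hpol ((E0 f Q).inv_mem hg)) (E0_isometry h hpol hg)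
      rw [inv_mul_cancel, par1, e, add_zero] at this
      exact this.symm
  refine fun g => ⟨fun hg => ⟨hMO g hg, ?_⟩, fun hg => ?_⟩
  · rw [even_iff_parity]
    rcases hsplit g (hMO g hg) with h1 | h1
    · exact parS g h1
    · refine absurd ?_ hR
      have := M.mul_mem (M.inv_mem hg) (hEM h1)
      rwa [inv_mul_cancel_left] at this
  · rcases hsplit g hg.1 with h1 | h1
    · exact hEM h1
    · exfalso
      have h2 := parity_mul hN hd hg.1 (Rf_isometry h hpol hv₀)
      rw [parS _ h1, parR hv₀, (even_iff_parity g).mp hg.2, zero_add] at h2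
      exact zero_ne_one h2

end Cfsg.Agent.Lib.Subspaces.SympTAReflect
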