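import Cfsg.Agent.Lib.Subspaces.SympTAQuad

/-!
The exceptional configuration in `Sp₄(2)`: if some good point has two classes of good partners then
all points are good and the group has order 120 or 360.
-/

set_option autoImplicit false

namespace Cfsg.Agent.Lib.Subspaces.SympTASmall

open Matrix Cfsg.Agent.Lib.Subspaces.Transvection Cfsg.Agent.Lib.Subspaces.FormVec
  Cfsg.Agent.Lib.Subspaces.SympGen Cfsg.Agent.Lib.Subspaces.SympCenters
  Cfsg.Agent.Lib.Subspaces.SympTA Cfsg.Agent.Lib.Subspaces.SympTAQuad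

variable {ι : Type} [Fintype ι] [DecidableEq ι] {F : Type*} [Field F] [Fintype F]
  {f : (ι → F) → (ι → F) → F} {L : Subgroup (GL ι F)} (h : Ctx f L)
  (hF : Fintype.card F = 2) (hcard : Fintype.card ι = 4)

include hF in
theorem zero_or_one (x : F) : x = 0 ∨ x = 1 := by
  classical
  by_contra hne
  push Not at hne
  have h3 : ({0, 1, x} : Finset F).card = 3 := by
    simp [hne.1.symm, hne.2.symm]
  have := Finset.card_le_univ ({0, 1, x} : Finset F)
  omega

include hF in
theorem eq_one {x : F} (hx : x ≠ 0) : x = 1 := (zero_or_one hF x).resolve_left hx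

include h hF in
/-- If `b` and `b + a` are good partners of `a`, every partner of `a` is good. -/
theorem two_classes {a b : ι → F} (ha : Good f L a) (hb : Good f L b) (hab : f a b = 1)
    (hb' : Good f L (b + a)) {x : ι → F} (hax : f a x = 1) : Good f L x := by
  have hwa := proj_perp_a h hab x
  have hwb := proj_perp_b h hab x
  set w := proj f a b x with hw
  have hxw : f x w = 0 := by
    rw [← proj_dot h hwa hwb (a := a) (b := b) x, ← hw, h.self]
  set g := tA f a w (phi f L a w) with hg
  have hgx : (g : Matrix ι ι F) *ᵥ x = b + (f x b + phi f L a w) • a := by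
    rw [hg, tA_mulVec h hwa, h.comm x a, hax, hxw, one_smul, zero_add, mul_one]
    conv_lhs => arg 1; arg 1; rw [eq_proj_add h (a := a) (b := b) x, ← hw, h.comm x a, hax]
    ext i
    simp only [Pi.add_apply, Pi.smul_apply, smul_eq_mul]
    linear_combination w i * h.two
  have hgood : Good f L ((g : Matrix ι ι F) *ᵥ x) := by
    rw [hgx]
    rcases zero_or_one hF (f x b + phi f L a w) with e | e
    · rwa [e, zero_smul, add_zero]
    · rwa [e, one_smul]
  have := good_map h hgood (phi_spec h ha hwa)
  rwa [← hg, ← gl_mul_mulVec, hg, tA_sq h hwa, Units.val_one, one_mulVec] at this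

include h hF in
theorem all_good {a b : ι → F} (ha : Good f L a) (hb : Good f L b) (hab : f a b = 1)
    (hb' : Good f L (b + a)) {x : ι → F} (hx : x ≠ 0) : Good f L x := by
  obtain ⟨z, hz1, hz2⟩ := exists_nonorth_both h.form ha.1 hx
  have hza : f a z = 1 := eq_one hF (by rwa [h.comm])
  have hzx : f z x = 1 := eq_one hF hz2
  have hz : Good f L z := two_classes h hF ha hb hab hb' hza
  have hsum : Good f L (a + z) := two_classes h hF ha hb hab hb'
    (by rw [h.form.bilinear.add_right, h.self, hza, zero_add])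
  exact two_classes h hF hz ha (by rw [h.comm, hza]) hsum hzx

/-- The stabiliser of a vector in `L`. -/
def stab (L : Subgroup (GL ι F)) (a : ι → F) : Subgroup ↥L where
  carrier := {g | ((g : GL ι F) : Matrix ι ι F) *ᵥ a = a}
  one_mem' := by simp
  mul_mem' {g k} hg hk := by
    show (((g * k : ↥L) : GL ι F) : Matrix ι ι F) *ᵥ a = a
    rw [Subgroup.coe_mul, gl_mul_mulVec, hk, hg]
  inv_mem' {g} hg := by
    show (((g⁻¹ : ↥L) : GL ι F) : Matrix ι ι F) *ᵥ a = a
    conv_lhs => rw [← hg]
    rw [Subgroup.coe_inv, gl_inv_mulVec]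

section fixed

variable (hall : ∀ x : ι → F, x ≠ 0 → Good f L x) {a : ι → F} (ha0 : a ≠ 0)
include h hF hcard hall ha0

theorem card_stab : (Nat.card (stab L a) = 8 ∨ Nat.card (stab L a) = 24) ∧
    ((∀ w, f a w = 0 → (∀ t : F, w ≠ t • a) → phi f L a w = 1) →
      Nat.card (stab L a) = 24) := by
  classical
  have ha := hall a ha0
  obtain ⟨b, hab⟩ := exists_pair_one h ha0
  have hba : f b a = 1 := by rw [h.comm, hab]
  obtain ⟨u, hu0, hua, hub⟩ := exists_perp_ne h hab (by omega)
  obtain ⟨z, hza, hzb, hzu⟩ := exists_perp_one h hab hu0 hua hub 1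
  have huz : f u z = 1 := by rw [h.comm, hzu]
  let W := {w : ι → F // f a w = 0 ∧ f b w = 0}
  let eW : F × F ≃ W :=
    { toFun := fun p => ⟨p.1 • u + p.2 • z, by
        simp [h.form.bilinear.add_right, h.form.bilinear.smul_right, hua, hza],
        by simp [h.form.bilinear.add_right, h.form.bilinear.smul_right, hub, hzb]⟩
      invFun := fun w => (f w.1 z, f w.1 u)
      left_inv := fun p => by
        simp [h.form.bilinear.add_left, h.form.bilinear.smul_left, h.self, huz, hzu]
      right_inv := fun w => by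
        refine Subtype.ext (funext fun i => h.eq_of_add ?_)
        exact congrFun (eq_zero_of_four h hab hcard hua hub hza hzb hzu
          (x := f w.1 z • u + f w.1 u • z + w.1)
          (by simp [h.form.bilinear.add_left, h.form.bilinear.smul_left, h.comm u a, hua,
            h.comm z a, hza, h.comm w.1 a, w.2.1])
          (by simp [h.form.bilinear.add_left, h.form.bilinear.smul_left, h.comm u b, hub,
            h.comm z b, hzb, h.comm w.1 b, w.2.2])
          (by simp [h.form.bilinear.add_left, h.form.bilinear.smul_left, h.self, hzu, h.add_self])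
          (by simp [h.form.bilinear.add_left, h.form.bilinear.smul_left, h.self, huz, h.add_self]))
          i }
  have hW4 : Nat.card W = 4 := by
    rw [← Nat.card_congr eW, Nat.card_prod, Nat.card_eq_fintype_card, hF]
  let W' := {w : W // w.1 ≠ 0}
  have hW3 : Nat.card W' = 3 := by
    have h0 : (0 : ι → F) ∈ {w | f a w = 0 ∧ f b w = 0} := ⟨h.zero_r a, h.zero_r b⟩
    have : Fintype.card W = 4 := by rw [← Nat.card_eq_fintype_card, hW4]
    rw [Nat.card_eq_fintype_card, Fintype.card_subtype_compl,
      show Fintype.card {w : W // w.1 = 0} = 1 from Fintype.card_eq_one_iff.mpr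
        ⟨⟨⟨0, h0⟩, rfl⟩, fun y => Subtype.ext (Subtype.ext y.2)⟩, this]
  -- the action of the stabiliser on `W`
  have hsp : ∀ x, f a x = 0 → x = f x b • a + proj f a b x := fun x hx => by
    have := eq_proj_add h (a := a) (b := b) x
    rwa [h.comm x a, hx, zero_smul, add_zero] at this
  have hperp : ∀ (g : stab L a) x, f a x = 0 →
      f a (((g.1 : GL ι F) : Matrix ι ι F) *ᵥ x) = 0 := fun g x hx => by
    have e := h.iso _ g.1.2 a x
    rwa [g.2, hx] at e
  have hproj : ∀ (g : stab L a) x, f a x = 0 →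
      proj f a b (((g.1 : GL ι F) : Matrix ι ι F) *ᵥ proj f a b x) =
        proj f a b (((g.1 : GL ι F) : Matrix ι ι F) *ᵥ x) := fun g x hx => by
    conv_rhs => rw [hsp x hx, mulVec_add, mulVec_smul, g.2]
    simp only [proj, h.form.bilinear.add_left, h.form.bilinear.smul_left, h.self, hab]
    ext i
    simp only [Pi.add_apply, Pi.smul_apply, smul_eq_mul]
    linear_combination (-((x i) * 0)) - (f x b * a i) * h.two
  have hne : ∀ (g : stab L a) (w : W'),
      proj f a b (((g.1 : GL ι F) : Matrix ι ι F) *ᵥ w.1.1) ≠ 0 := fun g w e => by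
    have hgw := hsp _ (hperp g _ w.1.2.1)
    rw [e, add_zero] at hgw
    have ga : ((g.1 : GL ι F) : Matrix ι ι F) *ᵥ a = a := g.2
    have hw : w.1.1 = f (((g.1 : GL ι F) : Matrix ι ι F) *ᵥ w.1.1) b • a :=
      gl_mulVec_injective (g.1 : GL ι F) (by
        show ((g.1 : GL ι F) : Matrix ι ι F) *ᵥ _ = ((g.1 : GL ι F) : Matrix ι ι F) *ᵥ _
        rw [mulVec_smul, ga]
        exact hgw)
    have h0 : f w.1.1 b = 0 := by rw [h.comm]; exact w.1.2.2
    have hw' : f (((g.1 : GL ι F) : Matrix ι ι F) *ᵥ w.1.1) b = 0 := by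
      have := congrArg (fun v => f v b) hw
      simp only [h0, h.form.bilinear.smul_left, hab, mul_one] at this
      exact this.symm
    rw [hw', zero_smul] at hw
    exact w.2 hw
  let act : stab L a → W' → W' := fun g w =>
    ⟨⟨proj f a b (((g.1 : GL ι F) : Matrix ι ι F) *ᵥ w.1.1), proj_perp_a h hab _,
      proj_perp_b h hab _⟩, hne g w⟩
  have hmul : ∀ g k w, act (g * k) w = act g (act k w) := fun g k w => by
    refine Subtype.ext (Subtype.ext ?_)
    show proj f a b (((g.1 * k.1 : ↥L) : GL ι F).1 *ᵥ w.1.1) = _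
    rw [Subgroup.coe_mul, gl_mul_mulVec]
    exact (hproj g _ (hperp k _ w.1.2.1)).symm
  have hone : ∀ w, act 1 w = w := fun w => by
    refine Subtype.ext (Subtype.ext ?_)
    show proj f a b (((1 : ↥L) : GL ι F).1 *ᵥ w.1.1) = _
    rw [Subgroup.coe_one, Units.val_one, one_mulVec, proj_self h w.1.2.1 w.1.2.2]
  let ρ : stab L a →* Equiv.Perm W' :=
    MonoidHom.mk' (fun g => ⟨act g, act g⁻¹,
      fun w => by rw [← hmul, inv_mul_cancel, hone],
      fun w => by rw [← hmul, mul_inv_cancel, hone]⟩)
      (fun g k => Equiv.ext fun w => hmul g k w)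
  -- its kernel
  have hker : Nat.card ρ.ker = 4 := by
    rw [← hW4]
    refine Nat.card_congr (Equiv.ofBijective
      (fun g : ρ.ker => (⟨proj f a b (((g.1.1 : GL ι F) : Matrix ι ι F) *ᵥ b),
        proj_perp_a h hab _, proj_perp_b h hab _⟩ : W)) ⟨?_, ?_⟩)
    · intro g k e
      have e' : proj f a b (((g.1.1 : GL ι F) : Matrix ι ι F) *ᵥ b) =
          proj f a b (((k.1.1 : GL ι F) : Matrix ι ι F) *ᵥ b) := congrArg Subtype.val e
      have key : ∀ g : ρ.ker, (g.1.1 : GL ι F) = tA f a
          (proj f a b (((g.1.1 : GL ι F) : Matrix ι ι F) *ᵥ b))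
          (phi f L a (proj f a b (((g.1.1 : GL ι F) : Matrix ι ι F) *ᵥ b))) := by
        intro g
        have hu := eq_tA_of_unipotent h hab (h.iso _ g.1.1.2) g.1.2 (fun v hv => by
          have hgv := hperp g.1 v hv
          refine ⟨f (((g.1.1 : GL ι F) : Matrix ι ι F) *ᵥ v) b + f v b, ?_⟩
          by_cases hw : proj f a b v = 0
          · conv_lhs => rw [hsp v hv, hw, add_zero, mulVec_smul, g.1.2]
            conv_rhs => arg 1; rw [hsp v hv, hw, add_zero]
            rw [hsp v hv, hw, add_zero, mulVec_smul, g.1.2]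
            ext i
            simp only [Pi.add_apply, Pi.smul_apply, smul_eq_mul, h.form.bilinear.smul_left, hab]
            linear_combination (-(f v b * a i)) * h.two
          · have e0 := congrArg (fun p : Equiv.Perm W' => (p ⟨⟨proj f a b v, proj_perp_a h hab v,
              proj_perp_b h hab v⟩, hw⟩).1.1) g.2
            change proj f a b (_ *ᵥ proj f a b v) = proj f a b v at e0
            rw [hproj g.1 v hv] at e0
            conv_lhs => rw [hsp _ hgv, e0]
            conv_rhs => arg 1; rw [hsp v hv]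
            ext i
            simp only [Pi.add_apply, Pi.smul_apply, smul_eq_mul]
            linear_combination (-(f v b * a i)) * h.two)
        have hm : (g.1.1 : GL ι F) ∈ L := g.1.1.2
        rw [hu] at hm
        have e1 := phi_eq h ha (proj_perp_a h hab _) hm
        conv_lhs => rw [hu]
        rw [e1]
      refine Subtype.ext (Subtype.ext (Subtype.ext ?_))
      rw [key g, key k, e']
    · intro w
      have hm := phi_spec h ha w.2.1
      have hfix : ((⟨_, hm⟩ : ↥L) : GL ι F).1 *ᵥ a = a := by
        show (tA f a w.1 (phi f L a w.1) : Matrix ι ι F) *ᵥ a = a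
        rw [tA_mulVec h w.2.1, h.self, w.2.1]
        simp
      refine ⟨⟨⟨⟨_, hm⟩, hfix⟩, ?_⟩, Subtype.ext ?_⟩
      · refine Equiv.ext fun w' => Subtype.ext (Subtype.ext ?_)
        show proj f a b ((tA f a w.1 (phi f L a w.1) : Matrix ι ι F) *ᵥ w'.1.1) = w'.1.1
        rw [tA_mulVec h w.2.1, h.comm w'.1.1 a, w'.1.2.1, zero_smul, mul_zero, add_zero, add_zero]
        conv_rhs => rw [← proj_self h w'.1.2.1 w'.1.2.2]
        simp only [proj, h.form.bilinear.add_left, h.form.bilinear.smul_left, h.self, hab,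
          h.comm w'.1.1 b, w'.1.2.2, h.comm w'.1.1 a, w'.1.2.1]
        ext i
        simp only [Pi.add_apply, Pi.smul_apply, smul_eq_mul]
        linear_combination (f w'.1.1 w.1 * a i) * h.two
      · show proj f a b ((tA f a w.1 (phi f L a w.1) : Matrix ι ι F) *ᵥ b) = w.1
        rw [tA_mulVec h w.2.1, hba]
        conv_rhs => rw [← proj_self h w.2.1 w.2.2]
        simp only [proj, h.form.bilinear.add_left, h.form.bilinear.smul_left, h.self, hab, hba,
          h.comm w.1 b, w.2.2, h.comm w.1 a, w.2.1]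
        ext i
        simp only [Pi.add_apply, Pi.smul_apply, smul_eq_mul]
        linear_combination (phi f L a w.1 * a i + b i) * h.two
  have hprod : Nat.card (stab L a) = Nat.card ρ.range * 4 := by
    rw [← hker, ← Subgroup.index_ker ρ, Subgroup.index_mul_card]
  have hdvd : Nat.card ρ.range ∣ 6 := by
    have := Subgroup.card_subgroup_dvd_card ρ.range
    rwa [Nat.card_perm, hW3] at this
  -- transvections in the image
  have htv : ∀ w : W', phi f L a w.1.1 = 1 → ∃ g : stab L a, ∀ x : W',
      (ρ g x).1.1 = x.1.1 + f x.1.1 w.1.1 • w.1.1 := by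
    intro w hw
    have hwa := w.1.2.1
    have hc := hall _ w.2
    have hcross := phi_cross h hc ha (by rw [h.comm, hwa]) (fun t e => by
      rcases eq_or_ne t 0 with rfl | ht
      · exact ha0 (by rw [e, zero_smul])
      · have e2 := congrArg (fun v => f v b) e
        simp only [hab, h.form.bilinear.smul_left, h.comm w.1.1 b, w.1.2.2, mul_zero] at e2
        exact one_ne_zero e2) 1 1 (by rw [one_smul, hw]; exact one_ne_zero)
    rw [one_smul, one_smul, hw, mul_one, mul_one] at hcross
    have hac : f w.1.1 a = 0 := by rw [h.comm, hwa]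
    have hm := phi_spec h hc hac
    rw [hcross] at hm
    have hfix : ((⟨_, hm⟩ : ↥L) : GL ι F).1 *ᵥ a = a := by
      show (tA f w.1.1 a 1 : Matrix ι ι F) *ᵥ a = a
      rw [tA_mulVec h hac, h.self, hwa]
      simp
    refine ⟨⟨⟨_, hm⟩, hfix⟩, fun x => ?_⟩
    show proj f a b ((tA f w.1.1 a 1 : Matrix ι ι F) *ᵥ x.1.1) = _
    rw [tA_mulVec h hac, h.comm x.1.1 a, x.1.2.1, zero_add, one_mul]
    simp only [proj, h.form.bilinear.add_left, h.form.bilinear.smul_left, h.self, hab,
      h.comm x.1.1 b, x.1.2.2, h.comm x.1.1 a, x.1.2.1, h.comm w.1.1 b, w.1.2.2,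
      h.comm w.1.1 a, w.1.2.1]
    ext i
    simp only [Pi.add_apply, Pi.smul_apply, smul_eq_mul]
    linear_combination (f x.1.1 w.1.1 * a i) * h.two
  let wu : W' := ⟨⟨u, hua, hub⟩, hu0⟩
  let wz : W' := ⟨⟨z, hza, hzb⟩, fun e => by
    rw [show z = 0 from e, h.zero_l] at hzu; exact zero_ne_one hzu⟩
  let wuz : W' := ⟨⟨u + z, by rw [h.form.bilinear.add_right, hua, hza, add_zero],
    by rw [h.form.bilinear.add_right, hub, hzb, add_zero]⟩, fun e => by
      have := congrArg (fun v => f v z) (show u + z = 0 from e)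
      simp only [h.form.bilinear.add_left, huz, h.self, add_zero, h.zero_l] at this
      exact one_ne_zero this⟩
  -- the transvection at `c` fixes `c` and moves a vector not orthogonal to it
  have hfix : ∀ {c : W'} {g : stab L a}, (∀ x : W', (ρ g x).1.1 = x.1.1 + f x.1.1 c.1.1 • c.1.1) →
      ρ g c = c := fun {c g} hg => Subtype.ext (Subtype.ext (by
        rw [hg, h.self, zero_smul, add_zero]))
  have hmove : ∀ {c d : W'} {g : stab L a},
      (∀ x : W', (ρ g x).1.1 = x.1.1 + f x.1.1 c.1.1 • c.1.1) → f d.1.1 c.1.1 = 1 →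
      ρ g d ≠ d := fun {c d g} hg hd e => c.2 (by
        have := congrArg (fun y : W' => y.1.1) e
        simp only [hg, hd, one_smul] at this
        exact add_eq_left.mp this)
  have hsum : phi f L a u + phi f L a z + phi f L a (u + z) = 1 := by
    rw [phi_add h ha hua hza, huz]
    linear_combination (phi f L a u + phi f L a z) * h.two
  have heven : 2 ∣ Nat.card ρ.range := by
    obtain ⟨c, d, hc, hd⟩ : ∃ c d : W', phi f L a c.1.1 = 1 ∧ f d.1.1 c.1.1 = 1 := by
      rcases zero_or_one hF (phi f L a u) with e1 | e1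
      · rcases zero_or_one hF (phi f L a z) with e2 | e2
        · refine ⟨wuz, wu, by rw [e1, e2, zero_add, zero_add] at hsum; exact hsum, ?_⟩
          show f u (u + z) = 1
          rw [h.form.bilinear.add_right, h.self, huz, zero_add]
        · exact ⟨wz, wu, e2, huz⟩
      · exact ⟨wu, wz, e1, hzu⟩
    obtain ⟨g, hg⟩ := htv c hc
    have hne1 : (⟨ρ g, g, rfl⟩ : ρ.range) ≠ 1 := fun e =>
      hmove hg hd (by rw [show ρ g = 1 from congrArg Subtype.val e]; rfl)
    have hsq : (⟨ρ g, g, rfl⟩ : ρ.range) * ⟨ρ g, g, rfl⟩ = 1 := by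
      refine Subtype.ext (Equiv.ext fun x => Subtype.ext (Subtype.ext ?_))
      show (ρ g (ρ g x)).1.1 = x.1.1
      rw [hg, hg, h.form.bilinear.add_left, h.form.bilinear.smul_left, h.self, mul_zero, add_zero,
        add_assoc, ← add_smul, h.add_self, zero_smul, add_zero]
    have h2 : orderOf (⟨ρ g, g, rfl⟩ : ρ.range) = 2 :=
      orderOf_eq_prime (by rw [pow_two, hsq]) hne1
    rw [← h2]
    exact orderOf_dvd_natCard _
  refine ⟨?_, fun hminus => ?_⟩
  · have := Nat.le_of_dvd (by norm_num) hdvd
    rw [hprod]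
    interval_cases (Nat.card ρ.range) <;> omega
  · have hl : ∀ c : W', phi f L a c.1.1 = 1 := fun c => hminus _ c.1.2.1 fun t e => c.2 (by
      have := congrArg (fun v => f v b) e
      simp only [h.comm c.1.1 b, c.1.2.2, h.form.bilinear.smul_left, hab, mul_one] at this
      rw [e, ← this, zero_smul])
    obtain ⟨g1, hg1⟩ := htv wu (hl _)
    obtain ⟨g2, hg2⟩ := htv wz (hl _)
    obtain ⟨g3, hg3⟩ := htv wuz (hl _)
    have d1 : f wu.1.1 wz.1.1 = 1 := huz
    have d2 : f wz.1.1 wu.1.1 = 1 := hzu
    have d3 : f wu.1.1 wuz.1.1 = 1 := by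
      show f u (u + z) = 1
      rw [h.form.bilinear.add_right, h.self, huz, zero_add]
    have d4 : f wz.1.1 wuz.1.1 = 1 := by
      show f z (u + z) = 1
      rw [h.form.bilinear.add_right, h.self, hzu, add_zero]
    have n12 : ρ g1 ≠ ρ g2 := fun e => hmove hg2 d1 (by rw [← e]; exact hfix hg1)
    have n13 : ρ g1 ≠ ρ g3 := fun e => hmove hg3 d3 (by rw [← e]; exact hfix hg1)
    have n23 : ρ g2 ≠ ρ g3 := fun e => hmove hg3 d4 (by rw [← e]; exact hfix hg2)
    have n1 : ρ g1 ≠ 1 := fun e => hmove hg1 d2 (by rw [e]; rfl)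
    have n2 : ρ g2 ≠ 1 := fun e => hmove hg2 d1 (by rw [e]; rfl)
    have n3 : ρ g3 ≠ 1 := fun e => hmove hg3 d3 (by rw [e]; rfl)
    have h4 : 4 ≤ Nat.card ρ.range := by
      rw [Nat.card_eq_fintype_card]
      refine le_trans (le_of_eq ?_) (Finset.card_le_univ
        ({1, ⟨ρ g1, g1, rfl⟩, ⟨ρ g2, g2, rfl⟩, ⟨ρ g3, g3, rfl⟩} : Finset ρ.range))
      simp [Subtype.ext_iff, n12, n13, n23, n1.symm, n2.symm, n3.symm]
    have := Nat.le_of_dvd (by norm_num) hdvd
    rw [hprod]
    interval_cases (Nat.card ρ.range) <;> omega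

end fixed

include h hF hcard in
theorem card_group (hall : ∀ x : ι → F, x ≠ 0 → Good f L x)
    (hirr : ∀ W : Submodule F (ι → F),
      (∀ g ∈ L, ∀ w ∈ W, (g : Matrix ι ι F) *ᵥ w ∈ W) → W = ⊥ ∨ W = ⊤) :
    Nat.card L = 120 ∨ Nat.card L = 360 := by
  classical
  let X := {x : ι → F // x ≠ 0}
  have hX : Nat.card X = 15 := by
    rw [Nat.card_eq_fintype_card, Fintype.card_subtype_compl, Fintype.card_subtype_eq,
      Fintype.card_fun, hF, hcard]
    rfl
  letI : MulAction ↥L X :=
    { smul := fun g x => ⟨((g : GL ι F) : Matrix ι ι F) *ᵥ x.1, fun e =>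
        x.2 (gl_mulVec_injective _ (e.trans (mulVec_zero _).symm))⟩
      one_smul := fun x => Subtype.ext (by
        show ((1 : ↥L) : GL ι F).1 *ᵥ x.1 = x.1
        rw [Subgroup.coe_one, Units.val_one, one_mulVec])
      mul_smul := fun g k x => Subtype.ext (gl_mul_mulVec _ _ _) }
  have hstab : ∀ x : X, MulAction.stabilizer ↥L x = stab L x.1 := fun x => by
    ext g
    exact Subtype.ext_iff
  have horb : ∀ x : X, Nat.card (MulAction.orbit ↥L x) * Nat.card (stab L x.1) = Nat.card L := by
    intro x
    rw [← hstab, ← Nat.card_prod]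
    exact Nat.card_congr (MulAction.orbitProdStabilizerEquivGroup ↥L x)
  have hfull : ∀ x : X, Submodule.span F (Subtype.val '' MulAction.orbit ↥L x) = ⊤ := by
    intro x
    refine (hirr _ fun g hg w hw => ?_).resolve_left fun e => x.2 ?_
    · induction hw using Submodule.span_induction with
      | mem y hy =>
        obtain ⟨y', ⟨k, rfl⟩, rfl⟩ := hy
        exact Submodule.subset_span ⟨(⟨g, hg⟩ * k : ↥L) • x, ⟨_, rfl⟩,
          congrArg Subtype.val (mul_smul (⟨g, hg⟩ : ↥L) k x)⟩
      | zero => rw [mulVec_zero]; exact Submodule.zero_mem _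
      | add y y' _ _ e e' => rw [mulVec_add]; exact Submodule.add_mem _ e e'
      | smul t y _ e => rw [mulVec_smul]; exact Submodule.smul_mem _ t e
    · have : x.1 ∈ (⊥ : Submodule F (ι → F)) :=
        e ▸ Submodule.subset_span ⟨x, MulAction.mem_orbit_self x, rfl⟩
      simpa using this
  have h4 : ∀ x : X, 4 ≤ Nat.card (MulAction.orbit ↥L x) := by
    intro x
    have h1 := finrank_span_le_card (R := F) (Subtype.val '' MulAction.orbit ↥L x)
    rw [hfull x, finrank_top, Module.finrank_fintype_fun_eq_card, hcard, Set.toFinset_card,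
      ← Nat.card_eq_fintype_card] at h1
    rwa [Nat.card_image_of_injective Subtype.val_injective] at h1
  have hdvd : ∀ M : ℕ, (∀ x : X, M ∣ Nat.card (MulAction.orbit ↥L x)) → M ∣ 15 := by
    intro M hM
    rw [← hX, Nat.card_congr (MulAction.selfEquivSigmaOrbits ↥L X), Nat.card_sigma]
    refine Finset.dvd_sum fun ω _ => ?_
    exact hM _
  have h15 : ∀ M : ℕ, M ∣ 15 → 4 ≤ M → M = 5 ∨ M = 15 := fun M hM h4' => by
    have := Nat.le_of_dvd (by norm_num) hM
    interval_cases M <;> omega
  by_cases h24 : ∃ x : X, Nat.card (stab L x.1) = 24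
  · obtain ⟨x, hx⟩ := h24
    have e := horb x
    rw [hx] at e
    have := h15 (Nat.card (MulAction.orbit ↥L x)) (hdvd _ fun y => by
      rcases (card_stab h hF hcard hall y.2).1 with hy | hy <;>
        have e' := horb y <;> rw [hy] at e'
      · exact ⟨3, by omega⟩
      · exact ⟨1, by omega⟩) (h4 x)
    omega
  push Not at h24
  have h8 : ∀ x : X, Nat.card (stab L x.1) = 8 := fun x =>
    ((card_stab h hF hcard hall x.2).1).resolve_right (h24 x)
  obtain ⟨x0⟩ : Nonempty X := (Nat.card_pos_iff.mp (by rw [hX]; norm_num)).1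
  have e0 := horb x0
  rw [h8] at e0
  rcases h15 (Nat.card (MulAction.orbit ↥L x0)) (hdvd _ fun y => ⟨1, by
    have := horb y
    rw [h8] at this
    omega⟩) (h4 x0) with h5 | h5
  swap
  · omega
  exfalso
  set O := MulAction.orbit ↥L x0 with hO
  have hO5 : Nat.card O = 5 := h5
  -- a point of the orbit not orthogonal to `x0`
  obtain ⟨y, hyO, hy⟩ : ∃ y ∈ O, f x0.1 y.1 = 1 := by
    by_contra hn
    push Not at hn
    obtain ⟨z, hz⟩ := exists_pair_one h x0.2
    have : ∀ v, f x0.1 v = 0 := fun v => by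
      have hv : v ∈ Submodule.span F (Subtype.val '' O) := hfull x0 ▸ Submodule.mem_top
      induction hv using Submodule.span_induction with
      | mem v hv =>
        obtain ⟨v', hv', rfl⟩ := hv
        exact (zero_or_one hF _).resolve_right (hn v' hv')
      | zero => exact h.zero_r _
      | add v v' _ _ e e' => rw [h.form.bilinear.add_right, e, e', add_zero]
      | smul t v _ e => rw [h.form.bilinear.smul_right, e, mul_zero]
    exact one_ne_zero (hz.symm.trans (this z))
  have hab : f x0.1 y.1 = 1 := hy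
  have ha := hall _ x0.2
  -- the translates of `y`
  let τ : {w : ι → F // f x0.1 w = 0 ∧ f y.1 w = 0} → O := fun w =>
    ⟨(⟨_, phi_spec h ha w.2.1⟩ : ↥L) • y, by
      rw [hO, ← MulAction.orbit_eq_iff.mpr hyO]
      exact ⟨_, rfl⟩⟩
  have hτ : ∀ w, ((τ w).1).1 = y.1 + w.1 + phi f L x0.1 w.1 • x0.1 := fun w => by
    show (tA f x0.1 w.1 (phi f L x0.1 w.1) : Matrix ι ι F) *ᵥ y.1 = _
    rw [tA_mulVec h w.2.1, h.comm y.1 x0.1, hab, w.2.2, one_smul, zero_add, mul_one]
  have hτ1 : ∀ w, f x0.1 ((τ w).1).1 = 1 := fun w => by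
    rw [hτ, h.form.bilinear.add_right, h.form.bilinear.add_right, h.form.bilinear.smul_right,
      h.self, hab, w.2.1, mul_zero, add_zero, add_zero]
  have hτinj : Function.Injective τ := fun w w' e => by
    refine Subtype.ext ?_
    have e1 := congrArg (fun p : O => proj f x0.1 y.1 (p.1).1) e
    simp only [hτ] at e1
    have key : ∀ v : {w : ι → F // f x0.1 w = 0 ∧ f y.1 w = 0},
        proj f x0.1 y.1 (y.1 + v.1 + phi f L x0.1 v.1 • x0.1) = v.1 := fun v => by
      simp only [proj, h.form.bilinear.add_left, h.form.bilinear.smul_left, h.self, hab,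
        h.comm y.1 x0.1, h.comm v.1 x0.1, v.2.1, h.comm v.1 y.1, v.2.2]
      ext i
      simp only [Pi.add_apply, Pi.smul_apply, smul_eq_mul]
      linear_combination (phi f L x0.1 v.1 * x0.1 i + y.1 i) * h.two
    rwa [key, key] at e1
  obtain ⟨u, hu0, hua, hub⟩ := exists_perp_ne h hab (by omega)
  obtain ⟨z, hza, hzb, hzu⟩ := exists_perp_one h hab hu0 hua hub 1
  let o : O := ⟨x0, MulAction.mem_orbit_self x0⟩
  -- every other point of the orbit is non-orthogonal to `x0`
  have hothers : ∀ p ∈ O, p ≠ x0 → f x0.1 p.1 = 1 := by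
    intro p hp hpx
    by_contra hne
    let S := {w : ι → F // f x0.1 w = 0 ∧ f y.1 w = 0}
    let e : Option (Option (F × F)) → O := fun q => match q with
      | none => o
      | some none => ⟨p, hp⟩
      | some (some st) => τ ⟨st.1 • u + st.2 • z, by
          simp [h.form.bilinear.add_right, h.form.bilinear.smul_right, hua, hza],
          by simp [h.form.bilinear.add_right, h.form.bilinear.smul_right, hub, hzb]⟩
    have hinj : Function.Injective e := by
      have hz' : f u z = 1 := by rw [h.comm, hzu]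
      have hne0 : ∀ w, τ w ≠ o := fun w e1 => by
        have := hτ1 w
        rw [e1, show ((o : O).1).1 = x0.1 from rfl, h.self] at this
        exact zero_ne_one this
      have hnep : ∀ w, τ w ≠ ⟨p, hp⟩ := fun w e1 => hne (by
        have := hτ1 w
        rwa [e1] at this)
      rintro (_ | _ | ⟨s, t⟩) (_ | _ | ⟨s', t'⟩) he <;> simp only [e] at he
      · rfl
      · exact absurd (congrArg Subtype.val he) (Ne.symm hpx)
      · exact absurd he.symm (hne0 _)
      · exact absurd (congrArg Subtype.val he) hpx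
      · rfl
      · exact absurd he.symm (hnep _)
      · exact absurd he (hne0 _)
      · exact absurd he (hnep _)
      · have hw := congrArg Subtype.val (hτinj he)
        have e1 := congrArg (fun v => f v z) hw
        have e2 := congrArg (fun v => f v u) hw
        simp only [h.form.bilinear.add_left, h.form.bilinear.smul_left, h.self, hz', hzu, mul_zero,
          add_zero, zero_add, mul_one] at e1 e2
        rw [e1, e2]
    have := Nat.card_le_card_of_injective e hinj
    rw [hO5, Finite.card_option, Finite.card_option, Nat.card_prod, Nat.card_eq_fintype_card,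
      hF] at this
    omega
  -- hence also of those to `y`
  obtain ⟨g, hg⟩ := hyO
  have hothers' : ∀ p ∈ O, p ≠ y → f y.1 p.1 = 1 := by
    intro p hp hpy
    have hp' : g⁻¹ • p ∈ O := by
      rw [hO, ← MulAction.orbit_eq_iff.mpr (show p ∈ MulAction.orbit ↥L x0 from hp)]
      exact ⟨_, rfl⟩
    have hne : g⁻¹ • p ≠ x0 := fun e => hpy (by rw [← hg, ← e]; exact (smul_inv_smul g p).symm)
    have e := hothers _ hp' hne
    rw [← h.iso _ g.2] at e
    have e1 : ((g : GL ι F) : Matrix ι ι F) *ᵥ x0.1 = y.1 := congrArg Subtype.val hg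
    have e2 : ((g : GL ι F) : Matrix ι ι F) *ᵥ (g⁻¹ • p).1 = p.1 :=
      congrArg Subtype.val (smul_inv_smul g p)
    rwa [e1, e2] at e
  refine h24 x0 ((card_stab h hF hcard hall x0.2).2 fun w hw hl => ?_)
  have hwa := proj_perp_a h hab w
  have hwb := proj_perp_b h hab w
  have hsp : w = f w y.1 • x0.1 + proj f x0.1 y.1 w := by
    have := eq_proj_add h (a := x0.1) (b := y.1) w
    rwa [h.comm w x0.1, hw, zero_smul, add_zero] at this
  have hphi : phi f L x0.1 w = phi f L x0.1 (proj f x0.1 y.1 w) := by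
    conv_lhs => rw [hsp]
    exact phi_shift' h ha hwa _
  have hne : (τ ⟨_, hwa, hwb⟩).1 ≠ y := fun e => hl (f w y.1) (by
    have e1 : ((τ ⟨_, hwa, hwb⟩).1).1 = y.1 := congrArg Subtype.val e
    rw [hτ] at e1
    have e2 : proj f x0.1 y.1 w + phi f L x0.1 (proj f x0.1 y.1 w) • x0.1 = 0 := by
      simpa [add_assoc] using e1
    have e3 : phi f L x0.1 (proj f x0.1 y.1 w) = 0 := by
      have := congrArg (fun v => f v y.1) e2
      simpa [h.form.bilinear.add_left, h.form.bilinear.smul_left, h.zero_l, hab,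
        h.comm (proj f x0.1 y.1 w) y.1, hwb] using this
    have h0 : proj f x0.1 y.1 w = 0 := by rwa [e3, zero_smul, add_zero] at e2
    conv_lhs => rw [hsp, h0, add_zero])
  have e := hothers' _ (τ ⟨_, hwa, hwb⟩).2 hne
  rw [hτ, h.form.bilinear.add_right, h.form.bilinear.add_right, h.form.bilinear.smul_right, h.self,
    h.comm y.1 x0.1, hab] at e
  simp only [hwb, zero_add, mul_one] at e
  rw [hphi, e]

end Cfsg.Agent.Lib.Subspaces.SympTASmall
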