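import Cfsg.Agent.Lib.Subspaces.UnitarySplit
import Cfsg.Agent.Lib.Subspaces.Decomposition

/-!
Orthogonal decompositions of the standard unitary space into blocks of dimension at least two:
isometries inside a block, and spreading of isotropic centres over the whole space.
-/

set_option autoImplicit false

namespace Cfsg.Agent.Lib.Subspaces.UnitBlock

open Matrix Cfsg.Agent.Lib.Subspaces.Transvection Cfsg.Agent.Lib.Subspaces.FormVec
  Cfsg.Agent.Lib.Subspaces.UnitaryForm Cfsg.Agent.Lib.Subspaces.UnitaryGen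
  Cfsg.Agent.Lib.Subspaces.UnitarySplit Cfsg.Agent.Lib.Subspaces.Decomposition
  Cfsg.Agent.Lib.Unitary

variable {F : Type*} [Field F] [Fintype F] {q n : ℕ}

local notation "𝕗" => Cfsg.hermForm n F q

/-- A norm one scalar which is not in the fixed field. -/
theorem exists_norm_one_nonreal (hF : Fintype.card F = q ^ 2) :
    ∃ l : F, l * powAut hF l = 1 ∧ powAut hF l ≠ l := by
  classical
  by_contra h
  push Not at h
  have h1 := card_norm_one hF
  have h2 : Nat.card {x : F // x ^ (q + 1) = 1} ≤ ({1, -1} : Finset F).card := by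
    rw [Nat.card_eq_fintype_card, Fintype.card_subtype]
    refine Finset.card_le_card fun x hx => ?_
    simp only [Finset.mem_filter, Finset.mem_univ, true_and] at hx
    have h3 : x * powAut hF x = 1 := by rw [powAut_apply, ← hx, pow_succ']
    have h4 : x * x = 1 := by rwa [h x h3] at h3
    simpa using mul_self_eq_one_iff.mp h4
  have := one_lt_q hF
  have : ({1, -1} : Finset F).card ≤ 2 := Finset.card_le_two
  omega

theorem nondeg_of_on {W : Submodule F (Fin n → F)} (h : Cfsg.Geo.IsNondegenerateOn 𝕗 W) :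
    Nondeg q W := fun u hu hu' => by
  by_contra hu0
  obtain ⟨-, x, hx, hne⟩ := h u hu hu0
  exact hne (hu' x hx)

theorem nondeg_span_single (hF : Fintype.card F = q ^ 2) {y : Fin n → F} (hy : 𝕗 y y ≠ 0) :
    Nondeg q (Submodule.span F {y}) := by
  intro u hu h
  obtain ⟨c, rfl⟩ := Submodule.mem_span_singleton.mp hu
  have := h y (Submodule.mem_span_singleton_self y)
  rw [herm_smul_left, mul_eq_zero] at this
  rw [this.resolve_right hy, zero_smul]

/-- A unit vector of a non-degenerate subspace of dimension at least two orthogonal to a given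
anisotropic one. -/
theorem exists_unit_orth (hF : Fintype.card F = q ^ 2) {W : Submodule F (Fin n → F)}
    (hW : Nondeg q W) (h2 : 2 ≤ Module.finrank F W) {y : Fin n → F} (hy : y ∈ W)
    (hy0 : 𝕗 y y ≠ 0) : ∃ z ∈ W, 𝕗 z y = 0 ∧ 𝕗 z z = 1 := by
  set W' := W ⊓ perp q (Submodule.span F {y}) with hW'
  have hmem : ∀ {v}, v ∈ W' ↔ v ∈ W ∧ 𝕗 v y = 0 := by
    intro v; simp [W', mem_perp_span hF]
  have hdec : ∀ v ∈ W, v - (𝕗 v y / 𝕗 y y) • y ∈ W' := fun v hv => hmem.mpr
    ⟨W.sub_mem hv (W.smul_mem _ hy), by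
      rw [herm_sub_left, herm_smul_left, div_mul_cancel₀ _ hy0, sub_self]⟩
  have hnd : Nondeg q W' := by
    intro u hu h
    refine hW u (hmem.mp hu).1 fun v hv => ?_
    have h1 := h _ (hdec v hv)
    rwa [herm_sub_right _ _ _ hF, herm_smul_right, (hmem.mp hu).2, mul_zero, sub_zero] at h1
  have hne : W' ≠ ⊥ := by
    intro e
    have hle : W ≤ Submodule.span F {y} := fun v hv => by
      have := hdec v hv
      rw [e, Submodule.mem_bot, sub_eq_zero] at this
      rw [this]
      exact Submodule.smul_mem _ _ (Submodule.mem_span_singleton_self y)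
    have := Submodule.finrank_mono hle
    rw [finrank_span_singleton (fun e0 => hy0 (by rw [e0, Cfsg.Agent.Lib.Unitary.herm_zero_left]))] at this
    omega
  obtain ⟨z, hz, hz1⟩ := exists_norm_one_of_nondeg hF hnd hne
  exact ⟨z, (hmem.mp hz).1, (hmem.mp hz).2, hz1⟩

/-- An isometry of the coordinates of a summand extended by the identity on its orthogonal. -/
theorem exists_lift (hF : Fintype.card F = q ^ 2) {W : Submodule F (Fin n → F)} (hW : Nondeg q W)
    {m : ℕ} (hm : Module.finrank F W = m) {B : (Fin m → F) →ₗ[F] (Fin n → F)}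
    (hBr : LinearMap.range B = W)
    (hBf : ∀ x y, 𝕗 (B x) (B y) = Cfsg.hermForm m F q x y) (A : GU m F q) :
    ∃ T : GU n F q, (∀ z, T.1.1 *ᵥ B z = B (A.1.1 *ᵥ z)) ∧ ∀ x ∈ perp q W, T.1.1 *ᵥ x = x := by
  classical
  have hl : Module.finrank F (perp q W) = n - m := by
    have := finrank_perp hF W; omega
  have hmn : m ≤ n := by have := finrank_perp hF W; omega
  obtain ⟨c, hc, hcW, hcs⟩ := exists_orthonormal_of_nondeg hF _ (perp q W) hl (nondeg_perp hF hW)
  have hBW : ∀ z, B z ∈ W := fun z => hBr.le (LinearMap.mem_range_self B z)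
  have hbc : ∀ z j, 𝕗 (B z) (c j) = 0 :=
    fun z j => herm_eq_zero_symm hF (hcW j _ (hBW z))
  let b : Fin m → Fin n → F := fun i => B (Pi.single i 1)
  have horth : Orthonormal' q (Sum.elim b c) := by
    rintro (i | i) (j | j)
    · simp [b, hBf, herm_std hF]
    · simpa [b] using hbc _ j
    · simpa [b] using hcW i _ (hBW _)
    · simpa using hc i j
  obtain ⟨T, hT⟩ := exists_GU_of_gram hF (orthonormal_linearIndependent horth)
    (c := Sum.elim (fun i => B (A.1.1 *ᵥ Pi.single i 1)) c) (by simp; omega) (by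
      rintro (i | i) (j | j)
      · simp only [Sum.elim_inl, b, hBf, GU_herm]
      · simp [b, hbc]
      · simp [b, hcW i _ (hBW _)]
      · simp)
  refine ⟨T, fun z => ?_, fun x hx => ?_⟩
  · have hz : z = ∑ i, z i • (Pi.single i 1 : Fin m → F) := by
      simp [← Pi.single_smul, Finset.univ_sum_single]
    rw [hz, map_sum, mulVec_sum, mulVec_sum, map_sum]
    refine Finset.sum_congr rfl fun i _ => ?_
    rw [map_smul, mulVec_smul, mulVec_smul, map_smul]
    exact congrArg (z i • ·) (hT (Sum.inl i))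
  · obtain ⟨a, rfl⟩ := (Submodule.mem_span_range_iff_exists_fun F).mp (hcs.symm ▸ hx)
    rw [mulVec_sum]
    refine Finset.sum_congr rfl fun i _ => ?_
    rw [mulVec_smul]
    exact congrArg (a i • ·) (hT (Sum.inr i))

/-- An element of `SU` moving anisotropic vectors of a summand and fixing the orthogonal. -/
theorem exists_block_move (hF : Fintype.card F = q ^ 2) {W : Submodule F (Fin n → F)}
    (hW : Nondeg q W) (h2 : 2 ≤ Module.finrank F W) {w w' : Fin n → F} (hw : w ∈ W) (hw' : w' ∈ W)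
    (h : 𝕗 w w = 𝕗 w' w') (h0 : 𝕗 w w ≠ 0) :
    ∃ T : GL (Fin n) F, T ∈ Cfsg.GU n F q ∧ T ∈ Cfsg.Geo.specialLinear (Fin n) F ∧
      (∀ x ∈ W, (T : Matrix (Fin n) (Fin n) F) *ᵥ x ∈ W) ∧
      (∀ x ∈ perp q W, (T : Matrix (Fin n) (Fin n) F) *ᵥ x = x) ∧
      (T : Matrix (Fin n) (Fin n) F) *ᵥ w = w' := by
  obtain ⟨B, hBinj, hBr, hBf⟩ := exists_coord hF hW
  have hBW : ∀ z, B z ∈ W := fun z => hBr.le (LinearMap.mem_range_self B z)
  obtain ⟨x, rfl⟩ : ∃ x, B x = w := by rwa [← LinearMap.mem_range, hBr]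
  obtain ⟨y, rfl⟩ : ∃ y, B y = w' := by rwa [← LinearMap.mem_range, hBr]
  have h0' : 𝕗 (B y) (B y) ≠ 0 := h ▸ h0
  rw [hBf, hBf] at h
  rw [hBf] at h0
  obtain ⟨A, hA⟩ := exists_GU_vec hF (x := x) (y := y) (fun e => h0 (by rw [e, Cfsg.Agent.Lib.Unitary.herm_zero_left]))
    (fun e => h0 (by rw [h, e, Cfsg.Agent.Lib.Unitary.herm_zero_left])) h
  obtain ⟨T1, hT1B, hT1c⟩ := exists_lift hF hW rfl hBr hBf A
  obtain ⟨z, hzW, hzy, hzz⟩ := exists_unit_orth hF hW h2 hw' h0'
  obtain ⟨S, hSdet, hSz, hSfix⟩ := exists_GU_scale hF (x := z) hzz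
    (inv_norm_one hF (det_norm_one hF T1))
  have hSW : ∀ u ∈ W, S.1.1 *ᵥ u ∈ W := by
    intro u hu
    have e1 : u = (u - 𝕗 u z • z) + 𝕗 u z • z := by abel
    rw [e1, mulVec_add, mulVec_smul, hSz, hSfix _ (by
      rw [herm_sub_left, herm_smul_left, hzz, mul_one, sub_self])]
    exact W.add_mem (W.sub_mem hu (W.smul_mem _ hzW)) (W.smul_mem _ (W.smul_mem _ hzW))
  refine ⟨((S * T1 : GU n F q) : GL (Fin n) F), (S * T1).2, ?_, ?_, ?_, ?_⟩
  · rw [mem_specialLinear_iff]
    show (S.1.1 * T1.1.1).det = 1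
    rw [Matrix.det_mul, hSdet, inv_mul_cancel₀]
    intro e
    have := det_norm_one hF T1
    rw [e, zero_mul] at this
    exact zero_ne_one this
  · intro u hu
    obtain ⟨v, rfl⟩ : ∃ v, B v = u := by rwa [← LinearMap.mem_range, hBr]
    rw [GU_mul_mulVec, hT1B]
    exact hSW _ (hBW _)
  · intro u hu
    rw [GU_mul_mulVec, hT1c u hu, hSfix u (hu z hzW)]
  · rw [GU_mul_mulVec, hT1B, hA, hSfix _ (herm_eq_zero_symm hF hzy)]

/-- A vector of a summand with prescribed product and norm. -/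
theorem exists_dual_norm (hF : Fintype.card F = q ^ 2) {W : Submodule F (Fin n → F)}
    (hW : Nondeg q W) (h2 : 2 ≤ Module.finrank F W) {x : Fin n → F} (hx : x ∈ W) (hx0 : x ≠ 0)
    (s : F) {r : F} (hr : powAut hF r = r) (hs : s ≠ 0 ∨ 3 ≤ Module.finrank F W) :
    ∃ u ∈ W, 𝕗 u x = s ∧ 𝕗 u u = r := by
  have hf := hermForm_isUnitary (n := n) hF
  by_cases hν : 𝕗 x x = 0
  · obtain ⟨v, hv, hxv⟩ : ∃ v ∈ W, 𝕗 v x ≠ 0 := by
      by_contra hc
      push Not at hc
      exact hx0 (hW x hx fun v hv => herm_eq_zero_symm hF (hc v hv))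
    obtain ⟨w, hwW, hwx⟩ : ∃ w ∈ W, 𝕗 w x = 1 :=
      ⟨(𝕗 v x)⁻¹ • v, W.smul_mem _ hv, by rw [hf.smul_left, inv_mul_cancel₀ hxv]⟩
    by_cases hs0 : s = 0
    · have h3 := hs.resolve_left (fun h => h hs0)
      set P := Submodule.span F {x, w} with hP
      set W' := W ⊓ perp q P with hW'
      have hxw : 𝕗 x w = 1 := by rw [hf.herm, hwx, map_one]
      have hmem : ∀ {v}, v ∈ W' ↔ v ∈ W ∧ 𝕗 v x = 0 ∧ 𝕗 v w = 0 := by
        intro v; simp [W', P, mem_perp_span hF]
      have hdec : ∀ v ∈ W,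
          v - 𝕗 v x • w - (𝕗 v w - 𝕗 v x * 𝕗 w w) • x ∈ W' := fun v hv => hmem.mpr
        ⟨W.sub_mem (W.sub_mem hv (W.smul_mem _ hwW)) (W.smul_mem _ hx), by
          rw [herm_sub_left, herm_sub_left, herm_smul_left, herm_smul_left, hwx, hν]; ring, by
          rw [herm_sub_left, herm_sub_left, herm_smul_left, herm_smul_left, hxw]; ring⟩
      have hnd : Nondeg q W' := by
        intro u hu h
        refine hW u (hmem.mp hu).1 fun v hv => ?_
        have h1 := h _ (hdec v hv)
        rwa [herm_sub_right _ _ _ hF, herm_sub_right _ _ _ hF, herm_smul_right, herm_smul_right,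
          (hmem.mp hu).2.1, (hmem.mp hu).2.2, mul_zero, mul_zero, sub_zero, sub_zero] at h1
      have hne : W' ≠ ⊥ := by
        intro e
        have hle : W ≤ P := fun v hv => by
          have := hdec v hv
          rw [e, Submodule.mem_bot, sub_eq_zero, sub_eq_iff_eq_add] at this
          rw [this]
          exact P.add_mem (P.smul_mem _ (Submodule.subset_span (by simp)))
            (P.smul_mem _ (Submodule.subset_span (by simp)))
        have h4 := Submodule.finrank_mono hle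
        classical
        have h5 : Module.finrank F P ≤ 2 := by
          rw [hP, show ({x, w} : Set (Fin n → F)) = (({x, w} : Finset (Fin n → F)) : Set _) by simp]
          exact le_trans (finrank_span_finset_le_card _) Finset.card_le_two
        omega
      obtain ⟨z, hz, hz1⟩ := exists_norm_one_of_nondeg hF hnd hne
      obtain ⟨c, hc⟩ := norm_surjective hF r hr
      refine ⟨c • z, W.smul_mem _ (hmem.mp hz).1, ?_, ?_⟩
      · rw [hf.smul_left, (hmem.mp hz).2.1, mul_zero, hs0]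
      · rw [hf.smul_left, smul_right hf, hz1, mul_one, hc]
    · obtain ⟨t, ht⟩ := exists_trace hf (r := r - 𝕗 (s • w) (s • w)) (by
        rw [map_sub, hr, self_fixed hf])
      have hσs : powAut hF s ≠ 0 := by simpa using hs0
      refine ⟨s • w + (t / powAut hF s) • x, W.add_mem (W.smul_mem _ hwW) (W.smul_mem _ hx),
        ?_, ?_⟩
      · rw [hf.add_left, hf.smul_left, hf.smul_left, hwx, hν, mul_one, mul_zero, add_zero]
      · have e1 : 𝕗 x (s • w) = powAut hF s := by
          rw [smul_right hf, hf.herm x w, hwx, map_one, mul_one]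
        rw [expand_add_smul hf, e1, div_mul_cancel₀ _ hσs, ht, hν]
        ring
  · obtain ⟨z, hz, hzx, hzz⟩ := exists_unit_orth hF hW h2 hx hν
    obtain ⟨c, hc⟩ := norm_surjective hF (r - 𝕗 ((s / 𝕗 x x) • x) ((s / 𝕗 x x) • x))
      (by rw [map_sub, hr, self_fixed hf])
    refine ⟨(s / 𝕗 x x) • x + c • z, W.add_mem (W.smul_mem _ hx) (W.smul_mem _ hz), ?_, ?_⟩
    · rw [hf.add_left, hf.smul_left, hf.smul_left, hzx, mul_zero, add_zero, div_mul_cancel₀ _ hν]
    · rw [expand_add_smul hf, hzz, smul_right hf _ z x, hzx, hc]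
      simp

variable {t k : ℕ} {D : Fin t → Submodule F (Fin n → F)}

theorem form_comp (hF : Fintype.card F = q ^ 2)
    (hD : Cfsg.Geo.IsNondegenerateMDecomposition 𝕗 k D) {i : Fin t} {u : Fin n → F} (hu : u ∈ D i)
    (x : Fin n → F) : 𝕗 u x = 𝕗 u (comp hD.decomp i x) := by
  conv_lhs => rw [← sum_comp hD.decomp x, herm_sum_right _ hF]
  exact Finset.sum_eq_single i
    (fun j _ hj => hD.orthogonal i j (Ne.symm hj) u hu _ (comp_mem hD.decomp j x)) (by simp)

theorem norm_eq_sum (hF : Fintype.card F = q ^ 2)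
    (hD : Cfsg.Geo.IsNondegenerateMDecomposition 𝕗 k D) (x : Fin n → F) :
    𝕗 x x = ∑ i, 𝕗 (comp hD.decomp i x) (comp hD.decomp i x) := by
  have hf := hermForm_isUnitary (n := n) hF
  conv_lhs => rw [← sum_comp hD.decomp x]
  exact form_sum_sum hf.add_left (add_right hf) hD.orthogonal
    (fun i => comp_mem hD.decomp i x) (fun i => comp_mem hD.decomp i x)

theorem perp_of_other (hD : Cfsg.Geo.IsNondegenerateMDecomposition 𝕗 k D) {i j : Fin t}
    (h : j ≠ i) {u : Fin n → F} (hu : u ∈ D j) : u ∈ perp q (D i) :=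
  fun w hw => hD.orthogonal j i h u hu w hw

/-- An element of `SU` in the stabiliser moving pairs of blocks, keeping norms. -/
theorem exists_block_perm (hF : Fintype.card F = q ^ 2)
    (hD : Cfsg.Geo.IsNondegenerateMDecomposition 𝕗 k D) (σ : Equiv.Perm (Fin t)) :
    ∃ T : GL (Fin n) F, T ∈ Cfsg.GU n F q ∧ T ∈ Cfsg.Geo.specialLinear (Fin n) F ∧
      T ∈ Cfsg.Geo.decompositionStabilizer D ∧
      ∀ i, ∀ x ∈ D i, (T : Matrix (Fin n) (Fin n) F) *ᵥ x ∈ D (σ i) := by
  have hf := hermForm_isUnitary (n := n) hF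
  choose b hb hbm hbs using fun i => exists_orthonormal_of_nondeg hF k (D i)
    (hD.decomp.finrank_eq i) (nondeg_of_on (hD.nondegenerate i))
  let φ : Fin t → (Fin n → F) →ₗ[F] (Fin n → F) := fun i =>
    ∑ j, LinearMap.smulRight
      ({ toFun := fun x => 𝕗 x (b i j)
         map_add' := fun x y => hf.add_left x y _
         map_smul' := fun c x => hf.smul_left c x _ } : (Fin n → F) →ₗ[F] F) (b (σ i) j)
  have hφ : ∀ i x, φ i x = ∑ j, 𝕗 x (b i j) • b (σ i) j := fun i x => by
    simp [φ, LinearMap.sum_apply]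
  have hφm : ∀ i, ∀ x ∈ D i, φ i x ∈ D (σ i) := fun i x _ => by
    rw [hφ]; exact Submodule.sum_mem _ fun j _ => Submodule.smul_mem _ _ (hbm _ j)
  have hφiso : ∀ i, ∀ x ∈ D i, ∀ y ∈ D i, 𝕗 (φ i x) (φ i y) = 𝕗 x y := by
    intro i x hx y hy
    obtain ⟨a, rfl⟩ := (Submodule.mem_span_range_iff_exists_fun F).mp ((hbs i).symm ▸ hx)
    obtain ⟨c, rfl⟩ := (Submodule.mem_span_range_iff_exists_fun F).mp ((hbs i).symm ▸ hy)
    simp only [hφ, orthonormal_coeff (hb i), herm_sum_sum hF, hb (σ i) _ _, hb i _ _]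
  obtain ⟨T, hT, hTiso, hTD⟩ := exists_glue hf.add_left (add_right hf) hf.nondegenerate hD σ φ
    hφm hφiso
  let T' : GU n F q := ⟨T, hTiso⟩
  have ht := hD.decomp.two_le
  let i0 : Fin t := ⟨0, by omega⟩
  obtain ⟨z, hz, hz1⟩ := exists_norm_one_of_nondeg hF (nondeg_of_on (hD.nondegenerate i0))
    (block_ne_bot hD.decomp i0)
  obtain ⟨S, hSdet, hSz, hSfix⟩ := exists_GU_scale hF (x := z) hz1
    (inv_norm_one hF (det_norm_one hF T'))
  have hSD : ∀ i, ∀ u ∈ D i, S.1.1 *ᵥ u ∈ D i := by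
    intro i u hu
    by_cases hi : i = i0
    · subst hi
      have e1 : u = (u - 𝕗 u z • z) + 𝕗 u z • z := by abel
      rw [e1, mulVec_add, mulVec_smul, hSz, hSfix _ (by
        rw [herm_sub_left, herm_smul_left, hz1, mul_one, sub_self])]
      exact (D _).add_mem ((D _).sub_mem hu ((D _).smul_mem _ hz))
        ((D _).smul_mem _ ((D _).smul_mem _ hz))
    · rw [hSfix u (hD.orthogonal i i0 hi u hu z hz)]; exact hu
  have hmap : ∀ i, ∀ x ∈ D i, (S * T').1.1 *ᵥ x ∈ D (σ i) := fun i x hx => by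
    rw [GU_mul_mulVec]
    exact hSD _ _ ((show T'.1.1 *ᵥ x = φ i x from hT i x hx) ▸ hφm i x hx)
  refine ⟨((S * T' : GU n F q) : GL (Fin n) F), (S * T').2, ?_,
    mem_stabilizer_of_mapsTo hD.decomp fun i => ⟨σ i, hmap i⟩, hmap⟩
  rw [mem_specialLinear_iff]
  show (S.1.1 * T'.1.1).det = 1
  rw [Matrix.det_mul, hSdet, inv_mul_cancel₀]
  intro e
  have := det_norm_one hF T'
  rw [e, zero_mul] at this
  exact zero_ne_one this

/-- Two centres whose sum is isotropic and which are not orthogonal give the centre `a + b`. -/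
theorem centre_add (hF : Fintype.card F = q ^ 2) {M : Subgroup (GL (Fin n) F)} {a b : Fin n → F}
    (ha : UnitCenter (powAut hF) 𝕗 M a) (hb : UnitCenter (powAut hF) 𝕗 M b)
    (hab : 𝕗 b a ≠ 0) (hiso : 𝕗 (b + a) (b + a) = 0) : UnitCenter (powAut hF) 𝕗 M (b + a) := by
  have hf := hermForm_isUnitary (n := n) hF
  have htr : 𝕗 b a + powAut hF (𝕗 b a) = 0 := by
    rw [hf.add_left, add_right hf, add_right hf, ha.1, hb.1, hf.herm a b] at hiso
    linear_combination hiso
  have := unitCenter_move hf ha hb (a := (𝕗 b a)⁻¹) (by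
    rw [map_inv₀, eq_neg_of_add_eq_zero_right htr, inv_neg, add_neg_cancel])
  rwa [inv_mul_cancel₀ hab, one_smul] at this

end Cfsg.Agent.Lib.Subspaces.UnitBlock
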