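import Cfsg.Agent.Lib.Subspaces.UnitQuasi

/-!
Overgroups of the monomial subgroup of `SU`: an element outside the monomial group yields a
non-coordinate point related to the coordinate points.
-/

set_option autoImplicit false
set_option maxHeartbeats 800000

namespace Cfsg.Agent.Lib.Subspaces.UnitMono

open Matrix Cfsg.Agent.Lib.Subspaces.Transvection Cfsg.Agent.Lib.Subspaces.FormVec
  Cfsg.Agent.Lib.Subspaces.UnitaryGen Cfsg.Agent.Lib.Subspaces.UnitBlock
  Cfsg.Agent.Lib.Subspaces.UnitCircle Cfsg.Agent.Lib.Subspaces.UnitQuasi Cfsg.Agent.Lib.Unitary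

variable {F : Type*} [Field F] [Fintype F] {q n : ℕ} (hF : Fintype.card F = q ^ 2)
  {M : Subgroup (GL (Fin n) F)}

local notation "𝕗" => Cfsg.hermForm n F q

/-- A non-coordinate point related to the coordinate points, with a zero coordinate. -/
def Good (M : Subgroup (GL (Fin n) F)) : Prop :=
  ∃ (a : Fin n → F) (i : Fin n), 𝕗 a a = 1 ∧ Rel hF M a (ev i) ∧ ¬ Single a ∧ a i = 0

theorem good_of_single_col (S : Over q M) {k : GL (Fin n) F} (hk : k ∈ M) (hm : ¬ Mono k)
    {x : Fin n} (hx : Single ((k : Matrix (Fin n) (Fin n) F) *ᵥ ev x)) : Good hF M := by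
  obtain ⟨i, hi⟩ := hx
  have heq := single_eq hi
  have hU := S.gu hk
  set c := ((k : Matrix (Fin n) (Fin n) F) *ᵥ ev x) i
  have hc : c ≠ 0 := fun e => by
    have h1 : 𝕗 ((k : Matrix (Fin n) (Fin n) F) *ᵥ ev x)
        ((k : Matrix (Fin n) (Fin n) F) *ᵥ ev x) = 1 := by
      rw [mem_GU_iff'.mp hU, ev_norm hF]
    rw [heq, e, zero_smul, Cfsg.Agent.Lib.Unitary.herm_zero_left] at h1
    exact zero_ne_one h1
  obtain ⟨y, hy⟩ : ∃ y, ¬ Single ((k : Matrix (Fin n) (Fin n) F) *ᵥ ev y) := by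
    by_contra h
    push Not at h
    exact hm h
  have hyx : y ≠ x := fun e => hy (e ▸ heq ▸ single_smul_ev c i)
  refine ⟨_, i, by rw [mem_GU_iff'.mp hU, ev_norm hF], ?_, hy, ?_⟩
  · have h := ((S.rel_ev hF x y).map hF hk hU)
    rw [heq] at h
    have h2 := h.smul_left hF (inv_ne_zero hc)
    rw [smul_smul, inv_mul_cancel₀ hc, one_smul] at h2
    exact h2.symm hF
  · have h1 : 𝕗 ((k : Matrix (Fin n) (Fin n) F) *ᵥ ev y)
        ((k : Matrix (Fin n) (Fin n) F) *ᵥ ev x) = 0 := by
      rw [mem_GU_iff'.mp hU, ev_orth hF hyx]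
    rw [heq, herm_smul_right, herm_ev hF, mul_eq_zero] at h1
    exact h1.resolve_left (pow_ne_zero q hc)

omit [Fintype F] in
/-- A map whose columns have two entries and whose rank is at most `r` lives on `2 r` coordinates. -/
theorem exists_support {L : (Fin n → F) →ₗ[F] (Fin n → F)} {r : ℕ}
    (hcol : ∀ l, ∃ a b : Fin n, ∀ j, j ≠ a → j ≠ b → L (ev l) j = 0)
    (hr : Module.finrank F (LinearMap.range L) ≤ r) :
    ∃ T : Finset (Fin n), T.card ≤ 2 * r ∧ ∀ x, ∀ j ∉ T, L x j = 0 := by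
  classical
  obtain ⟨s, hs, hspan, hli⟩ := exists_linearIndependent F (Set.range fun l => L (ev l))
  have hfin : s.Finite := (Set.finite_range _).subset hs
  have := hfin.fintype
  have hrange : LinearMap.range L = Submodule.span F s := by
    rw [hspan]
    refine le_antisymm ?_ (Submodule.span_le.mpr (by
      rintro _ ⟨l, rfl⟩; exact LinearMap.mem_range_self L _))
    rintro _ ⟨x, rfl⟩
    rw [← sum_ev x, map_sum]
    exact Submodule.sum_mem _ fun l _ => by
      rw [map_smul]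
      exact Submodule.smul_mem _ _ (Submodule.subset_span ⟨l, rfl⟩)
  have hcard : Fintype.card s ≤ r := by
    have h1 := finrank_span_eq_card hli
    rw [Subtype.range_coe_subtype, Set.ofPred_mem_eq, ← hrange] at h1
    exact (le_of_eq h1.symm).trans hr
  choose a b hab using hcol
  choose pre hpre using fun v : s => hs v.2
  refine ⟨Finset.univ.biUnion fun v : s => {a (pre v), b (pre v)}, ?_, fun x j hj => ?_⟩
  · refine (Finset.card_biUnion_le_card_mul _ _ 2 fun v _ => Finset.card_le_two).trans ?_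
    rw [Finset.card_univ, mul_comm]
    omega
  · have hx : L x ∈ Submodule.span F s := hrange.le (LinearMap.mem_range_self L x)
    generalize L x = y at hx ⊢
    induction hx using Submodule.span_induction with
    | mem v hv =>
      simp only [Finset.mem_biUnion, Finset.mem_univ, true_and, Finset.mem_insert,
        Finset.mem_singleton, not_exists, not_or] at hj
      have h1 := hj ⟨v, hv⟩
      rw [← show L (ev (pre ⟨v, hv⟩)) = v from hpre ⟨v, hv⟩]
      exact hab _ j h1.1 h1.2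
    | zero => rfl
    | add v w _ _ h1 h2 => rw [Pi.add_apply, h1, h2, add_zero]
    | smul c v _ h1 => rw [Pi.smul_apply, h1, smul_zero]

omit [Fintype F] in
theorem finrank_range_le_of_finset (L : (Fin n → F) →ₗ[F] (Fin n → F)) (s : Finset (Fin n → F))
    (h : ∀ x, L x ∈ Submodule.span F (s : Set (Fin n → F))) :
    Module.finrank F (LinearMap.range L) ≤ s.card := by
  refine le_trans (Submodule.finrank_mono ?_) (finrank_span_finset_le_card s)
  rintro _ ⟨x, rfl⟩
  exact h x

omit [Fintype F] in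
theorem Mono.sub_diag_col {k : GL (Fin n) F} (hk : Mono k) (z : Fin n → F) (l : Fin n) :
    ∃ a b : Fin n, ∀ j, j ≠ a → j ≠ b →
      (((k : Matrix (Fin n) (Fin n) F) *ᵥ ev l) - z l • (ev l : Fin n → F)) j = 0 := by
  obtain ⟨i, hi⟩ := hk l
  exact ⟨i, l, fun j h1 h2 => by simp [hi j h1, ev_ne h2]⟩

include hF in
theorem diag_exact (S : Over q M) (z : Fin n → F) (hz : ∀ l, z l ∈ mu hF) (hp : ∏ l, z l = 1) :
    ∃ g : GL (Fin n) F, g ∈ M ∧
      ∀ x : Fin n → F, (g : Matrix (Fin n) (Fin n) F) *ᵥ x = fun l => z l * x l := by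
  classical
  rcases Nat.eq_zero_or_pos n with rfl | hn
  · exact ⟨1, M.one_mem, fun x => funext fun l => l.elim0⟩
  let o : Fin n := ⟨0, hn⟩
  obtain ⟨g, hgM, hg⟩ := S.exists_mono hF 1 z hz o
  have hU := S.gu hgM
  set μ := ((g : Matrix (Fin n) (Fin n) F) *ᵥ ev o) o with hμ
  have hzero : ∀ j, j ≠ o → ((g : Matrix (Fin n) (Fin n) F) *ᵥ ev o) j = 0 := by
    intro j hj
    have h1 : 𝕗 ((g : Matrix (Fin n) (Fin n) F) *ᵥ ev o)
        ((g : Matrix (Fin n) (Fin n) F) *ᵥ ev j) = 0 := by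
      rw [mem_GU_iff'.mp hU, ev_orth hF (Ne.symm hj)]
    rw [hg j hj, herm_smul_right, Equiv.Perm.coe_one, id_eq, herm_ev hF, mul_eq_zero] at h1
    exact h1.resolve_left (pow_ne_zero q (ne_zero_of_mu hF (hz j)))
  have hmat : (g : Matrix (Fin n) (Fin n) F) = Matrix.diagonal (Function.update z o μ) := by
    ext i j
    rw [← mulVec_ev (g : Matrix (Fin n) (Fin n) F) j i, Matrix.diagonal_apply]
    rcases eq_or_ne j o with rfl | hj
    · split_ifs with h
      · subst h; rw [Function.update_self]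
      · exact hzero i h
    · rw [hg j hj, Equiv.Perm.coe_one, id_eq]
      split_ifs with h
      · subst h; simp [ev_self, Function.update_of_ne hj]
      · simp [ev_ne h]
  have hdet : (g : Matrix (Fin n) (Fin n) F).det = 1 := (mem_specialLinear_iff g).mp (S.le hgM).2
  rw [hmat, Matrix.det_diagonal] at hdet
  have hμz : μ = z o := by
    rw [← Finset.mul_prod_erase _ _ (Finset.mem_univ o), Function.update_self,
      Finset.prod_congr rfl (g := z) (fun l hl =>
        Function.update_of_ne (Finset.ne_of_mem_erase hl) _ _)] at hdet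
    rw [← Finset.mul_prod_erase _ _ (Finset.mem_univ o)] at hp
    refine mul_right_cancel₀ (fun e => ?_) (hdet.trans hp.symm)
    rw [e, mul_zero] at hp
    exact zero_ne_one hp
  refine ⟨g, hgM, fun x => ?_⟩
  rw [hmat, hμz, Function.update_eq_self]
  funext l
  rw [Matrix.mulVec_diagonal]

theorem log_bound {q n : ℕ} (hq : 1 < q) (hn : 10 ≤ n) (hqn : q + 1 ≤ n) (hex : q ≤ 7 ∨ 11 ≤ n) :
    ∃ m, q < 2 ^ m ∧ m < q + 1 ∧ 2 * m + 3 ≤ n := by
  refine ⟨Nat.log 2 q + 1, Nat.lt_pow_succ_log_self (by norm_num) q, ?_, ?_⟩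
  · have := Nat.log_lt_self 2 (show q ≠ 0 by omega)
    omega
  · have h := Nat.pow_log_le_self 2 (show q ≠ 0 by omega)
    generalize Nat.log 2 q = L at h
    rcases Nat.lt_or_ge L 5 with hL | hL
    · interval_cases L <;> omega
    · have : ∀ m, 5 ≤ m → 2 * m + 4 ≤ 2 ^ m := by
        intro m hm
        induction m, hm using Nat.le_induction with
        | base => norm_num
        | succ m _ ih => rw [pow_succ]; omega
      have := this L hL
      omega

section NotGood

variable (S : Over q M) (hG : ¬ Good hF M)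

include S hG

theorem mono_of_single_col {k : GL (Fin n) F} (hk : k ∈ M) {x : Fin n}
    (hx : Single ((k : Matrix (Fin n) (Fin n) F) *ᵥ ev x)) : Mono k := by
  by_contra h
  exact hG (good_of_single_col hF S hk h hx)

theorem rows_of_zeros {g : GL (Fin n) F} (hg : g ∈ M) (hm : ¬ Mono g) {x u v : Fin n}
    (huv : u ≠ v) (hu : ((g : Matrix (Fin n) (Fin n) F) *ᵥ ev x) u = 0)
    (hv : ((g : Matrix (Fin n) (Fin n) F) *ᵥ ev x) v = 0) :
    (∀ l, (((g⁻¹ : GL (Fin n) F) : Matrix (Fin n) (Fin n) F) *ᵥ ev v) l = 0 →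
      (((g⁻¹ : GL (Fin n) F) : Matrix (Fin n) (Fin n) F) *ᵥ ev u) l = 0) ∧
    ∃ T : Finset (Fin n), T.card ≤ 4 ∧ ∀ l ∉ T,
      (((g⁻¹ : GL (Fin n) F) : Matrix (Fin n) (Fin n) F) *ᵥ ev u) l = 0 := by
  obtain ⟨c, hc', hcre⟩ := exists_norm_one_nonreal hF
  have hc : c ∈ mu hF := (mem_mu hF).mpr hc'
  have hc1 : c - 1 ≠ 0 := sub_ne_zero.mpr fun e => hcre (by rw [e, map_one])
  have hgi := M.inv_mem hg
  have hU := S.gu hg
  have hUi := S.gu hgi
  have hmi : ¬ Mono g⁻¹ := fun h => hm (by simpa using h.inv)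
  set ru := ((g⁻¹ : GL (Fin n) F) : Matrix (Fin n) (Fin n) F) *ᵥ ev u with hru
  set rv := ((g⁻¹ : GL (Fin n) F) : Matrix (Fin n) (Fin n) F) *ᵥ ev v with hrv
  have hun : 𝕗 ru ru = 1 := by rw [hru, mem_GU_iff'.mp hUi, ev_norm hF]
  have hu0 : 𝕗 ru ru ≠ 0 := by rw [hun]; exact one_ne_zero
  have hv0 : 𝕗 rv rv ≠ 0 := by rw [hrv, mem_GU_iff'.mp hUi, ev_norm hF]; exact one_ne_zero
  have huv0 : 𝕗 ru rv = 0 := by rw [hru, hrv, mem_GU_iff'.mp hUi, ev_orth hF huv]
  set k := pr hF c ru rv with hk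
  have hkM : k ∈ M := ((S.rel_ev hF u v).map hF hgi hUi).2.2 c hc
  have hxz : ∀ (w : Fin n), ((g : Matrix (Fin n) (Fin n) F) *ᵥ ev x) w = 0 →
      𝕗 (ev x) (((g⁻¹ : GL (Fin n) F) : Matrix (Fin n) (Fin n) F) *ᵥ ev w) = 0 := by
    intro w hw
    rw [← mem_GU_iff'.mp hU, gl_mulVec_inv, herm_ev hF, hw]
  have hkmono : Mono k := mono_of_single_col hF S hG hkM (x := x) (by
    rw [hk, pr_fix hF hc hu0 hv0 (hxz u hu) (hxz v hv)]
    exact ⟨x, fun j hj => ev_ne hj⟩)
  refine ⟨fun l hlv => ?_, ?_⟩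
  · by_contra hlu
    have hns : ¬ Single ru := fun h =>
      hG (good_of_single_col hF S hgi hmi (x := u) h)
    obtain ⟨m, hml, hm0⟩ : ∃ m, m ≠ l ∧ ru m ≠ 0 := by
      by_contra h
      push Not at h
      exact hns ⟨l, h⟩
    have hcol : (k : Matrix (Fin n) (Fin n) F) *ᵥ ev l = ev l + ((c - 1) * powAut hF (ru l)) • ru := by
      rw [hk, pr_mulVec, qr_fix hF (sigma_mem_mu hF hc) hv0 (by
        rw [ev_herm hF]; rw [show rv l = 0 from hlv, map_zero]),
        qr_mulVec hF hc hu0, hun, div_one, ev_herm hF]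
    obtain ⟨i, hi⟩ := hkmono l
    have h0 : (c - 1) * powAut hF (ru l) * ru m ≠ 0 :=
      mul_ne_zero (mul_ne_zero hc1 (by simpa using hlu)) hm0
    have him : m = i := by
      by_contra hne
      have := hi m hne
      rw [hcol] at this
      simp only [Pi.add_apply, Pi.smul_apply, smul_eq_mul, ev_ne hml, zero_add] at this
      exact h0 this
    have h2 := hi l (him ▸ hml.symm)
    rw [hcol] at h2
    simp only [Pi.add_apply, Pi.smul_apply, smul_eq_mul, ev_self] at h2
    have hN : powAut hF (powAut hF (ru l) * ru l) = powAut hF (ru l) * ru l := by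
      rw [map_mul, sigma_sigma, mul_comm]
    have hN0 : powAut hF (ru l) * ru l ≠ 0 := mul_ne_zero (by simpa using hlu) hlu
    have h3 : c = 1 - (powAut hF (ru l) * ru l)⁻¹ := by
      have h4 : (c - 1) * (powAut hF (ru l) * ru l) = -1 := by linear_combination h2
      have h5 : c - 1 = -(powAut hF (ru l) * ru l)⁻¹ := by
        rw [eq_div_iff hN0 |>.mpr h4, neg_div, one_div]
      linear_combination h5
    exact hcre (by rw [h3, map_sub, map_one, map_inv₀, hN])
  · classical
    let L : (Fin n → F) →ₗ[F] (Fin n → F) := Matrix.mulVecLin (k : Matrix (Fin n) (Fin n) F) - 1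
    have hL : ∀ z, L z = (k : Matrix (Fin n) (Fin n) F) *ᵥ z - z := fun z => rfl
    obtain ⟨T, hT, hTL⟩ := exists_support (L := L) (r := 2) (fun l => by
        obtain ⟨a, b, hab⟩ := Mono.sub_diag_col hkmono (fun _ => 1) l
        exact ⟨a, b, fun j h1 h2 => by rw [hL]; simpa using hab j h1 h2⟩)
      ((finrank_range_le_of_finset L {ru, rv} fun z => by
        rw [hL, hk]
        simpa using pr_sub_mem hF hc hu0 hv0 z).trans Finset.card_le_two)
    refine ⟨T, by omega, fun l hl => ?_⟩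
    have h1 := hTL ru l hl
    rw [hL, hk, pr_mulVec, qr_fix hF (sigma_mem_mu hF hc) hv0 huv0, qr_self hF hc hu0,
      Pi.sub_apply, Pi.smul_apply, smul_eq_mul, ← sub_one_mul] at h1
    exact (mul_eq_zero.mp h1).resolve_left hc1

theorem zeros_le_one (hn : 10 ≤ n) {g : GL (Fin n) F} (hg : g ∈ M) (hm : ¬ Mono g) {x u v : Fin n}
    (hu : ((g : Matrix (Fin n) (Fin n) F) *ᵥ ev x) u = 0)
    (hv : ((g : Matrix (Fin n) (Fin n) F) *ᵥ ev x) v = 0) : u = v := by
  classical
  by_contra huv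
  have hfive : ∀ {g : GL (Fin n) F}, g ∈ M → ¬ Mono g → ∀ (x : Fin n) (Z : Finset (Fin n)),
      (∀ z ∈ Z, ((g : Matrix (Fin n) (Fin n) F) *ᵥ ev x) z = 0) → Z.card ≤ 4 := by
    intro g hg hm x Z hZ
    by_contra h5
    push Not at h5
    obtain ⟨u, hu⟩ : Z.Nonempty := Finset.card_pos.mp (by omega)
    obtain ⟨v, hv⟩ : (Z.erase u).Nonempty := by
      rw [← Finset.card_pos, Finset.card_erase_of_mem hu]; omega
    obtain ⟨T, hT, hTu⟩ := (rows_of_zeros hF S hG hg hm (Finset.ne_of_mem_erase hv).symm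
      (hZ u hu) (hZ v (Finset.mem_of_mem_erase hv))).2
    let r : Z → Fin n → F := fun z => ((g⁻¹ : GL (Fin n) F) : Matrix (Fin n) (Fin n) F) *ᵥ ev z.1
    have hr : Orthonormal' q r := fun i j => by
      rw [mem_GU_iff'.mp (S.gu (M.inv_mem hg))]
      split_ifs with h
      · subst h; exact ev_norm hF _
      · exact ev_orth hF fun e => h (Subtype.ext e)
    have hsupp : ∀ z : Z, ∀ l ∉ T, r z l = 0 := by
      intro z l hl
      by_cases hzu : z.1 = u
      · simpa [r, hzu] using hTu l hl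
      · exact (rows_of_zeros hF S hG hg hm hzu (hZ z.1 z.2) (hZ u hu)).1 l (hTu l hl)
    have hle : Submodule.span F (Set.range r) ≤
        Submodule.span F ((T.image fun t => (ev t : Fin n → F)) : Set (Fin n → F)) := by
      refine Submodule.span_le.mpr ?_
      rintro _ ⟨z, rfl⟩
      rw [← sum_ev (r z)]
      refine Submodule.sum_mem _ fun l _ => ?_
      by_cases hl : l ∈ T
      · exact Submodule.smul_mem _ _ (Submodule.subset_span (Finset.mem_image_of_mem _ hl))
      · rw [hsupp z l hl, zero_smul]; exact Submodule.zero_mem _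
    have h1 := (Submodule.finrank_mono hle).trans
      ((finrank_span_finset_le_card _).trans Finset.card_image_le)
    rw [finrank_span_eq_card (orthonormal_linearIndependent hr), Fintype.card_coe] at h1
    omega
  obtain ⟨T, hT, hTu⟩ := (rows_of_zeros hF S hG hg hm huv hu hv).2
  have := hfive (M.inv_mem hg) (fun h => hm (by simpa using h.inv)) u Tᶜ fun z hz =>
    hTu z (Finset.mem_compl.mp hz)
  rw [Finset.card_compl, Fintype.card_fin] at this
  omega

theorem nonmono_of_pair (hn : 10 ≤ n) {g : GL (Fin n) F} (hg : g ∈ M) (hm : ¬ Mono g)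
    {x y : Fin n} (hxy : x ≠ y) {c : F} (hc : c ∈ mu hF) (hc1 : c ≠ 1) :
    ¬ Mono (pr hF c ((g : Matrix (Fin n) (Fin n) F) *ᵥ ev x)
      ((g : Matrix (Fin n) (Fin n) F) *ᵥ ev y)) := by
  classical
  intro hk
  have hU := S.gu hg
  set a := (g : Matrix (Fin n) (Fin n) F) *ᵥ ev x with ha
  set b := (g : Matrix (Fin n) (Fin n) F) *ᵥ ev y with hb
  have ha0 : 𝕗 a a ≠ 0 := by rw [ha, mem_GU_iff'.mp hU, ev_norm hF]; exact one_ne_zero
  have hb0 : 𝕗 b b ≠ 0 := by rw [hb, mem_GU_iff'.mp hU, ev_norm hF]; exact one_ne_zero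
  have hab : 𝕗 a b = 0 := by rw [ha, hb, mem_GU_iff'.mp hU, ev_orth hF hxy]
  let L : (Fin n → F) →ₗ[F] (Fin n → F) :=
    Matrix.mulVecLin (pr hF c a b : Matrix (Fin n) (Fin n) F) - 1
  have hL : ∀ z, L z = (pr hF c a b : Matrix (Fin n) (Fin n) F) *ᵥ z - z := fun z => rfl
  obtain ⟨T, hT, hTL⟩ := exists_support (L := L) (r := 2) (fun l => by
      obtain ⟨i, j, hij⟩ := Mono.sub_diag_col hk (fun _ => 1) l
      exact ⟨i, j, fun m h1 h2 => by rw [hL]; simpa using hij m h1 h2⟩)
    ((finrank_range_le_of_finset L {a, b} fun z => by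
      rw [hL]; simpa using pr_sub_mem hF hc ha0 hb0 z).trans Finset.card_le_two)
  obtain ⟨l, hl, m, hm', hlm⟩ := Finset.one_lt_card.mp (show 1 < Tᶜ.card by
    rw [Finset.card_compl, Fintype.card_fin]; omega)
  refine hlm (zeros_le_one hF S hG hn hg hm (x := x) ?_ ?_)
  all_goals
    first
    | (have h1 := hTL a l (Finset.mem_compl.mp hl)
       rw [hL, pr_mulVec, qr_fix hF (sigma_mem_mu hF hc) hb0 hab, qr_self hF hc ha0,
         Pi.sub_apply, Pi.smul_apply, smul_eq_mul, ← sub_one_mul] at h1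
       exact (mul_eq_zero.mp h1).resolve_left (sub_ne_zero.mpr hc1))
    | (have h1 := hTL a m (Finset.mem_compl.mp hm')
       rw [hL, pr_mulVec, qr_fix hF (sigma_mem_mu hF hc) hb0 hab, qr_self hF hc ha0,
         Pi.sub_apply, Pi.smul_apply, smul_eq_mul, ← sub_one_mul] at h1
       exact (mul_eq_zero.mp h1).resolve_left (sub_ne_zero.mpr hc1))

theorem exists_zero_entry (hn : 10 ≤ n) {g : GL (Fin n) F} (hg : g ∈ M) (hm : ¬ Mono g) :
    ∃ h : GL (Fin n) F, h ∈ M ∧ ¬ Mono h ∧
      ∃ i x : Fin n, ((h : Matrix (Fin n) (Fin n) F) *ᵥ ev x) i = 0 := by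
  classical
  by_contra hc
  push Not at hc
  obtain ⟨c, hc', hcre⟩ := exists_norm_one_nonreal hF
  have hcm : c ∈ mu hF := (mem_mu hF).mpr hc'
  let x0 : Fin n := ⟨0, by omega⟩
  let y0 : Fin n := ⟨1, by omega⟩
  have hxy : x0 ≠ y0 := by simp [x0, y0]
  have hU := S.gu hg
  set a := (g : Matrix (Fin n) (Fin n) F) *ᵥ ev x0 with ha
  set b := (g : Matrix (Fin n) (Fin n) F) *ᵥ ev y0 with hb
  set R := pr hF c a b with hR
  have hRM : R ∈ M := ((S.rel_ev hF x0 y0).map hF hg hU).2.2 c hcm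
  have hRm : ¬ Mono R := nonmono_of_pair hF S hG hn hg hm hxy hcm
    fun e => hcre (by rw [e, map_one])
  have hRim : ¬ Mono R⁻¹ := fun h => hRm (by simpa using h.inv)
  have ha0 : 𝕗 a a ≠ 0 := by rw [ha, mem_GU_iff'.mp hU, ev_norm hF]; exact one_ne_zero
  have hb0 : 𝕗 b b ≠ 0 := by rw [hb, mem_GU_iff'.mp hU, ev_norm hF]; exact one_ne_zero
  obtain ⟨z, hz, hz1, hzsum, i0, j0, hzne⟩ := exists_gadget hF hn
    (p := fun l => ((R : Matrix (Fin n) (Fin n) F) *ᵥ ev l) x0 *
      (((R⁻¹ : GL (Fin n) F) : Matrix (Fin n) (Fin n) F) *ᵥ ev y0) l)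
    fun l => mul_ne_zero (hc R hRM hRm x0 l) (hc R⁻¹ (M.inv_mem hRM) hRim l y0)
  obtain ⟨h, hhM, hh⟩ := diag_exact hF S z hz hz1
  set K := R * h * R⁻¹ with hK
  have hKM : K ∈ M := M.mul_mem (M.mul_mem hRM hhM) (M.inv_mem hRM)
  have hK0 : ((K : Matrix (Fin n) (Fin n) F) *ᵥ ev y0) x0 = 0 := by
    rw [hK, gl_mul_mulVec, gl_mul_mulVec, hh, ← sum_ev (fun l => z l *
      (((R⁻¹ : GL (Fin n) F) : Matrix (Fin n) (Fin n) F) *ᵥ ev y0) l), mulVec_sum,
      Finset.sum_apply, ← hzsum]
    refine Finset.sum_congr rfl fun l _ => ?_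
    rw [mulVec_smul, Pi.smul_apply, smul_eq_mul]
    ring
  have hKm : Mono K := by
    by_contra hKm
    exact hc K hKM hKm x0 y0 hK0
  let Lm : (Fin n → F) →ₗ[F] (Fin n → F) :=
    Matrix.mulVecLin (K : Matrix (Fin n) (Fin n) F) -
      Matrix.mulVecLin (h : Matrix (Fin n) (Fin n) F)
  have hLm : ∀ x, Lm x = (K : Matrix (Fin n) (Fin n) F) *ᵥ x -
      (h : Matrix (Fin n) (Fin n) F) *ᵥ x := fun x => rfl
  have hev : ∀ l, (h : Matrix (Fin n) (Fin n) F) *ᵥ ev l = z l • ev l := fun l => by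
    rw [hh]
    funext j
    rcases eq_or_ne j l with rfl | hj
    · simp [ev_self]
    · simp [ev_ne hj]
  obtain ⟨T, hT, hTL⟩ := exists_support (L := Lm) (r := 4) (fun l => by
      obtain ⟨u, v, huv⟩ := Mono.sub_diag_col hKm z l
      exact ⟨u, v, fun j h1 h2 => by rw [hLm, hev]; exact huv j h1 h2⟩)
    ((finrank_range_le_of_finset Lm
        {a, b, (h : Matrix (Fin n) (Fin n) F) *ᵥ a, (h : Matrix (Fin n) (Fin n) F) *ᵥ b}
        fun x => by
      set V := Submodule.span F
        ((({a, b, (h : Matrix (Fin n) (Fin n) F) *ᵥ a, (h : Matrix (Fin n) (Fin n) F) *ᵥ b} :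
          Finset (Fin n → F))) : Set (Fin n → F)) with hV
      have hsub : Submodule.span F {a, b} ≤ V := Submodule.span_mono (by
        intro w hw
        simp only [Set.mem_insert_iff, Set.mem_singleton_iff] at hw
        rcases hw with rfl | rfl <;> simp)
      have hRi : ((R⁻¹ : GL (Fin n) F) : Matrix (Fin n) (Fin n) F) *ᵥ x - x ∈
          Submodule.span F {b, a} := by
        rw [hR, pr_inv hF hcm ha0 hb0]
        exact pr_sub_mem hF hcm hb0 ha0 x
      obtain ⟨s, t, hst⟩ := Submodule.mem_span_pair.mp hRi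
      set y := ((R⁻¹ : GL (Fin n) F) : Matrix (Fin n) (Fin n) F) *ᵥ x with hy
      have hhy : (h : Matrix (Fin n) (Fin n) F) *ᵥ y - (h : Matrix (Fin n) (Fin n) F) *ᵥ x ∈ V := by
        rw [← mulVec_sub, ← hst, mulVec_add, mulVec_smul, mulVec_smul]
        exact V.add_mem (V.smul_mem _ (Submodule.subset_span (by simp)))
          (V.smul_mem _ (Submodule.subset_span (by simp)))
      have h2 := V.add_mem (hsub (pr_sub_mem hF hcm ha0 hb0 ((h : Matrix (Fin n) (Fin n) F) *ᵥ y)))
        hhy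
      rw [hLm, hK, gl_mul_mulVec, gl_mul_mulVec, ← hy]
      rwa [← hR, sub_add_sub_cancel] at h2).trans Finset.card_le_four)
  obtain ⟨l, hl⟩ : ∃ l, l ∉ T := by
    by_contra hall
    push Not at hall
    have := Finset.card_le_card (s := Finset.univ) (t := T) fun l _ => hall l
    rw [Finset.card_univ, Fintype.card_fin] at this
    omega
  obtain ⟨i, hi⟩ := hKm l
  have hil : i = l := by
    by_contra hne
    have h1 := hTL (ev l) l hl
    rw [hLm, hev, Pi.sub_apply, hi l (Ne.symm hne), Pi.smul_apply, ev_self, smul_eq_mul, mul_one,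
      zero_sub, neg_eq_zero] at h1
    exact ne_zero_of_mu hF (hz l) h1
  subst hil
  have hfix : (K : Matrix (Fin n) (Fin n) F) *ᵥ ev i = z i • ev i := by
    have h1 := hTL (ev i) i hl
    rw [hLm, hev, Pi.sub_apply, Pi.smul_apply, ev_self, smul_eq_mul, mul_one, sub_eq_zero] at h1
    exact (single_eq hi).trans (by rw [h1])
  set w := ((R⁻¹ : GL (Fin n) F) : Matrix (Fin n) (Fin n) F) *ᵥ ev i with hw
  have hhw : (h : Matrix (Fin n) (Fin n) F) *ᵥ w = z i • w := by
    apply gl_mulVec_injective R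
    show (R : Matrix (Fin n) (Fin n) F) *ᵥ _ = (R : Matrix (Fin n) (Fin n) F) *ᵥ _
    rw [mulVec_smul, hw, gl_mulVec_inv, ← hfix, hK, gl_mul_mulVec, gl_mul_mulVec]
  have hall : ∀ j, z j = z i := fun j => by
    have h1 := congrFun hhw j
    rw [hh, Pi.smul_apply, smul_eq_mul] at h1
    exact mul_right_cancel₀ (hc R⁻¹ (M.inv_mem hRM) hRim j i) h1
  exact hzne ((hall i0).trans (hall j0).symm)

omit hG in
theorem card_le_of_roots (h : ∀ l ∈ mu hF, l ^ n = 1) (hn : 0 < n) : q + 1 ≤ n := by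
  classical
  have hle : mu hF ⊆ (Polynomial.nthRoots n (1 : F)).toFinset := fun x hx => by
    rw [Multiset.mem_toFinset, Polynomial.mem_nthRoots hn]
    exact h x hx
  have := (Finset.card_le_card hle).trans ((Multiset.toFinset_card_le _).trans
    (Polynomial.card_nthRoots n (1 : F)))
  rwa [card_mu hF] at this

theorem contradiction (hn : 10 ≤ n) {g₀ : GL (Fin n) F} (hg₀ : g₀ ∈ M) (hm₀ : ¬ Mono g₀) :
    False := by
  classical
  obtain ⟨g, hg, hm, i, x, hix⟩ := exists_zero_entry hF S hG hn hg₀ hm₀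
  have hgi := M.inv_mem hg
  have hmi : ¬ Mono g⁻¹ := fun h => hm (by simpa using h.inv)
  have hU := S.gu hg
  have hUi := S.gu hgi
  obtain ⟨a, ha⟩ : ∃ a, a = (g : Matrix (Fin n) (Fin n) F) *ᵥ ev x := ⟨_, rfl⟩
  set r := ((g⁻¹ : GL (Fin n) F) : Matrix (Fin n) (Fin n) F) *ᵥ ev i with hr
  have hanz : ∀ l, l ≠ i → a l ≠ 0 := fun l hl e => hl (zeros_le_one hF S hG hn hg hm (ha ▸ e) hix)
  have hrx : r x = 0 := by rw [hr, inv_entry hF hU, hix, map_zero]
  have hrnz : ∀ l, l ≠ x → r l ≠ 0 := fun l hl e => hl (zeros_le_one hF S hG hn hgi hmi e hrx)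
  have hga : ((g⁻¹ : GL (Fin n) F) : Matrix (Fin n) (Fin n) F) *ᵥ a = ev x := by
    rw [ha, gl_inv_mulVec]
  have hai : a i = 0 := by rw [ha, hix]
  -- every norm one scalar is an `n`-th root of one
  have hroots : ∀ l ∈ mu hF, l ^ n = 1 := by
    intro lam hlam
    set μ := (lam ^ (n - 1))⁻¹ with hμ
    have hμm : μ ∈ mu hF := inv_mem_mu hF (pow_mem_mu hF hlam _)
    obtain ⟨h, hhM, hh⟩ := diag_exact hF S (Function.update (fun _ => lam) i μ) (fun l => by
        rcases eq_or_ne l i with rfl | hl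
        · rw [Function.update_self]; exact hμm
        · rw [Function.update_of_ne hl]; exact hlam) (by
      rw [← Finset.mul_prod_erase _ _ (Finset.mem_univ i), Function.update_self,
        Finset.prod_congr rfl (g := fun _ => lam) (fun l hl =>
          Function.update_of_ne (Finset.ne_of_mem_erase hl) _ _), Finset.prod_const,
        Finset.card_erase_of_mem (Finset.mem_univ i), Finset.card_univ, Fintype.card_fin, hμ,
        inv_mul_cancel₀ (pow_ne_zero _ (ne_zero_of_mu hF hlam))])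
    have hdec : ∀ w : Fin n → F, (h : Matrix (Fin n) (Fin n) F) *ᵥ w =
        lam • w + ((μ - lam) * w i) • ev i := fun w => by
      rw [hh]
      funext l
      rcases eq_or_ne l i with rfl | hl
      · simp [ev_self]; ring
      · simp [ev_ne hl, Function.update_of_ne hl]
    set k := g⁻¹ * h * g with hk
    have hkx : ∀ l, (k : Matrix (Fin n) (Fin n) F) *ᵥ ev l =
        lam • ev l + ((μ - lam) * ((g : Matrix (Fin n) (Fin n) F) *ᵥ ev l) i) • r := fun l => by
      rw [hk, gl_mul_mulVec, gl_mul_mulVec, hdec, mulVec_add, mulVec_smul, mulVec_smul,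
        gl_inv_mulVec, hr]
    have hkm : Mono k := mono_of_single_col hF S hG (M.mul_mem (M.mul_mem hgi hhM) hg) (x := x) (by
      rw [hkx, hix]; simpa using single_smul_ev lam x)
    by_contra hne
    have hμl : μ - lam ≠ 0 := sub_ne_zero.mpr fun e => hne (by
      have h1 := pow_ne_zero (n - 1) (ne_zero_of_mu hF hlam)
      rw [hμ] at e
      rw [show n = n - 1 + 1 by omega, pow_succ]
      nth_rewrite 2 [← e]
      exact mul_inv_cancel₀ h1)
    obtain ⟨l, hl⟩ := Finset.card_pos.mp (show 0 < (Finset.univ.erase x).card by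
      rw [Finset.card_erase_of_mem (Finset.mem_univ x), Finset.card_univ, Fintype.card_fin]; omega)
    have hlx := Finset.ne_of_mem_erase hl
    have hgl : ((g : Matrix (Fin n) (Fin n) F) *ᵥ ev l) i ≠ 0 := fun e =>
      hrnz l hlx (by rw [hr, inv_entry hF hU, e, map_zero])
    obtain ⟨j, hj⟩ := hkm l
    obtain ⟨m, hm'⟩ := Finset.card_pos.mp (show 0 < (((Finset.univ.erase x).erase l).erase j).card by
      have h1 := Finset.pred_card_le_card_erase (a := j) (s := (Finset.univ.erase x).erase l)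
      have h2 := Finset.pred_card_le_card_erase (a := l) (s := Finset.univ.erase x)
      rw [Finset.card_erase_of_mem (Finset.mem_univ x), Finset.card_univ, Fintype.card_fin] at h2
      omega)
    simp only [Finset.mem_erase, Finset.mem_univ, and_true] at hm'
    have h0 := hj m hm'.1
    rw [hkx] at h0
    simp [ev_ne hm'.2.1, hμl, hgl, hrnz m hm'.2.2] at h0
  have hqn := card_le_of_roots hF S hroots (by omega)
  -- two coordinates of the column with equal norm
  obtain ⟨y, hy, z, hz, hyz, hnorm⟩ := Finset.exists_ne_map_eq_of_card_lt_of_maps_to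
    (s := Finset.univ.erase i) (t := (fix hF).erase 0) (f := fun l => a l * powAut hF (a l)) (by
      rw [Finset.card_erase_of_mem (Finset.mem_univ i), Finset.card_univ, Fintype.card_fin,
        Finset.card_erase_of_mem ((mem_fix hF).mpr (map_zero _)), card_fix hF]
      have := one_lt_q hF
      omega) (fun l hl => by
      simp only [Finset.mem_coe, Finset.mem_erase, mem_fix, norm_fixed hF, and_true]
      exact mul_ne_zero (hanz l (Finset.ne_of_mem_erase hl))
        (by simpa using hanz l (Finset.ne_of_mem_erase hl)))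
  have hyi := Finset.ne_of_mem_erase hy
  have hzi := Finset.ne_of_mem_erase hz
  have hay := hanz y hyi
  set c := a z / a y with hcdef
  have hc : c ∈ mu hF := by
    rw [mem_mu, hcdef, map_div₀, div_mul_div_comm, ← hnorm]
    exact div_self (mul_ne_zero hay (by simpa using hay))
  set v : Fin n → F := ev y - c • ev z with hv
  have hvy : v y = 1 := by simp [hv, ev_self, ev_ne hyz]
  have hvz : v z = -c := by simp [hv, ev_self, ev_ne hyz.symm]
  have hvo : ∀ j, j ≠ y → j ≠ z → v j = 0 := fun j h1 h2 => by simp [hv, ev_ne h1, ev_ne h2]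
  have hvv : 𝕗 v v = 2 := by
    rw [hv, herm_sub_left, herm_smul_left, herm_sub_right _ _ _ hF, herm_sub_right _ _ _ hF,
      herm_smul_right, herm_smul_right, ev_norm hF, ev_norm hF, ev_orth hF hyz, ev_orth hF hyz.symm,
      ← powAut_apply hF, mul_zero, sub_zero, mul_one, zero_sub]
    linear_combination (mem_mu hF).mp hc
  have hpres : ∀ u w, 𝕗 (rk1 q (-1) v v *ᵥ u) (rk1 q (-1) v v *ᵥ w) = 𝕗 u w := fun u w => by
    rw [rk1_mulVec, rk1_mulVec, herm_add_left, herm_add_right _ _ _ hF, herm_add_right _ _ _ hF,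
      herm_smul_left, herm_smul_left, herm_smul_right, herm_smul_right, ← powAut_apply hF,
      map_mul, ← herm_swap hF v w, hvv, map_neg, map_one]
    ring
  have hne : 𝕗 (ev i) (ev i) ≠ 0 := by rw [ev_norm hF]; exact one_ne_zero
  have hneg := neg_one_mem_mu hF
  set h := (((qr hF (-1) (ev i)) * mkGU hF _ hpres : GU n F q) : GL (Fin n) F) with hh
  have hhw : ∀ w, (h : Matrix (Fin n) (Fin n) F) *ᵥ w =
      w + (-1 * 𝕗 w v) • v + ((-1 - 1) * w i) • ev i := fun w => by
    rw [hh, GU_mul_mulVec, mkGU_val, rk1_mulVec, qr_mulVec hF hneg hne, ev_norm hF, div_one,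
      herm_ev hF]
    simp [hvo i hyi.symm hzi.symm]
  have hhm : Mono h := by
    intro l
    have e1 : 𝕗 (ev l) v = powAut hF (v l) := ev_herm hF v l
    rcases eq_or_ne l i with rfl | hli
    · refine ⟨l, fun j hj => ?_⟩
      rw [hhw, e1, hvo l hyi.symm hzi.symm]
      simp [ev_ne hj]
    · rcases eq_or_ne l y with rfl | hly
      · refine ⟨z, fun j hj => ?_⟩
        rw [hhw, e1, hvy, map_one]
        rcases eq_or_ne j l with rfl | hjl
        · simp [ev_self, hvy, ev_ne hli.symm, ev_ne hli]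
        · simp [ev_ne hjl, hvo j hjl hj, ev_ne hli.symm]
      · rcases eq_or_ne l z with rfl | hlz
        · refine ⟨y, fun j hj => ?_⟩
          rw [hhw, e1, hvz, map_neg]
          rcases eq_or_ne j l with rfl | hjl
          · simp [ev_self, hvz, ev_ne hli.symm, ev_ne hli]
            linear_combination -(mem_mu hF).mp hc
          · simp [ev_ne hjl, hvo j hj hjl, ev_ne hli.symm]
        · refine ⟨l, fun j hj => ?_⟩
          rw [hhw, e1, hvo l hly hlz]
          simp [ev_ne hj, ev_ne hli.symm]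
  have hhdet : h ∈ Cfsg.Geo.specialLinear (Fin n) F := by
    rw [mem_specialLinear_iff]
    show ((qr hF (-1) (ev i)).1.1 * (mkGU hF _ hpres).1.1).det = 1
    rw [Matrix.det_mul, qr_det hF hneg hne, mkGU_val, rk1_det, hvv]
    ring
  have hhM : h ∈ M := S.mono h (SetLike.coe_mem _) hhdet hhm
  have hfa : 𝕗 a v = 0 := by
    rw [hv, herm_sub_right _ _ _ hF, herm_smul_right, herm_ev hF, herm_ev hF, ← powAut_apply hF,
      sigma_eq_inv hF hc, hcdef]
    have := hanz z hzi
    field_simp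
    ring
  set k := g⁻¹ * h * g with hk
  have hkm : Mono k := mono_of_single_col hF S hG (M.mul_mem (M.mul_mem hgi hhM) hg) (x := x) (by
    rw [hk, gl_mul_mulVec, gl_mul_mulVec, ← ha, hhw, hfa, hai]
    simp only [mul_zero, zero_smul, add_zero, hga]
    exact ⟨x, fun j hj => ev_ne hj⟩)
  have hLk : ∀ w, (k : Matrix (Fin n) (Fin n) F) *ᵥ w - w =
      (-1 * 𝕗 ((g : Matrix (Fin n) (Fin n) F) *ᵥ w) v) •
        (((g⁻¹ : GL (Fin n) F) : Matrix (Fin n) (Fin n) F) *ᵥ v) +
        ((-1 - 1) * ((g : Matrix (Fin n) (Fin n) F) *ᵥ w) i) • r := fun w => by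
    rw [hk, gl_mul_mulVec, gl_mul_mulVec, hhw, mulVec_add, mulVec_add, mulVec_smul, mulVec_smul,
      gl_inv_mulVec, hr]
    abel
  let L : (Fin n → F) →ₗ[F] (Fin n → F) := Matrix.mulVecLin (k : Matrix (Fin n) (Fin n) F) - 1
  have hL : ∀ z, L z = (k : Matrix (Fin n) (Fin n) F) *ᵥ z - z := fun z => rfl
  set w := ((g⁻¹ : GL (Fin n) F) : Matrix (Fin n) (Fin n) F) *ᵥ v with hw
  have hcolL : ∀ l, ∃ a b : Fin n, ∀ j, j ≠ a → j ≠ b → L (ev l) j = 0 := fun l => by
    obtain ⟨u1, u2, huv⟩ := Mono.sub_diag_col hkm (fun _ => 1) l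
    exact ⟨u1, u2, fun j h1 h2 => by rw [hL]; simpa using huv j h1 h2⟩
  by_cases h2 : (2 : F) ≠ 0
  · obtain ⟨T, hT, hTL⟩ := exists_support (L := L) (r := 2) hcolL
      ((finrank_range_le_of_finset L {w, r} fun z => by
        rw [hL, hLk]
        exact Submodule.add_mem _ (Submodule.smul_mem _ _ (Submodule.subset_span (by simp)))
          (Submodule.smul_mem _ _ (Submodule.subset_span (by simp)))).trans Finset.card_le_two)
    obtain ⟨l, hl⟩ := Finset.card_pos.mp (show 0 < (Tᶜ.erase x).card by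
      have h1 := Finset.pred_card_le_card_erase (a := x) (s := Tᶜ)
      rw [Finset.card_compl, Fintype.card_fin] at h1
      omega)
    simp only [Finset.mem_erase, Finset.mem_compl] at hl
    have h1 := hTL r l hl.2
    rw [hL, hLk, hr, gl_mulVec_inv, ev_herm hF, hvo i hyi.symm hzi.symm, map_zero, mul_zero,
      zero_smul, zero_add, ev_self, Pi.smul_apply, smul_eq_mul] at h1
    refine hrnz l hl.1 ((mul_eq_zero.mp h1).resolve_left fun e => h2 ?_)
    linear_combination -e
  push Not at h2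
  -- characteristic two
  have h11 : ∀ w : F, (-1 - 1) * w = 0 := fun w => by linear_combination -w * h2
  obtain ⟨T, hT, hTL⟩ := exists_support (L := L) (r := 1) hcolL
    ((finrank_range_le_of_finset L {w} fun z => by
      rw [hL, hLk, h11, zero_smul, add_zero]
      exact Submodule.smul_mem _ _ (Submodule.subset_span (by simp))).trans
      (Finset.card_singleton _).le)
  have hwT : ∀ j ∉ T, w j = 0 := fun j hj => by
    have h1 := hTL (((g⁻¹ : GL (Fin n) F) : Matrix (Fin n) (Fin n) F) *ᵥ ev y) j hj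
    rw [hL, hLk, gl_mulVec_inv, ev_herm hF, hvy, map_one, h11, zero_smul, add_zero, Pi.smul_apply,
      smul_eq_mul] at h1
    simpa using h1
  have hvg : v = (g : Matrix (Fin n) (Fin n) F) *ᵥ w := by rw [hw, gl_mulVec_inv]
  obtain ⟨l, m, hlm, hl0, hm0, hwo⟩ : ∃ l m, l ≠ m ∧ w l ≠ 0 ∧ w m ≠ 0 ∧
      ∀ j, j ≠ l → j ≠ m → w j = 0 := by
    obtain ⟨l, hl⟩ : ∃ l, w l ≠ 0 := by
      by_contra h
      push Not at h
      have : v y = 0 := by rw [hvg, show w = 0 from funext h]; simp
      rw [hvy] at this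
      exact one_ne_zero this
    obtain ⟨m, hml, hm'⟩ : ∃ m, m ≠ l ∧ w m ≠ 0 := by
      by_contra h
      push Not at h
      rw [single_eq h, mulVec_smul] at hvg
      obtain ⟨j1, hj1, j2, hj2, hj12⟩ := Finset.one_lt_card.mp
        (show 1 < (({y, z} : Finset (Fin n))ᶜ).card by
          rw [Finset.card_compl, Fintype.card_fin]
          have : ({y, z} : Finset (Fin n)).card ≤ 2 := Finset.card_le_two
          omega)
      simp only [Finset.mem_compl, Finset.mem_insert, Finset.mem_singleton, not_or] at hj1 hj2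
      refine hj12 (zeros_le_one hF S hG hn hg hm (x := l) ?_ ?_)
      · have h1 := congrFun hvg j1
        rw [hvo j1 hj1.1 hj1.2, Pi.smul_apply, smul_eq_mul, eq_comm] at h1
        exact (mul_eq_zero.mp h1).resolve_left hl
      · have h1 := congrFun hvg j2
        rw [hvo j2 hj2.1 hj2.2, Pi.smul_apply, smul_eq_mul, eq_comm] at h1
        exact (mul_eq_zero.mp h1).resolve_left hl
    refine ⟨l, m, hml.symm, hl, hm', fun j h1 h2 => hwT j fun hj => ?_⟩
    have hsub : ({l, m, j} : Finset (Fin n)) ⊆ T := by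
      simp only [Finset.insert_subset_iff, Finset.singleton_subset_iff]
      exact ⟨by_contra fun h => hl (hwT l h), by_contra fun h => hm' (hwT m h), hj⟩
    have := Finset.card_le_card hsub
    rw [Finset.card_insert_of_notMem (by simp [hml.symm, h1.symm]),
      Finset.card_pair h2.symm] at this
    omega
  set al := (g : Matrix (Fin n) (Fin n) F) *ᵥ ev l with hal
  set u := (g : Matrix (Fin n) (Fin n) F) *ᵥ ev m with hu
  have hv' : v = w l • al + w m • u := by
    rw [hal, hu, ← mulVec_smul, ← mulVec_smul, ← mulVec_add]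
    conv_lhs => rw [hvg]
    congr 1
    funext j
    rcases eq_or_ne j l with rfl | hjl
    · simp [ev_self, ev_ne hlm]
    rcases eq_or_ne j m with rfl | hjm
    · simp [ev_self, ev_ne hjl]
    simp [ev_ne hjl, ev_ne hjm, hwo j hjl hjm]
  obtain ⟨d, hd', hdre⟩ := exists_norm_one_nonreal hF
  have hd : d ∈ mu hF := (mem_mu hF).mpr hd'
  set R := pr hF d al u with hR
  have hRM : R ∈ M := ((S.rel_ev hF l m).map hF hg hU).2.2 d hd
  have hRm : ¬ Mono R := nonmono_of_pair hF S hG hn hg hm hlm hd fun e => hdre (by rw [e, map_one])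
  have hRim : ¬ Mono R⁻¹ := fun h => hRm (by simpa using h.inv)
  have hl1 : 𝕗 al al ≠ 0 := by rw [hal, mem_GU_iff'.mp hU, ev_norm hF]; exact one_ne_zero
  have hm1 : 𝕗 u u ≠ 0 := by rw [hu, mem_GU_iff'.mp hU, ev_norm hF]; exact one_ne_zero
  have hfixR : ∀ s : Fin n → F, 𝕗 s v = 0 → 𝕗 s u = 0 →
      (R : Matrix (Fin n) (Fin n) F) *ᵥ s = s := by
    intro s h1 h3
    refine pr_fix hF hd hl1 hm1 ?_ h3
    rw [hv', herm_add_right _ _ _ hF, herm_smul_right, herm_smul_right, h3, mul_zero, add_zero,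
      mul_eq_zero] at h1
    exact h1.resolve_left (pow_ne_zero q hl0)
  have hevv : ∀ p, p ≠ y → p ≠ z → 𝕗 (ev p) v = 0 := fun p h1 h3 => by
    rw [ev_herm hF, hvo p h1 h3, map_zero]
  have hu0 : ∀ p, p ≠ y → p ≠ z → u p ≠ 0 := by
    intro p h1 h3 hp
    exact hG (good_of_single_col hF S hRM hRm (x := p) (by
      rw [hfixR _ (hevv p h1 h3) (by rw [ev_herm hF, hp, map_zero])]
      exact ⟨p, fun j hj => ev_ne hj⟩))
  have hex : q ≤ 7 ∨ 11 ≤ n := by
    by_contra hc
    push Not at hc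
    have heven : Even q := by
      have e := FiniteField.even_card_of_char_two (F := F)
        (ringChar.eq_iff.2 (CharTwo.of_one_ne_zero_of_two_eq_zero one_ne_zero h2))
      rw [hF, ← Nat.even_iff] at e
      exact (Nat.even_pow.mp e).1
    have hq8 : q = 8 := by
      obtain ⟨j, hj⟩ := heven
      omega
    obtain ⟨θ, hθ', hθre⟩ := exists_norm_one_nonreal hF
    have hθ : θ ∈ mu hF := (mem_mu hF).mpr hθ'
    have h9 : θ ^ 9 = 1 := by
      rw [powAut_apply, hq8, ← pow_succ'] at hθ'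
      exact hθ'
    have h10 := hroots θ hθ
    rw [show n = 9 + 1 by omega, pow_succ, h9, one_mul] at h10
    exact hθre (by rw [h10, map_one])
  obtain ⟨M0, hM1, hM2, hM3⟩ := log_bound (one_lt_q hF) hn hqn hex
  set O := ((Finset.univ : Finset (Fin n)).erase y).erase z with hO
  have hOc : O.card = n - 2 := by
    rw [hO, Finset.card_erase_of_mem (by simp [hyz.symm]), Finset.card_erase_of_mem
      (Finset.mem_univ y), Finset.card_univ, Fintype.card_fin]
    omega
  obtain ⟨I, hI, hIc⟩ := Finset.exists_subset_card_eq (s := O) (n := M0) (by omega)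
  obtain ⟨J, hJ, hJc⟩ := Finset.exists_subset_card_eq (s := O \ I) (n := M0) (by
    rw [Finset.card_sdiff_of_subset hI]; omega)
  obtain ⟨p, hp⟩ : ((O \ I) \ J).Nonempty := by
    rw [← Finset.card_pos, Finset.card_sdiff_of_subset hJ, Finset.card_sdiff_of_subset hI]
    omega
  simp only [Finset.mem_sdiff] at hp
  set N : Fin n → F := fun s => u s * powAut hF (u s) with hN
  obtain ⟨A, hA, hAne, hAsum⟩ := exists_zero_subset hF h2 I N (fun s _ => norm_fixed hF _)
    (by rw [hIc]; exact hM1)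
  obtain ⟨B, hB, hBne, hBsum⟩ := exists_zero_subset hF h2 J N (fun s _ => norm_fixed hF _)
    (by rw [hJc]; exact hM1)
  obtain ⟨θ, hθ, hθA⟩ := exists_mu_pow_ne_one hF (m := A.card) (Finset.card_pos.mpr hAne) (by
    have := Finset.card_le_card hA; omega)
  have hdisj : ∀ s ∈ B, s ∉ A := fun s hs hsA => (Finset.mem_sdiff.mp (hJ (hB hs))).2 (hA hsA)
  set Z : Fin n → F := fun s => if s ∈ A then θ ^ B.card else if s ∈ B then (θ ^ A.card)⁻¹ else 1
    with hZ
  have hZA : ∀ s ∈ A, Z s = θ ^ B.card := fun s hs => if_pos hs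
  have hZB : ∀ s ∈ B, Z s = (θ ^ A.card)⁻¹ := fun s hs => by
    rw [hZ]; simp only []; rw [if_neg (hdisj s hs), if_pos hs]
  have hZo : ∀ s, s ∉ A → s ∉ B → Z s = 1 := fun s h1 h3 => by
    rw [hZ]; simp only []; rw [if_neg h1, if_neg h3]
  have hdis : Disjoint A B := Finset.disjoint_left.mpr fun s h1 h3 => hdisj s h3 h1
  have hZprod : ∏ s, Z s = 1 := by
    rw [← Finset.prod_subset (Finset.subset_univ (A ∪ B)) (fun s _ hs => by
      rw [Finset.mem_union, not_or] at hs; exact hZo s hs.1 hs.2), Finset.prod_union hdis,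
      Finset.prod_congr rfl hZA, Finset.prod_congr rfl hZB, Finset.prod_const, Finset.prod_const,
      inv_pow, ← pow_mul, ← pow_mul, mul_comm A.card,
      mul_inv_cancel₀ (pow_ne_zero _ (ne_zero_of_mu hF hθ))]
  obtain ⟨h', hh'M, hh'⟩ := diag_exact hF S Z (fun s => by
    rw [hZ]; simp only []
    split_ifs
    exacts [pow_mem_mu hF hθ _, inv_mem_mu hF (pow_mem_mu hF hθ _), one_mem_mu hF]) hZprod
  -- the inverse of `R` on the remaining coordinates
  have hinv : ∀ {s : Fin n → F}, (R : Matrix (Fin n) (Fin n) F) *ᵥ s = s →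
      ((R⁻¹ : GL (Fin n) F) : Matrix (Fin n) (Fin n) F) *ᵥ s = s := fun h3 => by
    conv_lhs => rw [← h3]
    rw [gl_inv_mulVec]
  have hOmem : ∀ {s}, s ∈ O → s ≠ y ∧ s ≠ z := fun hs => by
    simp only [hO, Finset.mem_erase] at hs
    exact ⟨hs.2.1, hs.1⟩
  have hp1 := hOmem hp.1.1
  have hup := hu0 p hp1.1 hp1.2
  set sv := (powAut hF (u p))⁻¹ •
    (((R⁻¹ : GL (Fin n) F) : Matrix (Fin n) (Fin n) F) *ᵥ ev p - ev p) with hsv
  have hσp : powAut hF (u p) ≠ 0 := by simpa using hup
  have hRp : ((R⁻¹ : GL (Fin n) F) : Matrix (Fin n) (Fin n) F) *ᵥ ev p =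
      ev p + powAut hF (u p) • sv := by
    rw [hsv, smul_smul, mul_inv_cancel₀ hσp, one_smul, add_sub_cancel]
  -- `sv` lies in the plane
  have hsvspan : sv ∈ Submodule.span F {u, al} := by
    rw [hsv, hR, pr_inv hF hd hl1 hm1]
    exact Submodule.smul_mem _ _ (pr_sub_mem hF hd hm1 hl1 _)
  obtain ⟨α, β, hαβ⟩ := Submodule.mem_span_pair.mp hsvspan
  have hsvO : ∀ s, s ≠ y → s ≠ z → sv s = (α - β * w m / w l) * u s := by
    intro s h1 h3
    have h4 := congrFun hv' s
    rw [hvo s h1 h3] at h4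
    simp only [Pi.add_apply, Pi.smul_apply, smul_eq_mul] at h4
    rw [← hαβ]
    simp only [Pi.add_apply, Pi.smul_apply, smul_eq_mul]
    field_simp
    linear_combination (-β) * h4
  set γ := α - β * w m / w l with hγ
  have hγ0 : γ ≠ 0 := by
    intro e
    obtain ⟨j1, hj1, j2, hj2, hj12⟩ := Finset.one_lt_card.mp (show 1 < (O.erase p).card by
      rw [Finset.card_erase_of_mem hp.1.1]; omega)
    refine hj12 (zeros_le_one hF S hG hn (M.inv_mem hRM) hRim (x := p) ?_ ?_)
    · obtain ⟨h1, h3⟩ := hOmem (Finset.mem_of_mem_erase hj1)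
      rw [hRp, Pi.add_apply, Pi.smul_apply, hsvO j1 h1 h3, e, zero_mul, smul_zero, add_zero,
        ev_ne (Finset.ne_of_mem_erase hj1)]
    · obtain ⟨h1, h3⟩ := hOmem (Finset.mem_of_mem_erase hj2)
      rw [hRp, Pi.add_apply, Pi.smul_apply, hsvO j2 h1 h3, e, zero_mul, smul_zero, add_zero,
        ev_ne (Finset.ne_of_mem_erase hj2)]
  set W : Fin n → F := fun s => (Z s - 1) * u s with hW
  have hAO : ∀ s, s ∈ A ∪ B → s ∈ O := fun s hs => by
    rcases Finset.mem_union.mp hs with h1 | h1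
    exacts [hI (hA h1), (Finset.mem_sdiff.mp (hJ (hB h1))).1]
  have hWo : ∀ s, s ∉ A ∪ B → W s = 0 := fun s hs => by
    rw [Finset.mem_union, not_or] at hs
    rw [hW]; simp only []; rw [hZo s hs.1 hs.2, sub_self, zero_mul]
  have hWfix : (R : Matrix (Fin n) (Fin n) F) *ᵥ W = W := by
    refine hfixR W ?_ ?_
    · rw [← sum_ev W, herm_sum_left]
      refine Finset.sum_eq_zero fun s _ => ?_
      by_cases hs : s ∈ A ∪ B
      · rw [herm_smul_left, hevv s (hOmem (hAO s hs)).1 (hOmem (hAO s hs)).2, mul_zero]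
      · rw [hWo s hs, zero_smul, Cfsg.Agent.Lib.Unitary.herm_zero_left]
    · rw [← sum_ev W, herm_sum_left, ← Finset.sum_subset (Finset.subset_univ (A ∪ B))
        (fun s _ hs => by rw [hWo s hs, zero_smul, Cfsg.Agent.Lib.Unitary.herm_zero_left]),
        Finset.sum_union hdis]
      have e1 : ∀ s, 𝕗 (W s • ev s) u = (Z s - 1) * N s := fun s => by
        rw [herm_smul_left, ev_herm hF, hW, hN]; ring
      rw [Finset.sum_congr rfl (fun s _ => e1 s), Finset.sum_congr rfl (fun s _ => e1 s),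
        Finset.sum_congr rfl (g := fun s => (θ ^ B.card - 1) * N s) (fun s hs => by rw [hZA s hs]),
        ← Finset.mul_sum, hAsum,
        Finset.sum_congr rfl (g := fun s => ((θ ^ A.card)⁻¹ - 1) * N s) (fun s hs => by
          rw [hZB s hs]), ← Finset.mul_sum, hBsum]
      ring
  set K := R * h' * R⁻¹ with hK
  have hKM : K ∈ M := M.mul_mem (M.mul_mem hRM hh'M) (M.inv_mem hRM)
  have hpAB : p ∉ A ∪ B := fun h1 => by
    rcases Finset.mem_union.mp h1 with h3 | h3
    exacts [hp.1.2 (hA h3), hp.2 (hB h3)]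
  have hKp : (K : Matrix (Fin n) (Fin n) F) *ᵥ ev p = ev p + (powAut hF (u p) * γ) • W := by
    have e1 : (h' : Matrix (Fin n) (Fin n) F) *ᵥ (ev p + powAut hF (u p) • sv) =
        (ev p + powAut hF (u p) • sv) + (powAut hF (u p) * γ) • W := by
      rw [hh']
      funext s
      simp only [Pi.add_apply, Pi.smul_apply, smul_eq_mul]
      by_cases hs : s ∈ A ∪ B
      · have h1 := hOmem (hAO s hs)
        rw [ev_ne (fun e => hpAB (by rw [← e]; exact hs)), hsvO s h1.1 h1.2, hW]
        ring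
      · have hs' := hs
        rw [Finset.mem_union, not_or] at hs'
        rw [hZo s hs'.1 hs'.2, hWo s hs]
        ring
    rw [hK, gl_mul_mulVec, gl_mul_mulVec, hRp, e1, mulVec_add, mulVec_smul _ (powAut hF (u p) * γ),
      hWfix, ← hRp, gl_mulVec_inv]
  obtain ⟨s0, hs0⟩ := hBne
  have hW0 : W s0 ≠ 0 := by
    rw [hW]; simp only []
    rw [hZB s0 hs0]
    have h1 := hOmem (hAO s0 (Finset.mem_union_right _ hs0))
    exact mul_ne_zero (sub_ne_zero.mpr fun e => hθA (inv_eq_one.mp e)) (hu0 s0 h1.1 h1.2)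
  have hKm : ¬ Mono K := fun hK' => by
    obtain ⟨j, hj⟩ := hK' p
    have hjp : j = p := by
      by_contra hne
      have h1 := hj p (Ne.symm hne)
      rw [hKp] at h1
      simp [ev_self, hWo p hpAB] at h1
    have hsp : s0 ≠ p := fun e => hpAB (e ▸ Finset.mem_union_right _ hs0)
    have h1 := hj s0 (hjp ▸ hsp)
    rw [hKp] at h1
    simp [ev_ne hsp, hσp, hγ0, hW0] at h1
  have hyO : y ∉ A ∪ B := fun h1 => (hOmem (hAO y h1)).1 rfl
  have hzO : z ∉ A ∪ B := fun h1 => (hOmem (hAO z h1)).2 rfl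
  refine hyz (zeros_le_one hF S hG hn hKM hKm (x := p) ?_ ?_)
  · rw [hKp]; simp [ev_ne hp1.1.symm, hWo y hyO]
  · rw [hKp]; simp [ev_ne hp1.2.symm, hWo z hzO]

end NotGood

theorem good (S : Over q M) (hn : 10 ≤ n) {g : GL (Fin n) F} (hg : g ∈ M) (hm : ¬ Mono g) :
    Good hF M := by
  by_contra hG
  exact contradiction hF S hG hn hg hm

end Cfsg.Agent.Lib.Subspaces.UnitMono
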