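import Cfsg.Agent.Lib.Subspaces.UnitMono

/-!
Overgroups of the monomial subgroup of `SU`: shrinking a point related to the coordinate points to
one with two non-zero coordinates, and the field with four elements.
-/

set_option autoImplicit false
set_option maxHeartbeats 800000

namespace Cfsg.Agent.Lib.Subspaces.UnitMonoLam

open Matrix Cfsg.Agent.Lib.Subspaces.Transvection Cfsg.Agent.Lib.Subspaces.FormVec
  Cfsg.Agent.Lib.Subspaces.UnitaryGen Cfsg.Agent.Lib.Subspaces.UnitBlock
  Cfsg.Agent.Lib.Subspaces.UnitCircle Cfsg.Agent.Lib.Subspaces.UnitQuasi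
  Cfsg.Agent.Lib.Subspaces.UnitMono Cfsg.Agent.Lib.Unitary

variable {F : Type*} [Field F] [Fintype F] {q n : ℕ} (hF : Fintype.card F = q ^ 2)
  {M : Subgroup (GL (Fin n) F)}

local notation "𝕗" => Cfsg.hermForm n F q

/-- Related to all coordinate points. -/
def Lam (M : Subgroup (GL (Fin n) F)) (v : Fin n → F) : Prop := ∀ l, Rel hF M v (ev l)

/-- The support of a vector. -/
noncomputable def supp (x : Fin n → F) : Finset (Fin n) := by
  classical exact Finset.univ.filter fun l => x l ≠ 0

omit [Fintype F] in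
theorem mem_supp {x : Fin n → F} {l : Fin n} : l ∈ supp x ↔ x l ≠ 0 := by
  classical simp [supp]

omit [Fintype F] in
theorem single_of_card_le {x : Fin n → F} (i0 : Fin n) (h : (supp x).card ≤ 1) : Single x := by
  classical
  rcases Finset.eq_empty_or_nonempty (supp x) with he | ⟨i, hi⟩
  · exact ⟨i0, fun j _ => by_contra fun hj => by simpa [he] using mem_supp.mpr hj⟩
  · exact ⟨i, fun j hj => by_contra fun hj' => hj (Finset.card_le_one.mp h j (mem_supp.mpr hj') i hi)⟩

theorem lam_of_rel (S : Over q M) {v : Fin n → F} {i : Fin n} (h : Rel hF M v (ev i)) :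
    Lam hF M v := fun l => h.trans hF (S.rel_ev hF i l)

theorem lam_ev (S : Over q M) (i : Fin n) : Lam hF M (ev i) := fun l => S.rel_ev hF i l

theorem lam_map (S : Over q M) {v : Fin n → F} (hv : Lam hF M v) {g : GL (Fin n) F} (hg : g ∈ M)
    {l l' : Fin n} {t : F} (ht : t ≠ 0)
    (hgl : (g : Matrix (Fin n) (Fin n) F) *ᵥ ev l = t • ev l') :
    Lam hF M ((g : Matrix (Fin n) (Fin n) F) *ᵥ v) := by
  have h := ((hv l).map hF hg (S.gu hg)).symm hF
  rw [hgl] at h
  have h2 := h.smul_left hF (inv_ne_zero ht)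
  rw [smul_smul, inv_mul_cancel₀ ht, one_smul] at h2
  exact lam_of_rel hF S (h2.symm hF)

theorem lam_phase (S : Over q M) (hn : 2 ≤ n) {v : Fin n → F} (hv : Lam hF M v) {o : Fin n}
    (ho : v o = 0) {z : Fin n → F} (hz : ∀ l, z l ∈ mu hF) :
    Lam hF M (fun l => z l * v l) := by
  haveI : Nontrivial (Fin n) := Fin.nontrivial_iff_two_le.2 hn
  obtain ⟨g, hg, hgz⟩ := S.exists_diag hF z hz o
  obtain ⟨l, hl⟩ := exists_ne o
  rw [← hgz v ho]
  refine lam_map hF S hv hg (l := l) (l' := l) (ne_zero_of_mu hF (hz l)) ?_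
  rw [hgz _ (ev_ne hl.symm)]
  funext j
  rcases eq_or_ne j l with rfl | hj
  · simp [ev_self]
  · simp [ev_ne hj]

/-- The subtraction rule. -/
theorem lam_sub {x y z : Fin n → F} (hx : Lam hF M x) (hz : Lam hF M z) (hy : Lam hF M y)
    (hxz : 𝕗 x z = 0) (hyz : 𝕗 y z = 0) (hx1 : 𝕗 x x = 1) (S : Over q M)
    (htr : 𝕗 y x + powAut hF (𝕗 y x) = 1) : Lam hF M (y - x) := by
  rcases Nat.eq_zero_or_pos n with rfl | hn
  · exact fun l => l.elim0
  let o : Fin n := ⟨0, hn⟩
  set w := 𝕗 y x with hw
  have hw0 : w ≠ 0 := fun e => by rw [e, map_zero, add_zero] at htr; exact zero_ne_one htr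
  have hσw : powAut hF w ≠ 0 := by simpa using hw0
  set c := 1 - w⁻¹ with hcdef
  have hc : c ∈ mu hF := by
    rw [mem_mu, hcdef, map_sub, map_one, map_inv₀]
    field_simp
    linear_combination -htr
  have hxz' : Rel hF M x z := (hx o).trans hF ((hz o).symm hF)
  have hPM := hxz'.2.2 c hc
  have hxne : 𝕗 x x ≠ 0 := by rw [hx1]; exact one_ne_zero
  have hPx : (pr hF c x z : Matrix (Fin n) (Fin n) F) *ᵥ x = c • x := by
    rw [pr_mulVec, qr_fix hF (sigma_mem_mu hF hc) hxz'.2.1 hxz, qr_self hF hc hxne]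
  have hPy : (pr hF c x z : Matrix (Fin n) (Fin n) F) *ᵥ y = y - x := by
    rw [pr_mulVec, qr_fix hF (sigma_mem_mu hF hc) hxz'.2.1 hyz, qr_mulVec hF hc hxne, hx1, div_one,
      ← hw, hcdef, show (1 - w⁻¹ - 1) * w = -1 by field_simp; ring, neg_one_smul, sub_eq_add_neg]
  have h := (((hx o).trans hF ((hy o).symm hF)).map hF hPM (S.gu hPM))
  rw [hPx, hPy] at h
  have h2 := h.smul_left hF (inv_ne_zero (ne_zero_of_mu hF hc))
  rw [smul_smul, inv_mul_cancel₀ (ne_zero_of_mu hF hc), one_smul] at h2
  exact fun l => (h2.symm hF).trans hF (hx l)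

/-- Related to the coordinate points, of norm one, not a coordinate point, with a zero
coordinate. -/
def Pt (M : Subgroup (GL (Fin n) F)) (x : Fin n → F) : Prop :=
  Lam hF M x ∧ 𝕗 x x = 1 ∧ ¬ Single x ∧ ∃ o, x o = 0

omit [Fintype F] in
theorem herm_eq_sum (x y : Fin n → F) : 𝕗 x y = ∑ l, x l * y l ^ q := rfl

/-- Changing the phases on a set `A` of coordinates shrinks the support to `A`. -/
theorem pt_change (S : Over q M) (hn : 2 ≤ n) {x : Fin n → F} (hx : Pt hF M x)
    {A : Finset (Fin n)} (hA : A ⊆ supp x) (hA2 : 2 ≤ A.card) {z : Fin n → F}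
    (hz : ∀ l, z l ∈ mu hF) (hz1 : ∀ l ∈ A, z l ≠ 1)
    (hsum : ∑ l ∈ A, (2 - (z l + powAut hF (z l))) * (x l * powAut hF (x l)) = 1) :
    ∃ v, Pt hF M v ∧ supp v = A ∧ ∀ l ∈ A, v l = (z l - 1) * x l := by
  classical
  obtain ⟨hxL, hx1, -, o, ho⟩ := hx
  set Z : Fin n → F := fun l => if l ∈ A then z l else 1 with hZ
  have hZm : ∀ l, Z l ∈ mu hF := fun l => by
    rw [hZ]; simp only []; split_ifs
    exacts [hz l, one_mem_mu hF]
  set y : Fin n → F := fun l => Z l * x l with hy
  have hyL := lam_phase hF S hn hxL ho hZm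
  have htr : 𝕗 y x + powAut hF (𝕗 y x) = 1 := by
    rw [herm_eq_sum, map_sum, ← Finset.sum_add_distrib]
    have e1 : ∀ l, y l * x l ^ q + powAut hF (y l * x l ^ q) =
        2 * (x l * powAut hF (x l)) - (2 - (Z l + powAut hF (Z l))) * (x l * powAut hF (x l)) :=
      fun l => by
        rw [← powAut_apply hF, hy]
        simp only [map_mul, sigma_sigma]
        ring
    have q1 : ∑ l, x l * powAut hF (x l) = 1 := by
      rw [← hx1, herm_eq_sum]
      simp only [powAut_apply]
    have q2 : ∑ l, (2 - (Z l + powAut hF (Z l))) * (x l * powAut hF (x l)) = 1 := by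
      refine Eq.trans ?_ hsum
      refine Eq.trans (Finset.sum_subset (Finset.subset_univ A) fun l _ hl => ?_).symm
        (Finset.sum_congr rfl fun l hl => ?_)
      · simp only [hZ, if_neg hl, map_one]; ring
      · simp only [hZ, if_pos hl]
    rw [Finset.sum_congr rfl fun l _ => e1 l, Finset.sum_sub_distrib, ← Finset.mul_sum, q1, q2]
    ring
  have hyo : y o = 0 := by simp [hy, ho]
  have hyy : 𝕗 y y = 1 := by
    rw [← hx1, herm_eq_sum, herm_eq_sum]
    refine Finset.sum_congr rfl fun l _ => ?_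
    rw [hy]
    simp only [← powAut_apply hF, map_mul]
    linear_combination x l * powAut hF (x l) * (mem_mu hF).mp (hZm l)
  have hvL := lam_sub hF hxL (lam_ev hF S o) hyL (by rw [herm_ev hF, ho])
    (by rw [herm_ev hF]; exact hyo) hx1 S htr
  have hv : ∀ l, (y - x) l = if l ∈ A then (z l - 1) * x l else 0 := fun l => by
    rw [Pi.sub_apply, hy, hZ]
    simp only []
    split_ifs <;> ring
  have hsupp : supp (y - x) = A := by
    ext l
    rw [mem_supp, hv]
    split_ifs with h
    · simp [h, sub_ne_zero.mpr (hz1 l h), mem_supp.mp (hA h)]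
    · simp [h]
  refine ⟨y - x, ⟨hvL, ?_, fun ⟨i, hi⟩ => ?_, o, by rw [Pi.sub_apply, hyo, ho, sub_zero]⟩, hsupp,
    fun l hl => by rw [hv, if_pos hl]⟩
  · rw [herm_sub_left, herm_sub_right _ _ _ hF, herm_sub_right _ _ _ hF, hyy, hx1,
      herm_swap hF x y]
    linear_combination -htr
  · have hle : A ⊆ {i} := fun l hl => Finset.mem_singleton.mpr <| by_contra fun hne => by
      have := hi l hne
      rw [← hsupp] at hl
      exact mem_supp.mp hl this
    have := Finset.card_le_card hle
    rw [Finset.card_singleton] at this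
    omega

/-- The values `2 - l - σ l` at the non-trivial norm one scalars. -/
noncomputable def delta : Finset F := by
  classical exact ((mu hF).erase 1).image fun l => 2 - (l + powAut hF l)

theorem mem_delta {d : F} :
    d ∈ delta hF ↔ ∃ l ∈ mu hF, l ≠ 1 ∧ 2 - (l + powAut hF l) = d := by
  classical simp [delta, and_assoc, and_left_comm]

theorem delta_eq_norm {l : F} (hl : l ∈ mu hF) :
    2 - (l + powAut hF l) = (l - 1) * powAut hF (l - 1) := by
  rw [map_sub, map_one]
  linear_combination -(mem_mu hF).mp hl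

theorem delta_ne_zero {d : F} (hd : d ∈ delta hF) : d ≠ 0 := by
  obtain ⟨l, hl, hl1, rfl⟩ := (mem_delta hF).mp hd
  rw [delta_eq_norm hF hl]
  exact mul_ne_zero (sub_ne_zero.mpr hl1) (by simpa [sub_eq_zero] using hl1)

theorem delta_fixed {d : F} (hd : d ∈ delta hF) : powAut hF d = d := by
  obtain ⟨l, hl, -, rfl⟩ := (mem_delta hF).mp hd
  rw [delta_eq_norm hF hl, norm_fixed]

open Classical in
theorem card_fibres {s : Finset F} (hs : s ⊆ mu hF) :
    s.card ≤ 2 * (s.image fun l => 2 - (l + powAut hF l)).card := by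
  refine Finset.card_le_mul_card_image _ _ fun d _ => ?_
  by_contra h
  push Not at h
  obtain ⟨a, ha, b, hb, c, hc, hab, hac, hbc⟩ := Finset.two_lt_card.mp h
  simp only [Finset.mem_filter] at ha hb hc
  have key : ∀ u v : F, u ∈ mu hF → v ∈ mu hF → 2 - (u + powAut hF u) = 2 - (v + powAut hF v) →
      u ≠ v → u * v = 1 := by
    intro u v hu hv huv hne
    rw [sigma_eq_inv hF hu, sigma_eq_inv hF hv] at huv
    have := ne_zero_of_mu hF hu
    have := ne_zero_of_mu hF hv
    field_simp at huv
    have h1 : (u - v) * (u * v - 1) = 0 := by linear_combination -huv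
    exact sub_eq_zero.mp ((mul_eq_zero.mp h1).resolve_left (sub_ne_zero.mpr hne))
  have h1 := key a b (hs ha.1) (hs hb.1) (ha.2.trans hb.2.symm) hab
  have h2 := key a c (hs ha.1) (hs hc.1) (ha.2.trans hc.2.symm) hac
  exact hbc (mul_left_cancel₀ (ne_zero_of_mu hF (hs ha.1)) (h1.trans h2.symm))

theorem card_delta : q ≤ 2 * (delta hF).card ∧ ((2 : F) ≠ 0 → q + 1 ≤ 2 * (delta hF).card) := by
  classical
  constructor
  · have h := card_fibres hF (s := (mu hF).erase 1) (Finset.erase_subset _ _)
    rw [Finset.card_erase_of_mem (one_mem_mu hF), card_mu hF] at h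
    simpa [delta] using h
  · intro h2
    set s := ((mu hF).erase 1).erase (-1) with hs
    have h1 : (-1 : F) ∈ (mu hF).erase 1 :=
      Finset.mem_erase.mpr ⟨fun e => h2 (by linear_combination -e), neg_one_mem_mu hF⟩
    have h := card_fibres hF (s := s) ((Finset.erase_subset _ _).trans (Finset.erase_subset _ _))
    rw [hs, Finset.card_erase_of_mem h1, Finset.card_erase_of_mem (one_mem_mu hF), card_mu hF,
      ← hs] at h
    have hnot : (2 : F) - (-1 + powAut hF (-1)) ∉ s.image fun l => 2 - (l + powAut hF l) := by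
      intro hm
      obtain ⟨l, hl, hle⟩ := Finset.mem_image.mp hm
      simp only [hs, Finset.mem_erase] at hl
      rw [sigma_eq_inv hF hl.2.2, map_neg, map_one] at hle
      have := ne_zero_of_mu hF hl.2.2
      field_simp at hle
      exact hl.1 (eq_neg_of_add_eq_zero_left
        ((pow_eq_zero_iff two_ne_zero).mp (by linear_combination -hle : (l + 1) ^ 2 = 0)))
    have hle : insert ((2 : F) - (-1 + powAut hF (-1))) (s.image fun l => 2 - (l + powAut hF l)) ⊆
        delta hF := by
      intro d hd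
      rcases Finset.mem_insert.mp hd with rfl | hd
      · exact (mem_delta hF).mpr ⟨-1, neg_one_mem_mu hF, (Finset.mem_erase.mp h1).1, rfl⟩
      · obtain ⟨l, hl, rfl⟩ := Finset.mem_image.mp hd
        simp only [hs, Finset.mem_erase] at hl
        exact (mem_delta hF).mpr ⟨l, hl.2.2, hl.2.1, rfl⟩
    have := Finset.card_le_card hle
    rw [Finset.card_insert_of_notMem hnot] at this
    have := one_lt_q hF
    omega

/-- Two coordinates cannot be changed alone only in a very special situation. -/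
theorem bad_pair {N M' : F} (hN : powAut hF N = N) (hM : powAut hF M' = M') (hN0 : N ≠ 0)
    (hM0 : M' ≠ 0) (hbad : ∀ d ∈ delta hF, ∀ d' ∈ delta hF, d * N + d' * M' ≠ 1) :
    (2 : F) = 0 ∧ 2 * (delta hF).card = q ∧ (∃ d ∈ delta hF, d * N = 1) ∧
      ∀ M'' : F, powAut hF M'' = M'' → M'' ≠ 0 →
        (∀ d ∈ delta hF, ∀ d' ∈ delta hF, d * N + d' * M'' ≠ 1) → M'' = M' := by
  classical
  set Δ := delta hF with hΔ
  let A := Δ.image fun d => d * N
  let B : F → Finset F := fun m => Δ.image fun d => 1 - d * m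
  have hA : A.card = Δ.card := Finset.card_image_of_injective _ (mul_left_injective₀ hN0)
  have hB : ∀ m, m ≠ 0 → (B m).card = Δ.card := fun m hm =>
    Finset.card_image_of_injective _ fun a b h => mul_left_injective₀ hm
      (show a * m = b * m by linear_combination -h)
  have hAK : A ⊆ fix hF := fun d hd => by
    obtain ⟨e, he, rfl⟩ := Finset.mem_image.mp hd
    rw [mem_fix, map_mul, delta_fixed hF he, hN]
  have hBK : ∀ m, powAut hF m = m → B m ⊆ fix hF := fun m hm d hd => by
    obtain ⟨e, he, rfl⟩ := Finset.mem_image.mp hd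
    rw [mem_fix, map_sub, map_one, map_mul, delta_fixed hF he, hm]
  have hfull : ∀ m, powAut hF m = m → m ≠ 0 →
      (∀ d ∈ Δ, ∀ d' ∈ Δ, d * N + d' * m ≠ 1) →
      2 * Δ.card = q ∧ A ∪ B m = fix hF ∧ Disjoint A (B m) := by
    intro m hm hm0 hb
    have hdis : Disjoint A (B m) := Finset.disjoint_left.mpr fun d h1 h2 => by
      obtain ⟨e, he, rfl⟩ := Finset.mem_image.mp h1
      obtain ⟨e', he', h3⟩ := Finset.mem_image.mp h2
      exact hb e he e' he' (by linear_combination -h3)
    have hc : (A ∪ B m).card = 2 * Δ.card := by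
      rw [Finset.card_union_of_disjoint hdis, hA, hB m hm0, two_mul]
    have hsub := Finset.union_subset hAK (hBK m hm)
    have hle := Finset.card_le_card hsub
    rw [hc, card_fix hF] at hle
    have := (card_delta hF).1
    have h2d : 2 * Δ.card = q := le_antisymm hle (by rw [hΔ]; exact this)
    exact ⟨h2d, Finset.eq_of_subset_of_card_le hsub (by rw [card_fix hF, hc, h2d]), hdis⟩
  obtain ⟨hd, hU, hdis⟩ := hfull M' hM hM0 hbad
  have h2 : (2 : F) = 0 := by
    by_contra h
    have := (card_delta hF).2 h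
    rw [← hΔ] at this
    omega
  refine ⟨h2, hd, ?_, fun m hm hm0 hb => ?_⟩
  · have h1 : (1 : F) ∈ A ∪ B M' := hU ▸ (mem_fix hF).mpr (map_one _)
    rcases Finset.mem_union.mp h1 with h | h
    · obtain ⟨e, he, h3⟩ := Finset.mem_image.mp h
      exact ⟨e, he, h3⟩
    · obtain ⟨e, he, h3⟩ := Finset.mem_image.mp h
      exact absurd (show e * M' = 0 by linear_combination -h3)
        (mul_ne_zero (delta_ne_zero hF he) hM0)
  · obtain ⟨-, hU', hdis'⟩ := hfull m hm hm0 hb
    have e1 : B M' = fix hF \ A := by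
      rw [← hU, Finset.union_sdiff_left, Finset.sdiff_eq_self_of_disjoint hdis.symm]
    have e2 : B m = fix hF \ A := by
      rw [← hU', Finset.union_sdiff_left, Finset.sdiff_eq_self_of_disjoint hdis'.symm]
    have e3 : Δ.image (fun d => d * m) = Δ.image fun d => d * M' := by
      have := congrArg (Finset.image fun t : F => 1 - t) (e2.trans e1.symm)
      simpa [B, Finset.image_image, Function.comp_def] using this
    have e4 := congrArg (fun s : Finset F => ∏ t ∈ s, t) e3
    simp only [Finset.prod_image (fun a _ b _ h => mul_left_injective₀ hm0 h),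
      Finset.prod_image (fun a _ b _ h => mul_left_injective₀ hM0 h), Finset.prod_mul_distrib,
      Finset.prod_const] at e4
    have e5 := mul_left_cancel₀ (Finset.prod_ne_zero_iff.mpr fun d hd => delta_ne_zero hF hd) e4
    have e6 : m ^ q = M' ^ q := by rw [← hd, mul_comm 2, pow_mul, pow_mul, e5]
    exact pow_q_injective hF e6

/-- A point with exactly two non-zero coordinates (`q ≠ 2`). -/
theorem exists_two_support (S : Over q M) (hn : 3 ≤ n) (hq : q ≠ 2) (h : Good hF M) :
    ∃ x, Pt hF M x ∧ (supp x).card = 2 := by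
  classical
  obtain ⟨a, i, ha1, hai, hans, haz⟩ := h
  have hex : ∃ m, ∃ x, Pt hF M x ∧ (supp x).card = m :=
    ⟨_, a, ⟨lam_of_rel hF S hai, ha1, hans, i, haz⟩, rfl⟩
  obtain ⟨x, hx, hxm⟩ := Nat.find_spec hex
  have hmin : ∀ y, Pt hF M y → (supp x).card ≤ (supp y).card := fun y hy => by
    rw [hxm]; exact Nat.find_min' hex ⟨y, hy, rfl⟩
  let o0 : Fin n := ⟨0, by omega⟩
  have h2 : ∀ y, Pt hF M y → 2 ≤ (supp y).card := fun y hy => by
    by_contra h
    exact hy.2.2.1 (single_of_card_le o0 (by omega))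
  by_contra hno
  push Not at hno
  have h3 : 3 ≤ (supp x).card := by
    have := h2 x hx
    have := hno x hx
    omega
  -- the special situation at a minimal point
  have hones : ∀ y, Pt hF M y → (supp y).card = (supp x).card →
      (2 : F) = 0 ∧ 2 * (delta hF).card = q ∧ (1 : F) ∈ delta hF ∧
        ∀ l ∈ supp y, y l * powAut hF (y l) = 1 := by
    intro y hy hyx
    set N : Fin n → F := fun l => y l * powAut hF (y l) with hN
    have hN0 : ∀ l ∈ supp y, N l ≠ 0 := fun l hl =>
      mul_ne_zero (mem_supp.mp hl) (by simpa using mem_supp.mp hl)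
    have hNf : ∀ l, powAut hF (N l) = N l := fun l => norm_fixed hF _
    have hbad : ∀ l ∈ supp y, ∀ m ∈ supp y, l ≠ m →
        ∀ d ∈ delta hF, ∀ d' ∈ delta hF, d * N l + d' * N m ≠ 1 := by
      intro l hl m hm hlm d hd d' hd' hsum
      obtain ⟨u, hu, hu1, rfl⟩ := (mem_delta hF).mp hd
      obtain ⟨u', hu', hu'1, rfl⟩ := (mem_delta hF).mp hd'
      obtain ⟨v, hv, hvs, -⟩ := pt_change hF S (by omega) hy (A := {l, m})
        (by simp [Finset.insert_subset_iff, hl, hm]) (by rw [Finset.card_pair hlm])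
        (z := fun j => if j = l then u else u') (fun j => by split_ifs <;> assumption)
        (fun j _ => by split_ifs <;> assumption)
        (by rw [Finset.sum_pair hlm, if_pos rfl, if_neg hlm.symm]; exact hsum)
      have := hno v hv
      rw [hvs, Finset.card_pair hlm] at this
      exact this rfl
    obtain ⟨l, hl, m, hm, p, hp, hlm, hlp, hmp⟩ :=
      Finset.two_lt_card.mp (show 2 < (supp y).card by omega)
    obtain ⟨hc2, hd, ⟨d, hdm, hdN⟩, -⟩ :=
      bad_pair hF (hNf l) (hNf m) (hN0 l hl) (hN0 m hm) (hbad l hl m hm hlm)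
    have hall : ∀ u ∈ supp y, ∀ v ∈ supp y, N u = N v := by
      intro u hu v hv
      rcases eq_or_ne u v with rfl | huv
      · rfl
      obtain ⟨w, hw, hwu, hwv⟩ : ∃ w ∈ supp y, w ≠ u ∧ w ≠ v := by
        obtain ⟨w, hw⟩ := Finset.card_pos.mp (show 0 < (((supp y).erase u).erase v).card by
          rw [Finset.card_erase_of_mem (Finset.mem_erase.mpr ⟨huv.symm, hv⟩),
            Finset.card_erase_of_mem hu]
          omega)
        simp only [Finset.mem_erase] at hw
        exact ⟨w, hw.2.2, hw.2.1, hw.1⟩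
      exact (bad_pair hF (hNf w) (hNf v) (hN0 w hw) (hN0 v hv) (hbad w hw v hv hwv)).2.2.2
        (N u) (hNf u) (hN0 u hu) (hbad w hw u hu hwu)
    have hsum : ((supp y).card : F) * N l = 1 := by
      rw [← hy.2.1, herm_eq_sum, ← nsmul_eq_mul, ← Finset.sum_const, ← Finset.sum_subset
        (Finset.subset_univ (supp y)) (fun j _ hj => by
          rw [show y j = 0 from by_contra fun h => hj (mem_supp.mpr h), zero_mul])]
      exact Finset.sum_congr rfl fun j hj => by
        rw [← hall j hj l hl, hN]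
        rfl
    have hr : N l = 1 := by
      rcases Nat.even_or_odd (supp y).card with ⟨t, ht⟩ | ⟨t, ht⟩
      · rw [ht, Nat.cast_add, ← two_mul, hc2, zero_mul, zero_mul] at hsum
        exact absurd hsum zero_ne_one
      · rw [ht, Nat.cast_add, Nat.cast_mul, Nat.cast_two, hc2, zero_mul, zero_add, Nat.cast_one,
          one_mul] at hsum
        exact hsum
    rw [hr, mul_one] at hdN
    exact ⟨hc2, hd, hdN ▸ hdm, fun j hj => (hall j hj l hl).trans hr⟩
  obtain ⟨hc2, hd, h1, hN⟩ := hones x hx rfl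
  obtain ⟨d, hd', hd1⟩ : ∃ d ∈ delta hF, d ≠ 1 := by
    refine Finset.exists_mem_ne ?_ 1
    have := one_lt_q hF
    omega
  obtain ⟨u, hu, hu1, hud⟩ := (mem_delta hF).mp hd'
  obtain ⟨w, hw, hw1, hwd⟩ := (mem_delta hF).mp h1
  obtain ⟨l, hl, m, hm, p, hp, hlm, hlp, hmp⟩ :=
    Finset.two_lt_card.mp (show 2 < (supp x).card by omega)
  obtain ⟨v, hv, hvs, hvl⟩ := pt_change hF S (by omega) hx (A := {l, m, p})
    (by simp [Finset.insert_subset_iff, hl, hm, hp])
    (by rw [Finset.card_insert_of_notMem (by simp [hlm, hlp]), Finset.card_pair hmp]; omega)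
    (z := fun j => if j = p then w else u) (fun j => by split_ifs <;> assumption)
    (fun j _ => by split_ifs <;> assumption)
    (by
      rw [Finset.sum_insert (by simp [hlm, hlp]), Finset.sum_pair hmp, if_neg hlp, if_neg hmp,
        if_pos rfl, hud, hwd, hN l hl, hN m hm, hN p hp]
      linear_combination d * hc2)
  have hcard : (supp v).card = (supp x).card := by
    refine le_antisymm ?_ (hmin v hv)
    rw [hvs]
    exact le_trans Finset.card_le_three h3
  have h4 := (hones v hv hcard).2.2.2 l (by rw [hvs]; simp)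
  rw [hvl l (by simp), if_neg hlp] at h4
  refine hd1 ?_
  rw [map_mul] at h4
  rw [← hud, delta_eq_norm hF hu]
  linear_combination h4 - ((u - 1) * powAut hF (u - 1)) * hN l hl

end Cfsg.Agent.Lib.Subspaces.UnitMonoLam
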