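import Cfsg.Agent.Lib.Subspaces.UnitMonoFull

/-!
Overgroups of the monomial subgroup of `SU` in small dimension, for `q ≥ 3`: an element outside the
monomial group yields a non-coordinate point related to the coordinate points.
-/

set_option autoImplicit false
set_option maxHeartbeats 800000

namespace Cfsg.Agent.Lib.Subspaces.UnitMonoSix

open Matrix Cfsg.Agent.Lib.Subspaces.Transvection Cfsg.Agent.Lib.Subspaces.FormVec
  Cfsg.Agent.Lib.Subspaces.UnitaryGen Cfsg.Agent.Lib.Subspaces.UnitBlock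
  Cfsg.Agent.Lib.Subspaces.UnitCircle Cfsg.Agent.Lib.Subspaces.UnitQuasi
  Cfsg.Agent.Lib.Subspaces.UnitMonoLam Cfsg.Agent.Lib.Subspaces.UnitMonoTv
  Cfsg.Agent.Lib.Unitary
open Cfsg.Agent.Lib.Subspaces.UnitMono (Good good_of_single_col exists_support finrank_range_le_of_finset
  diag_exact mono_of_single_col card_le_of_roots Mono.sub_diag_col)

variable {F : Type*} [Field F] [Fintype F] {q n : ℕ} (hF : Fintype.card F = q ^ 2)
  {M : Subgroup (GL (Fin n) F)}

local notation "𝕗" => Cfsg.hermForm n F q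

/-- Two norm one multiples of `v` with the same trace are equal if one of them is real. -/
theorem trace_real_unique {v l l' : F} (hv : v ≠ 0) (hl : l ∈ mu hF) (hl' : l' ∈ mu hF)
    (hreal : powAut hF (l * v) = l * v)
    (h : l * v + powAut hF (l * v) = l' * v + powAut hF (l' * v)) : l = l' := by
  have hN : l * v * powAut hF (l * v) = l' * v * powAut hF (l' * v) := by
    rw [map_mul, map_mul]
    linear_combination (v * powAut hF v) * (mem_mu hF).mp hl -
      (v * powAut hF v) * (mem_mu hF).mp hl'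
  rw [hreal] at h hN
  have e : (l' * v - l * v) * (l' * v - l * v) = 0 := by
    linear_combination hN - (l' * v) * h
  exact (mul_right_cancel₀ hv (sub_eq_zero.mp (mul_self_eq_zero.mp e))).symm

open Classical in
/-- At most two norm one multiples of `w` have a given trace. -/
theorem card_fibre {w : F} (hw : w ≠ 0) (T : F) :
    ((mu hF).filter fun l => l * w + powAut hF (l * w) = T).card ≤ 2 := by
  set σ := powAut hF
  set p : Polynomial F := Polynomial.X ^ 2 - Polynomial.C T * Polynomial.X +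
    Polynomial.C (w * σ w) with hp
  have hdeg : p.natDegree = 2 := by
    rw [hp]; compute_degree!
  have hp0 : p ≠ 0 := fun e => by rw [e] at hdeg; simp at hdeg
  refine le_trans ?_ (hdeg ▸ p.card_roots' : p.roots.card ≤ 2)
  refine le_trans ?_ (Multiset.toFinset_card_le _)
  refine Finset.card_le_card_of_injOn (fun l => l * w) (fun l hl => ?_)
    (fun a _ b _ h => mul_right_cancel₀ hw h)
  simp only [Finset.coe_filter, Set.mem_ofPred_eq] at hl
  obtain ⟨hl1, rfl⟩ := hl
  have hl' : σ l * l = 1 := by rw [mul_comm]; exact (mem_mu hF).mp hl1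
  simp only [Finset.mem_coe, Multiset.mem_toFinset, Polynomial.mem_roots hp0]
  simp [hp, map_mul]
  linear_combination -(w * σ w) * hl'

/-- Two traces reaching a value, one of them attained at a non-real point. -/
theorem exists_two_traces_nonreal {v w : F} (hv : v ≠ 0) (hw : w ≠ 0) {c : F}
    (hc : powAut hF c = c) :
    ∃ l ∈ mu hF, ∃ m ∈ mu hF, l * v + powAut hF (l * v) + (m * w + powAut hF (m * w)) = c ∧
      (powAut hF (l * v) ≠ l * v ∨ powAut hF (m * w) ≠ m * w) := by
  classical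
  by_contra hall
  push Not at hall
  set σ := powAut hF with hσ
  set Rv := (mu hF).filter fun l => σ (l * v) = l * v with hRv
  set Rw := (mu hF).filter fun l => σ (l * w) = l * w with hRw
  set tv' : F → F := fun l => l * v + σ (l * v) with htv
  set tw : F → F := fun l => c - (l * w + σ (l * w)) with htw
  set A := (mu hF \ Rv).image tv'
  set B := (mu hF \ Rw).image tw
  set A0 := Rv.image tv'
  set B0 := Rw.image tw
  have hmemv : ∀ {l}, l ∈ Rv ↔ l ∈ mu hF ∧ σ (l * v) = l * v := Finset.mem_filter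
  have hmemw : ∀ {l}, l ∈ Rw ↔ l ∈ mu hF ∧ σ (l * w) = l * w := Finset.mem_filter
  have hA0 : A0.card = Rv.card := Finset.card_image_of_injOn fun a ha b hb h =>
    trace_real_unique hF hv (hmemv.mp (Finset.mem_coe.mp ha)).1 (hmemv.mp (Finset.mem_coe.mp hb)).1
      (hmemv.mp (Finset.mem_coe.mp ha)).2 h
  have hB0 : B0.card = Rw.card := Finset.card_image_of_injOn fun a ha b hb h =>
    trace_real_unique hF hw (hmemw.mp (Finset.mem_coe.mp ha)).1 (hmemw.mp (Finset.mem_coe.mp hb)).1
      (hmemw.mp (Finset.mem_coe.mp ha)).2 (sub_right_injective h)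
  have hA : (mu hF \ Rv).card ≤ 2 * A.card :=
    Finset.card_le_mul_card_image _ _ fun T _ => le_trans (Finset.card_le_card
      (Finset.filter_subset_filter _ Finset.sdiff_subset)) (card_fibre hF hv T)
  have hB : (mu hF \ Rw).card ≤ 2 * B.card :=
    Finset.card_le_mul_card_image _ _ fun T _ => le_trans (Finset.card_le_card (fun l hl => by
      simp only [Finset.mem_filter, Finset.mem_sdiff, htw] at hl ⊢
      exact ⟨hl.1.1, by linear_combination -hl.2⟩)) (card_fibre hF hw (c - T))
  have hdv : Disjoint A A0 := Finset.disjoint_left.mpr fun t h1 h2 => by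
    obtain ⟨l, hl, rfl⟩ := Finset.mem_image.mp h1
    obtain ⟨l', hl', he⟩ := Finset.mem_image.mp h2
    rw [Finset.mem_sdiff] at hl
    exact hl.2 (trace_real_unique hF hv (hmemv.mp hl').1 hl.1 (hmemv.mp hl').2 he ▸ hl')
  have hdw : Disjoint B B0 := Finset.disjoint_left.mpr fun t h1 h2 => by
    obtain ⟨l, hl, rfl⟩ := Finset.mem_image.mp h1
    obtain ⟨l', hl', he⟩ := Finset.mem_image.mp h2
    rw [Finset.mem_sdiff] at hl
    exact hl.2 (trace_real_unique hF hw (hmemw.mp hl').1 hl.1 (hmemw.mp hl').2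
      (sub_right_injective he) ▸ hl')
  have hsol : ∀ l ∈ mu hF, ∀ m ∈ mu hF, tv' l = tw m → l ∈ Rv ∧ m ∈ Rw := fun l hl m hm h => by
    obtain ⟨h1, h2⟩ := hall l hl m hm (by simp only [htv, htw] at h; linear_combination h)
    exact ⟨hmemv.mpr ⟨hl, h1⟩, hmemw.mpr ⟨hm, h2⟩⟩
  have hAB : Disjoint A B := Finset.disjoint_left.mpr fun t h1 h2 => by
    obtain ⟨l, hl, rfl⟩ := Finset.mem_image.mp h1
    obtain ⟨m, hm, he⟩ := Finset.mem_image.mp h2
    rw [Finset.mem_sdiff] at hl hm
    exact hl.2 (hsol l hl.1 m hm.1 he.symm).1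
  have hAB0 : Disjoint A B0 := Finset.disjoint_left.mpr fun t h1 h2 => by
    obtain ⟨l, hl, rfl⟩ := Finset.mem_image.mp h1
    obtain ⟨m, hm, he⟩ := Finset.mem_image.mp h2
    rw [Finset.mem_sdiff] at hl
    exact hl.2 (hsol l hl.1 m (hmemw.mp hm).1 he.symm).1
  have hBA0 : Disjoint B A0 := Finset.disjoint_left.mpr fun t h1 h2 => by
    obtain ⟨m, hm, rfl⟩ := Finset.mem_image.mp h1
    obtain ⟨l, hl, he⟩ := Finset.mem_image.mp h2
    rw [Finset.mem_sdiff] at hm
    exact hm.2 (hsol l (hmemv.mp hl).1 m hm.1 he).2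
  have hsub : A ∪ B ∪ (A0 ∪ B0) ⊆ fix hF := by
    have e1 : ∀ s : Finset F, s.image tv' ⊆ fix hF := fun s t ht => by
      obtain ⟨l, -, rfl⟩ := Finset.mem_image.mp ht
      exact (mem_fix hF).mpr (trace_fixed hF _)
    have e2 : ∀ s : Finset F, s.image tw ⊆ fix hF := fun s t ht => by
      obtain ⟨l, -, rfl⟩ := Finset.mem_image.mp ht
      exact (mem_fix hF).mpr (by simp only [htw]; rw [map_sub, hc, trace_fixed hF])
    exact Finset.union_subset (Finset.union_subset (e1 _) (e2 _))
      (Finset.union_subset (e1 _) (e2 _))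
  have h1 := Finset.card_le_card hsub
  rw [Finset.card_union_of_disjoint (Finset.disjoint_union_left.mpr
      ⟨Finset.disjoint_union_right.mpr ⟨hdv, hAB0⟩, Finset.disjoint_union_right.mpr ⟨hBA0, hdw⟩⟩),
    Finset.card_union_of_disjoint hAB, card_fix hF] at h1
  have h2 : A0.card ≤ (A0 ∪ B0).card := Finset.card_le_card Finset.subset_union_left
  have h3 : B0.card ≤ (A0 ∪ B0).card := Finset.card_le_card Finset.subset_union_right
  have h4 := Finset.card_sdiff_add_card_eq_card (show Rv ⊆ mu hF from Finset.filter_subset _ _)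
  have h5 := Finset.card_sdiff_add_card_eq_card (show Rw ⊆ mu hF from Finset.filter_subset _ _)
  rw [card_mu hF] at h4 h5
  omega

omit [Fintype F] in
theorem Mono.mul' {g h : GL (Fin n) F} (hg : Mono g) (hh : Mono h) : Mono (g * h) := by
  intro x
  obtain ⟨i, hi⟩ := hh x
  obtain ⟨j, hj⟩ := hg i
  rw [gl_mul_mulVec, single_eq hi, mulVec_smul, single_eq hj, smul_smul]
  exact single_smul_ev _ _

/-- The isometry exchanging two coordinate points with phases `x`, `σ x`. -/
theorem exists_swap {x : F} (hx : x ∈ mu hF) {l m : Fin n} (hlm : l ≠ m) :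
    ∃ A : GU n F q, A.1.1.det = -1 ∧ ∀ w : Fin n → F, A.1.1 *ᵥ w =
      fun j => if j = l then powAut hF x * w m else if j = m then x * w l else w j := by
  set v : Fin n → F := ev l - x • ev m with hv
  have hvv : 𝕗 v v = 2 := by
    rw [hv, herm_sub_left, herm_smul_left, herm_sub_right _ _ _ hF, herm_sub_right _ _ _ hF,
      herm_smul_right, herm_smul_right, ev_norm hF, ev_norm hF, ev_orth hF hlm,
      ev_orth hF hlm.symm, ← powAut_apply hF, mul_zero, sub_zero, mul_one, zero_sub]
    linear_combination (mem_mu hF).mp hx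
  have hpres : ∀ u w, 𝕗 (rk1 q (-1) v v *ᵥ u) (rk1 q (-1) v v *ᵥ w) = 𝕗 u w := fun u w => by
    rw [rk1_mulVec, rk1_mulVec, herm_add_left, herm_add_right _ _ _ hF, herm_add_right _ _ _ hF,
      herm_smul_left, herm_smul_left, herm_smul_right, herm_smul_right, ← powAut_apply hF,
      map_mul, ← herm_swap hF v w, hvv, map_neg, map_one]
    ring
  refine ⟨mkGU hF _ hpres, by rw [mkGU_val, rk1_det, hvv]; ring, fun w => ?_⟩
  have e : 𝕗 w v = w l - powAut hF x * w m := by
    rw [hv, herm_sub_right _ _ _ hF, herm_smul_right, herm_ev hF, herm_ev hF, powAut_apply]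
  rw [mkGU_val, rk1_mulVec, e, hv]
  funext j
  rcases eq_or_ne j l with rfl | hjl
  · rw [if_pos rfl]; simp [ev_self, ev_ne hlm]
  rcases eq_or_ne j m with rfl | hjm
  · rw [if_neg hjl, if_pos rfl]
    simp [ev_self, ev_ne hjl]
    linear_combination -(w j) * (mem_mu hF).mp hx
  · rw [if_neg hjl, if_neg hjm]; simp [ev_ne hjl, ev_ne hjm]

section NotGood

variable (S : Over q M) (hG : ¬ Good hF M)

include S hG

/-- Two columns with a common zero live on two common coordinates. -/
theorem pair_supp (hq : 3 ≤ q) {g : GL (Fin n) F} (hg : g ∈ M) (hm : ¬ Mono g)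
    {x y p : Fin n} (hxy : x ≠ y) (hx : ((g : Matrix (Fin n) (Fin n) F) *ᵥ ev x) p = 0)
    (hy : ((g : Matrix (Fin n) (Fin n) F) *ᵥ ev y) p = 0) :
    ∃ l m : Fin n, ∀ j, j ≠ l → j ≠ m →
      ((g : Matrix (Fin n) (Fin n) F) *ᵥ ev x) j = 0 ∧
      ((g : Matrix (Fin n) (Fin n) F) *ᵥ ev y) j = 0 := by
  classical
  have hU := S.gu hg
  set a := (g : Matrix (Fin n) (Fin n) F) *ᵥ ev x with ha
  set b := (g : Matrix (Fin n) (Fin n) F) *ᵥ ev y with hb
  have ha1 : 𝕗 a a = 1 := by rw [ha, mem_GU_iff'.mp hU, ev_norm hF]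
  have hb1 : 𝕗 b b = 1 := by rw [hb, mem_GU_iff'.mp hU, ev_norm hF]
  have ha0 : 𝕗 a a ≠ 0 := by rw [ha1]; exact one_ne_zero
  have hb0 : 𝕗 b b ≠ 0 := by rw [hb1]; exact one_ne_zero
  have hba : 𝕗 b a = 0 := by rw [ha, hb, mem_GU_iff'.mp hU, ev_orth hF hxy.symm]
  have hmono : ∀ c ∈ mu hF, Mono (pr hF c a b) := fun c hc =>
    mono_of_single_col hF S hG (((S.rel_ev hF x y).map hF hg hU).2.2 c hc) (x := p) (by
      rw [pr_fix hF hc ha0 hb0 (by rw [ev_herm hF, hx, map_zero]) (by rw [ev_herm hF, hy, map_zero])]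
      exact ⟨p, fun j hj => ev_ne hj⟩)
  have hns : ¬ Single a := fun h => hm (mono_of_single_col hF S hG hg (x := x) h)
  obtain ⟨l, hl⟩ : ∃ l, a l ≠ 0 := by
    by_contra h
    push Not at h
    exact hns ⟨x, fun j _ => h j⟩
  obtain ⟨j, hjl, hj⟩ : ∃ j, j ≠ l ∧ a j ≠ 0 := by
    by_contra h
    push Not at h
    exact hns ⟨l, h⟩
  set σ := powAut hF with hσ
  set A : Fin n → F := fun i => σ (a l) * a i with hA
  set B : Fin n → F := fun i => σ (b l) * b i with hB
  have hent : ∀ c ∈ mu hF, ∀ i, c * ((pr hF c a b : Matrix (Fin n) (Fin n) F) *ᵥ ev l) i =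
      c * (ev l : Fin n → F) i + (c - 1) * (c * A i - B i) := fun c hc i => by
    rw [pr_mulVec, qr_mulVec hF (sigma_mem_mu hF hc) hb0, hb1, div_one, qr_mulVec hF hc ha0, ha1,
      div_one, herm_add_left, herm_smul_left, hba, mul_zero, add_zero, ev_herm hF, ev_herm hF,
      Pi.add_apply, Pi.add_apply, Pi.smul_apply, Pi.smul_apply, smul_eq_mul, smul_eq_mul]
    simp only [hA, hB, ← hσ]
    linear_combination (σ (b l) * b i) * (mem_mu hF).mp hc
  -- a value with non-zero diagonal entry
  obtain ⟨c0, hc0, hc01, hd0⟩ : ∃ c ∈ mu hF, c ≠ 1 ∧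
      ((pr hF c a b : Matrix (Fin n) (Fin n) F) *ᵥ ev l) l ≠ 0 := by
    by_contra h
    push Not at h
    set P : Polynomial F := Polynomial.C (A l) * Polynomial.X ^ 2 +
      Polynomial.C (1 - A l - B l) * Polynomial.X + Polynomial.C (B l) with hP
    have hAl : A l ≠ 0 := mul_ne_zero (by simpa using hl) hl
    have hdeg : P.natDegree = 2 := by rw [hP]; compute_degree!
    have hP0 : P ≠ 0 := fun e => by rw [e] at hdeg; simp at hdeg
    have hle : (mu hF).erase 1 ⊆ P.roots.toFinset := fun c hc => by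
      obtain ⟨hc1, hcm⟩ := Finset.mem_erase.mp hc
      have e := hent c hcm l
      rw [h c hcm hc1, ev_self] at e
      rw [Multiset.mem_toFinset, Polynomial.mem_roots hP0]
      simp [hP]
      linear_combination -e
    have h1 := (Finset.card_le_card hle).trans ((Multiset.toFinset_card_le _).trans
      (P.card_roots'))
    rw [hdeg, Finset.card_erase_of_mem (one_mem_mu hF), card_mu hF] at h1
    omega
  have hlin : ∀ i, i ≠ l → c0 * A i = B i := fun i hi => by
    obtain ⟨i0, hi0⟩ := hmono c0 hc0 l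
    have hil : l = i0 := by_contra fun hne => hd0 (hi0 l hne)
    have e := hent c0 hc0 i
    rw [hi0 i (hil ▸ hi), ev_ne hi, mul_zero, zero_add, eq_comm, mul_eq_zero] at e
    exact sub_eq_zero.mp (e.resolve_left (sub_ne_zero.mpr hc01))
  obtain ⟨c, hc⟩ := Finset.card_pos.mp (show 0 < (((mu hF).erase 1).erase c0).card by
    rw [Finset.card_erase_of_mem (Finset.mem_erase.mpr ⟨hc01, hc0⟩),
      Finset.card_erase_of_mem (one_mem_mu hF), card_mu hF]
    omega)
  simp only [Finset.mem_erase] at hc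
  have hnz : ∀ i, i ≠ l → A i ≠ 0 →
      ((pr hF c a b : Matrix (Fin n) (Fin n) F) *ᵥ ev l) i ≠ 0 := fun i hi hAi h => by
    have e := hent c hc.2.2 i
    rw [h, ev_ne hi, mul_zero, zero_add, ← hlin i hi, ← sub_mul, eq_comm, mul_eq_zero,
      mul_eq_zero] at e
    rcases e with e | e | e
    exacts [hc.2.1 (sub_eq_zero.mp e), hc.1 (sub_eq_zero.mp e), hAi e]
  have hAj : A j ≠ 0 := mul_ne_zero (by simpa using hl) hj
  have hbl : σ (b l) ≠ 0 := fun e => by
    have h1 := hlin j hjl
    simp only [hB, e, zero_mul, mul_eq_zero] at h1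
    exact h1.elim (ne_zero_of_mu hF hc0) hAj
  refine ⟨l, j, fun i hil hij => ?_⟩
  have hAi : A i = 0 := by
    by_contra hne
    obtain ⟨i0, hi0⟩ := hmono c hc.2.2 l
    have e1 : j = i0 := by_contra fun h => hnz j hjl hAj (hi0 j h)
    exact hnz i hil hne (hi0 i (e1 ▸ hij))
  have hBi := hlin i hil
  rw [hAi, mul_zero, eq_comm] at hBi
  exact ⟨(mul_eq_zero.mp hAi).resolve_left (by simpa using hl),
    (mul_eq_zero.mp hBi).resolve_left hbl⟩

theorem zeros_le_one (hn : 5 ≤ n) (hq : 3 ≤ q) {g : GL (Fin n) F} (hg : g ∈ M) (hm : ¬ Mono g)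
    {x u v : Fin n} (hu : ((g : Matrix (Fin n) (Fin n) F) *ᵥ ev x) u = 0)
    (hv : ((g : Matrix (Fin n) (Fin n) F) *ᵥ ev x) v = 0) : u = v := by
  classical
  by_contra huv
  have hU := S.gu hg
  obtain ⟨l, m, hlm⟩ := pair_supp hF S hG hq (M.inv_mem hg) (fun h => hm (by simpa using h.inv))
    huv (p := x) (by rw [inv_entry hF hU, hu, map_zero]) (by rw [inv_entry hF hU, hv, map_zero])
  have hzero : ∀ w, w ≠ l → w ≠ m → ((g : Matrix (Fin n) (Fin n) F) *ᵥ ev w) u = 0 :=
    fun w h1 h2 => by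
      have h := (hlm w h1 h2).1
      rwa [inv_entry hF hU, map_eq_zero] at h
  obtain ⟨w1, hw1, w2, hw2, w3, hw3, h12, h13, h23⟩ := Finset.two_lt_card.mp
    (show 2 < (({l, m} : Finset (Fin n))ᶜ).card by
      rw [Finset.card_compl, Fintype.card_fin]
      have : ({l, m} : Finset (Fin n)).card ≤ 2 := Finset.card_le_two
      omega)
  simp only [Finset.mem_compl, Finset.mem_insert, Finset.mem_singleton, not_or] at hw1 hw2 hw3
  obtain ⟨l1, m1, hp2⟩ := pair_supp hF S hG hq hg hm h12 (hzero _ hw1.1 hw1.2) (hzero _ hw2.1 hw2.2)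
  obtain ⟨l2, m2, hp3⟩ := pair_supp hF S hG hq hg hm h13 (hzero _ hw1.1 hw1.2) (hzero _ hw3.1 hw3.2)
  have hns : ∀ i, ∃ j, j ≠ i ∧ ((g : Matrix (Fin n) (Fin n) F) *ᵥ ev w1) j ≠ 0 := fun i => by
    by_contra h
    push Not at h
    exact hm (mono_of_single_col hF S hG hg (x := w1) ⟨i, h⟩)
  have hin : ∀ j, ((g : Matrix (Fin n) (Fin n) F) *ᵥ ev w1) j ≠ 0 →
      (j = l1 ∨ j = m1) ∧ (j = l2 ∨ j = m2) := fun j hj => by
    refine ⟨?_, ?_⟩ <;> by_contra h <;> rw [not_or] at h
    exacts [hj (hp2 j h.1 h.2).1, hj (hp3 j h.1 h.2).1]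
  obtain ⟨j1, hj1, hj1'⟩ := hns m1
  obtain ⟨j2, hj2, hj2'⟩ := hns l1
  have e1 : j1 = l1 := (hin j1 hj1').1.resolve_right hj1
  have e2 : j2 = m1 := (hin j2 hj2').1.resolve_left hj2
  subst e1 e2
  have hsame : ∀ j, j ≠ j1 → j ≠ j2 → j ≠ l2 ∧ j ≠ m2 := fun j h1 h2 => by
    rcases (hin j1 hj1').2 with e1 | e1 <;> rcases (hin j2 hj2').2 with e2 | e2
    · exact absurd (e1.trans e2.symm) hj1
    · exact ⟨e1 ▸ h1, e2 ▸ h2⟩
    · exact ⟨e2 ▸ h2, e1 ▸ h1⟩
    · exact absurd (e1.trans e2.symm) hj1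
  let r : Fin 3 → Fin n → F := fun k => (g : Matrix (Fin n) (Fin n) F) *ᵥ ev (![w1, w2, w3] k)
  have hr : Orthonormal' q r := fun i k => by
    rw [mem_GU_iff'.mp hU]
    split_ifs with h
    · subst h; exact ev_norm hF _
    · refine ev_orth hF fun e => h ?_
      fin_cases i <;> fin_cases k <;> simp_all
  have hsupp : ∀ k, ∀ j ∉ ({j1, j2} : Finset (Fin n)), r k j = 0 := fun k j hj => by
    simp only [Finset.mem_insert, Finset.mem_singleton, not_or] at hj
    obtain ⟨h1, h2⟩ := hsame j hj.1 hj.2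
    fin_cases k
    exacts [(hp2 j hj.1 hj.2).1, (hp2 j hj.1 hj.2).2, (hp3 j h1 h2).2]
  have hle : Submodule.span F (Set.range r) ≤ Submodule.span F
      ((({j1, j2} : Finset (Fin n)).image fun t => (ev t : Fin n → F)) : Set (Fin n → F)) := by
    refine Submodule.span_le.mpr ?_
    rintro _ ⟨z, rfl⟩
    rw [← sum_ev (r z)]
    refine Submodule.sum_mem _ fun t _ => ?_
    by_cases ht : t ∈ ({j1, j2} : Finset (Fin n))
    · exact Submodule.smul_mem _ _ (Submodule.subset_span (Finset.mem_image_of_mem _ ht))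
    · rw [hsupp z t ht, zero_smul]; exact Submodule.zero_mem _
  have h1 := (Submodule.finrank_mono hle).trans
    ((finrank_span_finset_le_card _).trans (Finset.card_image_le.trans Finset.card_le_two))
  rw [finrank_span_eq_card (orthonormal_linearIndependent hr), Fintype.card_fin] at h1
  omega

theorem exists_zero_entry (hn : 5 ≤ n) {g : GL (Fin n) F} (hg : g ∈ M) (hm : ¬ Mono g) :
    ∃ h : GL (Fin n) F, h ∈ M ∧ ¬ Mono h ∧
      ∃ i x : Fin n, ((h : Matrix (Fin n) (Fin n) F) *ᵥ ev x) i = 0 := by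
  classical
  by_contra hc
  push Not at hc
  have hU := S.gu hg
  set σ := powAut hF with hσ
  let i0 : Fin n := ⟨0, by omega⟩
  set G : Fin n → F := fun l => ((g : Matrix (Fin n) (Fin n) F) *ᵥ ev l) i0 with hGdef
  have hG0 : ∀ l, G l ≠ 0 := fun l => hc g hg hm i0 l
  -- two pairs of exchanged coordinates, two phases for the first pair
  have step : ∀ (l1 l2 l3 l4 : Fin n), l1 ≠ l2 → l1 ≠ l3 → l1 ≠ l4 → l2 ≠ l3 → l2 ≠ l4 →
      l3 ≠ l4 → ∀ x ∈ mu hF, ∀ y ∈ mu hF, σ (x * (σ (G l1) * G l2)) ≠ x * (σ (G l1) * G l2) →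
      x * (σ (G l1) * G l2) + σ (x * (σ (G l1) * G l2)) +
        (y * (σ (G l3) * G l4) + σ (y * (σ (G l3) * G l4))) =
        -(∑ l ∈ ({l1, l2, l3, l4} : Finset (Fin n))ᶜ, G l * σ (G l)) → False := by
    intro l1 l2 l3 l4 h12 h13 h14 h23 h24 h34 x hx y hy hre hsum
    have hex : ∀ z ∈ mu hF, ∃ h : GL (Fin n) F, h ∈ M ∧ ∀ w : Fin n → F,
        (h : Matrix (Fin n) (Fin n) F) *ᵥ w = fun j => if j = l1 then σ z * w l2 else
          if j = l2 then z * w l1 else if j = l3 then σ y * w l4 else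
          if j = l4 then y * w l3 else w j := by
      intro z hz
      obtain ⟨A1, hd1, hA1⟩ := exists_swap hF hz h12
      obtain ⟨A2, hd2, hA2⟩ := exists_swap hF hy h34
      have hval : ∀ w : Fin n → F, ((A1 * A2 : GU n F q) : GL (Fin n) F).1 *ᵥ w =
          fun j => if j = l1 then σ z * w l2 else if j = l2 then z * w l1 else
            if j = l3 then σ y * w l4 else if j = l4 then y * w l3 else w j := fun w => by
        rw [GU_mul_mulVec, hA2, hA1]
        funext j
        simp only [if_neg h13, if_neg h14, if_neg h23, if_neg h24, hσ]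
      refine ⟨((A1 * A2 : GU n F q) : GL (Fin n) F), S.mono _ (SetLike.coe_mem _) ?_ ?_, hval⟩
      · rw [mem_specialLinear_iff]
        show (A1.1.1 * A2.1.1).det = 1
        rw [Matrix.det_mul, hd1, hd2]; ring
      · intro t
        rw [hval]
        refine ⟨if t = l1 then l2 else if t = l2 then l1 else if t = l3 then l4 else
          if t = l4 then l3 else t, fun j hj => ?_⟩
        simp only []
        by_cases h1 : j = l1
        · rw [if_pos h1, ev_ne (fun e => hj (by rw [h1, ← e]; simp [h12.symm])), mul_zero]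
        rw [if_neg h1]
        by_cases h2 : j = l2
        · rw [if_pos h2, ev_ne (fun e => hj (by rw [h2, ← e]; simp)), mul_zero]
        rw [if_neg h2]
        by_cases h3 : j = l3
        · rw [if_pos h3, ev_ne (fun e => hj (by
            rw [h3, ← e]; simp [h14.symm, h24.symm, h34.symm])), mul_zero]
        rw [if_neg h3]
        by_cases h4 : j = l4
        · rw [if_pos h4, ev_ne (fun e => hj (by rw [h4, ← e]; simp [h13.symm, h23.symm])), mul_zero]
        rw [if_neg h4, ev_ne (fun e => hj (by subst e; simp [h1, h2, h3, h4]))]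
    -- each solution gives a monomial conjugate
    have hK : ∀ z ∈ mu hF, z * (σ (G l1) * G l2) + σ (z * (σ (G l1) * G l2)) =
        x * (σ (G l1) * G l2) + σ (x * (σ (G l1) * G l2)) →
        ∀ h : GL (Fin n) F, h ∈ M → (∀ w : Fin n → F,
        (h : Matrix (Fin n) (Fin n) F) *ᵥ w = fun j => if j = l1 then σ z * w l2 else
          if j = l2 then z * w l1 else if j = l3 then σ y * w l4 else
          if j = l4 then y * w l3 else w j) → Mono (g * h * g⁻¹) := by
      intro z hz hzx h hhM hh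
      by_contra hK
      refine hc _ (M.mul_mem (M.mul_mem hg hhM) (M.inv_mem hg)) hK i0 i0 ?_
      have hw : ∀ l, (((g⁻¹ : GL (Fin n) F) : Matrix (Fin n) (Fin n) F) *ᵥ ev i0) l = σ (G l) :=
        fun l => inv_entry hF hU l i0
      have hgw : ∀ w : Fin n → F, ((g : Matrix (Fin n) (Fin n) F) *ᵥ w) i0 = ∑ l, w l * G l :=
        fun w => by
          conv_lhs => rw [← sum_ev w]
          rw [mulVec_sum, Finset.sum_apply]
          exact Finset.sum_congr rfl fun l _ => by rw [mulVec_smul]; rfl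
      rw [gl_mul_mulVec, gl_mul_mulVec, hgw, hh, ← Finset.sum_add_sum_compl {l1, l2, l3, l4}]
      rw [Finset.sum_congr (s₁ := ({l1, l2, l3, l4} : Finset (Fin n))ᶜ) rfl
        (g := fun l => G l * σ (G l)) (fun l hl => by
          simp only [Finset.mem_compl, Finset.mem_insert, Finset.mem_singleton, not_or] at hl
          simp only [if_neg hl.1, if_neg hl.2.1, if_neg hl.2.2.1, if_neg hl.2.2.2, hw, mul_comm])]
      rw [Finset.sum_insert (by simp [h12, h13, h14]), Finset.sum_insert (by simp [h23, h24]),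
        Finset.sum_pair h34]
      simp only [if_neg h12.symm, if_neg h13.symm, if_neg h14.symm, if_neg h23.symm, if_neg h24.symm,
        if_neg h34.symm, if_true, hw]
      simp only [map_mul, hσ, sigma_sigma] at hzx hsum ⊢
      linear_combination hzx + hsum
    set v := σ (G l1) * G l2 with hv
    have hv0 : v ≠ 0 := mul_ne_zero (by simpa using hG0 l1) (hG0 l2)
    have hσv : σ v ≠ 0 := by simpa using hv0
    set x' := σ (x * v) / v with hx'def
    have hx'v : x' * v = σ (x * v) := div_mul_cancel₀ _ hv0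
    have hx' : x' ∈ mu hF := by
      rw [mem_mu, hx'def, map_div₀, hσ, sigma_sigma, ← hσ, map_mul]
      have := (mem_mu hF).mp hx
      field_simp
      linear_combination this
    have hne : x' ≠ x := fun e => hre (by rw [← hx'v, e])
    obtain ⟨h, hhM, hh⟩ := hex x hx
    obtain ⟨h', hh'M, hh'⟩ := hex x' hx'
    have m1 := hK x hx rfl h hhM hh
    have m2 := hK x' hx' (by rw [hx'v, hσ, sigma_sigma, add_comm]) h' hh'M hh'
    set d := σ x * x' with hd
    have hdm : d ∈ mu hF := mul_mem_mu hF (sigma_mem_mu hF hx) hx'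
    have hd1 : d ≠ 1 := fun e => hne (by
      linear_combination x * e - x' * (mem_mu hF).mp hx)
    have hne1 : ∀ l : Fin n, 𝕗 (ev l) (ev l) ≠ 0 := fun l => by rw [ev_norm hF]; exact one_ne_zero
    have hprod : h * h' = pr hF d (ev l1) (ev l2) := gl_ext fun w => by
      rw [gl_mul_mulVec, hh, hh', pr_mulVec, qr_mulVec hF (sigma_mem_mu hF hdm) (hne1 l2),
        qr_mulVec hF hdm (hne1 l1), ev_norm hF, ev_norm hF, herm_add_left, herm_smul_left,
        ev_orth hF h12.symm, herm_ev hF, herm_ev hF, mul_zero, add_zero, div_one, div_one]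
      funext j
      simp only [if_neg h13, if_neg h14, if_neg h23, if_neg h24, if_neg h12.symm, if_neg h34.symm,
        if_neg h13.symm, if_neg h14.symm, if_neg h23.symm, if_neg h24.symm, if_true, Pi.add_apply,
        Pi.smul_apply, smul_eq_mul]
      rcases eq_or_ne j l1 with rfl | hj1
      · simp [ev_self, ev_ne h12, hd]; ring
      rcases eq_or_ne j l2 with rfl | hj2
      · simp [ev_self, ev_ne hj1, hd, hσ, sigma_sigma, hj1]; ring
      rcases eq_or_ne j l3 with rfl | hj3
      · simp [ev_ne hj1, ev_ne hj2, hj1, hj2]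
        linear_combination (w j) * (mem_mu hF).mp hy
      rcases eq_or_ne j l4 with rfl | hj4
      · simp [ev_ne hj1, ev_ne hj2, hj1, hj2, hj3]
        linear_combination (w j) * (mem_mu hF).mp hy
      · simp [ev_ne hj1, ev_ne hj2, hj1, hj2, hj3, hj4]
    have hmm : Mono (pr hF d ((g : Matrix (Fin n) (Fin n) F) *ᵥ ev l1)
        ((g : Matrix (Fin n) (Fin n) F) *ᵥ ev l2)) := by
      rw [← pr_conj hF hU hdm (hne1 l1) (hne1 l2), ← hprod,
        show g * (h * h') * g⁻¹ = g * h * g⁻¹ * (g * h' * g⁻¹) by group]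
      exact Mono.mul' m1 m2
    -- a rank two monomial element cannot fix no coordinate
    set a := (g : Matrix (Fin n) (Fin n) F) *ᵥ ev l1 with ha
    set b := (g : Matrix (Fin n) (Fin n) F) *ᵥ ev l2 with hb
    have ha0 : 𝕗 a a ≠ 0 := by rw [ha, mem_GU_iff'.mp hU]; exact hne1 l1
    have hb0 : 𝕗 b b ≠ 0 := by rw [hb, mem_GU_iff'.mp hU]; exact hne1 l2
    have hab : 𝕗 a b = 0 := by rw [ha, hb, mem_GU_iff'.mp hU, ev_orth hF h12]
    let L : (Fin n → F) →ₗ[F] (Fin n → F) :=
      Matrix.mulVecLin (pr hF d a b : Matrix (Fin n) (Fin n) F) - 1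
    have hL : ∀ z, L z = (pr hF d a b : Matrix (Fin n) (Fin n) F) *ᵥ z - z := fun z => rfl
    obtain ⟨T, hT, hTL⟩ := exists_support (L := L) (r := 2) (fun l => by
        obtain ⟨i, j, hij⟩ := Mono.sub_diag_col hmm (fun _ => 1) l
        exact ⟨i, j, fun m h1 h2 => by rw [hL]; simpa using hij m h1 h2⟩)
      ((finrank_range_le_of_finset L {a, b} fun z => by
        rw [hL]; simpa using pr_sub_mem hF hdm ha0 hb0 z).trans Finset.card_le_two)
    obtain ⟨l, hl⟩ := Finset.card_pos.mp (show 0 < Tᶜ.card by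
      rw [Finset.card_compl, Fintype.card_fin]; omega)
    have h1 := hTL a l (Finset.mem_compl.mp hl)
    rw [hL, pr_mulVec, qr_fix hF (sigma_mem_mu hF hdm) hb0 hab, qr_self hF hdm ha0,
      Pi.sub_apply, Pi.smul_apply, smul_eq_mul, ← sub_one_mul] at h1
    exact hc g hg hm l l1 ((mul_eq_zero.mp h1).resolve_left (sub_ne_zero.mpr hd1))
  let i1 : Fin n := ⟨1, by omega⟩
  let i2 : Fin n := ⟨2, by omega⟩
  let i3 : Fin n := ⟨3, by omega⟩
  have hv : σ (G i0) * G i1 ≠ 0 := mul_ne_zero (by simpa using hG0 i0) (hG0 i1)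
  have hw : σ (G i2) * G i3 ≠ 0 := mul_ne_zero (by simpa using hG0 i2) (hG0 i3)
  obtain ⟨x, hx, y, hy, hsum, hre⟩ := exists_two_traces_nonreal hF hv hw
    (c := -(∑ l ∈ ({i0, i1, i2, i3} : Finset (Fin n))ᶜ, G l * σ (G l)))
    (by rw [map_neg, map_sum]; exact congrArg _ (Finset.sum_congr rfl fun l _ => norm_fixed hF _))
  rcases hre with hre | hre
  · exact step i0 i1 i2 i3 (by simp [i0, i1]) (by simp [i0, i2]) (by simp [i0, i3])
      (by simp [i1, i2]) (by simp [i1, i3]) (by simp [i2, i3]) x hx y hy hre hsum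
  · refine step i2 i3 i0 i1 (by simp [i2, i3]) (by simp [i0, i2]) (by simp [i1, i2])
      (by simp [i0, i3]) (by simp [i1, i3]) (by simp [i0, i1]) y hy x hx hre ?_
    rw [add_comm, hsum, show ({i2, i3, i0, i1} : Finset (Fin n)) = {i0, i1, i2, i3} by
      ext; simp; tauto]

omit hG S in
theorem two_ne (hq : 3 ≤ q) (hn0 : 0 < n) (hn : n = 6) (hroots : ∀ l ∈ mu hF, l ^ n = 1) :
    (2 : F) ≠ 0 := by
  classical
  intro h2
  have heven : Even q := by
    have e := FiniteField.even_card_of_char_two (F := F)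
      (ringChar.eq_iff.2 (CharTwo.of_one_ne_zero_of_two_eq_zero one_ne_zero h2))
    rw [hF, ← Nat.even_iff] at e
    exact (Nat.even_pow.mp e).1
  have hle : mu hF ⊆ (Polynomial.nthRoots n (1 : F)).toFinset := fun x hx => by
    rw [Multiset.mem_toFinset, Polynomial.mem_nthRoots hn0]
    exact hroots x hx
  have h1 := (Finset.card_le_card hle).trans ((Multiset.toFinset_card_le _).trans
    (Polynomial.card_nthRoots n (1 : F)))
  rw [card_mu hF] at h1
  have hq4 : q = 4 := by
    obtain ⟨j, hj⟩ := heven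
    omega
  obtain ⟨θ, hθ', hθre⟩ := exists_norm_one_nonreal hF
  have h6 := hroots θ ((mem_mu hF).mpr hθ')
  rw [powAut_apply, hq4, ← pow_succ'] at hθ'
  rw [show n = 5 + 1 by omega, pow_succ, hθ', one_mul] at h6
  exact hθre (by rw [h6, map_one])

theorem contradiction (hn : n = 6) (hq : 3 ≤ q) {g₀ : GL (Fin n) F} (hg₀ : g₀ ∈ M)
    (hm₀ : ¬ Mono g₀) : False := by
  classical
  obtain ⟨g, hg, hm, i, x, hix⟩ := exists_zero_entry hF S hG (by omega) hg₀ hm₀
  have hgi := M.inv_mem hg
  have hmi : ¬ Mono g⁻¹ := fun h => hm (by simpa using h.inv)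
  have hU := S.gu hg
  have hUi := S.gu hgi
  obtain ⟨a, ha⟩ : ∃ a, a = (g : Matrix (Fin n) (Fin n) F) *ᵥ ev x := ⟨_, rfl⟩
  set r := ((g⁻¹ : GL (Fin n) F) : Matrix (Fin n) (Fin n) F) *ᵥ ev i with hr
  have hanz : ∀ l, l ≠ i → a l ≠ 0 := fun l hl e => hl (zeros_le_one hF S hG (by omega) hq hg hm (ha ▸ e) hix)
  have hrx : r x = 0 := by rw [hr, inv_entry hF hU, hix, map_zero]
  have hrnz : ∀ l, l ≠ x → r l ≠ 0 := fun l hl e => hl (zeros_le_one hF S hG (by omega) hq hgi hmi e hrx)
  have hga : ((g⁻¹ : GL (Fin n) F) : Matrix (Fin n) (Fin n) F) *ᵥ a = ev x := by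
    rw [ha, gl_inv_mulVec]
  have hai : a i = 0 := by rw [ha, hix]
  -- every norm one scalar is an `n`-th root of one
  have hroots : ∀ l ∈ mu hF, l ^ n = 1 := by
    intro lam hlam
    set μ := (lam ^ (n - 1))⁻¹ with hμ
    have hμm : μ ∈ mu hF := inv_mem_mu hF (pow_mem_mu hF hlam _)
    obtain ⟨h, hhM, hh⟩ := diag_exact hF S (Function.update (fun _ => lam) i μ) (fun l => by
        rcases eq_or_ne l i with rfl | hl
        · rw [Function.update_self]; exact hμm
        · rw [Function.update_of_ne hl]; exact hlam) (by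
      rw [← Finset.mul_prod_erase _ _ (Finset.mem_univ i), Function.update_self,
        Finset.prod_congr rfl (g := fun _ => lam) (fun l hl =>
          Function.update_of_ne (Finset.ne_of_mem_erase hl) _ _), Finset.prod_const,
        Finset.card_erase_of_mem (Finset.mem_univ i), Finset.card_univ, Fintype.card_fin, hμ,
        inv_mul_cancel₀ (pow_ne_zero _ (ne_zero_of_mu hF hlam))])
    have hdec : ∀ w : Fin n → F, (h : Matrix (Fin n) (Fin n) F) *ᵥ w =
        lam • w + ((μ - lam) * w i) • ev i := fun w => by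
      rw [hh]
      funext l
      rcases eq_or_ne l i with rfl | hl
      · simp [ev_self]; ring
      · simp [ev_ne hl, Function.update_of_ne hl]
    set k := g⁻¹ * h * g with hk
    have hkx : ∀ l, (k : Matrix (Fin n) (Fin n) F) *ᵥ ev l =
        lam • ev l + ((μ - lam) * ((g : Matrix (Fin n) (Fin n) F) *ᵥ ev l) i) • r := fun l => by
      rw [hk, gl_mul_mulVec, gl_mul_mulVec, hdec, mulVec_add, mulVec_smul, mulVec_smul,
        gl_inv_mulVec, hr]
    have hkm : Mono k := mono_of_single_col hF S hG (M.mul_mem (M.mul_mem hgi hhM) hg) (x := x) (by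
      rw [hkx, hix]; simpa using single_smul_ev lam x)
    by_contra hne
    have hμl : μ - lam ≠ 0 := sub_ne_zero.mpr fun e => hne (by
      have h1 := pow_ne_zero (n - 1) (ne_zero_of_mu hF hlam)
      rw [hμ] at e
      rw [show n = n - 1 + 1 by omega, pow_succ]
      nth_rewrite 2 [← e]
      exact mul_inv_cancel₀ h1)
    obtain ⟨l, hl⟩ := Finset.card_pos.mp (show 0 < (Finset.univ.erase x).card by
      rw [Finset.card_erase_of_mem (Finset.mem_univ x), Finset.card_univ, Fintype.card_fin]; omega)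
    have hlx := Finset.ne_of_mem_erase hl
    have hgl : ((g : Matrix (Fin n) (Fin n) F) *ᵥ ev l) i ≠ 0 := fun e =>
      hrnz l hlx (by rw [hr, inv_entry hF hU, e, map_zero])
    obtain ⟨j, hj⟩ := hkm l
    obtain ⟨m, hm'⟩ := Finset.card_pos.mp (show 0 < (((Finset.univ.erase x).erase l).erase j).card by
      have h1 := Finset.pred_card_le_card_erase (a := j) (s := (Finset.univ.erase x).erase l)
      have h2 := Finset.pred_card_le_card_erase (a := l) (s := Finset.univ.erase x)
      rw [Finset.card_erase_of_mem (Finset.mem_univ x), Finset.card_univ, Fintype.card_fin] at h2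
      omega)
    simp only [Finset.mem_erase, Finset.mem_univ, and_true] at hm'
    have h0 := hj m hm'.1
    rw [hkx] at h0
    simp [ev_ne hm'.2.1, hμl, hgl, hrnz m hm'.2.2] at h0
  have hqn := card_le_of_roots hF S hroots (by omega)
  -- two coordinates of the column with equal norm
  obtain ⟨y, hy, z, hz, hyz, hnorm⟩ := Finset.exists_ne_map_eq_of_card_lt_of_maps_to
    (s := Finset.univ.erase i) (t := (fix hF).erase 0) (f := fun l => a l * powAut hF (a l)) (by
      rw [Finset.card_erase_of_mem (Finset.mem_univ i), Finset.card_univ, Fintype.card_fin,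
        Finset.card_erase_of_mem ((mem_fix hF).mpr (map_zero _)), card_fix hF]
      have := one_lt_q hF
      omega) (fun l hl => by
      simp only [Finset.mem_coe, Finset.mem_erase, mem_fix, norm_fixed hF, and_true]
      exact mul_ne_zero (hanz l (Finset.ne_of_mem_erase hl))
        (by simpa using hanz l (Finset.ne_of_mem_erase hl)))
  have hyi := Finset.ne_of_mem_erase hy
  have hzi := Finset.ne_of_mem_erase hz
  have hay := hanz y hyi
  set c := a z / a y with hcdef
  have hc : c ∈ mu hF := by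
    rw [mem_mu, hcdef, map_div₀, div_mul_div_comm, ← hnorm]
    exact div_self (mul_ne_zero hay (by simpa using hay))
  set v : Fin n → F := ev y - c • ev z with hv
  have hvy : v y = 1 := by simp [hv, ev_self, ev_ne hyz]
  have hvz : v z = -c := by simp [hv, ev_self, ev_ne hyz.symm]
  have hvo : ∀ j, j ≠ y → j ≠ z → v j = 0 := fun j h1 h2 => by simp [hv, ev_ne h1, ev_ne h2]
  have hvv : 𝕗 v v = 2 := by
    rw [hv, herm_sub_left, herm_smul_left, herm_sub_right _ _ _ hF, herm_sub_right _ _ _ hF,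
      herm_smul_right, herm_smul_right, ev_norm hF, ev_norm hF, ev_orth hF hyz, ev_orth hF hyz.symm,
      ← powAut_apply hF, mul_zero, sub_zero, mul_one, zero_sub]
    linear_combination (mem_mu hF).mp hc
  have hpres : ∀ u w, 𝕗 (rk1 q (-1) v v *ᵥ u) (rk1 q (-1) v v *ᵥ w) = 𝕗 u w := fun u w => by
    rw [rk1_mulVec, rk1_mulVec, herm_add_left, herm_add_right _ _ _ hF, herm_add_right _ _ _ hF,
      herm_smul_left, herm_smul_left, herm_smul_right, herm_smul_right, ← powAut_apply hF,
      map_mul, ← herm_swap hF v w, hvv, map_neg, map_one]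
    ring
  have hne : 𝕗 (ev i) (ev i) ≠ 0 := by rw [ev_norm hF]; exact one_ne_zero
  have hneg := neg_one_mem_mu hF
  set h := (((qr hF (-1) (ev i)) * mkGU hF _ hpres : GU n F q) : GL (Fin n) F) with hh
  have hhw : ∀ w, (h : Matrix (Fin n) (Fin n) F) *ᵥ w =
      w + (-1 * 𝕗 w v) • v + ((-1 - 1) * w i) • ev i := fun w => by
    rw [hh, GU_mul_mulVec, mkGU_val, rk1_mulVec, qr_mulVec hF hneg hne, ev_norm hF, div_one,
      herm_ev hF]
    simp [hvo i hyi.symm hzi.symm]
  have hhm : Mono h := by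
    intro l
    have e1 : 𝕗 (ev l) v = powAut hF (v l) := ev_herm hF v l
    rcases eq_or_ne l i with rfl | hli
    · refine ⟨l, fun j hj => ?_⟩
      rw [hhw, e1, hvo l hyi.symm hzi.symm]
      simp [ev_ne hj]
    · rcases eq_or_ne l y with rfl | hly
      · refine ⟨z, fun j hj => ?_⟩
        rw [hhw, e1, hvy, map_one]
        rcases eq_or_ne j l with rfl | hjl
        · simp [ev_self, hvy, ev_ne hli.symm, ev_ne hli]
        · simp [ev_ne hjl, hvo j hjl hj, ev_ne hli.symm]
      · rcases eq_or_ne l z with rfl | hlz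
        · refine ⟨y, fun j hj => ?_⟩
          rw [hhw, e1, hvz, map_neg]
          rcases eq_or_ne j l with rfl | hjl
          · simp [ev_self, hvz, ev_ne hli.symm, ev_ne hli]
            linear_combination -(mem_mu hF).mp hc
          · simp [ev_ne hjl, hvo j hj hjl, ev_ne hli.symm]
        · refine ⟨l, fun j hj => ?_⟩
          rw [hhw, e1, hvo l hly hlz]
          simp [ev_ne hj, ev_ne hli.symm]
  have hhdet : h ∈ Cfsg.Geo.specialLinear (Fin n) F := by
    rw [mem_specialLinear_iff]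
    show ((qr hF (-1) (ev i)).1.1 * (mkGU hF _ hpres).1.1).det = 1
    rw [Matrix.det_mul, qr_det hF hneg hne, mkGU_val, rk1_det, hvv]
    ring
  have hhM : h ∈ M := S.mono h (SetLike.coe_mem _) hhdet hhm
  have hfa : 𝕗 a v = 0 := by
    rw [hv, herm_sub_right _ _ _ hF, herm_smul_right, herm_ev hF, herm_ev hF, ← powAut_apply hF,
      sigma_eq_inv hF hc, hcdef]
    have := hanz z hzi
    field_simp
    ring
  set k := g⁻¹ * h * g with hk
  have hkm : Mono k := mono_of_single_col hF S hG (M.mul_mem (M.mul_mem hgi hhM) hg) (x := x) (by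
    rw [hk, gl_mul_mulVec, gl_mul_mulVec, ← ha, hhw, hfa, hai]
    simp only [mul_zero, zero_smul, add_zero, hga]
    exact ⟨x, fun j hj => ev_ne hj⟩)
  have hLk : ∀ w, (k : Matrix (Fin n) (Fin n) F) *ᵥ w - w =
      (-1 * 𝕗 ((g : Matrix (Fin n) (Fin n) F) *ᵥ w) v) •
        (((g⁻¹ : GL (Fin n) F) : Matrix (Fin n) (Fin n) F) *ᵥ v) +
        ((-1 - 1) * ((g : Matrix (Fin n) (Fin n) F) *ᵥ w) i) • r := fun w => by
    rw [hk, gl_mul_mulVec, gl_mul_mulVec, hhw, mulVec_add, mulVec_add, mulVec_smul, mulVec_smul,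
      gl_inv_mulVec, hr]
    abel
  let L : (Fin n → F) →ₗ[F] (Fin n → F) := Matrix.mulVecLin (k : Matrix (Fin n) (Fin n) F) - 1
  have hL : ∀ z, L z = (k : Matrix (Fin n) (Fin n) F) *ᵥ z - z := fun z => rfl
  set w := ((g⁻¹ : GL (Fin n) F) : Matrix (Fin n) (Fin n) F) *ᵥ v with hw
  have hcolL : ∀ l, ∃ a b : Fin n, ∀ j, j ≠ a → j ≠ b → L (ev l) j = 0 := fun l => by
    obtain ⟨u1, u2, huv⟩ := Mono.sub_diag_col hkm (fun _ => 1) l
    exact ⟨u1, u2, fun j h1 h2 => by rw [hL]; simpa using huv j h1 h2⟩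
  have h2 : (2 : F) ≠ 0 := two_ne hF hq (by omega) hn hroots
  obtain ⟨T, hT, hTL⟩ := exists_support (L := L) (r := 2) hcolL
    ((finrank_range_le_of_finset L {w, r} fun z => by
      rw [hL, hLk]
      exact Submodule.add_mem _ (Submodule.smul_mem _ _ (Submodule.subset_span (by simp)))
        (Submodule.smul_mem _ _ (Submodule.subset_span (by simp)))).trans Finset.card_le_two)
  obtain ⟨l, hl⟩ := Finset.card_pos.mp (show 0 < (Tᶜ.erase x).card by
    have h1 := Finset.pred_card_le_card_erase (a := x) (s := Tᶜ)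
    rw [Finset.card_compl, Fintype.card_fin] at h1
    omega)
  simp only [Finset.mem_erase, Finset.mem_compl] at hl
  have h1 := hTL r l hl.2
  rw [hL, hLk, hr, gl_mulVec_inv, ev_herm hF, hvo i hyi.symm hzi.symm, map_zero, mul_zero,
    zero_smul, zero_add, ev_self, Pi.smul_apply, smul_eq_mul] at h1
  refine hrnz l hl.1 ((mul_eq_zero.mp h1).resolve_left fun e => h2 ?_)
  linear_combination -e

end NotGood

include hF in
/-- In dimension six, for `q ≥ 3`, a subgroup containing all monomial isometries of determinant one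
and something else contains `SU`. -/
theorem su_le_of_mono (S : Over q M) (hn : n = 6) (hq : 3 ≤ q) {g : GL (Fin n) F} (hg : g ∈ M)
    (hm : ¬ Mono g) : Cfsg.GU n F q ⊓ Cfsg.Geo.specialLinear (Fin n) F ≤ M := by
  have hG : Good hF M := by
    by_contra hG
    exact contradiction hF S hG hn hq hg hm
  have hq2 : q ≠ 2 := by omega
  obtain ⟨x, hx, hx2⟩ := exists_two_support hF S (by omega) hq2 hG
  obtain ⟨l, m, a, b, hlm, ha0, ha1, ha, hb, h⟩ := exists_plane_tva hF S (by omega) hq2 hx hx2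
  exact su_le hF (by omega) (centres_all hF S (by omega) hq2 fun p r hpr u v huv =>
    pair_centres hF S (by omega) hlm ha0 ha1 ha hb h hpr huv)

end Cfsg.Agent.Lib.Subspaces.UnitMonoSix
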