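import Cfsg.Agent.Lib.Subspaces.UnitaryGen

/-!
The isometries `x ↦ x + e f(x,a) b + e f(x,b) a` of a unitary form (`a`, `b` isotropic and
orthogonal, `e + σ e = 0`) and their commutator rules.
-/

set_option autoImplicit false

namespace Cfsg.Agent.Lib.Subspaces.UnitaryEichler

open Matrix Cfsg.Agent.Lib.Subspaces.Transvection Cfsg.Agent.Lib.Subspaces.FormVec
  Cfsg.Agent.Lib.Subspaces.UnitaryForm Cfsg.Agent.Lib.Subspaces.UnitaryGen

variable {ι : Type} [Fintype ι] [DecidableEq ι] {F : Type*} [Field F]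
  {σ : F ≃+* F} {f : (ι → F) → (ι → F) → F}

/-- Two isotropic orthogonal vectors. -/
structure IsPlane (f : (ι → F) → (ι → F) → F) (a b : ι → F) : Prop where
  left : f a a = 0
  right : f b b = 0
  orth : f a b = 0

theorem IsPlane.orth' (hf : Cfsg.Geo.IsUnitaryForm σ f) {a b : ι → F} (h : IsPlane f a b) :
    f b a = 0 := swap_eq_zero hf h.orth

theorem IsPlane.symm (hf : Cfsg.Geo.IsUnitaryForm σ f) {a b : ι → F} (h : IsPlane f a b) :
    IsPlane f b a := ⟨h.right, h.left, h.orth' hf⟩

theorem IsPlane.iso_add (hf : Cfsg.Geo.IsUnitaryForm σ f) {a b : ι → F} (h : IsPlane f a b) :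
    f (a + b) (a + b) = 0 := by
  rw [hf.add_left, add_right hf, add_right hf, h.left, h.right, h.orth, h.orth' hf]; ring

/-- `x ↦ x + e f(x,a) b + e f(x,b) a`. -/
noncomputable def ueich (f : (ι → F) → (ι → F) → F) (e : F) (a b : ι → F) : GL ι F :=
  tv (a + b) (e • formVec f (a + b)) * tv a ((-e) • formVec f a) * tv b ((-e) • formVec f b)

theorem ueich_mulVec (hf : Cfsg.Geo.IsUnitaryForm σ f) (e : F) {a b : ι → F} (h : IsPlane f a b)
    (x : ι → F) :
    (ueich f e a b : Matrix ι ι F) *ᵥ x = x + (e * f x a) • b + (e * f x b) • a := by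
  rw [ueich, gl_mul_mulVec, gl_mul_mulVec, utv_mulVec hf h.right, utv_mulVec hf h.left,
    utv_mulVec hf (h.iso_add hf)]
  simp only [hf.add_left, add_right hf, hf.smul_left, h.left, h.right, h.orth, h.orth' hf]
  module

theorem ueich_isometry (hf : Cfsg.Geo.IsUnitaryForm σ f) {e : F} (he : e + σ e = 0) {a b : ι → F}
    (h : IsPlane f a b) (x y : ι → F) :
    f ((ueich f e a b : Matrix ι ι F) *ᵥ x) ((ueich f e a b : Matrix ι ι F) *ᵥ y) = f x y := by
  have he' : (-e) + σ (-e) = 0 := by rw [map_neg]; linear_combination -he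
  rw [ueich, gl_mul_mulVec, gl_mul_mulVec, gl_mul_mulVec, gl_mul_mulVec,
    utv_isometry hf (h.iso_add hf) he, utv_isometry hf h.left he', utv_isometry hf h.right he']

theorem ueich_mem_specialLinear (e : F) (a b : ι → F) :
    ueich f e a b ∈ Cfsg.Geo.specialLinear ι F :=
  mul_mem (mul_mem (tv_mem_specialLinear _ _) (tv_mem_specialLinear _ _)) (tv_mem_specialLinear _ _)

theorem IsPlane.map {a b : ι → F} (h : IsPlane f a b) {g : GL ι F}
    (hg : ∀ x y, f ((g : Matrix ι ι F) *ᵥ x) ((g : Matrix ι ι F) *ᵥ y) = f x y) :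
    IsPlane f ((g : Matrix ι ι F) *ᵥ a) ((g : Matrix ι ι F) *ᵥ b) :=
  ⟨by rw [hg, h.left], by rw [hg, h.right], by rw [hg, h.orth]⟩

theorem conj_ueich (hf : Cfsg.Geo.IsUnitaryForm σ f) {g : GL ι F}
    (hg : ∀ x y, f ((g : Matrix ι ι F) *ᵥ x) ((g : Matrix ι ι F) *ᵥ y) = f x y) (e : F)
    {a b : ι → F} (h : IsPlane f a b) :
    g * ueich f e a b * g⁻¹ =
      ueich f e ((g : Matrix ι ι F) *ᵥ a) ((g : Matrix ι ι F) *ᵥ b) := by
  rw [ueich, ueich, ← mulVec_add, ← conj_utv hf hg (h.iso_add hf), ← conj_utv hf hg h.left,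
    ← conj_utv hf hg h.right]
  group

theorem ueich_symm (hf : Cfsg.Geo.IsUnitaryForm σ f) (e : F) {a b : ι → F} (h : IsPlane f a b) :
    ueich f e a b = ueich f e b a := by
  refine gl_ext fun x => ?_
  rw [ueich_mulVec hf e h, ueich_mulVec hf e (h.symm hf), add_right_comm]

/-- Two planes through the common point `a` give transvections with centre `a`. -/
theorem tv_of_common_point (hf : Cfsg.Geo.IsUnitaryForm σ f) {e : F} (he : e + σ e = 0)
    {M : Subgroup (GL ι F)} {a b c : ι → F} (hab : IsPlane f a b) (hac : IsPlane f a c)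
    (hb : ueich f e a b ∈ M) (hc : ueich f e a c ∈ M) :
    tv a ((e * (e * f c b + σ (e * f c b))) • formVec f a) ∈ M := by
  have h1 : ueich f e a (c + (e * f c b) • a) ∈ M := by
    have hm := M.mul_mem (M.mul_mem hb hc) (M.inv_mem hb)
    rwa [conj_ueich hf (ueich_isometry hf he hab) e hac, ueich_mulVec hf e hab,
      ueich_mulVec hf e hab, hab.left, hab.orth, mul_zero, zero_smul, zero_smul, add_zero,
      add_zero, hac.orth' hf, mul_zero, zero_smul, add_zero] at hm
  have hnew : IsPlane f a (c + (e * f c b) • a) := by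
    refine ⟨hac.left, ?_, ?_⟩
    · rw [expand_add_smul hf, hac.right, hac.orth, hac.left]; simp
    · rw [add_right hf, smul_right hf, hac.orth, hac.left]; ring
  have h2 : ueich f e a (c + (e * f c b) • a) =
      ueich f e a c * tv a ((e * (e * f c b + σ (e * f c b))) • formVec f a) := by
    refine gl_ext fun x => ?_
    rw [gl_mul_mulVec, utv_mulVec hf hac.left, ueich_mulVec hf e hac, ueich_mulVec hf e hnew]
    simp only [hf.add_left, add_right hf, hf.smul_left, smul_right hf, hac.orth, hac.left]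
    module
  rw [h2] at h1
  simpa using M.mul_mem (M.inv_mem hc) h1

/-- The cross rule: planes `(a, b)` and `(c, d)` with the single non-zero product
`e * f c b = -1` give the plane `(-a, d)`. -/
theorem ueich_cross (hf : Cfsg.Geo.IsUnitaryForm σ f) {e : F} (he : e + σ e = 0)
    {M : Subgroup (GL ι F)} {a b c d : ι → F} (hab : IsPlane f a b) (hcd : IsPlane f c d)
    (hac : f a c = 0) (had : f a d = 0) (hbd : f b d = 0) (hcb : e * f c b = -1)
    (hb : ueich f e a b ∈ M) (hd : ueich f e c d ∈ M) : ueich f e (-a) d ∈ M := by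
  have h1 : ueich f e (c + -a) d ∈ M := by
    have hm := M.mul_mem (M.mul_mem hb hd) (M.inv_mem hb)
    rwa [conj_ueich hf (ueich_isometry hf he hab) e hcd, ueich_mulVec hf e hab,
      ueich_mulVec hf e hab, swap_eq_zero hf hac, swap_eq_zero hf had, swap_eq_zero hf hbd, hcb,
      mul_zero, zero_smul, zero_smul, add_zero, add_zero, add_zero, neg_one_smul] at hm
  have hneg : ∀ x, f x (-a) = - f x a := fun x => by
    rw [← neg_one_smul F a, smul_right hf, map_neg, map_one, neg_one_mul]
  have hnegl : ∀ x, f (-a) x = - f a x := fun x => by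
    rw [← neg_one_smul F a, hf.smul_left, neg_one_mul]
  have hnad : IsPlane f (-a) d :=
    ⟨by rw [hneg, hnegl, hab.left, neg_neg], hcd.right, by rw [hnegl, had, neg_zero]⟩
  have hca : f c (-a) = 0 := by rw [hneg, swap_eq_zero hf hac, neg_zero]
  have hac' : f (-a) c = 0 := by rw [hnegl, hac, neg_zero]
  have hsum : IsPlane f (c + -a) d :=
    ⟨by rw [hf.add_left, add_right hf, add_right hf, hcd.left, hca, hac', hnad.left]; ring,
      hcd.right, by rw [hf.add_left, hcd.orth, hnad.orth, add_zero]⟩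
  have h2 : ueich f e c d * ueich f e (-a) d = ueich f e (c + -a) d := by
    refine gl_ext fun x => ?_
    rw [gl_mul_mulVec, ueich_mulVec hf e hnad, ueich_mulVec hf e hcd, ueich_mulVec hf e hsum]
    simp only [hf.add_left, add_right hf, hf.smul_left, hac', hnad.orth, hcd.right,
      hcd.orth' hf]
    module
  rw [← h2] at h1
  simpa using M.mul_mem (M.inv_mem hd) h1

end Cfsg.Agent.Lib.Subspaces.UnitaryEichler
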