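import Cfsg.Agent.Lib.Subspaces.UnitMonoLam
import Cfsg.Agent.Lib.Subspaces.UnitaryEichler

/-!
Overgroups of the monomial subgroup of `SU`: from a point with two non-zero coordinates to all
isotropic centres.
-/

set_option autoImplicit false
set_option maxHeartbeats 800000

namespace Cfsg.Agent.Lib.Subspaces.UnitMonoTv

open Matrix Cfsg.Agent.Lib.Subspaces.Transvection Cfsg.Agent.Lib.Subspaces.FormVec
  Cfsg.Agent.Lib.Subspaces.UnitaryGen Cfsg.Agent.Lib.Subspaces.UnitBlock
  Cfsg.Agent.Lib.Subspaces.UnitCircle Cfsg.Agent.Lib.Subspaces.UnitQuasi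
  Cfsg.Agent.Lib.Subspaces.UnitMono Cfsg.Agent.Lib.Subspaces.UnitMonoLam
  Cfsg.Agent.Lib.Subspaces.UnitaryEichler
  Cfsg.Agent.Lib.Unitary

variable {F : Type*} [Field F] [Fintype F] {q n : ℕ} (hF : Fintype.card F = q ^ 2)
  {M : Subgroup (GL (Fin n) F)}

local notation "𝕗" => Cfsg.hermForm n F q

include hF in
/-- An element of `SU` fixing all coordinate vectors but one is trivial. -/
theorem eq_one_of_fix {g : GL (Fin n) F} (hg : g ∈ Cfsg.GU n F q)
    (hd : g ∈ Cfsg.Geo.specialLinear (Fin n) F) {m : Fin n}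
    (h : ∀ p, p ≠ m → (g : Matrix (Fin n) (Fin n) F) *ᵥ ev p = ev p) : g = 1 := by
  classical
  set μ := ((g : Matrix (Fin n) (Fin n) F) *ᵥ ev m) m with hμ
  have hzero : ∀ j, j ≠ m → ((g : Matrix (Fin n) (Fin n) F) *ᵥ ev m) j = 0 := fun j hj => by
    rw [← herm_ev hF ((g : Matrix (Fin n) (Fin n) F) *ᵥ ev m) j]
    conv_lhs => arg 5; rw [← h j hj]
    rw [mem_GU_iff'.mp hg, ev_orth hF hj.symm]
  have hmat : (g : Matrix (Fin n) (Fin n) F) = Matrix.diagonal (Function.update 1 m μ) := by
    ext i j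
    rw [← mulVec_ev (g : Matrix (Fin n) (Fin n) F) j i, Matrix.diagonal_apply]
    rcases eq_or_ne j m with rfl | hj
    · split_ifs with hij
      · subst hij; rw [Function.update_self]
      · exact hzero i hij
    · rw [h j hj]
      split_ifs with hij
      · subst hij; simp [ev_self, Function.update_of_ne hj]
      · simp [ev_ne hij]
  have hdet := (mem_specialLinear_iff g).mp hd
  rw [hmat, Matrix.det_diagonal, ← Finset.mul_prod_erase _ _ (Finset.mem_univ m),
    Function.update_self, Finset.prod_eq_one fun l hl => by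
      rw [Function.update_of_ne (Finset.ne_of_mem_erase hl), Pi.one_apply], mul_one] at hdet
  apply Units.ext
  rw [hmat, hdet, show Function.update (1 : Fin n → F) m 1 = fun _ => 1 from
    funext fun i => by rcases eq_or_ne i m with rfl | hi <;> simp [*], Units.val_one,
    Matrix.diagonal_one]

/-- `u` is isotropic and the transvection with centre `u` and parameter `a` lies in `M`. -/
def Tva (q : ℕ) (M : Subgroup (GL (Fin n) F)) (a : F) (u : Fin n → F) : Prop :=
  Cfsg.hermForm n F q u u = 0 ∧ tv u (a • formVec (Cfsg.hermForm n F q) u) ∈ M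

include hF in
theorem Tva.conj (S : Over q M) {a : F} {u : Fin n → F} (h : Tva q M a u) {g : GL (Fin n) F}
    (hg : g ∈ M) : Tva q M a ((g : Matrix (Fin n) (Fin n) F) *ᵥ u) := by
  refine ⟨by rw [mem_GU_iff'.mp (S.gu hg)]; exact h.1, ?_⟩
  rw [← conj_utv (hermForm_isUnitary hF) (mem_GU_iff'.mp (S.gu hg)) h.1]
  exact M.mul_mem (M.mul_mem hg h.2) (M.inv_mem hg)

/-- From a point with two non-zero coordinates, a transvection in a coordinate plane. -/
theorem exists_plane_tva (S : Over q M) (hn : 3 ≤ n) (hq : q ≠ 2) {x : Fin n → F}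
    (hx : Pt hF M x) (hx2 : (supp x).card = 2) :
    ∃ (l m : Fin n) (a b : F), l ≠ m ∧ a ≠ 0 ∧ 1 + a ≠ 0 ∧ a + powAut hF a = 0 ∧
      b * powAut hF b = -1 ∧ Tva q M a (ev l + b • ev m) := by
  classical
  have hf := hermForm_isUnitary (n := n) hF
  set σ := powAut hF with hσdef
  obtain ⟨l, m, hlm, hsupp⟩ := Finset.card_eq_two.mp hx2
  obtain ⟨hxL, hx1, -, -⟩ := hx
  have hxo : ∀ j, j ≠ l → j ≠ m → x j = 0 := fun j h1 h2 => by
    by_contra h
    have := mem_supp.mpr h
    rw [hsupp] at this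
    simp [h1, h2] at this
  have hxl : x l ≠ 0 := mem_supp.mp (by rw [hsupp]; simp)
  have hxm : x m ≠ 0 := mem_supp.mp (by rw [hsupp]; simp)
  set r := x l * σ (x l) * (x m * σ (x m)) with hrdef
  have hr0 : r ≠ 0 := mul_ne_zero (mul_ne_zero hxl (by simpa using hxl))
    (mul_ne_zero hxm (by simpa using hxm))
  have hrf : σ r = r := by rw [hrdef, map_mul, norm_fixed hF, norm_fixed hF]
  -- a skew scalar whose square is an available norm
  obtain ⟨d, hd, c, hc0, hc, hcc, hc1⟩ : ∃ d ∈ delta hF, ∃ c : F, c ≠ 0 ∧ c + σ c = 0 ∧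
      c * c = d * r ∧ c * c ≠ 1 := by
    set Sk := (((Finset.univ.filter fun c : F => c + σ c = 0).erase 0).image fun c => c * c).erase 1
      with hSk
    set D' := (delta hF).image fun d => d * r with hD'
    have hS1 : Sk ⊆ (fix hF).erase 0 := by
      intro t ht
      obtain ⟨-, ht⟩ := Finset.mem_erase.mp ht
      obtain ⟨c, hc, rfl⟩ := Finset.mem_image.mp ht
      simp only [Finset.mem_erase, Finset.mem_filter, Finset.mem_univ, true_and] at hc
      refine Finset.mem_erase.mpr ⟨mul_ne_zero hc.1 hc.1, (mem_fix hF).mpr ?_⟩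
      rw [map_mul, eq_neg_of_add_eq_zero_right hc.2, neg_mul_neg]
    have hD1 : D' ⊆ (fix hF).erase 0 := by
      intro t ht
      obtain ⟨d, hd, rfl⟩ := Finset.mem_image.mp ht
      refine Finset.mem_erase.mpr ⟨mul_ne_zero (delta_ne_zero hF hd) hr0, (mem_fix hF).mpr ?_⟩
      rw [map_mul, delta_fixed hF hd, hrf]
    have hsk : (Finset.univ.filter fun c : F => c + σ c = 0).card = q := by
      rw [← card_trace_zero hF, Nat.card_eq_fintype_card, Fintype.card_subtype]
      rfl
    have hD2 : D'.card = (delta hF).card :=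
      Finset.card_image_of_injective _ (mul_left_injective₀ hr0)
    have hq1 := one_lt_q hF
    have hcnt : q - 1 < Sk.card + D'.card := by
      by_cases h2 : (2 : F) = 0
      · have h1 : q - 2 ≤ Sk.card := by
          rw [hSk]
          refine le_trans ?_ Finset.pred_card_le_card_erase
          rw [Finset.card_image_of_injective _ (fun a b h => by
            have h1 : (a - b) * (a - b) = 0 := by linear_combination h + (b * b - a * b) * h2
            exact sub_eq_zero.mp (mul_self_eq_zero.mp h1)),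
            Finset.card_erase_of_mem (by simp), hsk]
          omega
        have h4 := (card_delta hF).1
        omega
      · have h1 : q - 1 ≤ 2 * Sk.card := by
          have e1 : Sk = ((Finset.univ.filter fun c : F => c + σ c = 0).erase 0).image
              fun c => c * c := by
            refine Finset.erase_eq_self.mpr fun h => ?_
            obtain ⟨c, hc, hcc⟩ := Finset.mem_image.mp h
            simp only [Finset.mem_erase, Finset.mem_filter, Finset.mem_univ, true_and] at hc
            rcases mul_self_eq_one_iff.mp hcc with rfl | rfl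
            · rw [map_one] at hc
              exact h2 (by linear_combination hc.2)
            · rw [map_neg, map_one] at hc
              exact h2 (by linear_combination -hc.2)
          have h3 := Finset.card_le_mul_card_image
            (s := (Finset.univ.filter fun c : F => c + σ c = 0).erase 0)
            (f := fun c => c * c) 2 fun t ht => by
              obtain ⟨u, -, rfl⟩ := Finset.mem_image.mp ht
              refine le_trans (Finset.card_le_card (t := {u, -u}) fun w hw => ?_) Finset.card_le_two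
              simp only [Finset.mem_filter] at hw
              simpa using mul_self_eq_mul_self_iff.mp hw.2
          rw [Finset.card_erase_of_mem (by simp), hsk] at h3
          rw [e1]
          exact h3
        have h4 := (card_delta hF).2 h2
        omega
    obtain ⟨t, ht⟩ : (Sk ∩ D').Nonempty := by
      rw [← Finset.card_pos]
      have h1 := Finset.card_union_add_card_inter Sk D'
      have h2 := Finset.card_le_card (Finset.union_subset hS1 hD1)
      rw [Finset.card_erase_of_mem ((mem_fix hF).mpr (map_zero _)), card_fix hF] at h2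
      omega
    obtain ⟨htS, htD⟩ := Finset.mem_inter.mp ht
    obtain ⟨ht1, htS⟩ := Finset.mem_erase.mp htS
    obtain ⟨c, hc, rfl⟩ := Finset.mem_image.mp htS
    obtain ⟨d, hd, hdt⟩ := Finset.mem_image.mp htD
    simp only [Finset.mem_erase, Finset.mem_filter, Finset.mem_univ, true_and] at hc
    exact ⟨d, hd, c, hc.1, hc.2, hdt.symm, ht1⟩
  obtain ⟨ν, hν, hν1, hνd⟩ := (mem_delta hF).mp hd
  have hσc : σ c = -c := eq_neg_of_add_eq_zero_right hc
  -- the pair of quasi-reflections
  have hxne : 𝕗 x x ≠ 0 := by rw [hx1]; exact one_ne_zero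
  have hle : 𝕗 (ev l) (ev l) ≠ 0 := by rw [ev_norm hF]; exact one_ne_zero
  have hPM := (hxL l).2.2 ν hν
  set P := pr hF ν x (ev l) with hP
  set A := σ ν * (1 + (ν - 1) * (σ (x l) * x l)) with hA
  set B := σ ν * ((ν - 1) * σ (x l) * x m) with hB
  have hPl : (P : Matrix (Fin n) (Fin n) F) *ᵥ ev l = A • ev l + B • ev m := by
    rw [hP, pr_mulVec, qr_self hF (sigma_mem_mu hF hν) hle, mulVec_smul, qr_mulVec hF hν hxne,
      hx1, div_one, ev_herm hF]
    funext j
    simp only [Pi.add_apply, Pi.smul_apply, smul_eq_mul, hA, hB]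
    rcases eq_or_ne j l with rfl | hjl
    · rw [ev_self, ev_ne hlm]; ring
    rcases eq_or_ne j m with rfl | hjm
    · rw [ev_self, ev_ne hjl]; ring
    rw [ev_ne hjl, ev_ne hjm, hxo j hjl hjm]; ring
  have hsum : A * σ A + B * σ B = 1 := by
    have h1 : 𝕗 ((P : Matrix (Fin n) (Fin n) F) *ᵥ ev l) ((P : Matrix (Fin n) (Fin n) F) *ᵥ ev l)
        = 1 := by
      rw [mem_GU_iff'.mp (S.gu hPM), ev_norm hF]
    rw [hPl, herm_add_left, herm_add_right _ _ _ hF, herm_add_right _ _ _ hF, herm_smul_left,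
      herm_smul_left, herm_smul_left, herm_smul_left, herm_smul_right, herm_smul_right,
      herm_smul_right, herm_smul_right, ev_norm hF, ev_norm hF, ev_orth hF hlm,
      ev_orth hF hlm.symm, ← powAut_apply hF, ← powAut_apply hF, ← hσdef] at h1
    linear_combination h1
  have hNB : B * σ B = c * c := by
    rw [hcc, ← hνd, delta_eq_norm hF hν, hB, hrdef, map_mul, map_mul, map_mul, sigma_sigma,
      sigma_sigma]
    linear_combination
      ((ν - 1) * σ (ν - 1) * (x l * σ (x l)) * (x m * σ (x m))) * (mem_mu hF).mp hν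
  have hA0 : A ≠ 0 := fun e => hc1 (by
    rw [e, zero_mul, zero_add, hNB] at hsum; exact hsum)
  have hc1' : 1 + c ≠ 0 := fun e => hc1 (by linear_combination (c - 1) * e)
  set η := (1 + c) / A with hη
  have hσA : σ A ≠ 0 := by simpa using hA0
  have hηm : η ∈ mu hF := by
    rw [mem_mu, hη, ← hσdef, map_div₀, map_add, map_one, hσc, div_mul_div_comm]
    rw [show (1 + c) * (1 + -c) = A * σ A by linear_combination -hsum + hNB]
    exact div_self (mul_ne_zero hA0 hσA)
  have hη0 := ne_zero_of_mu hF hηm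
  obtain ⟨g, hgM, hg⟩ := diag_exact hF S
    (fun j => if j = l then η else if j = m then η⁻¹ else 1) (fun j => by
      split_ifs
      exacts [hηm, inv_mem_mu hF hηm, one_mem_mu hF]) (by
    rw [← Finset.prod_subset (Finset.subset_univ {l, m}) (fun j _ hj => by
      simp only [Finset.mem_insert, Finset.mem_singleton, not_or] at hj
      simp [hj.1, hj.2]), Finset.prod_pair hlm, if_pos rfl, if_neg hlm.symm, if_pos rfl,
      mul_inv_cancel₀ hη0])
  set T := g * P with hT
  have hTM : T ∈ M := M.mul_mem hgM hPM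
  set v : Fin n → F := c • ev l + (η⁻¹ * B) • ev m with hv
  have hTl : (T : Matrix (Fin n) (Fin n) F) *ᵥ ev l = ev l + v := by
    rw [hT, gl_mul_mulVec, hPl, hg]
    funext j
    simp only [hv, Pi.add_apply, Pi.smul_apply, smul_eq_mul]
    rcases eq_or_ne j l with rfl | hjl
    · rw [if_pos rfl, ev_self, ev_ne hlm, hη]
      field_simp
      ring
    rcases eq_or_ne j m with rfl | hjm
    · rw [if_neg hjl, if_pos rfl, ev_self, ev_ne hjl]; ring
    rw [if_neg hjl, if_neg hjm, ev_ne hjl, ev_ne hjm]; ring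
  have hTo : ∀ p, p ≠ l → p ≠ m → (T : Matrix (Fin n) (Fin n) F) *ᵥ ev p = ev p := by
    intro p hpl hpm
    rw [hT, gl_mul_mulVec, hP, pr_fix hF hν hxne hle (by rw [ev_herm hF, hxo p hpl hpm, map_zero])
      (ev_orth hF hpl), hg]
    funext j
    rcases eq_or_ne j p with rfl | hjp
    · simp [ev_self, hpl, hpm]
    · simp [ev_ne hjp]
  have hvv : 𝕗 v v = 0 := by
    rw [hv, herm_add_left, herm_add_right _ _ _ hF, herm_add_right _ _ _ hF, herm_smul_left,
      herm_smul_left, herm_smul_left, herm_smul_left, herm_smul_right, herm_smul_right,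
      herm_smul_right, herm_smul_right, ev_norm hF, ev_norm hF, ev_orth hF hlm,
      ev_orth hF hlm.symm, ← powAut_apply hF, ← powAut_apply hF, ← hσdef, map_mul, map_inv₀,
      sigma_eq_inv hF hηm, inv_inv, hσc]
    linear_combination (norm := (field_simp; ring)) hNB
  have ha : -c⁻¹ + σ (-c⁻¹) = 0 := by rw [map_neg, map_inv₀, hσc, inv_neg]; ring
  set U := tv v ((-c⁻¹) • formVec 𝕗 v) with hU
  have hUU : U ∈ Cfsg.GU n F q ⊓ Cfsg.Geo.specialLinear (Fin n) F := utv_mem_SU hF hvv ha
  have hWeq : U⁻¹ * T = 1 := by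
    refine eq_one_of_fix hF ((Cfsg.GU n F q).mul_mem ((Cfsg.GU n F q).inv_mem hUU.1) (S.gu hTM))
      ((Cfsg.Geo.specialLinear _ F).mul_mem ((Cfsg.Geo.specialLinear _ F).inv_mem hUU.2)
        (S.le hTM).2) (m := m) fun p hpm => ?_
    apply gl_mulVec_injective U
    show (U : Matrix (Fin n) (Fin n) F) *ᵥ _ = (U : Matrix (Fin n) (Fin n) F) *ᵥ _
    rw [gl_mul_mulVec, gl_mulVec_inv, hU,
      Cfsg.Agent.Lib.Subspaces.UnitaryForm.utv_mulVec hf hvv, ev_herm hF]
    rcases eq_or_ne p l with rfl | hpl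
    · rw [hTl, show v p = c by simp [hv, ev_self, ev_ne hlm], ← hσdef, hσc, neg_mul_neg,
        inv_mul_cancel₀ hc0, one_smul]
    · rw [hTo p hpl hpm, show v p = 0 by simp [hv, ev_ne hpl, ev_ne hpm], map_zero, mul_zero,
        zero_smul, add_zero]
  refine ⟨l, m, c, c⁻¹ * (η⁻¹ * B), hlm, hc0, hc1', hc, ?_, ?_, ?_⟩
  · rw [map_mul, map_mul, map_inv₀, map_inv₀, hσc, sigma_eq_inv hF hηm, inv_inv]
    field_simp
    linear_combination -hNB
  · have hu : ev l + (c⁻¹ * (η⁻¹ * B)) • ev m = c⁻¹ • v := by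
      rw [hv, smul_add, smul_smul, smul_smul, inv_mul_cancel₀ hc0, one_smul]
    rw [hu, herm_smul_left, herm_smul_right, hvv]; ring
  · have hu : ev l + (c⁻¹ * (η⁻¹ * B)) • ev m = c⁻¹ • v := by
      rw [hv, smul_add, smul_smul, smul_smul, inv_mul_cancel₀ hc0, one_smul]
    have h0 := Cfsg.Agent.Lib.Subspaces.UnitaryForm.utv_dot hf hvv (c * σ c⁻¹)
    rw [hu, Cfsg.Agent.Lib.Subspaces.UnitaryForm.formVec_smul hf, smul_smul,
      tv_smul h0, smul_smul]
    convert (show U ∈ M by rw [inv_mul_eq_one.mp hWeq]; exact hTM) using 1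
    rw [hU]
    congr 2
    rw [map_inv₀, hσc, inv_neg]
    field_simp

/-- Isotropic centres of one parameter, differing by a phase, give an Eichler element. -/
theorem ueich_of_phases (S : Over q M) {a : F} (ha : a + powAut hF a = 0) {s w : Fin n → F}
    (hsw : IsPlane 𝕗 s w) (h : ∀ θ ∈ mu hF, Tva q M a (s + θ • w)) :
    ∀ τ : F, ueich 𝕗 a s (τ • w) ∈ M := by
  classical
  have hf := hermForm_isUnitary (n := n) hF
  have hsw' : 𝕗 w s = 0 := hsw.orth' hf
  have hplane : ∀ τ : F, IsPlane 𝕗 s (τ • w) := fun τ => ⟨hsw.left, by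
    rw [herm_smul_left, herm_smul_right, hsw.right]; ring, by
    rw [herm_smul_right, hsw.orth, mul_zero]⟩
  have hiso : ∀ θ : F, 𝕗 (s + θ • w) (s + θ • w) = 0 := fun θ => by
    rw [herm_add_left, herm_add_right _ _ _ hF, herm_add_right _ _ _ hF, herm_smul_left,
      herm_smul_left, herm_smul_right, herm_smul_right, hsw.left, hsw.right, hsw.orth, hsw']
    ring
  have hadd : ∀ τ τ' : F, ueich 𝕗 a s (τ • w) * ueich 𝕗 a s (τ' • w) =
      ueich 𝕗 a s ((τ + τ') • w) := fun τ τ' => gl_ext fun x => by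
    rw [gl_mul_mulVec, ueich_mulVec hf a (hplane τ'), ueich_mulVec hf a (hplane τ),
      ueich_mulVec hf a (hplane (τ + τ'))]
    simp only [herm_add_left, herm_smul_left, herm_smul_right, hsw.left, hsw.right, hsw.orth, hsw',
      mul_zero, add_zero, ← powAut_apply hF, map_add]
    module
  have hdiff : ∀ θ ∈ mu hF, ∀ θ' ∈ mu hF, ueich 𝕗 a s ((θ - θ') • w) ∈ M := by
    intro θ hθ θ' hθ'
    have hd : ((-a) • formVec 𝕗 (s + θ' • w)) ⬝ᵥ (s + θ' • w) = 0 :=
      Cfsg.Agent.Lib.Subspaces.UnitaryForm.utv_dot hf (hiso θ') _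
    have heq : tv (s + θ • w) (a • formVec 𝕗 (s + θ • w)) *
        tv (s + θ' • w) ((-a) • formVec 𝕗 (s + θ' • w)) = ueich 𝕗 a s ((θ - θ') • w) :=
      gl_ext fun x => by
        rw [gl_mul_mulVec, Cfsg.Agent.Lib.Subspaces.UnitaryForm.utv_mulVec hf (hiso θ'),
          Cfsg.Agent.Lib.Subspaces.UnitaryForm.utv_mulVec hf (hiso θ),
          ueich_mulVec hf a (hplane (θ - θ'))]
        simp only [herm_add_left, herm_add_right _ _ _ hF, herm_smul_left, herm_smul_right,
          hsw.left, hsw.right, hsw.orth, hsw', mul_zero, add_zero, ← powAut_apply hF, map_sub]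
        match_scalars
        · ring
        · ring
        · linear_combination (a * 𝕗 x w) * ((mem_mu hF).mp hθ - (mem_mu hF).mp hθ')
    rw [← heq]
    refine M.mul_mem (h θ hθ).2 ?_
    rw [neg_smul, ← tv_inv (Cfsg.Agent.Lib.Subspaces.UnitaryForm.utv_dot hf (hiso θ') a)]
    exact M.inv_mem (h θ' hθ').2
  have hmain : ∀ τ : F, τ + 3 ≠ 0 → ueich 𝕗 a s (τ • w) ∈ M := by
    intro τ hτ
    obtain ⟨x, hx, y, hy, z, hz, hxyz⟩ :=
      exists_three_circle hF one_ne_zero one_ne_zero one_ne_zero hτ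
    simp only [mul_one] at hxyz
    rw [show τ = (x - 1) + ((y - 1) + (z - 1)) by linear_combination -hxyz, ← hadd, ← hadd]
    exact M.mul_mem (hdiff x hx 1 (one_mem_mu hF))
      (M.mul_mem (hdiff y hy 1 (one_mem_mu hF)) (hdiff z hz 1 (one_mem_mu hF)))
  intro τ
  by_cases hτ : τ + 3 = 0
  · obtain ⟨τ', hτ'⟩ : ∃ τ' : F, τ' ∉ ({0, -3} : Finset F) := by
      by_contra hall
      push Not at hall
      have := Finset.card_le_card (s := (Finset.univ : Finset F)) (t := {0, -3}) fun t _ => hall t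
      rw [Finset.card_univ, hF] at this
      have h2 : ({0, -3} : Finset F).card ≤ 2 := Finset.card_le_two
      have := one_lt_q hF
      nlinarith
    simp only [Finset.mem_insert, Finset.mem_singleton, not_or] at hτ'
    rw [show τ = τ' + (τ - τ') by ring, ← hadd]
    exact M.mul_mem (hmain τ' fun e => hτ'.2 (eq_neg_of_add_eq_zero_left e))
      (hmain (τ - τ') fun e => hτ'.1 (by linear_combination hτ - e))
  · exact hmain τ hτ

theorem exists_perm_two {α : Type*} [DecidableEq α] {l m p r : α} (hlm : l ≠ m) (hpr : p ≠ r) :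
    ∃ π : Equiv.Perm α, π l = p ∧ π m = r := by
  refine ⟨Equiv.swap (Equiv.swap l p m) r * Equiv.swap l p, ?_, ?_⟩
  · rw [Equiv.Perm.mul_apply, Equiv.swap_apply_left]
    refine Equiv.swap_apply_of_ne_of_ne (fun h => hlm ?_) hpr
    exact (Equiv.swap l p).injective (by rw [Equiv.swap_apply_left]; exact h)
  · rw [Equiv.Perm.mul_apply, Equiv.swap_apply_left]

omit [Fintype F] in
theorem exists_third (hn : 3 ≤ n) (p r : Fin n) : ∃ o, o ≠ p ∧ o ≠ r := by
  classical
  obtain ⟨o, ho⟩ := Finset.card_pos.mp (show 0 < (({p, r} : Finset (Fin n))ᶜ).card by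
    rw [Finset.card_compl, Fintype.card_fin]
    have : ({p, r} : Finset (Fin n)).card ≤ 2 := Finset.card_le_two
    omega)
  simp only [Finset.mem_compl, Finset.mem_insert, Finset.mem_singleton, not_or] at ho
  exact ⟨o, ho⟩

/-- All isotropic vectors with two non-zero coordinates are centres. -/
theorem pair_centres (S : Over q M) (hn : 4 ≤ n) {l m : Fin n} (hlm : l ≠ m) {a b : F}
    (ha0 : a ≠ 0) (ha1 : 1 + a ≠ 0) (ha : a + powAut hF a = 0) (hb : b * powAut hF b = -1)
    (h : Tva q M a (ev l + b • ev m)) {p r : Fin n} (hpr : p ≠ r) {x y : F}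
    (hxy : x * powAut hF x + y * powAut hF y = 0) :
    UnitCenter (powAut hF) 𝕗 M (x • ev p + y • ev r) := by
  classical
  have hf := hermForm_isUnitary (n := n) hF
  set σ := powAut hF with hσdef
  have hpairs : ∀ (p r : Fin n), p ≠ r → ∀ z z' : F, z ∈ mu hF → z' ∈ mu hF →
      Tva q M a (z • ev p + (z' * b) • ev r) := by
    intro p r hpr z z' hz hz'
    obtain ⟨π, hπl, hπm⟩ := exists_perm_two hlm hpr
    obtain ⟨o, hol, hom⟩ := exists_third (by omega) l m
    obtain ⟨g, hg, hgv⟩ := S.exists_mono hF π (fun j => if j = l then z else z') (fun j => by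
      split_ifs <;> assumption) o
    have := h.conj hF S hg
    rwa [mulVec_add, mulVec_smul, hgv l hol.symm, hgv m hom.symm, if_pos rfl, if_neg hlm.symm,
      hπl, hπm, smul_smul, mul_comm b] at this
  have hb0 : b ≠ 0 := fun e => by rw [e, zero_mul] at hb; exact one_ne_zero (neg_eq_zero.mp hb.symm)
  obtain ⟨i0, i1, i2, i3, h01, h02, h03, h12, h13, h23⟩ :
      ∃ i0 i1 i2 i3 : Fin n, i0 ≠ i1 ∧ i0 ≠ i2 ∧ i0 ≠ i3 ∧ i1 ≠ i2 ∧ i1 ≠ i3 ∧ i2 ≠ i3 :=
    ⟨⟨0, by omega⟩, ⟨1, by omega⟩, ⟨2, by omega⟩, ⟨3, by omega⟩,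
      by simp, by simp, by simp, by simp, by simp, by simp⟩
  -- the vector with four non-zero coordinates
  set s := (1 + a) • (ev i0 + b • ev i1 : Fin n → F) with hs
  have htv : ∀ (p r : Fin n), p ≠ r → ∀ z ∈ mu hF,
      ∃ U : GL (Fin n) F, U ∈ M ∧
        (U : Matrix (Fin n) (Fin n) F) *ᵥ ev p = (1 + a) • ev p + (a * (z * b)) • ev r ∧
        ∀ j, j ≠ p → j ≠ r → (U : Matrix (Fin n) (Fin n) F) *ᵥ ev j = ev j := by
    intro p r hpr z hz
    have h1 := hpairs p r hpr 1 z (one_mem_mu hF) hz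
    rw [one_smul] at h1
    refine ⟨_, h1.2, ?_, fun j hjp hjr => ?_⟩
    · rw [Cfsg.Agent.Lib.Subspaces.UnitaryForm.utv_mulVec hf h1.1, ev_herm hF, Pi.add_apply,
        Pi.smul_apply, ev_self, ev_ne hpr, smul_zero, add_zero, map_one, mul_one, smul_add,
        smul_smul, add_smul, one_smul, add_assoc]
    · rw [Cfsg.Agent.Lib.Subspaces.UnitaryForm.utv_mulVec hf h1.1, ev_herm hF, Pi.add_apply,
        Pi.smul_apply, ev_ne hjp, ev_ne hjr, smul_zero, add_zero, map_zero, mul_zero, zero_smul,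
        add_zero]
  have hphase : ∀ φ2 φ3 : F, φ2 ∈ mu hF → φ3 ∈ mu hF →
      Tva q M a (s + (a * b) • (φ3 • ev i3 + (φ2 * b) • ev i2)) := by
    intro φ2 φ3 h2 h3
    obtain ⟨U12, hU12, hU12v, hU12f⟩ := htv i1 i2 h12 φ2 h2
    obtain ⟨U03, hU03, hU03v, hU03f⟩ := htv i0 i3 h03 φ3 h3
    have h0 := hpairs i0 i1 h01 1 1 (one_mem_mu hF) (one_mem_mu hF)
    rw [one_smul, one_mul] at h0
    have h1 := (h0.conj hF S hU12).conj hF S hU03
    rw [mulVec_add, mulVec_smul, hU12f i0 h01 h02, hU12v, mulVec_add, mulVec_smul, mulVec_add,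
      mulVec_smul, mulVec_smul, hU03v, hU03f i1 h01.symm h13, hU03f i2 h02.symm h23] at h1
    convert h1 using 1
    rw [hs]
    module
  set wv : F → Fin n → F := fun φ => (a * b) • (φ • ev i3 + b • ev i2) with hwv
  have hsorth : ∀ φ, IsPlane 𝕗 s (wv φ) ↔ φ * σ φ = 1 := by
    intro φ
    constructor
    · intro hp
      have h1 := hp.right
      simp only [hwv, herm_smul_left, herm_smul_right, herm_add_left, herm_add_right _ _ _ hF,
        ev_norm hF, ev_orth hF h23, ev_orth hF h23.symm, ← powAut_apply hF, ← hσdef] at h1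
      have hab : a * b * σ (a * b) ≠ 0 :=
        mul_ne_zero (mul_ne_zero ha0 hb0) (by simpa using ⟨ha0, hb0⟩)
      have h2 : a * b * σ (a * b) * (φ * σ φ - 1) = 0 := by
        linear_combination h1 - a * b * σ (a * b) * hb
      exact sub_eq_zero.mp ((mul_eq_zero.mp h2).resolve_left hab)
    · intro hφ
      refine ⟨?_, ?_, ?_⟩
      · simp only [hs, herm_smul_left, herm_smul_right, herm_add_left, herm_add_right _ _ _ hF,
          ev_norm hF, ev_orth hF h01, ev_orth hF h01.symm, ← powAut_apply hF, ← hσdef]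
        linear_combination (1 + a) * σ (1 + a) * hb
      · simp only [hwv, herm_smul_left, herm_smul_right, herm_add_left, herm_add_right _ _ _ hF,
          ev_norm hF, ev_orth hF h23, ev_orth hF h23.symm, ← powAut_apply hF, ← hσdef]
        linear_combination a * b * σ (a * b) * (hb + hφ)
      · simp only [hs, hwv, herm_smul_left, herm_smul_right, herm_add_left,
          herm_add_right _ _ _ hF, ev_orth hF h03, ev_orth hF h02, ev_orth hF h13,
          ev_orth hF h12]
        ring
  have hue : ∀ φ ∈ mu hF, ∀ τ : F, ueich 𝕗 a s (τ • wv φ) ∈ M := by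
    intro φ hφ
    refine ueich_of_phases hF S ha ((hsorth φ).mpr ((mem_mu hF).mp hφ)) fun θ hθ => ?_
    have h1 := hphase θ (θ * φ) hθ (mul_mem_mu hF hθ hφ)
    convert h1 using 1
    rw [hwv]
    module
  obtain ⟨φ, hφ', hφre⟩ := exists_norm_one_nonreal hF
  have hφ : φ ∈ mu hF := (mem_mu hF).mpr hφ'
  have hp1 := (hsorth 1).mpr (by rw [map_one, mul_one])
  have hp2 := (hsorth φ).mpr hφ'
  have hfull : UnitCenter σ 𝕗 M s := by
    refine ⟨hp1.left, fun a' ha' => ?_⟩
    set K := 𝕗 (wv φ) (wv 1) with hK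
    have hKne : K ≠ 0 := by
      rw [hK]
      simp only [hwv, herm_smul_left, herm_smul_right, herm_add_left, herm_add_right _ _ _ hF,
        ev_norm hF, ev_orth hF h23, ev_orth hF h23.symm, ← powAut_apply hF, ← hσdef, map_one,
        mul_one, mul_zero, one_mul, add_zero, zero_add]
      intro e
      have hab : a * b * σ (a * b) ≠ 0 :=
        mul_ne_zero (mul_ne_zero ha0 hb0) (by simpa using ⟨ha0, hb0⟩)
      have h2 : a * b * σ (a * b) * (φ - 1) = 0 := by
        linear_combination e - a * b * σ (a * b) * hb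
      exact hφre (by rw [sub_eq_zero.mp ((mul_eq_zero.mp h2).resolve_left hab), map_one])
    obtain ⟨t, ht⟩ := Cfsg.Agent.Lib.Subspaces.UnitaryForm.exists_trace hf (r := a' / a) (by
      rw [map_div₀, eq_neg_of_add_eq_zero_right ha', eq_neg_of_add_eq_zero_right ha, neg_div_neg_eq])
    have hplane : IsPlane 𝕗 s ((t / (a * K)) • wv φ) := ⟨hp2.left, by
      rw [herm_smul_left, herm_smul_right, hp2.right]; ring, by
      rw [herm_smul_right, hp2.orth, mul_zero]⟩
    have hb1 : ueich 𝕗 a s (wv 1) ∈ M := by simpa using hue 1 (one_mem_mu hF) 1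
    have h1 := tv_of_common_point hf ha hp1 hplane hb1 (hue φ hφ _)
    rw [herm_smul_left, ← hK] at h1
    convert h1 using 2
    rw [show a * (t / (a * K) * K) = t by field_simp, ht, mul_div_cancel₀ _ ha0]
  have hone : ∀ p r : Fin n, p ≠ r → ∀ z : F, z ∈ mu hF →
      UnitCenter σ 𝕗 M (ev p + (z * b) • ev r) := by
    intro p r hpr z hz
    have h1 := unitCenter_smul hf hfull (1 + a)⁻¹
    rw [hs, smul_smul, inv_mul_cancel₀ ha1, one_smul] at h1
    obtain ⟨π, hπp, hπr⟩ := exists_perm_two h01 hpr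
    obtain ⟨g, hg, hgv⟩ := S.exists_mono hF π (fun j => if j = i1 then z else 1) (fun j => by
      split_ifs
      exacts [hz, one_mem_mu hF]) i2
    have h2 := unitCenter_conj hf h1 hg (mem_GU_iff'.mp (S.gu hg))
    rwa [mulVec_add, mulVec_smul, hgv i0 h02, hgv i1 h12, if_neg h01, if_pos rfl, one_smul, hπp,
      hπr, smul_smul, mul_comm b] at h2
  by_cases hx0 : x = 0
  · rw [hx0, zero_mul, zero_add, mul_eq_zero, map_eq_zero, or_self] at hxy
    rw [hx0, hxy, zero_smul, zero_smul, add_zero]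
    simpa using unitCenter_smul hf hfull 0
  · have hσx : σ x ≠ 0 := by simpa using hx0
    have hσb : σ b ≠ 0 := by simpa using hb0
    have hz : y / (x * b) ∈ mu hF := by
      rw [mem_mu, ← hσdef, map_div₀, map_mul, div_mul_div_comm, div_eq_one_iff_eq
        (mul_ne_zero (mul_ne_zero hx0 hb0) (mul_ne_zero hσx hσb))]
      linear_combination hxy - (x * σ x) * hb
    have h1 := unitCenter_smul hf (hone p r hpr _ hz) x
    rwa [smul_add, smul_smul, show x * (y / (x * b) * b) = y by field_simp] at h1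

/-- The subgroup contains the whole `SU` of a coordinate plane. -/
theorem plane_mem (S : Over q M)
    (hC : ∀ p r : Fin n, p ≠ r → ∀ x y : F, x * powAut hF x + y * powAut hF y = 0 →
      UnitCenter (powAut hF) 𝕗 M (x • ev p + y • ev r))
    {p r : Fin n} (hpr : p ≠ r) {A : GU 2 F q} (hA : A.1.1.det = 1) :
    ∃ T : GL (Fin n) F, T ∈ M ∧
      (∀ z : Fin 2 → F, (T : Matrix (Fin n) (Fin n) F) *ᵥ (z 0 • ev p + z 1 • ev r) =
        (A.1.1 *ᵥ z) 0 • ev p + (A.1.1 *ᵥ z) 1 • ev r) ∧
      ∀ j, j ≠ p → j ≠ r → (T : Matrix (Fin n) (Fin n) F) *ᵥ ev j = ev j := by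
  have hf := hermForm_isUnitary (n := n) hF
  let B : (Fin 2 → F) → (Fin n → F) := fun z => z 0 • ev p + z 1 • ev r
  have hB : ∀ x y, 𝕗 (B x) (B y) = Cfsg.hermForm 2 F q x y := fun x y => by
    show 𝕗 (x 0 • ev p + x 1 • ev r) (y 0 • ev p + y 1 • ev r) = _
    rw [herm_add_left, herm_add_right _ _ _ hF, herm_add_right _ _ _ hF, herm_smul_left,
      herm_smul_left, herm_smul_left, herm_smul_left, herm_smul_right, herm_smul_right,
      herm_smul_right, herm_smul_right, ev_norm hF, ev_norm hF, ev_orth hF hpr,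
      ev_orth hF hpr.symm]
    simp [Cfsg.hermForm, Fin.sum_univ_two]
  have hA' := mem_TGroup_two hF A hA
  clear hA
  induction hA' using Subgroup.closure_induction with
  | mem A h =>
    obtain ⟨v, c, hv, hc, hA⟩ := h
    have hBv : 𝕗 (B v) (B v) = 0 := by rw [hB, hv]
    have hvc : v 0 * powAut hF (v 0) + v 1 * powAut hF (v 1) = 0 := by
      rw [← hv]; simp [Cfsg.hermForm, Fin.sum_univ_two, powAut_apply]
    refine ⟨_, (hC p r hpr (v 0) (v 1) hvc).2 c hc, fun z => ?_, fun j hjp hjr => ?_⟩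
    · show _ *ᵥ B z = B (A.1.1 *ᵥ z)
      rw [Cfsg.Agent.Lib.Subspaces.UnitaryForm.utv_mulVec hf hBv, hB, hA]
      simp only [B, Pi.add_apply, Pi.smul_apply, smul_eq_mul]
      module
    · rw [Cfsg.Agent.Lib.Subspaces.UnitaryForm.utv_mulVec hf hBv, ev_herm hF]
      simp [B, ev_ne hjp, ev_ne hjr]
  | one => exact ⟨1, M.one_mem, fun z => by simp, fun j _ _ => by simp⟩
  | mul A A' _ _ h1 h2 =>
    obtain ⟨T, hT, hTB, hTf⟩ := h1
    obtain ⟨T', hT', hTB', hTf'⟩ := h2
    refine ⟨T * T', M.mul_mem hT hT', fun z => ?_, fun j h1 h2 => ?_⟩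
    · rw [gl_mul_mulVec, hTB', hTB, GU_mul_mulVec]
    · rw [gl_mul_mulVec, hTf' j h1 h2, hTf j h1 h2]
  | inv A _ h =>
    obtain ⟨T, hT, hTB, hTf⟩ := h
    refine ⟨T⁻¹, M.inv_mem hT, fun z => ?_, fun j h1 h2 => ?_⟩
    · apply gl_mulVec_injective T
      dsimp only
      rw [gl_mulVec_inv, hTB (A⁻¹.1.1 *ᵥ z), GU_mulVec_inv]
    · apply gl_mulVec_injective T
      dsimp only
      rw [gl_mulVec_inv, hTf j h1 h2]

/-- All isotropic vectors are centres. -/
theorem centres_all (S : Over q M) (hn : 4 ≤ n) (hq : q ≠ 2)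
    (hC : ∀ p r : Fin n, p ≠ r → ∀ x y : F, x * powAut hF x + y * powAut hF y = 0 →
      UnitCenter (powAut hF) 𝕗 M (x • ev p + y • ev r)) :
    ∀ z, 𝕗 z z = 0 → UnitCenter (powAut hF) 𝕗 M z := by
  classical
  have hf := hermForm_isUnitary (n := n) hF
  set σ := powAut hF with hσdef
  have hsum : ∀ z : Fin n → F, 𝕗 z z = ∑ j, z j * σ (z j) := fun z => by
    simp [Cfsg.hermForm, hσdef, powAut_apply]
  have hmove : ∀ {p r : Fin n}, p ≠ r → ∀ {A : GU 2 F q}, A.1.1.det = 1 → ∀ z : Fin n → F,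
      𝕗 z z = 0 → ∃ z', 𝕗 z' z' = 0 ∧ (UnitCenter σ 𝕗 M z' → UnitCenter σ 𝕗 M z) ∧
        z' p = (A.1.1 *ᵥ ![z p, z r]) 0 ∧ z' r = (A.1.1 *ᵥ ![z p, z r]) 1 ∧
        ∀ j, j ≠ p → j ≠ r → z' j = z j := by
    intro p r hpr A hA z hz
    obtain ⟨T, hT, hTB, hTf⟩ := plane_mem hF S hC hpr hA
    set rest := z - (z p • ev p + z r • ev r) with hrest
    have hrp : rest p = 0 := by simp [hrest, ev_self, ev_ne hpr]
    have hrr : rest r = 0 := by simp [hrest, ev_self, ev_ne hpr.symm]
    have hTrest : (T : Matrix (Fin n) (Fin n) F) *ᵥ rest = rest := by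
      conv_lhs => rw [← sum_ev rest]
      conv_rhs => rw [← sum_ev rest]
      rw [mulVec_sum]
      refine Finset.sum_congr rfl fun j _ => ?_
      rw [mulVec_smul]
      rcases eq_or_ne j p with rfl | hjp
      · rw [hrp, zero_smul, zero_smul]
      rcases eq_or_ne j r with rfl | hjr
      · rw [hrr, zero_smul, zero_smul]
      rw [hTf j hjp hjr]
    have hTz : (T : Matrix (Fin n) (Fin n) F) *ᵥ z = rest +
        ((A.1.1 *ᵥ ![z p, z r]) 0 • ev p + (A.1.1 *ᵥ ![z p, z r]) 1 • ev r) := by
      conv_lhs => rw [show z = rest + (![z p, z r] 0 • ev p + ![z p, z r] 1 • ev r) by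
        simp [hrest]]
      rw [mulVec_add, hTB, hTrest]
    refine ⟨(T : Matrix (Fin n) (Fin n) F) *ᵥ z, by rw [mem_GU_iff'.mp (S.gu hT), hz], fun h => ?_,
      ?_, ?_, fun j hjp hjr => ?_⟩
    · have := unitCenter_conj hf h (M.inv_mem hT) (mem_GU_iff'.mp (S.gu (M.inv_mem hT)))
      rwa [gl_inv_mulVec] at this
    · simp [hTz, hrp, ev_self, ev_ne hpr]
    · simp [hTz, hrr, ev_self, ev_ne hpr.symm]
    · simp [hTz, hrest, ev_ne hjp, ev_ne hjr]
  suffices H : ∀ k, ∀ z : Fin n → F, 𝕗 z z = 0 → (supp z).card ≤ k → UnitCenter σ 𝕗 M z from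
    fun z hz => H _ z hz le_rfl
  intro k
  induction k with
  | zero =>
    intro z hz hk
    let p0 : Fin n := ⟨0, by omega⟩
    let p1 : Fin n := ⟨1, by omega⟩
    have : z = 0 := funext fun j => by_contra fun hj => by
      have := Finset.card_pos.mpr ⟨j, mem_supp.mpr hj⟩
      omega
    simpa [this] using hC p0 p1 (by simp [p0, p1]) 0 0 (by simp)
  | succ k ih =>
    intro z hz hk
    rcases Nat.lt_or_ge (supp z).card 3 with h3 | h3
    · -- at most two non-zero coordinates
      obtain ⟨p, r, hpr, hsub⟩ : ∃ p r : Fin n, p ≠ r ∧ supp z ⊆ {p, r} := by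
        obtain ⟨P, hP, hPc⟩ := Finset.exists_superset_card_eq (s := supp z) (n := 2) (by omega)
          (by rw [Fintype.card_fin]; omega)
        obtain ⟨p, r, hpr, rfl⟩ := Finset.card_eq_two.mp hPc
        exact ⟨p, r, hpr, hP⟩
      have hzo : ∀ j, j ≠ p → j ≠ r → z j = 0 := fun j h1 h2 => by_contra fun hj => by
        have := hsub (mem_supp.mpr hj)
        simp [h1, h2] at this
      have hzz : z = z p • ev p + z r • ev r := by
        funext j
        rcases eq_or_ne j p with rfl | hjp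
        · simp [ev_self, ev_ne hpr]
        rcases eq_or_ne j r with rfl | hjr
        · simp [ev_self, ev_ne hjp]
        simp [ev_ne hjp, ev_ne hjr, hzo j hjp hjr]
      rw [hzz]
      refine hC p r hpr _ _ ?_
      rw [← hz, hsum, ← Finset.sum_subset (Finset.subset_univ {p, r}) (fun j _ hj => by
        simp only [Finset.mem_insert, Finset.mem_singleton, not_or] at hj
        rw [hzo j hj.1 hj.2, zero_mul]), Finset.sum_pair hpr]
    -- a pair with non-zero norm sum reduces the support
    have hpair : ∀ z : Fin n → F, 𝕗 z z = 0 → (supp z).card ≤ k + 1 → ∀ p r, p ≠ r →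
        z p ≠ 0 → z r ≠ 0 → z p * σ (z p) + z r * σ (z r) ≠ 0 → UnitCenter σ 𝕗 M z := by
      intro z hz hk p r hpr hp hr hN
      obtain ⟨w, hw⟩ := UnitarySplit.norm_surjective hF (z p * σ (z p) + z r * σ (z r))
        (by rw [map_add, norm_fixed hF, norm_fixed hF])
      have hx2 : Cfsg.hermForm 2 F q ![z p, z r] ![z p, z r] =
          Cfsg.hermForm 2 F q ![0, w] ![0, w] := by
        simp only [Cfsg.hermForm, Fin.sum_univ_two, Matrix.cons_val_zero, Matrix.cons_val_one,
          ← powAut_apply hF, map_zero, mul_zero, zero_add, hw, hσdef]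
      have hw0 : w ≠ 0 := fun e => hN (by rw [← hw, e, zero_mul])
      obtain ⟨A0, hA0⟩ := UnitarySplit.exists_GU_vec hF (x := ![z p, z r]) (y := ![0, w])
        (fun e => hp (by simpa using congrFun e 0)) (fun e => hw0 (by simpa using congrFun e 1)) hx2
      obtain ⟨Sc, hSdet, -, hSfix⟩ := exists_GU_scale hF (x := (Pi.single 0 1 : Fin 2 → F))
        (by simp [herm_std hF]) (inv_norm_one hF (det_norm_one hF A0))
      have hdet : (Sc * A0).1.1.det = 1 := by
        show (Sc.1.1 * A0.1.1).det = 1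
        rw [Matrix.det_mul, hSdet, inv_mul_cancel₀]
        intro e
        have := det_norm_one hF A0
        rw [e, zero_mul] at this
        exact zero_ne_one this
      obtain ⟨z', hz', himp, hzp, hzr, hzj⟩ := hmove hpr hdet z hz
      have hAv : (Sc * A0).1.1 *ᵥ ![z p, z r] = ![0, w] := by
        rw [GU_mul_mulVec, hA0, hSfix _ (by rw [herm_single _ hF]; simp)]
      rw [hAv] at hzp hzr
      refine himp (ih z' hz' ?_)
      have hrs : z' p = 0 := by simpa using hzp
      have hsub : supp z' ⊆ (insert r (supp z)).erase p := fun j hj => by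
        have hj' := mem_supp.mp hj
        have hjp : j ≠ p := fun e => hj' (e ▸ hrs)
        rcases eq_or_ne j r with rfl | hjr
        · simp [hjp]
        · simp [hjp, mem_supp, ← hzj j hjp hjr, hj']
      have h1 := Finset.card_le_card hsub
      rw [Finset.card_erase_of_mem (Finset.mem_insert_of_mem (mem_supp.mpr hp))] at h1
      rw [Finset.insert_eq_of_mem (mem_supp.mpr hr)] at h1
      omega
    obtain ⟨p, hp, r, hr, u, hu, hpr, hpu, hru⟩ :=
      Finset.two_lt_card.mp (show 2 < (supp z).card by omega)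
    rw [mem_supp] at hp hr hu
    by_cases h1 : z p * σ (z p) + z r * σ (z r) ≠ 0
    · exact hpair z hz hk p r hpr hp hr h1
    by_cases h2 : z p * σ (z p) + z u * σ (z u) ≠ 0
    · exact hpair z hz hk p u hpu hp hu h2
    by_cases h3 : z r * σ (z r) + z u * σ (z u) ≠ 0
    · exact hpair z hz hk r u hru hr hu h3
    push Not at h1 h2 h3
    have hNp : z p * σ (z p) ≠ 0 := mul_ne_zero hp (by simpa using hp)
    have htwo : (2 : F) = 0 := by
      have : (2 : F) * (z p * σ (z p)) = 0 := by linear_combination h1 + h2 - h3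
      exact (mul_eq_zero.mp this).resolve_right hNp
    -- rescale an isotropic pair
    obtain ⟨lam, hlam, hlam0, hlam1⟩ : ∃ μ : F, σ μ = μ ∧ μ ≠ 0 ∧ μ ≠ 1 := by
      obtain ⟨μ, hμ⟩ : (((fix hF).erase 0).erase 1).Nonempty := by
        rw [← Finset.card_pos]
        have h := Finset.pred_card_le_card_erase (a := (1 : F)) (s := (fix hF).erase 0)
        rw [Finset.card_erase_of_mem ((mem_fix hF).mpr (map_zero _)), card_fix hF] at h
        have := one_lt_q hF
        omega
      simp only [Finset.mem_erase, mem_fix] at hμ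
      exact ⟨μ, hμ.2.2, hμ.2.1, hμ.1⟩
    obtain ⟨f, hf'⟩ := exists_hyp hF (e := ![z p, z r]) (fun e => hp (by simpa using congrFun e 0))
      (by simpa [Cfsg.hermForm, Fin.sum_univ_two, hσdef, powAut_apply] using h1)
    obtain ⟨A, hAdet, hAe, -, -⟩ := exists_GU_hyp_scale hF hf' hlam0
    have hdet : A.1.1.det = 1 := by
      rw [hAdet, show lam ^ q = lam from hlam, mul_inv_cancel₀ hlam0]
    obtain ⟨z', hz', himp, hzp, hzr, hzj⟩ := hmove hpr hdet z hz
    rw [hAe] at hzp hzr
    simp only [Pi.smul_apply, smul_eq_mul, Matrix.cons_val_zero, Matrix.cons_val_one] at hzp hzr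
    refine himp (hpair z' hz' ?_ p u hpu (by rw [hzp]; exact mul_ne_zero hlam0 hp)
      (by rw [hzj u hpu.symm hru.symm]; exact hu) ?_)
    · refine le_trans (Finset.card_le_card fun j hj => ?_) hk
      rw [mem_supp] at hj ⊢
      rcases eq_or_ne j p with rfl | hjp
      · exact hp
      rcases eq_or_ne j r with rfl | hjr
      · exact hr
      rwa [← hzj j hjp hjr]
    · rw [hzp, hzj u hpu.symm hru.symm, map_mul, hlam]
      intro e
      have h4 : (lam - 1) * (lam - 1) * (z p * σ (z p)) = 0 := by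
        linear_combination e - h2 + (1 - lam) * (z p * σ (z p)) * htwo
      exact hNp ((mul_eq_zero.mp h4).resolve_left
        (mul_ne_zero (sub_ne_zero.mpr hlam1) (sub_ne_zero.mpr hlam1)))

end Cfsg.Agent.Lib.Subspaces.UnitMonoTv
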