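import Cfsg.Agent.Lib.Subspaces.UnitCircle

/-!
Quasi-reflection pairs of the standard unitary space, the relation they define on anisotropic
points for a subgroup, and monomial isometries.
-/

set_option autoImplicit false

namespace Cfsg.Agent.Lib.Subspaces.UnitQuasi

open Matrix Cfsg.Agent.Lib.Subspaces.Transvection Cfsg.Agent.Lib.Subspaces.FormVec
  Cfsg.Agent.Lib.Subspaces.UnitaryGen Cfsg.Agent.Lib.Subspaces.UnitBlock
  Cfsg.Agent.Lib.Subspaces.UnitCircle Cfsg.Agent.Lib.Unitary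

variable {F : Type*} [Field F] [Fintype F] {q n : ℕ} (hF : Fintype.card F = q ^ 2)

local notation "𝕗" => Cfsg.hermForm n F q

/-- The standard vectors. -/
noncomputable def ev (l : Fin n) : Fin n → F := Pi.single l 1

omit [Fintype F] in
theorem ev_self (l : Fin n) : (ev l : Fin n → F) l = 1 := Pi.single_eq_same l 1

omit [Fintype F] in
theorem ev_ne {l j : Fin n} (h : j ≠ l) : (ev l : Fin n → F) j = 0 := Pi.single_eq_of_ne h 1

omit [Fintype F] in
theorem mulVec_ev (g : Matrix (Fin n) (Fin n) F) (l i : Fin n) : (g *ᵥ ev l) i = g i l := by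
  simp [ev]

omit [Fintype F] in
theorem sum_ev (x : Fin n → F) : ∑ l, x l • (ev l : Fin n → F) = x := by
  funext i
  simp [ev, Finset.sum_apply, Pi.single_apply]

include hF in
theorem herm_ev (v : Fin n → F) (l : Fin n) : 𝕗 v (ev l) = v l := herm_single v hF l

theorem ev_herm (v : Fin n → F) (l : Fin n) : 𝕗 (ev l) v = powAut hF (v l) := by
  rw [powAut_apply]; exact single_herm v l

include hF in
theorem ev_norm (l : Fin n) : 𝕗 (ev l) (ev l) = 1 := by
  rw [herm_ev hF, ev_self]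

include hF in
theorem ev_orth {l j : Fin n} (h : l ≠ j) : 𝕗 (ev l) (ev j) = 0 := by
  rw [herm_ev hF, ev_ne h.symm]

theorem herm_swap (u v : Fin n → F) : 𝕗 u v = powAut hF (𝕗 v u) := by
  rw [powAut_apply, herm_conj v u hF]

theorem herm_fixed (u : Fin n → F) : powAut hF (𝕗 u u) = 𝕗 u u := (herm_swap hF u u).symm

open Classical in
/-- The quasi-reflection multiplying the point `a` by `c`. -/
noncomputable def qr (c : F) (a : Fin n → F) : GU n F q :=
  if h : ∀ u v, 𝕗 (rk1 q ((c - 1) / 𝕗 a a) a a *ᵥ u) (rk1 q ((c - 1) / 𝕗 a a) a a *ᵥ v) = 𝕗 u v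
  then mkGU hF _ h else 1

theorem qr_preserving {c : F} (hc : c ∈ mu hF) {a : Fin n → F} (ha : 𝕗 a a ≠ 0) (u v : Fin n → F) :
    𝕗 (rk1 q ((c - 1) / 𝕗 a a) a a *ᵥ u) (rk1 q ((c - 1) / 𝕗 a a) a a *ᵥ v) = 𝕗 u v := by
  have hc' := (mem_mu hF).mp hc
  have hk : powAut hF ((c - 1) / 𝕗 a a) = (powAut hF c - 1) / 𝕗 a a := by
    rw [map_div₀, map_sub, map_one, herm_fixed]
  set κ := (c - 1) / 𝕗 a a with hκ
  rw [rk1_mulVec, rk1_mulVec, herm_add_left, herm_add_right _ _ _ hF, herm_add_right _ _ _ hF,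
    herm_smul_left, herm_smul_left, herm_smul_right, herm_smul_right, ← powAut_apply hF,
    map_mul, ← herm_swap hF a v, hk, hκ]
  field_simp
  linear_combination (𝕗 u a * 𝕗 a v) * hc'

theorem qr_mulVec {c : F} (hc : c ∈ mu hF) {a : Fin n → F} (ha : 𝕗 a a ≠ 0) (x : Fin n → F) :
    (qr hF c a).1.1 *ᵥ x = x + ((c - 1) / 𝕗 a a * 𝕗 x a) • a := by
  rw [qr, dif_pos (qr_preserving hF hc ha), mkGU_val, rk1_mulVec]

theorem qr_det {c : F} (hc : c ∈ mu hF) {a : Fin n → F} (ha : 𝕗 a a ≠ 0) :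
    (qr hF c a).1.1.det = c := by
  rw [qr, dif_pos (qr_preserving hF hc ha), mkGU_val, rk1_det, div_mul_cancel₀ _ ha,
    add_sub_cancel]

theorem qr_self {c : F} (hc : c ∈ mu hF) {a : Fin n → F} (ha : 𝕗 a a ≠ 0) :
    (qr hF c a).1.1 *ᵥ a = c • a := by
  rw [qr_mulVec hF hc ha, div_mul_cancel₀ _ ha, sub_smul, one_smul, add_sub_cancel]

theorem qr_fix {c : F} (hc : c ∈ mu hF) {a : Fin n → F} (ha : 𝕗 a a ≠ 0) {x : Fin n → F}
    (hx : 𝕗 x a = 0) : (qr hF c a).1.1 *ᵥ x = x := by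
  rw [qr_mulVec hF hc ha, hx, mul_zero, zero_smul, add_zero]

theorem qr_smul {c : F} (hc : c ∈ mu hF) {a : Fin n → F} (ha : 𝕗 a a ≠ 0) {t : F} (ht : t ≠ 0) :
    qr hF c (t • a) = qr hF c a := by
  have h : 𝕗 (t • a) (t • a) ≠ 0 := by
    rw [herm_smul_left, herm_smul_right]
    exact mul_ne_zero ht (mul_ne_zero (pow_ne_zero q ht) ha)
  refine GU_ext fun x => ?_
  rw [qr_mulVec hF hc h, qr_mulVec hF hc ha, herm_smul_left, herm_smul_right, herm_smul_right,
    smul_smul]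
  congr 2
  have := pow_ne_zero q ht
  field_simp

theorem qr_mul {c d : F} (hc : c ∈ mu hF) (hd : d ∈ mu hF) {a : Fin n → F} (ha : 𝕗 a a ≠ 0) :
    qr hF c a * qr hF d a = qr hF (c * d) a := by
  refine GU_ext fun x => ?_
  rw [GU_mul_mulVec, qr_mulVec hF hc ha, qr_mulVec hF hd ha, qr_mulVec hF (mul_mem_mu hF hc hd) ha,
    herm_add_left, herm_smul_left, add_assoc, ← add_smul]
  congr 2
  field_simp
  ring

theorem qr_one {a : Fin n → F} (ha : 𝕗 a a ≠ 0) : qr hF 1 a = 1 := by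
  refine GU_ext fun x => ?_
  rw [qr_mulVec hF (one_mem_mu hF) ha, GU_one_mulVec]
  simp

theorem qr_conj (g : GU n F q) {c : F} (hc : c ∈ mu hF) {a : Fin n → F} (ha : 𝕗 a a ≠ 0) :
    g * qr hF c a * g⁻¹ = qr hF c (g.1.1 *ᵥ a) := by
  refine GU_ext fun x => ?_
  have h := GU_herm (g⁻¹.1.1 *ᵥ x) a g
  rw [GU_mulVec_inv] at h
  rw [GU_mul_mulVec, GU_mul_mulVec, qr_mulVec hF hc ha, qr_mulVec hF hc (by rwa [GU_herm]),
    Matrix.mulVec_add, Matrix.mulVec_smul, GU_mulVec_inv, GU_herm, h]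

/-- The determinant one pair of quasi-reflections. -/
noncomputable def pr (c : F) (a b : Fin n → F) : GL (Fin n) F :=
  ((qr hF c a * qr hF (powAut hF c) b : GU n F q) : GL (Fin n) F)

variable {a b : Fin n → F}

theorem pr_mem_GU (c : F) (a b : Fin n → F) : pr hF c a b ∈ Cfsg.GU n F q := SetLike.coe_mem _

theorem pr_det {c : F} (hc : c ∈ mu hF) (ha : 𝕗 a a ≠ 0) (hb : 𝕗 b b ≠ 0) :
    pr hF c a b ∈ Cfsg.Geo.specialLinear (Fin n) F := by
  rw [mem_specialLinear_iff]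
  show ((qr hF c a).1.1 * (qr hF (powAut hF c) b).1.1).det = 1
  rw [Matrix.det_mul, qr_det hF hc ha, qr_det hF (sigma_mem_mu hF hc) hb, (mem_mu hF).mp hc]

theorem pr_mulVec (c : F) (a b x : Fin n → F) :
    (pr hF c a b : Matrix (Fin n) (Fin n) F) *ᵥ x =
      (qr hF c a).1.1 *ᵥ ((qr hF (powAut hF c) b).1.1 *ᵥ x) :=
  GU_mul_mulVec x _ _

theorem pr_fix {c : F} (hc : c ∈ mu hF) (ha : 𝕗 a a ≠ 0) (hb : 𝕗 b b ≠ 0) {x : Fin n → F}
    (hxa : 𝕗 x a = 0) (hxb : 𝕗 x b = 0) : (pr hF c a b : Matrix (Fin n) (Fin n) F) *ᵥ x = x := by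
  rw [pr_mulVec, qr_fix hF (sigma_mem_mu hF hc) hb hxb, qr_fix hF hc ha hxa]

theorem pr_sub_mem {c : F} (hc : c ∈ mu hF) (ha : 𝕗 a a ≠ 0) (hb : 𝕗 b b ≠ 0) (x : Fin n → F) :
    (pr hF c a b : Matrix (Fin n) (Fin n) F) *ᵥ x - x ∈ Submodule.span F {a, b} := by
  rw [pr_mulVec, qr_mulVec hF hc ha, qr_mulVec hF (sigma_mem_mu hF hc) hb, add_assoc,
    add_sub_cancel_left]
  exact Submodule.add_mem _ (Submodule.smul_mem _ _ (Submodule.subset_span (by simp)))
    (Submodule.smul_mem _ _ (Submodule.subset_span (by simp)))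

theorem pr_smul {c : F} (hc : c ∈ mu hF) (ha : 𝕗 a a ≠ 0) {t : F} (ht : t ≠ 0) :
    pr hF c (t • a) b = pr hF c a b := by
  rw [pr, qr_smul hF hc ha ht, ← pr]

theorem pr_inv {c : F} (hc : c ∈ mu hF) (ha : 𝕗 a a ≠ 0) (hb : 𝕗 b b ≠ 0) :
    (pr hF c a b)⁻¹ = pr hF c b a := by
  refine inv_eq_of_mul_eq_one_right ?_
  have h1 : qr hF (powAut hF c) b * qr hF c b = 1 := by
    rw [qr_mul hF (sigma_mem_mu hF hc) hc hb, mul_comm, (mem_mu hF).mp hc, qr_one hF hb]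
  have h2 : qr hF c a * qr hF (powAut hF c) a = 1 := by
    rw [qr_mul hF hc (sigma_mem_mu hF hc) ha, (mem_mu hF).mp hc, qr_one hF ha]
  rw [pr, pr, ← Subgroup.coe_mul,
    show qr hF c a * qr hF (powAut hF c) b * (qr hF c b * qr hF (powAut hF c) a) =
      qr hF c a * (qr hF (powAut hF c) b * qr hF c b) * qr hF (powAut hF c) a by group,
    h1, mul_one, h2, Subgroup.coe_one]

theorem pr_trans {c : F} (hc : c ∈ mu hF) {d : Fin n → F} (hb : 𝕗 b b ≠ 0) :
    pr hF c a b * pr hF c b d = pr hF c a d := by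
  rw [pr, pr, pr, ← Subgroup.coe_mul,
    show qr hF c a * qr hF (powAut hF c) b * (qr hF c b * qr hF (powAut hF c) d) =
      qr hF c a * (qr hF (powAut hF c) b * qr hF c b) * qr hF (powAut hF c) d by group,
    qr_mul hF (sigma_mem_mu hF hc) hc hb, mul_comm (powAut hF c), (mem_mu hF).mp hc, qr_one hF hb,
    mul_one]

theorem pr_conj {g : GL (Fin n) F} (hg : g ∈ Cfsg.GU n F q) {c : F} (hc : c ∈ mu hF)
    (ha : 𝕗 a a ≠ 0) (hb : 𝕗 b b ≠ 0) :
    g * pr hF c a b * g⁻¹ =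
      pr hF c ((g : Matrix (Fin n) (Fin n) F) *ᵥ a) ((g : Matrix (Fin n) (Fin n) F) *ᵥ b) := by
  have h1 := qr_conj hF ⟨g, hg⟩ hc ha
  have h2 := qr_conj hF ⟨g, hg⟩ (sigma_mem_mu hF hc) hb
  rw [pr, pr]
  rw [show qr hF c ((g : Matrix (Fin n) (Fin n) F) *ᵥ a) = _ from h1.symm,
    show qr hF (powAut hF c) ((g : Matrix (Fin n) (Fin n) F) *ᵥ b) = _ from h2.symm]
  simp [mul_assoc]

/-- Pairs of quasi-reflections in the points `a` and `b` lie in `M`. -/
def Rel (M : Subgroup (GL (Fin n) F)) (a b : Fin n → F) : Prop :=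
  𝕗 a a ≠ 0 ∧ 𝕗 b b ≠ 0 ∧ ∀ c ∈ mu hF, pr hF c a b ∈ M

variable {M : Subgroup (GL (Fin n) F)} {d : Fin n → F}

theorem Rel.symm (h : Rel hF M a b) : Rel hF M b a :=
  ⟨h.2.1, h.1, fun c hc => by rw [← pr_inv hF hc h.1 h.2.1]; exact M.inv_mem (h.2.2 c hc)⟩

theorem Rel.trans (h : Rel hF M a b) (h' : Rel hF M b d) : Rel hF M a d :=
  ⟨h.1, h'.2.1, fun c hc => by
    rw [← pr_trans hF hc h.2.1]; exact M.mul_mem (h.2.2 c hc) (h'.2.2 c hc)⟩

theorem Rel.smul_left (h : Rel hF M a b) {t : F} (ht : t ≠ 0) : Rel hF M (t • a) b :=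
  ⟨by
    rw [herm_smul_left, herm_smul_right]
    exact mul_ne_zero ht (mul_ne_zero (pow_ne_zero q ht) h.1),
    h.2.1, fun c hc => by rw [pr_smul hF hc h.1 ht]; exact h.2.2 c hc⟩

theorem Rel.map (h : Rel hF M a b) {g : GL (Fin n) F} (hgM : g ∈ M) (hg : g ∈ Cfsg.GU n F q) :
    Rel hF M ((g : Matrix (Fin n) (Fin n) F) *ᵥ a) ((g : Matrix (Fin n) (Fin n) F) *ᵥ b) :=
  ⟨by rw [mem_GU_iff'.mp hg]; exact h.1, by rw [mem_GU_iff'.mp hg]; exact h.2.1, fun c hc => by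
    rw [← pr_conj hF hg hc h.1 h.2.1]
    exact M.mul_mem (M.mul_mem hgM (h.2.2 c hc)) (M.inv_mem hgM)⟩

/-- At most one non-zero entry. -/
def Single (v : Fin n → F) : Prop := ∃ i, ∀ j, j ≠ i → v j = 0

/-- Every column has at most one non-zero entry. -/
def Mono (g : GL (Fin n) F) : Prop := ∀ x, Single ((g : Matrix (Fin n) (Fin n) F) *ᵥ ev x)

omit [Fintype F] in
theorem single_eq {v : Fin n → F} {i : Fin n} (h : ∀ j, j ≠ i → v j = 0) : v = v i • ev i := by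
  funext j
  rcases eq_or_ne j i with rfl | hj
  · simp [ev_self]
  · simp [h j hj, ev_ne hj]

omit [Fintype F] in
theorem single_smul_ev (c : F) (i : Fin n) : Single (c • (ev i : Fin n → F)) :=
  ⟨i, fun j hj => by simp [ev_ne hj]⟩

omit [Fintype F] in
theorem Mono.exists_perm {g : GL (Fin n) F} (h : Mono g) :
    ∃ (σ : Equiv.Perm (Fin n)) (c : Fin n → F), (∀ x, c x ≠ 0) ∧
      ∀ x, (g : Matrix (Fin n) (Fin n) F) *ᵥ ev x = c x • ev (σ x) := by
  choose τ hτ using h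
  have heq := fun x => single_eq (hτ x)
  set c := fun x => ((g : Matrix (Fin n) (Fin n) F) *ᵥ ev x) (τ x) with hc
  have hc0 : ∀ x, c x ≠ 0 := fun x e => by
    have h1 := heq x
    rw [hc] at e
    simp only [] at e
    rw [e, zero_smul] at h1
    have h2 := congrFun (gl_mulVec_injective g (h1.trans (mulVec_zero _).symm)) x
    rw [ev_self] at h2
    exact one_ne_zero h2
  have hinj : Function.Injective τ := fun x y hxy => by
    by_contra hne
    have h1 : (g : Matrix (Fin n) (Fin n) F) *ᵥ (c y • ev x) =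
        (g : Matrix (Fin n) (Fin n) F) *ᵥ (c x • ev y) := by
      rw [mulVec_smul, mulVec_smul, heq x, heq y, smul_smul, smul_smul, hxy, mul_comm]
      simp [c, hxy]
    have h2 := congrFun (gl_mulVec_injective g h1) x
    simp [ev_self, ev_ne hne] at h2
    exact hc0 y h2
  exact ⟨Equiv.ofBijective τ (Finite.injective_iff_bijective.mp hinj), c, hc0, heq⟩

omit [Fintype F] in
theorem Mono.inv {g : GL (Fin n) F} (h : Mono g) : Mono g⁻¹ := by
  obtain ⟨σ, c, hc, hg⟩ := h.exists_perm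
  intro x
  have h1 : ((g⁻¹ : GL (Fin n) F) : Matrix (Fin n) (Fin n) F) *ᵥ ev x =
      (c (σ.symm x))⁻¹ • ev (σ.symm x) := by
    apply gl_mulVec_injective g
    simp only [gl_mulVec_inv, mulVec_smul, hg, Equiv.apply_symm_apply, smul_smul]
    rw [inv_mul_cancel₀ (hc _), one_smul]
  rw [h1]
  exact single_smul_ev _ _

theorem inv_entry {g : GL (Fin n) F} (hg : g ∈ Cfsg.GU n F q) (x u : Fin n) :
    (((g⁻¹ : GL (Fin n) F) : Matrix (Fin n) (Fin n) F) *ᵥ ev u) x =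
      powAut hF (((g : Matrix (Fin n) (Fin n) F) *ᵥ ev x) u) := by
  rw [← herm_ev hF (((g⁻¹ : GL (Fin n) F) : Matrix (Fin n) (Fin n) F) *ᵥ ev u) x,
    ← mem_GU_iff'.mp hg, gl_mulVec_inv, ev_herm hF]

/-- `M` consists of determinant one isometries and contains the monomial ones. -/
structure Over (q : ℕ) (M : Subgroup (GL (Fin n) F)) : Prop where
  le : M ≤ Cfsg.GU n F q ⊓ Cfsg.Geo.specialLinear (Fin n) F
  mono : ∀ g : GL (Fin n) F, g ∈ Cfsg.GU n F q → g ∈ Cfsg.Geo.specialLinear (Fin n) F →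
    Mono g → g ∈ M

omit [Fintype F] in
theorem Over.gu (S : Over q M) {g : GL (Fin n) F} (h : g ∈ M) : g ∈ Cfsg.GU n F q := (S.le h).1

theorem Over.rel_ev (S : Over q M) (x y : Fin n) : Rel hF M (ev x) (ev y) := by
  have hx : 𝕗 (ev x) (ev x) ≠ 0 := by rw [ev_norm hF]; exact one_ne_zero
  have hy : 𝕗 (ev y) (ev y) ≠ 0 := by rw [ev_norm hF]; exact one_ne_zero
  refine ⟨hx, hy, fun c hc => S.mono _ (pr_mem_GU hF c _ _) (pr_det hF hc hx hy) fun l => ?_⟩
  have h1 : ∀ (d : F) (z : Fin n), d ∈ mu hF → ∀ t : F, ∃ s : F,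
      (qr hF d (ev z)).1.1 *ᵥ (t • ev l) = s • (ev l : Fin n → F) := by
    intro d z hd t
    rw [mulVec_smul]
    rcases eq_or_ne l z with rfl | hlz
    · exact ⟨t * d, by rw [qr_self hF hd (by rw [ev_norm hF]; exact one_ne_zero), smul_smul]⟩
    · exact ⟨t, by rw [qr_fix hF hd (by rw [ev_norm hF]; exact one_ne_zero) (ev_orth hF hlz)]⟩
  obtain ⟨s, hs⟩ := h1 (powAut hF c) y (sigma_mem_mu hF hc) 1
  obtain ⟨r, hr⟩ := h1 c x hc s
  rw [one_smul] at hs
  rw [pr_mulVec, hs, hr]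
  exact single_smul_ev _ _

include hF in
/-- A monomial isometry, corrected at one column to lie in `M`. -/
theorem Over.exists_mono (S : Over q M) (π : Equiv.Perm (Fin n)) (z : Fin n → F)
    (hz : ∀ l, z l ∈ mu hF) (o : Fin n) :
    ∃ g : GL (Fin n) F, g ∈ M ∧
      ∀ l, l ≠ o → (g : Matrix (Fin n) (Fin n) F) *ᵥ ev l = z l • ev (π l) := by
  have hG : Orthonormal' q fun l => z l • (ev (π l) : Fin n → F) := by
    intro i j
    rw [herm_smul_left, herm_smul_right]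
    rcases eq_or_ne i j with rfl | hij
    · rw [if_pos rfl, ev_norm hF, mul_one, ← powAut_apply hF, (mem_mu hF).mp (hz i)]
    · rw [if_neg hij, ev_orth hF (fun e => hij (π.injective e))]; simp
  obtain ⟨A, hA⟩ := exists_GU_cols hF hG
  have hA' : ∀ l, A.1.1 *ᵥ ev l = z l • ev (π l) := hA
  have hd : (A.1.1.det)⁻¹ ∈ mu hF := by
    rw [mem_mu, powAut_apply]; exact inv_norm_one hF (det_norm_one hF A)
  have hne : 𝕗 (ev (π o)) (ev (π o)) ≠ 0 := by rw [ev_norm hF]; exact one_ne_zero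
  set g := ((qr hF (A.1.1.det)⁻¹ (ev (π o)) * A : GU n F q) : GL (Fin n) F) with hg
  have hgv : ∀ l, (g : Matrix (Fin n) (Fin n) F) *ᵥ ev l =
      (if l = o then (A.1.1.det)⁻¹ * z l else z l) • ev (π l) := by
    intro l
    rw [hg, GU_mul_mulVec, hA', mulVec_smul]
    split_ifs with h
    · subst h; rw [qr_self hF hd hne, smul_smul, mul_comm]
    · rw [qr_fix hF hd hne (ev_orth hF (fun e => h (π.injective e)))]
  refine ⟨g, S.mono g (SetLike.coe_mem _) ?_ (fun l => by rw [hgv l]; exact single_smul_ev _ _),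
    fun l hl => by rw [hgv l, if_neg hl]⟩
  rw [mem_specialLinear_iff]
  show ((qr hF (A.1.1.det)⁻¹ (ev (π o))).1.1 * A.1.1).det = 1
  rw [Matrix.det_mul, qr_det hF hd hne, inv_mul_cancel₀]
  intro e
  have := det_norm_one hF A
  rw [e, zero_mul] at this
  exact zero_ne_one this

include hF in
/-- Diagonal isometries with prescribed entries, corrected at one coordinate. -/
theorem Over.exists_diag (S : Over q M) (z : Fin n → F) (hz : ∀ l, z l ∈ mu hF) (o : Fin n) :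
    ∃ g : GL (Fin n) F, g ∈ M ∧ ∀ x : Fin n → F, x o = 0 →
      (g : Matrix (Fin n) (Fin n) F) *ᵥ x = fun l => z l * x l := by
  obtain ⟨g, hg, h⟩ := S.exists_mono hF 1 z hz o
  refine ⟨g, hg, fun x hx => ?_⟩
  conv_lhs => rw [← sum_ev x]
  rw [mulVec_sum]
  conv_rhs => rw [← sum_ev fun l => z l * x l]
  refine Finset.sum_congr rfl fun l _ => ?_
  rcases eq_or_ne l o with rfl | hl
  · simp [hx]
  · rw [mulVec_smul, h l hl, smul_smul, mul_comm]; simp

end Cfsg.Agent.Lib.Subspaces.UnitQuasi
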