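import Cfsg.Agent.Lib.Subspaces.UnitaryGen
import Cfsg.Agent.Lib.Unitary.Witt

/-!
Orthogonal splittings of the standard unitary space: coordinates of non-degenerate subspaces,
transitivity on vectors of equal norm, and spreading of isotropic centres inside a summand.
-/

set_option autoImplicit false

namespace Cfsg.Agent.Lib.Subspaces.UnitarySplit

open Matrix Cfsg.Agent.Lib.Subspaces.Transvection Cfsg.Agent.Lib.Subspaces.FormVec
  Cfsg.Agent.Lib.Subspaces.UnitaryForm Cfsg.Agent.Lib.Subspaces.UnitaryGen Cfsg.Agent.Lib.Unitary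

section abstractForm

variable {ι : Type} [Fintype ι] [DecidableEq ι] {F : Type*} [Field F]
  {σ : F ≃+* F} {f : (ι → F) → (ι → F) → F}

/-- A vector of prescribed norm with prescribed products against two independent vectors. -/
theorem exists_norm_two (hf : Cfsg.Geo.IsUnitaryForm σ f) [Finite F] (hn : 4 ≤ Fintype.card ι)
    (hN : ∀ r, σ r = r → ∃ c, c * σ c = r) {u v : ι → F} (huv : u ∉ Submodule.span F {v})
    (hvu : v ∉ Submodule.span F {u}) (a b : F) (hab : a ≠ 0 ∨ b ≠ 0 ∨ f u u ≠ 0) {r : F}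
    (hr : σ r = r) :
    ∃ x, f x u = a ∧ f x v = b ∧ f x x = r := by
  obtain ⟨t1, h1, h1u⟩ := dual_right hf huv
  obtain ⟨t2, h2, h2v⟩ := dual_right hf hvu
  have h1v := h1 v (Submodule.mem_span_singleton_self v)
  have h2u := h2 u (Submodule.mem_span_singleton_self u)
  set t := a • t1 + b • t2 with ht
  have htu : f t u = a := by simp [ht, hf.add_left, hf.smul_left, h1u, h2u]
  have htv : f t v = b := by simp [ht, hf.add_left, hf.smul_left, h1v, h2v]
  by_cases hall : ∀ y, (∀ i, f y (![u, v] i) = 0) → f y y = 0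
  · obtain ⟨d, hd, hdt⟩ : ∃ d, (∀ i, f d (![u, v] i) = 0) ∧ f d t ≠ 0 := by
      rcases hab with ha | hb | huu
      · exact exists_not_orth_of_isotropic hf ![u, v] (by omega) hall ⟨0, by simpa [htu] using ha⟩
      · exact exists_not_orth_of_isotropic hf ![u, v] (by omega) hall ⟨1, by simpa [htv] using hb⟩
      · obtain ⟨d, hd, hdu⟩ := exists_not_orth_of_isotropic hf ![u, v] (by omega) hall (t := u)
          ⟨0, by simpa using huu⟩
        exact absurd (hd 0) hdu
    have hdu : f d u = 0 := hd 0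
    have hdv : f d v = 0 := hd 1
    obtain ⟨s, hs⟩ := exists_trace hf (r := r - f t t) (by rw [map_sub, hr, self_fixed hf])
    refine ⟨t + (s / f d t) • d, ?_, ?_, ?_⟩
    · rw [hf.add_left, hf.smul_left, hdu, mul_zero, add_zero, htu]
    · rw [hf.add_left, hf.smul_left, hdv, mul_zero, add_zero, htv]
    · rw [expand_add_smul hf, hall d hd, div_mul_cancel₀ _ hdt]
      linear_combination hs
  push Not at hall
  obtain ⟨y, hy, hyy⟩ := hall
  have hyu : f y u = 0 := hy 0
  have hyv : f y v = 0 := hy 1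
  obtain ⟨d, hd⟩ := hN ((r - f t t + f y t * σ (f y t) / f y y) / f y y) (by
    rw [map_div₀, map_add, map_sub, map_div₀, map_mul, hr, self_fixed hf, self_fixed hf, hf.involutive]
    ring)
  set c := d - σ (f y t) / f y y
  have hσγ : σ (f y y) = f y y := self_fixed hf y
  refine ⟨t + c • y, ?_, ?_, ?_⟩
  · rw [hf.add_left, hf.smul_left, hyu, mul_zero, add_zero, htu]
  · rw [hf.add_left, hf.smul_left, hyv, mul_zero, add_zero, htv]
  · rw [expand_add_smul hf]
    simp only [c, map_sub, map_mul, map_div₀, hσγ, hf.involutive]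
    field_simp at hd ⊢
    linear_combination hd

theorem not_mem_span_symm {u v : ι → F} (hv : v ≠ 0) (h : v ∉ Submodule.span F {u}) (hu : u ≠ 0) :
    u ∉ Submodule.span F {v} := by
  intro hm
  obtain ⟨c, rfl⟩ := Submodule.mem_span_singleton.mp hm
  have hc : c ≠ 0 := fun e => hu (by rw [e, zero_smul])
  exact h (Submodule.mem_span_singleton.mpr ⟨c⁻¹, by rw [smul_smul, inv_mul_cancel₀ hc, one_smul]⟩)

/-- A vector outside the line of `u` with prescribed norm and product against `u`. -/
theorem exists_norm_one_indep (hf : Cfsg.Geo.IsUnitaryForm σ f) [Finite F]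
    (hn : 4 ≤ Fintype.card ι) (hN : ∀ r, σ r = r → ∃ c, c * σ c = r) {u : ι → F} (hu : u ≠ 0)
    (a : F) {r : F} (hr : σ r = r) :
    ∃ x, x ∉ Submodule.span F {u} ∧ f x u = a ∧ f x x = r := by
  obtain ⟨y, hy, hyu⟩ := exists_common_zero_not_mem (Submodule.span F {u}) ![formVec f u] (by
    rw [finrank_span_singleton hu]; omega)
  have hyu' : f y u = 0 := by
    have := hyu 0
    rwa [Matrix.cons_val_fin_one, formVec_dot (isLinearLeft_of_unitary hf)] at this
  have hy0 : y ≠ 0 := fun e => hy (e ▸ Submodule.zero_mem _)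
  obtain ⟨x, hxu, hxy, hxx⟩ :=
    exists_norm_two hf hn hN (not_mem_span_symm hy0 hy hu) hy a 1 (Or.inr (Or.inl one_ne_zero)) hr
  refine ⟨x, fun hm => ?_, hxu, hxx⟩
  obtain ⟨c, rfl⟩ := Submodule.mem_span_singleton.mp hm
  rw [hf.smul_left, swap_eq_zero hf hyu', mul_zero] at hxy
  exact zero_ne_one hxy

/-- Isotropic steps connect all non-zero vectors of one norm. -/
theorem norm_connected (hf : Cfsg.Geo.IsUnitaryForm σ f) [Finite F] (hn : 4 ≤ Fintype.card ι)
    (hN : ∀ r, σ r = r → ∃ c, c * σ c = r) {P : (ι → F) → Prop}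
    (hstep : ∀ a b, P a → f b b = f a a → f (b - a) (b - a) = 0 → f a (b - a) ≠ 0 → P b)
    {u v : ι → F} (hu : u ≠ 0) (hv : v ≠ 0) (huv : f v v = f u u) (h : P u) : P v := by
  obtain ⟨e, he0, he⟩ := exists_skew_scalar hf
  have key : ∀ u v : ι → F, u ≠ 0 → v ≠ 0 → v ∉ Submodule.span F {u} → f v v = f u u →
      P u → P v := by
    intro u v hu hv hind huv h
    obtain ⟨x, hxu, hxv, hxx⟩ := exists_norm_two hf hn hN (not_mem_span_symm hv hind hu) hind
      (f u u + e) (f u u + e) ((em (f u u = 0)).elim (fun h0 => Or.inl (by rwa [h0, zero_add])) fun h0 => Or.inr (Or.inr h0))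
      (r := f u u) (self_fixed hf u)
    have hσe : σ e = -e := eq_neg_of_add_eq_zero_right he
    have hux : f u x = f u u - e := by
      rw [hf.herm, hxu, map_add, self_fixed hf, hσe, sub_eq_add_neg]
    have hvx : f v x = f u u - e := by
      rw [hf.herm, hxv, map_add, self_fixed hf, hσe, sub_eq_add_neg]
    have h1 : P x := hstep u x h hxx (by
      rw [form_sub_left (isLinearLeft_of_unitary hf), sub_right hf, sub_right hf, hxx, hxu, hux]
      ring) (by rw [sub_right hf, hux, sub_sub_cancel_left]; exact neg_ne_zero.mpr he0)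
    exact hstep x v h1 (huv.trans hxx.symm) (by
      rw [form_sub_left (isLinearLeft_of_unitary hf), sub_right hf, sub_right hf, hxx, hxv, hvx,
        huv]
      ring) (by rw [sub_right hf, hxv, hxx, add_sub_cancel_left]; exact he0)
  by_cases hind : v ∈ Submodule.span F {u}
  · obtain ⟨w, hw, -, hww⟩ := exists_norm_one_indep hf hn hN hu 0 (self_fixed hf u)
    have hw0 : w ≠ 0 := fun e => hw (e ▸ Submodule.zero_mem _)
    refine key w v hw0 hv (fun hm => hw ?_) (huv.trans hww.symm) (key u w hu hw0 hw hww h)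
    obtain ⟨c, hc⟩ := Submodule.mem_span_singleton.mp hm
    obtain ⟨d, hd⟩ := Submodule.mem_span_singleton.mp hind
    have hc0 : c ≠ 0 := fun e => hv (by rw [← hc, e, zero_smul])
    exact Submodule.mem_span_singleton.mpr ⟨c⁻¹ * d, by
      rw [← smul_smul, hd, ← hc, smul_smul, inv_mul_cancel₀ hc0, one_smul]⟩
  · exact key u v hu hv hind huv h

end abstractForm

section standard

variable {F : Type*} [Field F] [Fintype F] {q n : ℕ}

theorem norm_surjective (hF : Fintype.card F = q ^ 2) (r : F) (hr : powAut hF r = r) :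
    ∃ c, c * powAut hF c = r := by
  rw [powAut_apply] at hr
  obtain ⟨c, hc⟩ := norm_surj hF hr
  exact ⟨c, by rw [powAut_apply, hc]⟩

theorem exists_coord (hF : Fintype.card F = q ^ 2) {W : Submodule F (Fin n → F)}
    (hW : Nondeg q W) :
    ∃ B : (Fin (Module.finrank F W) → F) →ₗ[F] (Fin n → F), Function.Injective B ∧
      LinearMap.range B = W ∧
      ∀ x y, Cfsg.hermForm n F q (B x) (B y) = Cfsg.hermForm _ F q x y := by
  obtain ⟨b, hb, -, hspan⟩ := exists_orthonormal_of_nondeg hF _ W rfl hW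
  refine ⟨Fintype.linearCombination F b, ?_, ?_, fun x y => ?_⟩
  · rw [← LinearMap.ker_eq_bot, LinearMap.ker_eq_bot']
    intro c hc
    refine funext fun j => ?_
    exact Fintype.linearIndependent_iff.mp (orthonormal_linearIndependent hb) c
      (by simpa [Fintype.linearCombination_apply] using hc) j
  · rw [Fintype.range_linearCombination, hspan]
  · simp only [Fintype.linearCombination_apply]
    rw [herm_sum_sum hF]
    refine Finset.sum_congr rfl fun i _ => ?_
    rw [Finset.sum_eq_single i]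
    · rw [hb, if_pos rfl, mul_one]
    · intro j _ hj
      rw [hb, if_neg (Ne.symm hj), mul_zero]
    · simp

/-- `GU` is transitive on non-zero vectors of one norm. -/
theorem exists_GU_vec (hF : Fintype.card F = q ^ 2) {x y : Fin n → F} (hx : x ≠ 0) (hy : y ≠ 0)
    (h : Cfsg.hermForm n F q x x = Cfsg.hermForm n F q y y) :
    ∃ A : GU n F q, A.1.1 *ᵥ x = y := by
  rcases eq_or_ne (Cfsg.hermForm n F q x x) 0 with h0 | h0
  · obtain ⟨f, hf⟩ := exists_hyp hF hx h0
    obtain ⟨f', hf'⟩ := exists_hyp hF hy (h ▸ h0)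
    obtain ⟨A, hA, -⟩ := exists_GU_hyp hF hf hf'
    exact ⟨A, hA⟩
  · obtain ⟨c, hc⟩ := norm_surj hF (herm_self_fixed x hF)
    have hc0 : c ≠ 0 := fun e => h0 (by rw [← hc, e, zero_mul])
    have hnorm : ∀ z, Cfsg.hermForm n F q z z = Cfsg.hermForm n F q x x →
        Cfsg.hermForm n F q (c⁻¹ • z) (c⁻¹ • z) = 1 := by
      intro z hz
      rw [herm_smul_left, herm_smul_right, hz, ← hc, inv_pow]
      field_simp
    obtain ⟨A, hA⟩ := exists_GU_norm_one hF (hnorm x rfl) (hnorm y h.symm)
    refine ⟨A, ?_⟩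
    rw [mulVec_smul] at hA
    exact smul_right_injective _ (inv_ne_zero hc0) hA

/-- An element of `SU` stabilising a non-degenerate proper subspace and moving one of its vectors
to another of the same norm. -/
theorem exists_stab_move (hF : Fintype.card F = q ^ 2) {W : Submodule F (Fin n → F)}
    (hW : Nondeg q W) (hWn : Module.finrank F W < n) {w w' : Fin n → F} (hw : w ∈ W)
    (hw' : w' ∈ W) (hw0 : w ≠ 0) (hw0' : w' ≠ 0)
    (h : Cfsg.hermForm n F q w w = Cfsg.hermForm n F q w' w') :
    ∃ T : GL (Fin n) F, T ∈ Cfsg.GU n F q ∧ T ∈ Cfsg.Geo.specialLinear (Fin n) F ∧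
      T ∈ Cfsg.Geo.subspaceStabilizer W ∧ (T : Matrix (Fin n) (Fin n) F) *ᵥ w = w' := by
  classical
  obtain ⟨B, hBinj, hBr, hBf⟩ := exists_coord hF hW
  obtain ⟨x, rfl⟩ : ∃ x, B x = w := by rwa [← LinearMap.mem_range, hBr]
  obtain ⟨y, rfl⟩ : ∃ y, B y = w' := by rwa [← LinearMap.mem_range, hBr]
  rw [hBf, hBf] at h
  obtain ⟨A, hA⟩ := exists_GU_vec hF (fun e => hw0 (by rw [e, map_zero]))
    (fun e => hw0' (by rw [e, map_zero])) h
  have hl : Module.finrank F (perp q W) = n - Module.finrank F W := by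
    have := finrank_perp hF W; omega
  obtain ⟨c, hc, hcW, -⟩ := exists_orthonormal_of_nondeg hF _ (perp q W) hl (nondeg_perp hF hW)
  have hBW : ∀ z, B z ∈ W := fun z => hBr.le (LinearMap.mem_range_self B z)
  let b : Fin (Module.finrank F W) → Fin n → F := fun i => B (Pi.single i 1)
  have hbb : ∀ i j, Cfsg.hermForm n F q (b i) (b j) = if i = j then 1 else 0 :=
    fun i j => by rw [hBf, herm_std hF]
  have hbc : ∀ z j, Cfsg.hermForm n F q (B z) (c j) = 0 :=
    fun z j => herm_eq_zero_symm hF (hcW j _ (hBW z))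
  have horth : Orthonormal' q (Sum.elim b c) := by
    rintro (i | i) (j | j)
    · simpa using hbb i j
    · simpa [b] using hbc _ j
    · simpa [b] using hcW i _ (hBW _)
    · simpa using hc i j
  let b' : Fin (Module.finrank F W) → Fin n → F := fun i => B (A.1.1 *ᵥ Pi.single i 1)
  obtain ⟨T1, hT1⟩ := exists_GU_of_gram hF (orthonormal_linearIndependent horth)
    (c := Sum.elim b' c) (by simp; omega) (by
      rintro (i | i) (j | j)
      · simp only [Sum.elim_inl, b, b', hBf, GU_herm]
      · simp [b, b', hbc]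
      · simp [b, b', hcW i _ (hBW _)]
      · simp)
  have hT1B : ∀ z, T1.1.1 *ᵥ B z = B (A.1.1 *ᵥ z) := by
    intro z
    have hz : z = ∑ i, z i • (Pi.single i 1 : Fin (Module.finrank F W) → F) := by
      simp [← Pi.single_smul, Finset.univ_sum_single]
    rw [hz, map_sum, mulVec_sum, mulVec_sum, map_sum]
    refine Finset.sum_congr rfl fun i _ => ?_
    rw [map_smul, mulVec_smul, mulVec_smul, map_smul]
    exact congrArg (z i • ·) (hT1 (Sum.inl i))
  have i0 : Fin (n - Module.finrank F W) := ⟨0, by omega⟩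
  obtain ⟨S, hSdet, -, hSfix⟩ := exists_GU_scale hF (x := c i0) (by simpa using hc i0 i0)
    (inv_norm_one hF (det_norm_one hF T1))
  have hTB : ∀ z, ((S * T1 : GU n F q) : GL (Fin n) F).1 *ᵥ B z = B (A.1.1 *ᵥ z) := by
    intro z
    rw [GU_mul_mulVec, hT1B, hSfix _ (hbc _ i0)]
  refine ⟨((S * T1 : GU n F q) : GL (Fin n) F), (S * T1).2, ?_, ?_, ?_⟩
  · rw [mem_specialLinear_iff]
    show (S.1.1 * T1.1.1).det = 1
    rw [Matrix.det_mul, hSdet, inv_mul_cancel₀]
    intro e
    have := det_norm_one hF T1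
    rw [e, zero_mul] at this
    exact zero_ne_one this
  · rw [mem_subspaceStabilizer_iff]
    intro u hu
    obtain ⟨z, rfl⟩ : ∃ z, B z = u := by rwa [← LinearMap.mem_range, hBr]
    rw [hTB]
    exact hBW _
  · rw [hTB, hA]

/-- All isotropic vectors of a large non-degenerate summand being centres, a centre may have its
component there replaced by any non-zero one of the same norm. -/
theorem centre_change (hF : Fintype.card F = q ^ 2) {M : Subgroup (GL (Fin n) F)}
    {U : Submodule F (Fin n → F)} (hU : Nondeg q U) (hUd : 4 ≤ Module.finrank F U)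
    (hC : ∀ u ∈ U, Cfsg.hermForm n F q u u = 0 →
      UnitCenter (powAut hF) (Cfsg.hermForm n F q) M u)
    {w u u' : Fin n → F} (hw : w ∈ perp q U) (hu : u ∈ U) (hu0 : u ≠ 0) (hu' : u' ∈ U)
    (hu0' : u' ≠ 0) (hnorm : Cfsg.hermForm n F q u' u' = Cfsg.hermForm n F q u u)
    (h : UnitCenter (powAut hF) (Cfsg.hermForm n F q) M (w + u)) :
    UnitCenter (powAut hF) (Cfsg.hermForm n F q) M (w + u') := by
  obtain ⟨B, hBinj, hBr, hBf⟩ := exists_coord hF hU
  obtain ⟨x, rfl⟩ : ∃ x, B x = u := by rwa [← LinearMap.mem_range, hBr]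
  obtain ⟨y, rfl⟩ : ∃ y, B y = u' := by rwa [← LinearMap.mem_range, hBr]
  have hBU : ∀ z, B z ∈ U := fun z => hBr.le (LinearMap.mem_range_self B z)
  have hfk := hermForm_isUnitary (n := Module.finrank F U) hF
  have hf := hermForm_isUnitary (n := n) hF
  refine norm_connected hfk (by rwa [Fintype.card_fin]) (norm_surjective hF)
    (P := fun z => UnitCenter (powAut hF) (Cfsg.hermForm n F q) M (w + B z))
    (fun a b ha hab hiso hne => ?_) (fun e => hu0 (by rw [e, map_zero]))
    (fun e => hu0' (by rw [e, map_zero])) (by rw [← hBf, ← hBf]; exact hnorm) h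
  set g := Cfsg.hermForm (Module.finrank F U) F q
  have hCd := hC _ (hBU (b - a)) (by rw [hBf]; exact hiso)
  have htr : g a (b - a) + powAut hF (g a (b - a)) = 0 := by
    have h1 := expand_add_smul hfk a (b - a) 1
    rw [one_smul, add_sub_cancel, hiso, hab, one_mul, mul_zero, add_zero,
      hfk.herm (b - a) a, hfk.involutive] at h1
    linear_combination -h1
  have hprod : Cfsg.hermForm n F q (w + B a) (B (b - a)) = g a (b - a) := by
    rw [hf.add_left, hw _ (hBU _), zero_add, hBf]
  have := unitCenter_move hf hCd ha (a := (g a (b - a))⁻¹) (by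
    rw [map_inv₀, eq_neg_of_add_eq_zero_right htr, inv_neg, add_neg_cancel])
  rwa [hprod, inv_mul_cancel₀ hne, one_smul, map_sub, add_assoc, add_sub_cancel] at this

/-- A vector of a large non-degenerate summand outside a given line, with prescribed norm and
product. -/
theorem exists_in_summand (hF : Fintype.card F = q ^ 2) {U : Submodule F (Fin n → F)}
    (hU : Nondeg q U) (hUd : 4 ≤ Module.finrank F U) {u : Fin n → F} (hu : u ∈ U) (hu0 : u ≠ 0)
    (a : F) {r : F} (hr : r ^ q = r) :
    ∃ x ∈ U, x ∉ Submodule.span F {u} ∧ Cfsg.hermForm n F q u x = a ∧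
      Cfsg.hermForm n F q x x = r := by
  obtain ⟨B, hBinj, hBr, hBf⟩ := exists_coord hF hU
  obtain ⟨x, rfl⟩ : ∃ x, B x = u := by rwa [← LinearMap.mem_range, hBr]
  have hfk := hermForm_isUnitary (n := Module.finrank F U) hF
  obtain ⟨y, hy, hyx, hyy⟩ := exists_norm_one_indep hfk (by rwa [Fintype.card_fin])
    (norm_surjective hF) (u := x) (fun e => hu0 (by rw [e, map_zero])) (powAut hF a)
    (r := r) (by rwa [powAut_apply])
  refine ⟨B y, hBr.le (LinearMap.mem_range_self B y), fun hm => hy ?_, ?_, by rw [hBf, hyy]⟩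
  · obtain ⟨c, hc⟩ := Submodule.mem_span_singleton.mp hm
    exact Submodule.mem_span_singleton.mpr ⟨c, hBinj (by rw [map_smul, hc])⟩
  · rw [hBf, hfk.herm, hyx, hfk.involutive]

end standard

end Cfsg.Agent.Lib.Subspaces.UnitarySplit
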